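import Mathlib.RingTheory.Flat.FaithfullyFlat.Algebra
import Mathlib.RingTheory.RingHom.Flat
import Mathlib.LinearAlgebra.TensorProduct.Tower
import Mathlib.AlgebraicGeometry.Morphisms.Flat

/-!
Flatness descends along faithfully flat maps of the source.
-/

set_option autoImplicit false

universe u

namespace Groth.Agent.Lib.Flat55.FlatDescend

open TensorProduct

theorem module_flat_of_tower (A B C : Type*) [CommRing A] [CommRing B] [CommRing C] [Algebra A B]
    [Algebra B C] [Algebra A C] [IsScalarTower A B C] [Module.FaithfullyFlat B C]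
    [Module.Flat A C] : Module.Flat A B := by
  rw [Module.Flat.iff_lTensor_preserves_injective_linearMap]
  intro N M _ _ _ _ φ hφ
  have h1 : Function.Injective (φ.lTensor C) :=
    Module.Flat.lTensor_preserves_injective_linearMap φ hφ
  let g : B ⊗[A] N →ₗ[B] B ⊗[A] M := TensorProduct.AlgebraTensorModule.lTensor B B φ
  suffices Function.Injective g from this
  rw [← Module.FaithfullyFlat.lTensor_injective_iff_injective B C g]
  intro a b hab
  apply (AlgebraTensorModule.cancelBaseChange A B B C N).injective
  apply h1
  have key : ∀ z, φ.lTensor C (AlgebraTensorModule.cancelBaseChange A B B C N z) =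
      AlgebraTensorModule.cancelBaseChange A B B C M (g.lTensor C z) := by
    intro z
    induction z using TensorProduct.induction_on with
    | zero => simp
    | tmul c w =>
      induction w using TensorProduct.induction_on with
      | zero => simp
      | tmul b n => simp [g]
      | add _ _ h1 h2 => simp only [tmul_add, map_add, h1, h2]
    | add _ _ h1 h2 => simp only [map_add, h1, h2]
  rw [key, key, hab]

theorem ringHom_flat_of_comp {A B C : Type*} [CommRing A] [CommRing B] [CommRing C]
    {f : A →+* B} {g : B →+* C} (hg : g.FaithfullyFlat) (hgf : (g.comp f).Flat) : f.Flat := by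
  algebraize [f, g, g.comp f]
  exact module_flat_of_tower A B C

open CategoryTheory AlgebraicGeometry in
/-- If `f` is flat at `x` and `f ≫ g` is flat at `x` then `g` is flat at `f x`. -/
theorem flat_stalkMap_of_comp {X Y Z : Scheme.{u}} (f : X ⟶ Y) (g : Y ⟶ Z) (x : X)
    (hf : (f.stalkMap x).hom.Flat) (hfg : ((f ≫ g).stalkMap x).hom.Flat) :
    (g.stalkMap (f x)).hom.Flat := by
  rw [Scheme.Hom.stalkMap_comp] at hfg
  replace hfg : RingHom.Flat ((f.stalkMap x).hom.comp (g.stalkMap (f x)).hom) := hfg
  refine ringHom_flat_of_comp ?_ hfg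
  algebraize [(f.stalkMap x).hom]
  exact @Module.FaithfullyFlat.of_flat_of_isLocalHom _ _ _ _ _ _ _ hf (f.toLRSHom.prop x)

open CategoryTheory AlgebraicGeometry in
/-- Flatness descends along flat surjective morphisms of the source. -/
theorem flat_of_comp {X Y Z : Scheme.{u}} (f : X ⟶ Y) (g : Y ⟶ Z) [Flat f] [Surjective f]
    [Flat (f ≫ g)] : Flat g := by
  refine Flat.of_stalkMap g fun y ↦ ?_
  obtain ⟨x, rfl⟩ := f.surjective y
  exact flat_stalkMap_of_comp f g x (Flat.stalkMap f x) (Flat.stalkMap (f ≫ g) x)

end Groth.Agent.Lib.Flat55.FlatDescend
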