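import Groth.Agent.Lib.DescAlg.SmoothNormal
import Mathlib.RingTheory.Smooth.IntegralClosure
import Mathlib.RingTheory.Localization.BaseChange
import Mathlib.RingTheory.LocalProperties.IntegrallyClosed
import Mathlib.RingTheory.Localization.FractionRing

/-!
# Integral closure in the fraction field and smooth base change
-/

set_option autoImplicit false

universe u

open TensorProduct

namespace Groth.Agent.Lib.Flat55.SmoothBCNormalization

theorem isNormalRing_field (L : Type u) [Field L] : EGA4.IsNormalRing L := fun p _ => by
  have hle : p.primeCompl ≤ nonZeroDivisors L := p.primeCompl_le_nonZeroDivisors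
  have : IsDomain (Localization.AtPrime p) := IsLocalization.isDomain_localization hle
  exact ⟨this, isIntegrallyClosed_of_isLocalization (Localization.AtPrime p) p.primeCompl hle⟩

theorem isIntegrallyClosed_of_isNormalRing {S : Type u} [CommRing S] [IsDomain S]
    (h : EGA4.IsNormalRing S) : IsIntegrallyClosed S :=
  IsIntegrallyClosed.of_localization_maximal fun p _ _ => (h p).2

/-- A smooth algebra over a field that is a domain is integrally closed. -/
theorem isIntegrallyClosed_of_smooth (L : Type u) [Field L] {S : Type u} [CommRing S] [IsDomain S]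
    [Algebra L S] [Algebra.Smooth L S] : IsIntegrallyClosed S :=
  isIntegrallyClosed_of_isNormalRing (DescAlg.SmoothNormal.isNormalRing_of_smooth (isNormalRing_field L))

variable {D C L K : Type u} [CommRing D] [IsDomain D] [CommRing C] [IsDomain C] [Algebra D C]
  [Field L] [Algebra D L] [IsFractionRing D L] [Field K] [Algebra C K] [IsFractionRing C K]
  [Algebra D K] [IsScalarTower D C K] [Algebra L K] [IsScalarTower D L K]

/-- The comparison of `C ⊗ L` with the fraction field of `C`. -/
noncomputable def compare : C ⊗[D] L →ₐ[C] K :=
  Algebra.TensorProduct.lift (Algebra.ofId C K) (IsScalarTower.toAlgHom D L K) fun _ _ => .all _ _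

theorem compare_injective :
    Function.Injective (compare (D := D) (C := C) (L := L) (K := K)) := by
  rw [injective_iff_map_eq_zero]
  intro z hz
  obtain ⟨⟨c, s⟩, hs⟩ := IsLocalization.surj (Algebra.algebraMapSubmonoid C (nonZeroDivisors D)) z
  have hc : algebraMap C K c = 0 := by
    have h := congrArg (compare (D := D) (C := C) (L := L) (K := K)) hs
    rw [map_mul, hz, zero_mul, AlgHom.commutes] at h
    exact h.symm
  have hc0 : c = 0 := IsFractionRing.injective C K (hc.trans (map_zero (algebraMap C K)).symm)
  rw [hc0, map_zero] at hs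
  exact ((IsLocalization.map_units (C ⊗[D] L) s).mul_left_eq_zero).1 hs

/-- Integral closure in the fraction field commutes with smooth base change. -/
theorem bijective_toFractionClosure [Algebra.Smooth D C] :
    (∀ z : C ⊗[D] integralClosure D L, IsIntegral C
        (compare (D := D) (C := C) (L := L) (K := K)
          (Algebra.TensorProduct.map (.id C C) (integralClosure D L).val z))) ∧
      Function.Injective (fun z : C ⊗[D] integralClosure D L => compare (D := D) (C := C) (L := L) (K := K)
          (Algebra.TensorProduct.map (.id C C) (integralClosure D L).val z)) ∧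
      ∀ x : K, IsIntegral C x → ∃ z : C ⊗[D] integralClosure D L, compare (D := D) (C := C) (L := L) (K := K)
          (Algebra.TensorProduct.map (.id C C) (integralClosure D L).val z) = x := by
  let θ := compare (D := D) (C := C) (L := L) (K := K)
  have hθ : Function.Injective θ := compare_injective
  have : IsDomain (C ⊗[D] L) := hθ.isDomain θ
  have : IsDomain (L ⊗[D] C) := (Algebra.TensorProduct.comm D L C).toMulEquiv.isDomain
  have : IsIntegrallyClosed (L ⊗[D] C) := isIntegrallyClosed_of_smooth L
  have : IsIntegrallyClosed (C ⊗[D] L) :=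
    IsIntegrallyClosed.of_equiv (Algebra.TensorProduct.comm D L C).toRingEquiv
  have hb := TensorProduct.toIntegralClosure_bijective_of_smooth (R := D) (S := C) (B := L)
  refine ⟨fun z => ((TensorProduct.toIntegralClosure D C L z).2).map θ,
    fun z w h => hb.1 (Subtype.ext (hθ h)), fun x hx => ?_⟩
  let : Algebra (C ⊗[D] L) K := θ.toRingHom.toAlgebra
  have : IsScalarTower C (C ⊗[D] L) K := IsScalarTower.of_algebraMap_eq fun c => (θ.commutes c).symm
  have : IsFractionRing (C ⊗[D] L) K := by
    have : FaithfulSMul (C ⊗[D] L) K := (faithfulSMul_iff_algebraMap_injective _ _).2 hθ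
    refine IsFractionRing.of_field _ _ fun k => ?_
    obtain ⟨a, b, -, rfl⟩ := IsFractionRing.div_surjective C k
    exact ⟨algebraMap C _ a, algebraMap C _ b, by
      rw [← IsScalarTower.algebraMap_apply, ← IsScalarTower.algebraMap_apply]⟩
  obtain ⟨s, hs⟩ := IsIntegrallyClosed.isIntegral_iff.1 (hx.tower_top (A := C ⊗[D] L))
  have hint : IsIntegral C s :=
    (isIntegral_algHom_iff θ hθ).1 (show IsIntegral C (θ s) by rw [show θ s = x from hs]; exact hx)
  obtain ⟨z, hz⟩ := hb.2 ⟨s, hint⟩
  exact ⟨z, (congrArg θ (congrArg Subtype.val hz)).trans hs⟩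

/-- A map out of a subring of the fraction field is determined on the ring. -/
theorem ringHom_ext {S : Subalgebra C K} {F : Type u} [CommRing F] [IsDomain F] (f g : S →+* F)
    (h : ∀ c, f (algebraMap C S c) = g (algebraMap C S c))
    (hinj : Function.Injective fun c => g (algebraMap C S c)) : f = g := by
  refine RingHom.ext fun t => ?_
  obtain ⟨⟨a, b⟩, hab⟩ := IsLocalization.surj (nonZeroDivisors C) (t : K)
  have hab' : t * algebraMap C S b = algebraMap C S a := Subtype.ext hab
  refine mul_right_cancel₀ (b := g (algebraMap C S b)) ?_ ?_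
  · exact fun h0 => nonZeroDivisors.ne_zero b.2 (hinj (h0.trans (by simp)))
  · calc f t * g (algebraMap C S b) = f (algebraMap C S a) := by rw [← h, ← map_mul, hab']
      _ = g t * g (algebraMap C S b) := by rw [h, ← map_mul, hab']

/-- Any comparison map of the integral closures is bijective. -/
theorem bijective_algHom [Algebra.Smooth D C]
    (g : C ⊗[D] integralClosure D L →ₐ[C] integralClosure C K) : Function.Bijective g := by
  obtain ⟨-, hinj, hsurj⟩ := bijective_toFractionClosure (D := D) (C := C) (L := L) (K := K)
  let Ψ : C ⊗[D] integralClosure D L →ₐ[C] K :=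
    (compare (D := D) (C := C) (L := L) (K := K)).comp
      (Algebra.TensorProduct.map (.id C C) (integralClosure D L).val)
  have hDK : Function.Injective (algebraMap D K) := by
    rw [IsScalarTower.algebraMap_eq D L K]
    exact (algebraMap L K).injective.comp (IsFractionRing.injective D L)
  have h : (integralClosure C K).val.comp g = Ψ := by
    refine Algebra.TensorProduct.ext (AlgHom.ext fun c => ?_) (AlgHom.coe_ringHom_injective ?_)
    · exact (((integralClosure C K).val.comp g).commutes c).trans (Ψ.commutes c).symm
    · refine ringHom_ext _ _ (fun d => ?_) ?_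
      · simp only [AlgHom.coe_toRingHom, AlgHom.commutes]
      · simpa only [AlgHom.coe_toRingHom, AlgHom.commutes] using hDK
  refine ⟨fun z w hzw => hinj ?_, fun x => ?_⟩
  · show Ψ z = Ψ w
    rw [← h, AlgHom.comp_apply, AlgHom.comp_apply, hzw]
  · obtain ⟨z, hz⟩ := hsurj x x.2
    exact ⟨z, Subtype.ext (by rw [← hz]; exact DFunLike.congr_fun h z)⟩

/-- An algebra endomorphism of a subring of the fraction field is trivial. -/
theorem algHom_eq_id {S : Subalgebra C K} (φ : S →ₐ[C] S) : φ = AlgHom.id C S := by
  refine AlgHom.ext fun t => ?_
  obtain ⟨⟨a, b⟩, hab⟩ := IsLocalization.surj (nonZeroDivisors C) (t : K)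
  have h : φ t * algebraMap C S b = algebraMap C S a := by
    rw [← φ.commutes, ← map_mul, show t * algebraMap C S b = algebraMap C S a from Subtype.ext hab,
      φ.commutes]
  refine Subtype.ext (mul_right_cancel₀ ?_ ((congrArg Subtype.val h).trans hab.symm))
  exact IsFractionRing.to_map_ne_zero_of_mem_nonZeroDivisors b.2

end Groth.Agent.Lib.Flat55.SmoothBCNormalization
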