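import Mathlib.AlgebraicGeometry.Morphisms.UniversallyOpen
import Mathlib.AlgebraicGeometry.Noetherian
import Mathlib.Topology.Sober

/-!
Maximal points (generic points of irreducible components) and flat morphisms.
-/

set_option autoImplicit false

universe u

namespace Groth.Agent.Lib.Flat55.GenericPoints

open AlgebraicGeometry CategoryTheory TopologicalSpace

section Top

variable {α : Type*} [TopologicalSpace α]

/-- A generic point of a component has no proper generization. -/
theorem eq_of_specializes [T0Space α] {η y : α} (hη : η ∈ genericPoints α) (h : y ⤳ η) :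
    y = η := by
  have h1 : closure ({η} : Set α) ⊆ closure {y} :=
    closure_minimal (Set.singleton_subset_iff.2 h.mem_closure) isClosed_closure
  have h2 : closure ({y} : Set α) ≤ closure {η} := hη.2 isIrreducible_singleton.closure h1
  exact (h.antisymm (specializes_iff_mem_closure.2 (h2 (subset_closure rfl)))).eq

/-- A point without proper generization is the generic point of a component. -/
theorem mem_of_forall_specializes [QuasiSober α] {η : α}
    (h : ∀ y : α, y ⤳ η → y = η) : η ∈ genericPoints α := by
  have hC := irreducibleComponent_mem_irreducibleComponents η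
  obtain ⟨y, hy⟩ := QuasiSober.sober isIrreducible_irreducibleComponent
    (isClosed_irreducibleComponent (x := η))
  have := h y (hy.specializes mem_irreducibleComponent)
  subst this
  change closure {y} ∈ irreducibleComponents α
  rw [hy.def]; exact hC

/-- Every point is a specialization of a generic point of a component. -/
theorem exists_specializes [QuasiSober α] (x : α) : ∃ η : α, η ∈ genericPoints α ∧ η ⤳ x := by
  have hC := irreducibleComponent_mem_irreducibleComponents x
  obtain ⟨y, hy⟩ := QuasiSober.sober isIrreducible_irreducibleComponent
    (isClosed_irreducibleComponent (x := x))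
  refine ⟨y, ?_, hy.specializes mem_irreducibleComponent⟩
  change closure {y} ∈ irreducibleComponents α
  rw [hy.def]; exact hC

/-- Each component has a generic point in `genericPoints`. -/
theorem exists_closure_eq [QuasiSober α] {Z : Set α} (hZ : Z ∈ irreducibleComponents α) :
    ∃ η : α, η ∈ genericPoints α ∧ closure {η} = Z := by
  obtain ⟨y, hy⟩ := QuasiSober.sober hZ.1 (isClosed_of_mem_irreducibleComponents Z hZ)
  exact ⟨y, by change closure {y} ∈ irreducibleComponents α; rw [hy.def]; exact hZ, hy.def⟩

/-- With finitely many components, every dense open contains all their generic points. -/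
theorem mem_dense_open_of_finite [T0Space α] [QuasiSober α]
    (hfin : (irreducibleComponents α).Finite) {U : Set α} (hU : IsOpen U) (hd : Dense U)
    {η : α} (hη : η ∈ genericPoints α) : η ∈ U := by
  have hgfin : (genericPoints α).Finite := genericPoints.finite hfin
  let C : Set α := ⋃ η' ∈ genericPoints α \ {η}, closure {η'}
  have hC : IsClosed C := (hgfin.sdiff).isClosed_biUnion fun _ _ ↦ isClosed_closure
  have hηC : η ∉ C := by
    simp only [C, Set.mem_iUnion, exists_prop, not_exists, not_and]
    intro η' hη' hmem
    exact hη'.2 (eq_of_specializes hη (specializes_iff_mem_closure.2 hmem))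
  obtain ⟨y, hyC, hyU⟩ := hd.inter_open_nonempty Cᶜ hC.isOpen_compl ⟨η, hηC⟩
  obtain ⟨η', hη', hsp⟩ := exists_specializes y
  by_cases he : η' = η
  · subst he; exact hsp.mem_open hU hyU
  · exact absurd (Set.mem_iUnion₂.2 ⟨η', (Set.mem_sdiff η').2 ⟨hη', he⟩, hsp.mem_closure⟩) hyC

/-- A generizing map sends generic points to generic points. -/
theorem map_mem {β : Type*} [TopologicalSpace β] [T0Space α] [QuasiSober β] {f : α → β}
    (hf : GeneralizingMap f) {η : α} (hη : η ∈ genericPoints α) : f η ∈ genericPoints β := by
  refine mem_of_forall_specializes fun y hy ↦ ?_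
  obtain ⟨η', hsp, rfl⟩ := hf hy
  rw [eq_of_specializes hη hsp]

/-- Generic points restrict to open subspaces. -/
theorem mem_of_isOpenEmbedding {β : Type*} [TopologicalSpace β] [T0Space β] [QuasiSober α]
    {f : α → β} (hf : Topology.IsOpenEmbedding f) {η : α} (hη : f η ∈ genericPoints β) :
    η ∈ genericPoints α :=
  mem_of_forall_specializes fun _ hy ↦
    hf.injective (eq_of_specializes hη (hy.map hf.continuous))

/-- Generic points of an open subspace are generic points of the space. -/
theorem apply_mem_of_isOpenEmbedding {β : Type*} [TopologicalSpace β] [T0Space α] [QuasiSober β]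
    {f : α → β} (hf : Topology.IsOpenEmbedding f) {η : α} (hη : η ∈ genericPoints α) :
    f η ∈ genericPoints β :=
  map_mem hf.generalizingMap hη

end Top

/-- In a locally Noetherian scheme every dense open contains all generic points of components. -/
theorem mem_dense_open {X : Scheme.{u}} [IsLocallyNoetherian X] {U : X.Opens}
    (hd : Dense (U : Set X)) {η : X} (hη : η ∈ genericPoints X) : η ∈ U := by
  obtain ⟨V, hV, hmem, -⟩ := exists_isAffineOpen_mem_and_subset (x := η) (U := ⊤) (by trivial)
  have : IsAffine V := hV
  have : IsNoetherian V := ⟨⟩
  have he : Topology.IsOpenEmbedding V.ι := V.ι.isOpenEmbedding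
  exact mem_dense_open_of_finite (α := (V : Scheme.{u})) NoetherianSpace.finite_irreducibleComponents
    (U.isOpen.preimage he.continuous) (hd.preimage he.isOpenMap)
    (mem_of_isOpenEmbedding he (η := (⟨η, hmem⟩ : (V : Scheme.{u}))) hη)

/-- Flat morphisms send generic points of components to generic points of components. -/
theorem map_mem_of_flat {X Y : Scheme.{u}} (f : X ⟶ Y) [Flat f] {η : X}
    (hη : η ∈ genericPoints X) : f.base η ∈ genericPoints Y :=
  map_mem (Flat.generalizingMap f) hη

end Groth.Agent.Lib.Flat55.GenericPoints
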