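import Mathlib.RingTheory.RingHom.StandardSmooth
import Mathlib.RingTheory.Smooth.NoetherianDescent
import Mathlib.RingTheory.MvPolynomial.Ideal
import Mathlib.RingTheory.Filtration
import Mathlib.RingTheory.Flat.FaithfullyFlat.Algebra
import Mathlib.LinearAlgebra.TensorProduct.Quotient

/-!
# The content ideal of an element of a smooth algebra, via infinitesimal neighbourhoods of sections
-/

set_option autoImplicit false

universe u

open scoped TensorProduct
open MvPolynomial (idealOfVars)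

namespace Groth.Agent.Lib.Flat55.JetContent

/-- Truncated polynomials. -/
abbrev jetRing (d n : ℕ) (A : Type u) [CommRing A] : Type u :=
  MvPolynomial (Fin d) A ⧸ idealOfVars (Fin d) A ^ (n + 1)

variable {R₀ : Type u} [CommRing R₀] {B₀ : Type u} [CommRing B₀] [Algebra R₀ B₀] {d n : ℕ}
  (g : MvPolynomial (Fin d) R₀ →ₐ[R₀] B₀) {A : Type u} [CommRing A] [Algebra R₀ A]

theorem idealOfVars_le_ker : idealOfVars (Fin d) A ≤
    RingHom.ker (MvPolynomial.aeval (fun _ : Fin d => (0 : A)) : MvPolynomial (Fin d) A →ₐ[A] A) := by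
  rw [Ideal.span_le]
  rintro _ ⟨i, rfl⟩
  exact MvPolynomial.aeval_X _ i

/-- The constant term. -/
noncomputable def ev0 (d n : ℕ) (A : Type u) [CommRing A] : jetRing d n A →ₐ[A] A :=
  Ideal.Quotient.liftₐ _ (MvPolynomial.aeval fun _ => (0 : A))
    fun _ h => (RingHom.mem_ker).1 (idealOfVars_le_ker (Ideal.pow_le_self n.succ_ne_zero h))

theorem ev0_mk (q : MvPolynomial (Fin d) A) :
    ev0 d n A (Ideal.Quotient.mk _ q) = MvPolynomial.aeval (fun _ : Fin d => (0 : A)) q :=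
  Ideal.Quotient.lift_mk _ _ _

theorem isNilpotent_ker_ev0 : IsNilpotent (RingHom.ker (ev0 d n A : jetRing d n A →+* A)) := by
  refine ⟨n + 1, ?_⟩
  have hle : RingHom.ker (ev0 d n A : jetRing d n A →+* A) ≤
      (idealOfVars (Fin d) A).map (Ideal.Quotient.mk _) := by
    intro z hz
    obtain ⟨q, rfl⟩ := Ideal.Quotient.mk_surjective z
    refine Ideal.mem_map_of_mem _ ?_
    rw [← pow_one (idealOfVars (Fin d) A), MvPolynomial.mem_pow_idealOfVars_iff']
    intro m hm
    have hm0 : m = 0 := (Finsupp.degree_eq_zero_iff m).1 (Nat.lt_one_iff.1 hm)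
    subst hm0
    have h0 : MvPolynomial.aeval (fun _ : Fin d => (0 : A)) q = 0 := by
      rw [← ev0_mk (n := n)]; exact hz
    rwa [MvPolynomial.aeval_eq_eval₂Hom, MvPolynomial.eval₂Hom_zero'_apply,
      Algebra.algebraMap_self_apply, MvPolynomial.constantCoeff_eq] at h0
  refine le_bot_iff.1 ((Ideal.pow_right_mono hle _).trans ?_)
  rw [← Ideal.map_pow, Ideal.map_quotient_self]

/-- An `A`-valued point of `B₀` extended to an infinitesimal neighbourhood. -/
def IsJet (φ : B₀ →ₐ[R₀] A) (ψ : B₀ →ₐ[R₀] jetRing d n A) : Prop :=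
  (∀ i, ψ (g (MvPolynomial.X i)) =
    Ideal.Quotient.mk _ (MvPolynomial.C (φ (g (MvPolynomial.X i))) + MvPolynomial.X i)) ∧
  ∀ b, ev0 d n A (ψ b) = φ b

variable {g}

theorem exists_isJet (hg : g.toRingHom.Etale) (φ : B₀ →ₐ[R₀] A) (n : ℕ) :
    ∃ ψ, IsJet g φ (ψ : B₀ →ₐ[R₀] jetRing d n A) := by
  let P := MvPolynomial (Fin d) R₀
  let : Algebra P B₀ := g.toRingHom.toAlgebra
  have : Algebra.Etale P B₀ := hg
  let shift : P →ₐ[R₀] jetRing d n A := MvPolynomial.aeval fun i =>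
    Ideal.Quotient.mk _ (MvPolynomial.C (φ (g (MvPolynomial.X i))) + MvPolynomial.X i)
  let : Algebra P (jetRing d n A) := shift.toRingHom.toAlgebra
  let : Algebra P A := (φ.comp g).toRingHom.toAlgebra
  have hc : ((ev0 d n A).restrictScalars R₀).comp shift = φ.comp g := MvPolynomial.algHom_ext fun i => by
    simp [shift, ev0_mk]
  let π : jetRing d n A →ₐ[P] A :=
    { (ev0 d n A).toRingHom with commutes' := fun p => AlgHom.congr_fun hc p }
  let f : B₀ →ₐ[P] A := { φ.toRingHom with commutes' := fun _ => rfl }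
  have hπ : Function.Surjective π := fun a =>
    ⟨algebraMap A _ a, AlgHom.commutes (ev0 d n A) a⟩
  let l := Algebra.FormallySmooth.liftOfSurjective f π hπ isNilpotent_ker_ev0
  have hl : ∀ r, l (algebraMap R₀ B₀ r) = algebraMap R₀ (jetRing d n A) r := by
    intro r
    rw [show algebraMap R₀ B₀ r = algebraMap P B₀ (MvPolynomial.C r) from (g.commutes r).symm,
      l.commutes]
    exact shift.commutes r
  let ψ : B₀ →ₐ[R₀] jetRing d n A := { l.toRingHom with commutes' := hl }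
  refine ⟨ψ, fun i => ?_, fun b => ?_⟩
  · show l (algebraMap P B₀ (MvPolynomial.X i)) = _
    rw [l.commutes]
    exact MvPolynomial.aeval_X _ i
  · exact Algebra.FormallySmooth.liftOfSurjective_apply f π hπ isNilpotent_ker_ev0 b

theorem IsJet.unique (hg : g.toRingHom.Etale) {φ : B₀ →ₐ[R₀] A} {ψ ψ' : B₀ →ₐ[R₀] jetRing d n A}
    (h : IsJet g φ ψ) (h' : IsJet g φ ψ') : ψ = ψ' := by
  let P := MvPolynomial (Fin d) R₀
  let : Algebra P B₀ := g.toRingHom.toAlgebra
  have : Algebra.Etale P B₀ := hg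
  let : Algebra P (jetRing d n A) := (ψ.comp g).toRingHom.toAlgebra
  have hc : ψ'.comp g = ψ.comp g := MvPolynomial.algHom_ext fun i => by
    simp only [AlgHom.comp_apply]; rw [h.1, h'.1]
  let l₁ : B₀ →ₐ[P] jetRing d n A := { ψ.toRingHom with commutes' := fun _ => rfl }
  let l₂ : B₀ →ₐ[P] jetRing d n A :=
    { ψ'.toRingHom with commutes' := fun p => AlgHom.congr_fun hc p }
  have e : l₁ = l₂ := Algebra.FormallyUnramified.lift_unique_of_ringHom
    (ev0 d n A : jetRing d n A →+* A) isNilpotent_ker_ev0 l₁ l₂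
    (RingHom.ext fun b => (h.2 b).trans (h'.2 b).symm)
  exact AlgHom.ext fun b => AlgHom.congr_fun e b

variable {A' : Type u} [CommRing A'] [Algebra R₀ A']

/-- Base change of truncated polynomials. -/
noncomputable def jetMap (d n : ℕ) (π : A →ₐ[R₀] A') : jetRing d n A →ₐ[R₀] jetRing d n A' :=
  Ideal.quotientMapₐ _ (MvPolynomial.mapAlgHom π) fun q hq => by
    rw [MvPolynomial.mem_pow_idealOfVars_iff'] at hq
    show MvPolynomial.map π.toRingHom q ∈ idealOfVars (Fin d) A' ^ (n + 1)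
    rw [MvPolynomial.mem_pow_idealOfVars_iff']
    intro m hm
    rw [MvPolynomial.coeff_map, hq m hm, map_zero]

theorem jetMap_mk (π : A →ₐ[R₀] A') (q : MvPolynomial (Fin d) A) :
    jetMap d n π (Ideal.Quotient.mk _ q) = Ideal.Quotient.mk _ (MvPolynomial.map π.toRingHom q) :=
  rfl

theorem jetMap_eq_zero_iff (π : A →ₐ[R₀] A') (q : MvPolynomial (Fin d) A) :
    jetMap d n π (Ideal.Quotient.mk _ q) = 0 ↔
      ∀ m : Fin d →₀ ℕ, m.degree < n + 1 → π (q.coeff m) = 0 := by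
  rw [jetMap_mk, Ideal.Quotient.eq_zero_iff_mem, MvPolynomial.mem_pow_idealOfVars_iff']
  simp only [MvPolynomial.coeff_map]
  rfl

theorem jetMap_injective {π : A →ₐ[R₀] A'} (hπ : Function.Injective π) :
    Function.Injective (jetMap d n π) := by
  rw [injective_iff_map_eq_zero]
  intro z hz
  obtain ⟨q, rfl⟩ := Ideal.Quotient.mk_surjective z
  rw [jetMap_eq_zero_iff] at hz
  rw [Ideal.Quotient.eq_zero_iff_mem, MvPolynomial.mem_pow_idealOfVars_iff']
  exact fun m hm => hπ ((hz m hm).trans (map_zero π).symm)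

theorem IsJet.map {φ : B₀ →ₐ[R₀] A} {ψ : B₀ →ₐ[R₀] jetRing d n A} (h : IsJet g φ ψ)
    (π : A →ₐ[R₀] A') : IsJet g (π.comp φ) ((jetMap d n π).comp ψ) := by
  refine ⟨fun i => ?_, fun b => ?_⟩
  · rw [AlgHom.comp_apply, h.1, jetMap_mk]
    simp
  · rw [AlgHom.comp_apply, AlgHom.comp_apply, ← h.2]
    obtain ⟨q, hq⟩ := Ideal.Quotient.mk_surjective (ψ b)
    rw [← hq, jetMap_mk, ev0_mk, ev0_mk]
    simp only [MvPolynomial.aeval_eq_eval₂Hom, MvPolynomial.eval₂Hom_zero'_apply,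
      Algebra.algebraMap_self_apply, MvPolynomial.constantCoeff_map]
    rfl

/-- The point as a section. -/
noncomputable def sect (φ : B₀ →ₐ[R₀] A) : A ⊗[R₀] B₀ →ₐ[A] A :=
  Algebra.TensorProduct.lift (AlgHom.id A A) φ fun _ _ => Commute.all _ _

/-- The expansion along the section. -/
noncomputable def jetC (ψ : B₀ →ₐ[R₀] jetRing d n A) : A ⊗[R₀] B₀ →ₐ[A] jetRing d n A :=
  Algebra.TensorProduct.lift (Algebra.ofId A _) ψ fun _ _ => Commute.all _ _

theorem jetC_map (π : A →ₐ[R₀] A') (ψ : B₀ →ₐ[R₀] jetRing d n A) (z : A ⊗[R₀] B₀) :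
    jetMap d n π (jetC ψ z) =
      jetC ((jetMap d n π).comp ψ) (Algebra.TensorProduct.map π (AlgHom.id R₀ B₀) z) := by
  induction z with
  | zero => simp
  | add a b ha hb => simp [map_add, ha, hb]
  | tmul a b =>
    simp only [jetC, Algebra.TensorProduct.lift_tmul, Algebra.TensorProduct.map_tmul, map_mul,
      AlgHom.comp_apply, AlgHom.id_apply, Algebra.ofId_apply]
    congr 1
    show jetMap d n π (Ideal.Quotient.mk _ (MvPolynomial.C a)) = Ideal.Quotient.mk _ (MvPolynomial.C (π a))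
    rw [jetMap_mk, MvPolynomial.map_C]
    rfl

theorem sect_map (φ : B₀ →ₐ[R₀] A) (π : A →ₐ[R₀] A') (z : A ⊗[R₀] B₀) :
    sect (π.comp φ) (Algebra.TensorProduct.map π (AlgHom.id R₀ B₀) z) = π (sect φ z) := by
  induction z with
  | zero => simp
  | add a b ha hb => simp [map_add, ha, hb]
  | tmul a b => simp [sect]

/-- Elements with vanishing jet lie in the power of the ideal of the section. -/
theorem mem_pow_ker (hg : g.toRingHom.Etale) {φ : B₀ →ₐ[R₀] A} {ψ : B₀ →ₐ[R₀] jetRing d n A}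
    (h : IsJet g φ ψ) {c : A ⊗[R₀] B₀} (hc : jetC ψ c = 0) :
    c ∈ RingHom.ker (sect φ) ^ (n + 1) := by
  let I := RingHom.ker (sect φ)
  let t : Fin d → A ⊗[R₀] B₀ := fun i =>
    (1 : A) ⊗ₜ g (MvPolynomial.X i) - φ (g (MvPolynomial.X i)) ⊗ₜ (1 : B₀)
  have ht : ∀ i, t i ∈ I := fun i => by
    simp [t, I, sect]
  let δ : jetRing d n A →ₐ[A] (A ⊗[R₀] B₀) ⧸ I ^ (n + 1) :=
    Ideal.quotientMapₐ _ (MvPolynomial.aeval t) (by
      rw [← Ideal.map_le_iff_le_comap, Ideal.map_pow]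
      refine Ideal.pow_right_mono ?_ _
      rw [Ideal.map_span, Ideal.span_le]
      rintro _ ⟨_, ⟨i, rfl⟩, rfl⟩
      exact (congrArg (· ∈ I) (MvPolynomial.aeval_X t i)).mpr (ht i))
  let P := MvPolynomial (Fin d) R₀
  let : Algebra P B₀ := g.toRingHom.toAlgebra
  have : Algebra.Etale P B₀ := hg
  let inc : B₀ →ₐ[R₀] (A ⊗[R₀] B₀) ⧸ I ^ (n + 1) :=
    (Ideal.Quotient.mkₐ R₀ _).comp Algebra.TensorProduct.includeRight
  let : Algebra P ((A ⊗[R₀] B₀) ⧸ I ^ (n + 1)) := (inc.comp g).toRingHom.toAlgebra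
  let g₁ : B₀ →ₐ[R₀] (A ⊗[R₀] B₀) ⧸ I ^ (n + 1) := (δ.restrictScalars R₀).comp ψ
  have hc₁ : g₁.comp g = inc.comp g := MvPolynomial.algHom_ext fun i => by
    show δ (ψ (g (MvPolynomial.X i))) = inc (g (MvPolynomial.X i))
    rw [h.1]
    show Ideal.Quotient.mk _ (MvPolynomial.aeval t (_ + _)) = Ideal.Quotient.mk _ _
    congr 1
    rw [map_add, MvPolynomial.aeval_C, MvPolynomial.aeval_X]
    simp [t, Algebra.TensorProduct.algebraMap_apply]
  let l₁ : B₀ →ₐ[P] (A ⊗[R₀] B₀) ⧸ I ^ (n + 1) :=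
    { g₁.toRingHom with commutes' := fun p => AlgHom.congr_fun hc₁ p }
  let l₂ : B₀ →ₐ[P] (A ⊗[R₀] B₀) ⧸ I ^ (n + 1) :=
    { inc.toRingHom with commutes' := fun _ => rfl }
  let f : (A ⊗[R₀] B₀) ⧸ I ^ (n + 1) →+* A :=
    Ideal.Quotient.lift _ (sect φ).toRingHom fun z hz => (RingHom.mem_ker).1 (Ideal.pow_le_self n.succ_ne_zero hz)
  have hf : IsNilpotent (RingHom.ker f) := by
    refine ⟨n + 1, le_bot_iff.1 ?_⟩
    have : RingHom.ker f ≤ I.map (Ideal.Quotient.mk _) := fun z hz => by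
      obtain ⟨q, rfl⟩ := Ideal.Quotient.mk_surjective z
      exact Ideal.mem_map_of_mem _ hz
    refine (Ideal.pow_right_mono this _).trans ?_
    rw [← Ideal.map_pow, Ideal.map_quotient_self]
  have hev : ∀ z, f (δ z) = ev0 d n A z := fun z => by
    obtain ⟨q, rfl⟩ := Ideal.Quotient.mk_surjective z
    rw [ev0_mk]
    show sect φ (MvPolynomial.aeval t q) = _
    rw [← AlgHom.comp_apply, MvPolynomial.comp_aeval]
    exact MvPolynomial.eval₂Hom_congr rfl (funext fun i => (RingHom.mem_ker).1 (ht i)) rfl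
  have e : l₁ = l₂ := Algebra.FormallyUnramified.lift_unique_of_ringHom f hf l₁ l₂
    (RingHom.ext fun b => (hev (ψ b)).trans ((h.2 b).trans (by
      show φ b = sect φ ((1 : A) ⊗ₜ b)
      simp [sect])))
  have key : δ.comp (jetC ψ) = Ideal.Quotient.mkₐ A _ := by
    refine Algebra.TensorProduct.ext (Algebra.ext_id _ _ _) (AlgHom.ext fun b => ?_)
    show δ (jetC ψ ((1 : A) ⊗ₜ b)) = _
    rw [show jetC ψ ((1 : A) ⊗ₜ b) = ψ b by simp [jetC]]
    exact AlgHom.congr_fun e b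
  rw [← Ideal.Quotient.eq_zero_iff_mem]
  exact (AlgHom.congr_fun key c).symm.trans (by rw [AlgHom.comp_apply, hc, map_zero])

/-- An element with vanishing jets is killed by an element congruent to one along the section. -/
theorem exists_u [IsNoetherianRing R₀] [Algebra.FiniteType R₀ B₀] (hg : g.toRingHom.Etale)
    (φ : B₀ →ₐ[R₀] A) (c : A ⊗[R₀] B₀)
    (h : ∀ (n : ℕ) (ψ : B₀ →ₐ[R₀] jetRing d n A), IsJet g φ ψ → jetC ψ c = 0) :
    ∃ u, sect φ u = 1 ∧ u * c = 0 := by
  classical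
  obtain ⟨s, rfl⟩ := TensorProduct.exists_finset c
  obtain ⟨T, hT⟩ := Algebra.FiniteType.out (R := R₀) (A := B₀)
  let S₀ : Finset A := s.image Prod.fst ∪ T.image φ
  let A₀ := Algebra.adjoin R₀ (S₀ : Set A)
  have hφ : ∀ b, φ b ∈ A₀ := by
    intro b
    have hb : φ b ∈ (Algebra.adjoin R₀ (T : Set B₀)).map φ := ⟨b, hT ▸ Algebra.mem_top, rfl⟩
    rw [AlgHom.map_adjoin] at hb
    refine Algebra.adjoin_mono ?_ hb
    rintro _ ⟨t, ht, rfl⟩
    exact Finset.mem_coe.2 (Finset.mem_union_right _ (Finset.mem_image_of_mem φ ht))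
  let φ₀ : B₀ →ₐ[R₀] A₀ := φ.codRestrict A₀ hφ
  have : Algebra.FiniteType R₀ A₀ := A₀.fg_iff_finiteType.1 ⟨S₀, rfl⟩
  have : IsNoetherianRing A₀ := Algebra.FiniteType.isNoetherianRing R₀ A₀
  have : IsNoetherianRing (A₀ ⊗[R₀] B₀) := Algebra.FiniteType.isNoetherianRing A₀ _
  let c₀ : A₀ ⊗[R₀] B₀ := ∑ z ∈ s.attach, (⟨z.1.1, Algebra.subset_adjoin
    (Finset.mem_coe.2 (Finset.mem_union_left _ (Finset.mem_image_of_mem Prod.fst z.2)))⟩ : A₀) ⊗ₜ z.1.2
  have hc₀ : Algebra.TensorProduct.map A₀.val (AlgHom.id R₀ B₀) c₀ = ∑ z ∈ s, z.1 ⊗ₜ z.2 := by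
    rw [map_sum, ← Finset.sum_attach s fun z => z.1 ⊗ₜ[R₀] z.2]
    simp
  have hmem : c₀ ∈ ⨅ k : ℕ, RingHom.ker (sect φ₀) ^ k • (⊤ : Submodule (A₀ ⊗[R₀] B₀) (A₀ ⊗[R₀] B₀)) := by
    refine (Submodule.mem_iInf _).2 fun k => ?_
    rw [smul_eq_mul, Ideal.mul_top]
    obtain ⟨ψ₀, hψ₀⟩ := exists_isJet hg φ₀ k
    refine Ideal.pow_le_pow_right k.le_succ (mem_pow_ker hg hψ₀ (jetMap_injective (π := A₀.val)
      Subtype.val_injective ?_))
    rw [map_zero, jetC_map, hc₀]
    exact h k _ (by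
      have := hψ₀.map A₀.val
      rwa [AlgHom.val_comp_codRestrict] at this)
  obtain ⟨⟨r, hr⟩, hrc⟩ := (Ideal.mem_iInf_smul_pow_eq_bot_iff _ _).1 hmem
  refine ⟨Algebra.TensorProduct.map A₀.val (AlgHom.id R₀ B₀) (1 - r), ?_, ?_⟩
  · have h1 := sect_map φ₀ A₀.val (1 - r)
    rw [AlgHom.val_comp_codRestrict] at h1
    rw [h1, map_sub, map_one, (RingHom.mem_ker).1 hr, sub_zero, map_one]
  · rw [← hc₀, ← map_mul, sub_mul, one_mul]
    have : r * c₀ = c₀ := hrc
    rw [this, sub_self, map_zero]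

/-- The ideal of all coefficients of the expansions of `a` along the universal point. -/
theorem exists_jet_ideal (hg : g.toRingHom.Etale) {R₁ : Type u} [CommRing R₁] [Algebra R₀ R₁]
    [IsNoetherianRing (R₁ ⊗[R₀] B₀)] (a : R₁ ⊗[R₀] B₀) :
    ∃ J : Ideal (R₁ ⊗[R₀] B₀), J.FG ∧ ∀ (A : Type u) [CommRing A] [Algebra R₀ A]
      (π : R₁ ⊗[R₀] B₀ →ₐ[R₀] A), J.map π = ⊥ ↔
        ∀ (n : ℕ) (ψ : B₀ →ₐ[R₀] jetRing d n A), IsJet g (π.comp Algebra.TensorProduct.includeRight) ψ →
          jetC ψ (Algebra.TensorProduct.map (π.comp Algebra.TensorProduct.includeLeft) (AlgHom.id R₀ B₀) a) = 0 := by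
  let B₁ := R₁ ⊗[R₀] B₀
  let c := Algebra.TensorProduct.map
    (Algebra.TensorProduct.includeLeft : R₁ →ₐ[R₀] B₁) (AlgHom.id R₀ B₀) a
  choose ψ hψ using fun n => exists_isJet hg (Algebra.TensorProduct.includeRight : B₀ →ₐ[R₀] B₁) n
  choose q hq using fun n => Ideal.Quotient.mk_surjective (jetC (ψ n) c)
  let J : Ideal B₁ := Ideal.span {b | ∃ (n : ℕ) (m : Fin d →₀ ℕ), m.degree < n + 1 ∧ (q n).coeff m = b}
  refine ⟨J, (inferInstance : IsNoetherianRing B₁).noetherian J, fun A _ _ π => ?_⟩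
  have hkey : ∀ (n : ℕ) (ψ' : B₀ →ₐ[R₀] jetRing d n A), IsJet g (π.comp Algebra.TensorProduct.includeRight) ψ' →
      (jetC ψ' (Algebra.TensorProduct.map (π.comp Algebra.TensorProduct.includeLeft) (AlgHom.id R₀ B₀) a) = 0 ↔
        ∀ m : Fin d →₀ ℕ, m.degree < n + 1 → π ((q n).coeff m) = 0) := by
    intro n ψ' hψ'
    obtain rfl := IsJet.unique hg hψ' ((hψ n).map π)
    rw [← jetMap_eq_zero_iff, hq, jetC_map]
    refine Eq.congr (congrArg _ ?_) rfl
    show _ = Algebra.TensorProduct.map π (AlgHom.id R₀ B₀) (Algebra.TensorProduct.map _ _ a)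
    rw [← AlgHom.comp_apply, ← Algebra.TensorProduct.map_comp, AlgHom.comp_id]
  constructor
  · intro hJ n ψ' hψ'
    refine (hkey n ψ' hψ').2 fun m hm => ?_
    have := Ideal.mem_map_of_mem π (Ideal.subset_span ⟨n, m, hm, rfl⟩ : (q n).coeff m ∈ J)
    rwa [hJ, Ideal.mem_bot] at this
  · intro h
    rw [Ideal.map_span, Ideal.span_eq_bot]
    rintro _ ⟨_, ⟨n, m, hm, rfl⟩, rfl⟩
    exact (hkey n _ ((hψ n).map π)).1 (h n _ ((hψ n).map π)) m hm

section Content

variable {R B : Type u} [CommRing R] [CommRing B] [Algebra R B]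

theorem map_tmul_one (A : Type u) [CommRing A] [Algebra R A] [Algebra R₀ R] [Algebra R₀ A]
    [IsScalarTower R₀ R A] (z : R ⊗[R₀] B₀) :
    Algebra.TensorProduct.cancelBaseChange R₀ R A A B₀ ((1 : A) ⊗ₜ z) =
      Algebra.TensorProduct.map (IsScalarTower.toAlgHom R₀ R A) (AlgHom.id R₀ B₀) z := by
  induction z with
  | zero => simp
  | add a b ha hb => simp [TensorProduct.tmul_add, map_add, ha, hb]
  | tmul r b => simp [Algebra.smul_def]

/-- A smooth algebra with irreducible fibres has content ideals. -/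
theorem exists_content (d : ℕ) [Algebra.IsStandardSmoothOfRelativeDimension d R B]
    [Module.FaithfullyFlat R B]
    (H : ∀ (A : Type u) [CommRing A] [Algebra R A] (σ : A ⊗[R] B →ₐ[A] A) (c u : A ⊗[R] B),
      σ u = 1 → u * c = 0 → c = 0) (a : B) :
    ∃ J : Ideal R, J.FG ∧ ∀ (A : Type u) [CommRing A] [Algebra R A],
      ((1 : A) ⊗ₜ[R] a) = 0 ↔ J.map (algebraMap R A) = ⊥ := by
  classical
  obtain ⟨S, B₀, _, _, hS, hB₀, ⟨e⟩⟩ :=
    Algebra.IsStandardSmoothOfRelativeDimension.exists_subalgebra_fg (R := ℤ) (A := R) (B := B) d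
  have : Algebra.FiniteType ℤ S := S.fg_iff_finiteType.1 hS
  have : IsNoetherianRing S := Algebra.FiniteType.isNoetherianRing ℤ S
  obtain ⟨g, hg⟩ := Algebra.IsStandardSmoothOfRelativeDimension.exists_etale_mvPolynomial (n := d) S B₀
  have : Algebra.IsStandardSmooth S B₀ := Algebra.IsStandardSmoothOfRelativeDimension.isStandardSmooth d
  have : Algebra.FiniteType S B₀ := inferInstance
  obtain ⟨s, hs⟩ := TensorProduct.exists_finset (e a)
  let R₁ := Algebra.adjoin S ((s.image Prod.fst : Finset R) : Set R)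
  have : Algebra.FiniteType S R₁ := R₁.fg_iff_finiteType.1 ⟨_, rfl⟩
  have : IsNoetherianRing R₁ := Algebra.FiniteType.isNoetherianRing S R₁
  have : IsNoetherianRing (R₁ ⊗[S] B₀) := Algebra.FiniteType.isNoetherianRing R₁ (R₁ ⊗[S] B₀)
  let a₁ : R₁ ⊗[S] B₀ := ∑ z ∈ s.attach, (⟨z.1.1, Algebra.subset_adjoin
    (Finset.mem_coe.2 (Finset.mem_image_of_mem Prod.fst z.2))⟩ : R₁) ⊗ₜ z.1.2
  have ha₁ : Algebra.TensorProduct.map R₁.val (AlgHom.id S B₀) a₁ = e a := by
    rw [hs, map_sum, ← Finset.sum_attach s fun z => z.1 ⊗ₜ[S] z.2]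
    simp
  obtain ⟨J₁, hJ₁, hJ₁'⟩ := exists_jet_ideal (R₁ := R₁) hg a₁
  let θ : R₁ ⊗[S] B₀ →+* B :=
    (e.symm : R ⊗[S] B₀ →+* B).comp (Algebra.TensorProduct.map R₁.val (AlgHom.id S B₀)).toRingHom
  let JB : Ideal B := J₁.map θ
  have hpt : ∀ (A : Type u) [CommRing A] [Algebra R A] (π : B →ₐ[R] A),
      JB.map π = ⊥ ↔ ((1 : A) ⊗ₜ[R] a) = 0 := by
    intro A _ _ π
    let π₁ : R₁ ⊗[S] B₀ →ₐ[S] A :=
      { π.toRingHom.comp θ with
        commutes' := fun r => by
          show π (e.symm (Algebra.TensorProduct.map R₁.val (AlgHom.id S B₀) (algebraMap S _ r))) = _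
          rw [AlgHom.commutes]
          show π (e.symm (algebraMap R (R ⊗[S] B₀) (r : R))) = algebraMap R A (r : R)
          rw [AlgEquiv.commutes, AlgHom.commutes] }
    let γ : A ⊗[R] B ≃ₐ[A] A ⊗[S] B₀ :=
      (Algebra.TensorProduct.congr AlgEquiv.refl e).trans
        (Algebra.TensorProduct.cancelBaseChange S R A A B₀)
    let c := Algebra.TensorProduct.map (π₁.comp Algebra.TensorProduct.includeLeft) (AlgHom.id S B₀) a₁
    have hγ : γ ((1 : A) ⊗ₜ a) = c := by
      show Algebra.TensorProduct.cancelBaseChange S R A A B₀ ((1 : A) ⊗ₜ e a) = c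
      rw [map_tmul_one, ← ha₁, ← AlgHom.comp_apply, ← Algebra.TensorProduct.map_comp, AlgHom.comp_id]
      have hcomp : (IsScalarTower.toAlgHom S R A).comp R₁.val =
          π₁.comp Algebra.TensorProduct.includeLeft := AlgHom.ext fun r => by
        show algebraMap R A r.1 =
          π (e.symm (Algebra.TensorProduct.map R₁.val (AlgHom.id S B₀) (r ⊗ₜ 1)))
        rw [Algebra.TensorProduct.map_tmul, show R₁.val r ⊗ₜ[S] (AlgHom.id S B₀) 1 =
          algebraMap R (R ⊗[S] B₀) r.1 from rfl, AlgEquiv.commutes, AlgHom.commutes]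
      rw [hcomp]
    rw [show JB.map π = J₁.map π₁ from Ideal.map_map (f := θ) (g := π.toRingHom) (I := J₁)]
    rw [hJ₁' A π₁]
    constructor
    · intro h
      obtain ⟨u, hu1, hu2⟩ := exists_u hg (π₁.comp Algebra.TensorProduct.includeRight) c h
      refine H A ((sect (π₁.comp Algebra.TensorProduct.includeRight)).comp γ.toAlgHom) _ (γ.symm u) ?_ ?_
      · show sect _ (γ (γ.symm u)) = 1
        rw [AlgEquiv.apply_symm_apply]; exact hu1
      · apply γ.injective
        rw [map_mul, AlgEquiv.apply_symm_apply, hγ, hu2, map_zero]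
    · intro h n ψ _
      show jetC ψ c = 0
      rw [← hγ, h, map_zero, map_zero]
  let J := JB.comap (algebraMap R B)
  have hJB : JB = J.map (algebraMap R B) := by
    refine le_antisymm (fun b hb => ?_) Ideal.map_comap_le
    let Q := (B ⧸ JB) ⊗[R] B
    let π₁ : B →ₐ[R] Q := Algebra.TensorProduct.includeLeft.comp (Ideal.Quotient.mkₐ R JB)
    have h1 : JB.map π₁ = ⊥ := by
      refine le_bot_iff.1 (Ideal.map_le_iff_le_comap.2 fun z hz => ?_)
      show π₁ z ∈ (⊥ : Ideal Q)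
      simp [π₁, Ideal.Quotient.eq_zero_iff_mem.2 hz]
    have h2 := (hpt Q Algebra.TensorProduct.includeRight).2 ((hpt Q π₁).1 h1)
    have h3 : (1 : B ⧸ JB) ⊗ₜ[R] b = 0 := by
      have := Ideal.mem_map_of_mem (Algebra.TensorProduct.includeRight : B →ₐ[R] Q) hb
      rwa [h2, Ideal.mem_bot] at this
    let l : R ⧸ J →ₗ[R] B ⧸ JB :=
      (Ideal.quotientMapₐ JB (Algebra.ofId R B) le_rfl).toLinearMap
    have hl : Function.Injective l := Ideal.quotientMap_injective (f := algebraMap R B) (I := JB)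
    have h4 : ((Ideal.Quotient.mk J (1 : R)) ⊗ₜ[R] b : (R ⧸ J) ⊗[R] B) = 0 := by
      apply Module.Flat.rTensor_preserves_injective_linearMap (M := B) l hl
      rw [map_zero, LinearMap.rTensor_tmul]
      rw [show l (Ideal.Quotient.mk J 1) = 1 from map_one (Ideal.quotientMapₐ JB (Algebra.ofId R B) le_rfl)]
      exact h3
    have h5 := congrArg (TensorProduct.quotTensorEquivQuotSMul B J) h4
    rw [TensorProduct.quotTensorEquivQuotSMul_mk_tmul, one_smul, map_zero,
      Submodule.Quotient.mk_eq_zero, Ideal.smul_top_eq_map] at h5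
    exact h5
  have hJfg : J.FG := by
    obtain ⟨gens, hgens⟩ : JB.FG := hJ₁.map _
    have : ∀ b ∈ gens, ∃ T : Finset R, ↑T ⊆ (J : Set R) ∧ b ∈ (Ideal.span (T : Set R)).map (algebraMap R B) := by
      intro b hb
      have hbJ : b ∈ J.map (algebraMap R B) := hJB ▸ (hgens ▸ Submodule.subset_span hb)
      obtain ⟨T, hT, hbT⟩ := Submodule.mem_span_finite_of_mem_span
        (show b ∈ Submodule.span B (algebraMap R B '' J) from hbJ)
      obtain ⟨T', hT', rfl⟩ := Finset.subset_set_image_iff.1 hT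
      refine ⟨T', hT', ?_⟩
      rw [Ideal.map_span, ← Finset.coe_image]
      exact hbT
    choose T hTJ hTb using this
    refine ⟨gens.attach.biUnion fun b => T b.1 b.2, ?_⟩
    refine le_antisymm (Submodule.span_le.2 fun r hr => ?_) fun r hr => ?_
    · obtain ⟨b, -, hb⟩ := Finset.mem_biUnion.1 hr
      exact hTJ _ _ hb
    · show r ∈ Ideal.span _
      rw [← Ideal.comap_map_eq_self_of_faithfullyFlat (B := B)
        (Ideal.span ((gens.attach.biUnion fun b => T b.1 b.2 : Finset R) : Set R)), Ideal.mem_comap]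
      have : JB ≤ Ideal.map (algebraMap R B)
          (Submodule.span R ((gens.attach.biUnion fun b => T b.1 b.2 : Finset R) : Set R)) := by
        rw [← hgens, Submodule.span_le]
        intro b hb
        refine Ideal.map_mono (Ideal.span_mono ?_) (hTb b hb)
        exact Finset.coe_subset.2 (Finset.subset_biUnion_of_mem (fun b : {x // x ∈ gens} => T b.1 b.2)
          (Finset.mem_attach _ ⟨b, hb⟩))
      exact this hr
  refine ⟨J, hJfg, fun A _ _ => ?_⟩
  let A' := A ⊗[R] B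
  have hinjA : Function.Injective (algebraMap A A') := FaithfulSMul.algebraMap_injective A A'
  have h6 := hpt A' Algebra.TensorProduct.includeRight
  have h7 : JB.map (Algebra.TensorProduct.includeRight : B →ₐ[R] A') = ⊥ ↔
      J.map (algebraMap R A) = ⊥ := by
    rw [hJB, show (J.map (algebraMap R B)).map (Algebra.TensorProduct.includeRight : B →ₐ[R] A') =
      (J.map (algebraMap R A)).map (algebraMap A A') by
        rw [Ideal.map_map, ← IsScalarTower.algebraMap_eq]
        exact (Ideal.map_map (f := algebraMap R B)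
          (g := (Algebra.TensorProduct.includeRight : B →ₐ[R] A').toRingHom)).trans
          (congrArg (Ideal.map · J) (AlgHom.comp_algebraMap (Algebra.TensorProduct.includeRight : B →ₐ[R] A')))]
    exact Ideal.map_eq_bot_iff_of_injective hinjA
  rw [← h7, h6]
  have hinj : Function.Injective (((Algebra.TensorProduct.includeLeft : A →ₐ[R] A').toLinearMap).rTensor B) :=
    Module.Flat.rTensor_preserves_injective_linearMap _ hinjA
  constructor
  · intro h
    rw [show (1 : A') ⊗ₜ[R] a = ((Algebra.TensorProduct.includeLeft : A →ₐ[R] A').toLinearMap).rTensor B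
      ((1 : A) ⊗ₜ a) by simp [LinearMap.rTensor_tmul]; rfl, h, map_zero]
  · intro h
    apply hinj
    rw [map_zero, ← h]
    simp [LinearMap.rTensor_tmul]
    rfl

end Content

end Groth.Agent.Lib.Flat55.JetContent
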