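import Groth.Agent.Lib.Flat55.Relations
import Mathlib.RingTheory.IsTensorProduct
import Mathlib.RingTheory.TensorProduct.Quotient
import Mathlib.RingTheory.RingHom.Flat
import Mathlib.RingTheory.RingHom.FaithfullyFlat
import Mathlib.RingTheory.Flat.FaithfullyFlat.Algebra
import Mathlib.RingTheory.Localization.AtPrime.Basic
import Mathlib.RingTheory.TensorProduct.MvPolynomial
import Mathlib.LinearAlgebra.StdBasis
import Mathlib.RingTheory.Flat.Stability
import Mathlib.RingTheory.Flat.Localization

/-!
# Change of rings for presented modules, residue polynomial rings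
-/

set_option autoImplicit false

universe u v

namespace Groth.Agent.Lib.Flat55.Presented

open TensorProduct MvPolynomial Relations

section Quotient

variable {ι κ : Type v} {A : Type*} {S : Type*} [CommRing A] [CommRing S] [Algebra A S]

/-- The map between presented modules induced by `A → S`. -/
noncomputable def quotMap (g : κ → ι → A) (g' : κ → ι → S)
    (h : ∀ v i, g' v i = algebraMap A S (g v i)) :
    ((ι → A) ⧸ Submodule.span A (Set.range g)) →ₗ[A] ((ι → S) ⧸ Submodule.span S (Set.range g')) :=
  (Submodule.span A (Set.range g)).liftQ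
    (((Submodule.span S (Set.range g')).mkQ.restrictScalars A).comp
      (LinearMap.pi fun i ↦ (Algebra.linearMap A S).comp (LinearMap.proj i))) <| by
    rw [Submodule.span_le]
    rintro _ ⟨v, rfl⟩
    rw [SetLike.mem_coe, LinearMap.mem_ker, LinearMap.comp_apply,
      LinearMap.restrictScalars_apply, Submodule.mkQ_apply, Submodule.Quotient.mk_eq_zero]
    exact Submodule.subset_span ⟨v, funext fun i ↦ h v i⟩

theorem quotMap_mk (g : κ → ι → A) (g' : κ → ι → S)
    (h : ∀ v i, g' v i = algebraMap A S (g v i)) (f : ι → A) :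
    quotMap g g' h (Submodule.Quotient.mk f) =
      Submodule.Quotient.mk (fun i ↦ algebraMap A S (f i)) := rfl

/-- A quotient of a free module by the image of relations is the base change. -/
theorem isBaseChange_quotMap [Finite ι] (g : κ → ι → A) (g' : κ → ι → S)
    (h : ∀ v i, g' v i = algebraMap A S (g v i)) : IsBaseChange S (quotMap g g' h) := by
  classical
  cases nonempty_fintype ι
  refine IsBaseChange.of_lift_unique _ fun Q _ _ _ _ f ↦ ?_
  let : AddCommGroup Q := Module.addCommMonoidToAddCommGroup S
  have hv : ∀ x : ι → A, (fun i ↦ algebraMap A S (x i)) = ∑ i, algebraMap A S (x i) •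
      (Pi.single i 1 : ι → S) := fun x ↦ pi_eq_sum_univ' _
  let L : (ι → S) →ₗ[S] Q := (Pi.basisFun S ι).constr S
    fun i ↦ f (Submodule.Quotient.mk (Pi.single i 1))
  have hL : ∀ x : ι → A, L (fun i ↦ algebraMap A S (x i)) = f (Submodule.Quotient.mk x) := by
    intro x
    rw [hv x, map_sum]
    conv_rhs => rw [pi_eq_sum_univ' x]
    rw [← Submodule.mkQ_apply, map_sum, map_sum]
    refine Finset.sum_congr rfl fun i _ ↦ ?_
    rw [map_smul, map_smul, map_smul, ← Pi.basisFun_apply, Module.Basis.constr_basis, algebraMap_smul]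
    rfl
  have hker : Submodule.span S (Set.range g') ≤ LinearMap.ker L := by
    rw [Submodule.span_le]
    rintro _ ⟨v, rfl⟩
    rw [SetLike.mem_coe, LinearMap.mem_ker, show g' v = fun i ↦ algebraMap A S (g v i) from
      funext (h v), hL, (Submodule.Quotient.mk_eq_zero (Submodule.span A (Set.range g))).2
      (Submodule.subset_span (Set.mem_range_self v)), map_zero]
  refine ⟨(Submodule.span S (Set.range g')).liftQ L hker, ?_, fun g₁ hg₁ ↦ ?_⟩
  · refine Submodule.linearMap_qext _ (LinearMap.ext fun x ↦ ?_)
    exact hL x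
  · apply Submodule.linearMap_qext
    refine (Pi.basisFun S ι).ext fun i ↦ ?_
    rw [Submodule.liftQ_mkQ, Pi.basisFun_apply, show (Pi.single i 1 : ι → S) =
      fun j ↦ algebraMap A S ((Pi.single i 1 : ι → A) j) from funext fun j ↦ by
        rcases eq_or_ne j i with rfl | hj <;> simp [*], hL]
    have := LinearMap.congr_fun hg₁ (Submodule.Quotient.mk (Pi.single i 1))
    exact this

end Quotient

section Residue

variable {σ : Type v}

/-- A quotient of a flat ring map is flat. -/
theorem quotient_flat {A S : Type u} [CommRing A] [CommRing S] (φ : A →+* S) (hφ : φ.Flat)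
    (I : Ideal A) : (Ideal.quotientMap (I.map φ) φ Ideal.le_comap_map).Flat := by
  algebraize [φ]
  let := (Ideal.quotientMap (I.map φ) φ Ideal.le_comap_map).toAlgebra
  have : IsScalarTower A (A ⧸ I) (S ⧸ I.map φ) := .of_algebraMap_eq fun _ ↦ rfl
  let e : (A ⧸ I) ⊗[A] S ≃ₗ[A] S ⧸ I.map φ :=
    quotTensorEquivQuotSMul S I ≪≫ₗ
      Submodule.quotEquivOfEq _ _ (Ideal.smul_top_eq_map (R := A) (S := S) I) ≪≫ₗ
      Submodule.Quotient.restrictScalarsEquiv A (I.map φ)
  exact Module.Flat.of_linearEquiv (e.extendScalarsOfSurjective Ideal.Quotient.mk_surjective).symm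

end Residue

end Groth.Agent.Lib.Flat55.Presented
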