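import Groth.Agent.Lib.Flat55.FibrewiseStalk
import Groth.Agent.Lib.GrpSch.UnramifiedFibre
import Mathlib.AlgebraicGeometry.Morphisms.SmoothFiber
import Mathlib.AlgebraicGeometry.Morphisms.UniversallyInjective
import Mathlib.AlgebraicGeometry.Morphisms.Etale
import Mathlib.AlgebraicGeometry.Morphisms.Flat

/-!
# Properties of morphisms checked on the fibres over a base
-/

set_option autoImplicit false

universe u

open CategoryTheory CategoryTheory.Limits AlgebraicGeometry

namespace Groth.Agent.Lib.Flat55.FibreTransfer

open Groth.Agent.Lib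

/-- If `f ≫ g` is lfp and `g` is lft, then `f` is lfp. -/
theorem locallyOfFinitePresentation_of_comp {X Y Z : Scheme.{u}} {f : X ⟶ Y} {g : Y ⟶ Z}
    (h : LocallyOfFinitePresentation (f ≫ g)) (hg : LocallyOfFiniteType g) :
    LocallyOfFinitePresentation f := by
  wlog hZ : IsAffine Z generalizing X Y Z
  · rw [IsZariskiLocalAtTarget.iff_of_iSup_eq_top (P := @LocallyOfFinitePresentation) _
      (g.iSup_preimage_eq_top (iSup_affineOpens_eq_top Z))]
    intro U
    have H := IsZariskiLocalAtTarget.restrict h U.1
    rw [morphismRestrict_comp] at H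
    exact this H (IsZariskiLocalAtTarget.restrict hg U.1) U.2
  wlog hY : IsAffine Y generalizing X Y
  · rw [IsZariskiLocalAtTarget.iff_of_iSup_eq_top (P := @LocallyOfFinitePresentation) _
      (iSup_affineOpens_eq_top Y)]
    intro U
    have H := HasRingHomProperty.comp_of_isOpenImmersion @LocallyOfFinitePresentation
      (f ⁻¹ᵁ U.1).ι (f ≫ g) h
    rw [← morphismRestrict_ι_assoc] at H
    exact this H (HasRingHomProperty.comp_of_isOpenImmersion @LocallyOfFiniteType U.1.ι g hg) U.2
  wlog hX : IsAffine X generalizing X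
  · rw [IsZariskiLocalAtSource.iff_of_iSup_eq_top (P := @LocallyOfFinitePresentation) _
      (iSup_affineOpens_eq_top X)]
    intro U
    have H := HasRingHomProperty.comp_of_isOpenImmersion @LocallyOfFinitePresentation U.1.ι (f ≫ g) h
    rw [← Category.assoc] at H
    exact this H U.2
  rw [HasRingHomProperty.iff_of_isAffine (P := @LocallyOfFinitePresentation)] at h ⊢
  rw [HasRingHomProperty.iff_of_isAffine (P := @LocallyOfFiniteType)] at hg
  rw [Scheme.Hom.comp_appTop, CommRingCat.hom_comp] at h
  exact RingHom.FinitePresentation.of_comp_finiteType g.appTop.hom h hg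

variable {X Y S : Scheme.{u}} (f : X ⟶ Y) (g : Y ⟶ S)

/-- The base change of `f` to a fibre of `g` is the map of fibres. -/
theorem exists_iso_fiberMap (s : S) : ∃ e : pullback f (g.fiberι s) ≅ (f ≫ g).fiber s,
    e.hom ≫ MoreMor.fiberMap f g s = pullback.snd f (g.fiberι s) ∧
      e.hom ≫ (f ≫ g).fiberι s = pullback.fst f (g.fiberι s) := by
  let e : pullback f (g.fiberι s) ≅ (f ≫ g).fiber s :=
    pullbackRightPullbackFstIso g (S.fromSpecResidueField s) f
  have h1 : e.hom ≫ (f ≫ g).fiberι s = pullback.fst f (g.fiberι s) :=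
    pullbackRightPullbackFstIso_hom_fst g (S.fromSpecResidueField s) f
  refine ⟨e, pullback.hom_ext ?_ ?_, h1⟩
  · erw [Category.assoc, pullback.lift_fst, ← Category.assoc, h1]
    exact pullback.condition
  · erw [Category.assoc, pullback.lift_snd]
    exact pullbackRightPullbackFstIso_hom_snd g (S.fromSpecResidueField s) f

theorem flat_fiberMap (s : S) [Flat (pullback.snd f (g.fiberι s))] : Flat (MoreMor.fiberMap f g s) := by
  obtain ⟨e, he, -⟩ := exists_iso_fiberMap f g s
  rw [show MoreMor.fiberMap f g s = e.inv ≫ pullback.snd f (g.fiberι s) by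
    rw [← he, Iso.inv_hom_id_assoc]]
  infer_instance

/-- Flatness at a point from flatness of the map of fibres through it. -/
theorem flat_stalkMap {h : X ⟶ S} (w : f ≫ g = h) [LocallyOfFinitePresentation h]
    [LocallyOfFiniteType g] [Flat h] (x : X)
    (hf : Flat (pullback.snd f (g.fiberι (h x)))) :
    (f.stalkMap x).hom.Flat ∧ (g.stalkMap (f x)).hom.Flat := by
  subst w
  have : Flat (pullback.snd f (g.fiberι ((f ≫ g) x))) := hf
  have := flat_fiberMap f g ((f ≫ g) x)
  exact FibrewiseStalk.flat_stalkMap_of_fiberMap f g x ((f ≫ g) x) ((f ≫ g).asFiber x)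
    ((f ≫ g).fiberι_asFiber x) ((Flat.iff_flat_stalkMap _).1 inferInstance x)
    ((Flat.iff_flat_stalkMap _).1 inferInstance _)

/-- If all maps of fibres are flat, then so is the morphism. -/
theorem flat {h : X ⟶ S} (w : f ≫ g = h) [LocallyOfFinitePresentation h] [LocallyOfFiniteType g] [Flat h]
    (hf : ∀ s : S, Flat (pullback.snd f (g.fiberι s))) : Flat f :=
  (Flat.iff_flat_stalkMap f).2 fun x ↦ (flat_stalkMap f g w x (hf (h x))).1

theorem locallyOfFinitePresentation {h : X ⟶ S} (w : f ≫ g = h) [LocallyOfFinitePresentation h]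
    [LocallyOfFiniteType g] : LocallyOfFinitePresentation f := by
  subst w
  exact locallyOfFinitePresentation_of_comp ‹_› ‹LocallyOfFiniteType g›

/-- Base change stable properties pass from the maps of fibres to the fibres. -/
theorem fiberToSpecResidueField {P : MorphismProperty Scheme.{u}} [P.IsStableUnderBaseChange]
    (y : Y) (hf : P (pullback.snd f (g.fiberι (g y)))) : P (f.fiberToSpecResidueField y) := by
  have h : g.asFiberHom y ≫ g.fiberι (g y) = Y.fromSpecResidueField y := pullback.lift_fst _ _ _
  change P (pullback.snd f (Y.fromSpecResidueField y))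
  rw [← h, ← pullbackLeftPullbackSndIso_inv_snd_snd]
  exact (P.cancel_left_of_respectsIso _ _).2
    (P.of_isPullback (IsPullback.of_hasPullback _ (g.asFiberHom y)) hf)

theorem smooth {h : X ⟶ S} (w : f ≫ g = h) [LocallyOfFinitePresentation h] [LocallyOfFiniteType g] [Flat h]
    (hf : ∀ s : S, Smooth (pullback.snd f (g.fiberι s))) : Smooth f := by
  have := locallyOfFinitePresentation f g w
  have := flat f g w fun s ↦ have := hf s; inferInstance
  exact Smooth.of_smooth_fiberToSpecResidueField f
    fun y ↦ fiberToSpecResidueField f g y (hf (g y))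

theorem etale {h : X ⟶ S} (w : f ≫ g = h) [LocallyOfFinitePresentation h] [LocallyOfFiniteType g] [Flat h]
    (hf : ∀ s : S, Etale (pullback.snd f (g.fiberι s))) : Etale f := by
  have := locallyOfFinitePresentation f g w
  have := flat f g w fun s ↦ have := hf s; inferInstance
  have : FormallyUnramified f := GrpSch.formallyUnramified_of_fibres f fun y ↦
    fiberToSpecResidueField f g y (have := hf (g y); inferInstance)
  exact Etale.of_formallyUnramified_of_flat f

theorem surjective_diagonal (hf : ∀ s : S, Mono (pullback.snd f (g.fiberι s))) :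
    Surjective (pullback.diagonal f) := by
  refine ⟨fun z ↦ ?_⟩
  let a := (pullback f f).fromSpecResidueField z ≫ pullback.fst f f
  let b := (pullback f f).fromSpecResidueField z ≫ pullback.snd f f
  have hab : a ≫ f = b ≫ f := by simp only [a, b, Category.assoc, pullback.condition]
  obtain ⟨⟨s, φ⟩, hk⟩ := (Scheme.SpecToEquivOfField ((pullback f f).residueField z) S).symm.surjective
    (a ≫ f ≫ g)
  change Spec.map φ ≫ S.fromSpecResidueField s = a ≫ f ≫ g at hk
  let c : Spec ((pullback f f).residueField z) ⟶ g.fiber s :=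
    pullback.lift (a ≫ f) (Spec.map φ) (by rw [Category.assoc, hk])
  have hc : c ≫ g.fiberι s = a ≫ f := pullback.lift_fst _ _ _
  have := hf s
  have hab' : pullback.lift a c hc.symm = pullback.lift (f := f) (g := g.fiberι s) b c
      (hab.symm.trans hc.symm) := by
    rw [← cancel_mono (pullback.snd f (g.fiberι s)), pullback.lift_snd, pullback.lift_snd]
  have hab'' : a = b := by
    have := congrArg (· ≫ pullback.fst f (g.fiberι s)) hab'
    simpa only [pullback.lift_fst] using this
  have hz : (pullback f f).fromSpecResidueField z = a ≫ pullback.diagonal f := by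
    refine pullback.hom_ext ?_ ?_
    · rw [Category.assoc, pullback.diagonal_fst, Category.comp_id]
    · rw [Category.assoc, pullback.diagonal_snd, Category.comp_id, hab'']
  refine ⟨a (IsLocalRing.closedPoint ((pullback f f).residueField z)), ?_⟩
  rw [← Scheme.Hom.comp_apply, ← hz, Scheme.fromSpecResidueField_apply]

theorem surjective (hf : ∀ s : S, Surjective (pullback.snd f (g.fiberι s))) : Surjective f := by
  refine ⟨fun y ↦ ?_⟩
  obtain ⟨p, hp⟩ := (hf (g y)).surj (g.asFiber y)
  refine ⟨pullback.fst f (g.fiberι (g y)) p, ?_⟩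
  rw [← Scheme.Hom.comp_apply, pullback.condition, Scheme.Hom.comp_apply, hp, g.fiberι_asFiber]

end Groth.Agent.Lib.Flat55.FibreTransfer
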