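import Groth.Agent.Lib.TensorMod.FPCrit
import Groth.Agent.Lib.StalkLoc.Basic
import Mathlib.RingTheory.Localization.BaseChange

/-!
# Sections of finitely presented quasi-coherent modules on small affine opens
-/

set_option autoImplicit false

universe u

open CategoryTheory AlgebraicGeometry Opposite TopologicalSpace

namespace Groth.Agent.Lib.Flat55.QCohFP

open Groth.Agent.Lib Groth.Agent.Lib.QCoh.Localizing

variable {X : Scheme.{u}} (M : X.Modules)

theorem finitePresentation_basicOpen [M.IsQuasicoherent] {U : X.Opens} (hU : IsAffineOpen U)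
    (f : Γ(X, U)) [Module.FinitePresentation Γ(X, U) Γ(M, U)] :
    Module.FinitePresentation Γ(X, X.basicOpen f) Γ(M, X.basicOpen f) := by
  let : Algebra Γ(X, U) Γ(X, X.basicOpen f) := (resR (X.basicOpen_le f)).toAlgebra
  let : Module Γ(X, U) Γ(M, X.basicOpen f) := Module.compHom _ (resR (X.basicOpen_le f))
  have : IsScalarTower Γ(X, U) Γ(X, X.basicOpen f) Γ(M, X.basicOpen f) :=
    IsScalarTower.of_algebraMap_smul fun _ _ ↦ rfl
  have := hU.isLocalization_basicOpen f
  let l : Γ(M, U) →ₗ[Γ(X, U)] Γ(M, X.basicOpen f) :=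
    { toFun := res M (X.basicOpen_le f)
      map_add' := map_add _
      map_smul' := fun r m ↦ res_smul (X.basicOpen_le f) r m }
  have : IsLocalizedModule (Submonoid.powers f) l := by
    refine ⟨fun s ↦ ?_, fun y ↦ ?_, fun {s t} h ↦ ?_⟩
    · rw [Module.End.isUnit_iff]
      exact (IsLocalization.map_units Γ(X, X.basicOpen f) s).smul_bijective
    · obtain ⟨n, t, ht⟩ := (localizes_of_isAffineOpen M hU f).ext' y
      refine ⟨⟨t, ⟨f ^ n, n, rfl⟩⟩, ?_⟩
      refine Eq.trans ?_ ht.symm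
      change resR (X.basicOpen_le f) (f ^ n) • y = _
      rw [map_pow]
    · obtain ⟨n, hn⟩ := (localizes_of_isAffineOpen M hU f).sep.exists_pow_smul_eq h
      exact ⟨⟨f ^ n, n, rfl⟩, hn⟩
  exact FinitePresentation.of_isBaseChange l
    ((isLocalizedModule_iff_isBaseChange (Submonoid.powers f) Γ(X, X.basicOpen f) l).1 inferInstance)

theorem finitePresentation_congr {R N : Type*} [CommRing R] [AddCommGroup N] (i₁ i₂ : Module R N)
    (h : ∀ (r : R) (n : N), (letI := i₁; r • n) = (letI := i₂; r • n))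
    (hf : @Module.FinitePresentation R N _ _ i₂) : @Module.FinitePresentation R N _ _ i₁ := by
  rw [Module.ext' i₁ i₂ h]
  exact hf

/-- A finitely presented module has finitely presented sections on arbitrarily small affine
neighbourhoods. -/
theorem exists_affine_le [SheafOfModules.IsFinitePresentation (R := X.ringCatSheaf) M]
    [M.IsQuasicoherent] (x : X) (O : X.Opens) (hx : x ∈ O) :
    ∃ U : X.Opens, IsAffineOpen U ∧ x ∈ U ∧ U ≤ O ∧ Module.FinitePresentation Γ(X, U) Γ(M, U) := by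
  obtain ⟨U, hU, hxU, hFP⟩ := TensorMod.FPCrit.exists_affine_finitePresentation M x
  have key : ∀ U' : X.Opens, U' = U → Module.FinitePresentation Γ(X, U.ι ''ᵁ ⊤) Γ(M, U.ι ''ᵁ ⊤) →
      U.ι ''ᵁ ⊤ = U' → Module.FinitePresentation Γ(X, U') Γ(M, U') := by
    rintro U' - h rfl
    exact h
  have hfp₀ : Module.FinitePresentation Γ(X, U.ι ''ᵁ ⊤) Γ(M, U.ι ''ᵁ ⊤) := by
    refine @finitePresentation_congr Γ(X, U.ι ''ᵁ ⊤) Γ(M, U.ι ''ᵁ ⊤) _ _ _ _ (fun r m ↦ ?_) hFP
    change r • m = (U.ι.appIso ⊤).inv r • m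
    rw [Scheme.Opens.ι_appIso]
    rfl
  have hfp : Module.FinitePresentation Γ(X, U) Γ(M, U) := key U rfl hfp₀ U.ι_image_top
  obtain ⟨f, hf, hxf⟩ := hU.exists_basicOpen_le (⟨x, hx⟩ : O) hxU
  exact ⟨X.basicOpen f, hU.basicOpen f, hxf, hf, finitePresentation_basicOpen M hU f⟩

end Groth.Agent.Lib.Flat55.QCohFP
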