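import Mathlib.RingTheory.LocalRing.Basic
import Mathlib.RingTheory.LocalRing.RingHom.Basic
import Mathlib.RingTheory.FiniteType
import Mathlib.RingTheory.Localization.Submodule
import Mathlib.RingTheory.Polynomial.Basic

/-!
# Noetherian local subrings of a local ring

For a finite subset `s` of a local ring `R`, the fractions `a / b` with `a b` in `ℤ[s]`, `b` a unit
of `R`, form a Noetherian local subring with local inclusion.
-/

set_option autoImplicit false

universe u

namespace Groth.Agent.Lib.Flat55.LocalSubring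

variable {R : Type u} [CommRing R]

/-- The elements of `ℤ[s]` which are units of `R`. -/
noncomputable def denom (s : Set R) : Submonoid (Algebra.adjoin ℤ s) :=
  (IsUnit.submonoid R).comap (Algebra.adjoin ℤ s).val.toMonoidHom

/-- Fractions of `ℤ[s]` with denominators invertible in `R`. -/
noncomputable def localSubring (s : Set R) : Subring R where
  carrier := {x | ∃ a ∈ Algebra.adjoin ℤ s, ∃ b ∈ Algebra.adjoin ℤ s, IsUnit b ∧ x * b = a}
  zero_mem' := ⟨0, zero_mem _, 1, one_mem _, isUnit_one, by simp⟩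
  one_mem' := ⟨1, one_mem _, 1, one_mem _, isUnit_one, by simp⟩
  add_mem' := by
    rintro x y ⟨a, ha, b, hb, hub, hx⟩ ⟨c, hc, d, hd, hud, hy⟩
    exact ⟨a * d + c * b, add_mem (mul_mem ha hd) (mul_mem hc hb), b * d, mul_mem hb hd,
      hub.mul hud, by rw [← hx, ← hy]; ring⟩
  neg_mem' := by
    rintro x ⟨a, ha, b, hb, hub, hx⟩
    exact ⟨-a, neg_mem ha, b, hb, hub, by rw [← hx]; ring⟩
  mul_mem' := by
    rintro x y ⟨a, ha, b, hb, hub, hx⟩ ⟨c, hc, d, hd, hud, hy⟩
    exact ⟨a * c, mul_mem ha hc, b * d, mul_mem hb hd, hub.mul hud, by rw [← hx, ← hy]; ring⟩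

theorem mem_localSubring_of_mem_adjoin {s : Set R} {x : R} (hx : x ∈ Algebra.adjoin ℤ s) :
    x ∈ localSubring s := ⟨x, hx, 1, one_mem _, isUnit_one, mul_one x⟩

theorem subset_localSubring (s : Set R) : s ⊆ localSubring s := fun _ hx ↦
  mem_localSubring_of_mem_adjoin (Algebra.subset_adjoin hx)

theorem localSubring_mono {s t : Set R} (h : s ⊆ t) : localSubring s ≤ localSubring t := by
  rintro x ⟨a, ha, b, hb, hub, hx⟩
  exact ⟨a, Algebra.adjoin_mono h ha, b, Algebra.adjoin_mono h hb, hub, hx⟩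

theorem isUnit_of_isUnit_val {s : Set R} (x : localSubring s) (hx : IsUnit (x : R)) :
    IsUnit x := by
  obtain ⟨a, ha, b, hb, hub, hxa⟩ := x.2
  have hua : IsUnit a := hxa ▸ hx.mul hub
  obtain ⟨c, hc⟩ := hx.exists_right_inv
  refine IsUnit.of_mul_eq_one ⟨c, ?_⟩ (Subtype.ext hc)
  exact ⟨b, hb, a, ha, hua, by rw [← hxa, ← mul_assoc, mul_comm c, hc, one_mul]⟩

instance isLocalHom_subtype (s : Set R) : IsLocalHom (localSubring s).subtype :=
  ⟨fun x hx ↦ isUnit_of_isUnit_val x hx⟩

instance isLocalRing_localSubring [IsLocalRing R] (s : Set R) : IsLocalRing (localSubring s) :=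
  IsLocalRing.of_isUnit_or_isUnit_one_sub_self fun x ↦
    (IsLocalRing.isUnit_or_isUnit_one_sub_self (x : R)).imp
      (isUnit_of_isUnit_val x) (isUnit_of_isUnit_val (1 - x))

theorem isNoetherianRing_localSubring {s : Set R} (hs : s.Finite) :
    IsNoetherianRing (localSubring s) := by
  let f : Algebra.adjoin ℤ s →+* localSubring s :=
    { toFun := fun x ↦ ⟨x, mem_localSubring_of_mem_adjoin x.2⟩
      map_one' := rfl, map_mul' := fun _ _ ↦ rfl, map_zero' := rfl, map_add' := fun _ _ ↦ rfl }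
  let := f.toAlgebra
  have hfg : (Algebra.adjoin ℤ s).FG :=
    Subalgebra.fg_def.2 ⟨s, hs, rfl⟩
  have : Algebra.FiniteType ℤ (Algebra.adjoin ℤ s) :=
    (Subalgebra.fg_iff_finiteType _).1 hfg
  have : IsNoetherianRing (Algebra.adjoin ℤ s) :=
    Algebra.FiniteType.isNoetherianRing ℤ _
  have : IsLocalization (denom s) (localSubring s) :=
    { map_units := fun y ↦ isUnit_of_isUnit_val _ y.2
      surj := fun z ↦ by
        obtain ⟨a, ha, b, hb, hub, hz⟩ := z.2
        exact ⟨⟨⟨a, ha⟩, ⟨⟨b, hb⟩, hub⟩⟩, Subtype.ext hz⟩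
      exists_of_eq := fun {x y} h ↦ ⟨1, by
        have : (x : R) = y := congrArg (fun z : localSubring s ↦ (z : R)) h
        rw [Subtype.ext this]⟩ }
  exact IsLocalization.isNoetherianRing (denom s) (localSubring s) ‹_›

end Groth.Agent.Lib.Flat55.LocalSubring
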