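import Groth.Agent.Lib.Flat55.Relations
import Groth.Agent.Lib.Flat55.LocalSubring

/-!
# Descent of flatness at a prime to Noetherian local subrings
-/

set_option autoImplicit false

universe u v

namespace Groth.Agent.Lib.Flat55.Approx

open MvPolynomial Relations LocalSubring

variable {σ : Type v} {ι : Type v} {κ : Type v} {R : Type u} [CommRing R]

/-- The inclusion on polynomials. -/
noncomputable abbrev incl (R' : Subring R) : MvPolynomial σ R' →+* MvPolynomial σ R :=
  MvPolynomial.map R'.subtype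

theorem incl_injective (R' : Subring R) : Function.Injective (incl (σ := σ) R') :=
  MvPolynomial.map_injective _ Subtype.val_injective

theorem mapVec_incl_injective (R' : Subring R) :
    Function.Injective (mapVec (σ := σ) (ι := ι) R'.subtype) := fun _ _ h ↦
  funext fun i ↦ incl_injective R' (congr_fun h i)

/-- A polynomial with coefficients in a subring comes from it. -/
theorem exists_incl_eq {R' : Subring R} {p : MvPolynomial σ R} (h : ↑p.coeffs ⊆ (R' : Set R)) :
    ∃ p', incl R' p' = p :=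
  MvPolynomial.mem_range_map_iff_coeffs_subset.2 (fun x hx ↦ ⟨⟨x, h hx⟩, rfl⟩)

/-- A vector with coefficients in a subring comes from it. -/
theorem exists_mapVec_eq {R' : Subring R} {f : ι → MvPolynomial σ R}
    (h : ∀ i, ↑(f i).coeffs ⊆ (R' : Set R)) : ∃ f', mapVec R'.subtype f' = f := by
  choose p hp using fun i ↦ exists_incl_eq (h i)
  exact ⟨p, funext hp⟩

theorem localSubring_le {s : Set R} {R' : Subring R} [IsLocalHom R'.subtype] (h : s ⊆ R') :
    localSubring s ≤ R' := by
  have hadj : ∀ x ∈ Algebra.adjoin ℤ s, x ∈ R' := fun x hx ↦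
    (Algebra.adjoin_le (S := subalgebraOfSubring R') h) hx
  rintro x ⟨a, ha, b, hb, hub, hx⟩
  obtain ⟨c, hc⟩ := (isUnit_of_map_unit R'.subtype ⟨b, hadj b hb⟩ hub).exists_right_inv
  have hc' : b * (c : R) = 1 := congrArg (fun z : R' ↦ (z : R)) hc
  have : x = a * c := by rw [← hx, mul_assoc, hc', mul_one]
  rw [this]
  exact mul_mem (hadj a ha) c.2

theorem residue_map_eq_zero_iff [IsLocalRing R] (R' : Subring R) [IsLocalRing R']
    [IsLocalHom R'.subtype] (p : MvPolynomial σ R') :
    MvPolynomial.map (IsLocalRing.residue R) (incl R' p) = 0 ↔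
      MvPolynomial.map (IsLocalRing.residue R') p = 0 := by
  simp only [MvPolynomial.ext_iff, coeff_map, coeff_zero, IsLocalRing.residue_eq_zero_iff,
    IsLocalRing.mem_maximalIdeal, mem_nonunits_iff]
  exact forall_congr' fun d ↦ not_congr (isUnit_map_iff R'.subtype _)

variable [IsLocalRing R] [Fintype κ]

theorem exists_finset_forall_witness [Finite σ] [Finite ι] (g : κ → ι → MvPolynomial σ R)
    (q : Ideal (MvPolynomial σ R)) [q.IsPrime] (h : Witness g q) :
    ∃ S : Finset R, ∀ (R' : Subring R) [IsLocalRing R'] [IsLocalHom R'.subtype],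
      (S : Set R) ⊆ R' → ∀ g' : κ → ι → MvPolynomial σ R', (∀ v, mapVec R'.subtype (g' v) = g v) →
        Witness g' (q.comap (incl R')) := by
  classical
  cases nonempty_fintype ι
  let S₀ : Finset R := Finset.univ.biUnion fun v ↦ Finset.univ.biUnion fun i ↦ (g v i).coeffs
  let R₀ := localSubring (S₀ : Set R)
  have : IsNoetherianRing R₀ := isNoetherianRing_localSubring S₀.finite_toSet
  choose g₀ hg₀ using fun v ↦ exists_mapVec_eq (R' := R₀) (f := g v) fun i ↦
    le_trans (fun x hx ↦ Finset.mem_coe.2 (Finset.mem_biUnion.2 ⟨v, Finset.mem_univ _,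
      Finset.mem_biUnion.2 ⟨i, Finset.mem_univ _, hx⟩⟩)) (subset_localSubring (S₀ : Set R))
  let res₀ := IsLocalRing.residue R₀
  let K : Submodule (MvPolynomial σ (IsLocalRing.ResidueField R₀))
      (κ → MvPolynomial σ (IsLocalRing.ResidueField R₀)) :=
    LinearMap.ker (Fintype.linearCombination (MvPolynomial σ (IsLocalRing.ResidueField R₀))
      (fun v ↦ mapVec res₀ (g₀ v)))
  obtain ⟨n, cbar, hcbar⟩ := Submodule.fg_iff_exists_fin_generating_family.1
    (IsNoetherian.noetherian K)
  have hsurj : ∀ j, ∃ c₀ : κ → MvPolynomial σ R₀, mapVec res₀ c₀ = cbar j := fun j ↦ by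
    choose p hp using fun v ↦
      MvPolynomial.map_surjective res₀ IsLocalRing.residue_surjective (cbar j v)
    exact ⟨p, funext hp⟩
  choose c₀ hc₀ using hsurj
  have hker : ∀ j, mapVec res₀ (∑ v, c₀ j v • g₀ v) = 0 := fun j ↦ by
    have : cbar j ∈ K := hcbar ▸ Submodule.subset_span ⟨j, rfl⟩
    rw [LinearMap.mem_ker, Fintype.linearCombination_apply] at this
    rw [mapVec_sum]
    simpa only [← hc₀ j, mapVec_apply] using this
  have hW : ∀ j, ∃ s ∉ q, ∃ d : κ → MvPolynomial σ R,
      (∀ v, MvPolynomial.map (IsLocalRing.residue R) (d v) = 0) ∧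
        s • (∑ v, incl R₀ (c₀ j v) • g v) = ∑ v, d v • g v := by
    intro j
    refine h _ (funext fun i ↦ ?_)
    have e : ∑ v, incl R₀ (c₀ j v) • g v = mapVec R₀.subtype (∑ v, c₀ j v • g₀ v) := by
      rw [mapVec_sum]; simp only [hg₀]
    rw [e, mapVec_apply, mapVec_apply, Pi.zero_apply]
    exact (residue_map_eq_zero_iff R₀ _).2 (congr_fun (hker j) i)
  choose s hs d hd hsd using hW
  refine ⟨S₀ ∪ (Finset.univ.biUnion fun j ↦ (s j).coeffs ∪ Finset.univ.biUnion fun v ↦ (d j v).coeffs),
    fun R' _ _ hR' g' hg' ↦ ?_⟩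
  have hle : R₀ ≤ R' := localSubring_le fun x hx ↦ hR' (Finset.mem_coe.2 (Finset.mem_union_left _ hx))
  choose s' hs' using fun j ↦ exists_incl_eq (R' := R') (p := s j) fun x hx ↦ hR'
    (Finset.mem_coe.2 (Finset.mem_union_right _ (Finset.mem_biUnion.2
      ⟨j, Finset.mem_univ _, Finset.mem_union_left _ hx⟩)))
  choose d' hd' using fun j ↦ exists_mapVec_eq (R' := R') (f := d j) fun v x hx ↦ hR'
    (Finset.mem_coe.2 (Finset.mem_union_right _ (Finset.mem_biUnion.2
      ⟨j, Finset.mem_univ _, Finset.mem_union_right _ (Finset.mem_biUnion.2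
        ⟨v, Finset.mem_univ _, hx⟩)⟩)))
  let φ : R₀ →+* R' := Subring.inclusion hle
  have hφ : R'.subtype.comp φ = R₀.subtype := rfl
  have : IsLocalHom φ := ⟨fun x hx ↦ isUnit_of_map_unit R₀.subtype x (hx.map R'.subtype)⟩
  let ψ := IsLocalRing.ResidueField.map φ
  let := ψ.toAlgebra
  have hψ : ψ.comp res₀ = (IsLocalRing.residue R').comp φ := RingHom.ext fun x ↦ rfl
  have hg₀' : ∀ v, mapVec φ (g₀ v) = g' v := fun v ↦ mapVec_incl_injective R' (by
    rw [hg' v, ← hg₀ v]
    funext i
    simp only [mapVec_apply, MvPolynomial.map_map, hφ])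
  have hsd' : ∀ j, (s' j) • (∑ v, MvPolynomial.map φ (c₀ j v) • g' v) = ∑ v, d' j v • g' v := by
    intro j
    apply mapVec_incl_injective R'
    rw [mapVec_smul, mapVec_sum, mapVec_sum, show MvPolynomial.map R'.subtype (s' j) = s j from hs' j]
    simp only [hg', MvPolynomial.map_map, hφ]
    refine (hsd j).trans (Finset.sum_congr rfl fun v _ ↦ ?_)
    rw [← hd' j]; rfl
  intro c hc
  have hb : (fun v ↦ MvPolynomial.map (IsLocalRing.residue R') (c v)) ∈
      Submodule.span (MvPolynomial σ (IsLocalRing.ResidueField R'))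
        (Set.range fun j v ↦ MvPolynomial.map ψ (cbar j v)) := by
    have h1 := mem_span_kernel (fun v ↦ mapVec res₀ (g₀ v))
      (fun v ↦ MvPolynomial.map (IsLocalRing.residue R') (c v)) (by
        rw [mapVec_sum] at hc
        refine Eq.trans (Finset.sum_congr rfl fun v _ ↦ ?_) hc
        congr 1
        rw [← hg₀' v]
        funext i
        simp only [mapVec_apply, MvPolynomial.map_map]
        rw [← hψ]
        rfl)
    refine Submodule.span_le.2 ?_ h1
    rintro _ ⟨k, hk, rfl⟩
    have hkK : k ∈ K := hk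
    rw [← hcbar, Submodule.mem_span_range_iff_exists_fun] at hkK
    obtain ⟨a, rfl⟩ := hkK
    refine (Submodule.mem_span_range_iff_exists_fun _).2 ⟨fun j ↦ MvPolynomial.map ψ (a j), ?_⟩
    funext v
    simp [map_sum, RingHom.algebraMap_toAlgebra]
  obtain ⟨abar, habar⟩ := (Submodule.mem_span_range_iff_exists_fun _).1 hb
  choose a ha using fun j ↦
    MvPolynomial.map_surjective (IsLocalRing.residue R') IsLocalRing.residue_surjective (abar j)
  let r : κ → MvPolynomial σ R' := fun v ↦ c v - ∑ j, a j * MvPolynomial.map φ (c₀ j v)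
  have hr : ∀ v, MvPolynomial.map (IsLocalRing.residue R') (r v) = 0 := by
    intro v
    simp only [r, map_sub, map_sum, map_mul, ha, MvPolynomial.map_map, ← hψ]
    rw [sub_eq_zero, ← congr_fun habar v, Finset.sum_apply]
    refine Finset.sum_congr rfl fun j _ ↦ ?_
    rw [Pi.smul_apply, smul_eq_mul, ← MvPolynomial.map_map, ← mapVec_apply (φ := res₀), hc₀]
  have hdd' : ∀ j v, MvPolynomial.map (IsLocalRing.residue R') (d' j v) = 0 := fun j v ↦
    (residue_map_eq_zero_iff R' (d' j v)).1 (by
      rw [show incl R' (d' j v) = d j v from congr_fun (hd' j) v]; exact hd j v)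
  refine ⟨∏ j, s' j, fun hmem ↦ ?_,
    fun v ↦ (∏ j, s' j) * r v + ∑ j, a j * (∏ k ∈ Finset.univ.erase j, s' k) * d' j v, fun v ↦ ?_, ?_⟩
  · have hp : (q.comap (incl R')).IsPrime := Ideal.IsPrime.comap _
    obtain ⟨j, -, hj⟩ := (Ideal.IsPrime.prod_mem_iff (hp := hp)).1 hmem
    exact hs j (hs' j ▸ hj)
  · simp [map_sum, hr, hdd']
  · have hc' : ∑ v, c v • g' v =
        (∑ v, r v • g' v) + ∑ j, a j • ∑ v, MvPolynomial.map φ (c₀ j v) • g' v := by
      simp only [Finset.smul_sum, smul_smul]
      rw [Finset.sum_comm (f := fun j v ↦ (a j * MvPolynomial.map φ (c₀ j v)) • g' v),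
        ← Finset.sum_add_distrib]
      refine Finset.sum_congr rfl fun v _ ↦ ?_
      rw [← Finset.sum_smul, ← add_smul, sub_add_cancel]
    rw [hc', smul_add, Finset.smul_sum, Finset.smul_sum]
    simp only [add_smul, Finset.sum_add_distrib, Finset.sum_smul, smul_smul]
    congr 1
    rw [Finset.sum_comm (f := fun v j ↦ (a j * _ * d' j v) • g' v)]
    refine Finset.sum_congr rfl fun j _ ↦ ?_
    have hprod : (∏ k, s' k) * a j = a j * (∏ k ∈ Finset.univ.erase j, s' k) * s' j := by
      rw [mul_assoc, Finset.prod_erase_mul _ _ (Finset.mem_univ j), mul_comm]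
    rw [hprod, mul_smul, hsd', Finset.smul_sum]
    simp only [smul_smul]

end Groth.Agent.Lib.Flat55.Approx
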