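import Groth.Agent.Lib.Flat55.FlatFunSheaf
import Groth.Agent.Lib.QCoh.Pullback
import Mathlib.RingTheory.IsTensorProduct

/-!
# Base change of a map of quasi-coherent modules in affine charts
-/

set_option autoImplicit false

universe u

open CategoryTheory CategoryTheory.Limits AlgebraicGeometry Opposite TensorProduct
open Groth.Agent.Lib.QCoh Groth.Agent.Lib.QCoh.Tilde Groth.Agent.Lib.QCoh.Pullback

attribute [local instance] Algebra.TensorProduct.rightAlgebra

namespace Groth.Agent.Lib.Flat55.ModuleChart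

section Tilde

variable {R : CommRingCat.{u}}

/-- `isoTildeSections` is natural. -/
theorem tilde_map_sections {F G : (Spec R).Modules} [F.IsQuasicoherent] [G.IsQuasicoherent] (v : F ⟶ G) :
    (tilde.functor R).map ((specΓ R).map v) ≫ (isoTildeSections G).hom =
      (isoTildeSections F).hom ≫ v :=
  (tilde.adjunction (R := R)).counit.naturality v

theorem prop_sections_iff (Q : MorphismProperty (Spec R).Modules) [Q.RespectsIso] {F G : (Spec R).Modules}
    [F.IsQuasicoherent] [G.IsQuasicoherent] (v : F ⟶ G) :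
    Q v ↔ Q ((tilde.functor R).map ((specΓ R).map v)) :=
  (Q.arrow_mk_iso_iff (Arrow.isoMk (isoTildeSections F) (isoTildeSections G)
    (tilde_map_sections v).symm)).symm

theorem isIso_tilde_map_iff {M N : ModuleCat.{u} R} (w : M ⟶ N) :
    IsIso ((tilde.functor R).map w) ↔ Function.Bijective w.hom := by
  rw [← ConcreteCategory.isIso_iff_bijective]
  exact ⟨fun _ => isIso_of_fully_faithful (tilde.functor R) w, fun _ => inferInstance⟩

theorem epi_tilde_map_iff {M N : ModuleCat.{u} R} (w : M ⟶ N) :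
    Epi ((tilde.functor R).map w) ↔ Function.Surjective w.hom := by
  rw [← ModuleCat.epi_iff_surjective]
  exact ⟨fun h => (tilde.functor R).epi_of_epi_map h, fun _ => inferInstance⟩

theorem tilde_map_eq_zero_iff {M N : ModuleCat.{u} R} (w : M ⟶ N) :
    (tilde.functor R).map w = 0 ↔ w.hom = 0 := by
  rw [Functor.map_eq_zero_iff]
  exact ⟨fun h => by rw [h]; rfl, fun h => ModuleCat.hom_ext h⟩

end Tilde

section Chart

variable {X S : Scheme.{u}} (f : X ⟶ S)

/-- The sections of the base change to `T₀` of a module, on a chart. -/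
noncomputable abbrev chartFunctor (T₀ : Over S) {B : CommRingCat.{u}} (j : Spec B ⟶ PicF.XT f T₀) :
    X.Modules ⥤ ModuleCat.{u} B :=
  Scheme.Modules.pullback (j ≫ pullback.fst f T₀.hom) ⋙ specΓ B

variable {T₀ T' : Over S} [IsAffine T₀.left] [IsAffine T'.left] (g : T' ⟶ T₀)
  [Algebra Γ(T₀.left, ⊤) Γ(T'.left, ⊤)]
  (hg : algebraMap Γ(T₀.left, ⊤) Γ(T'.left, ⊤) = g.left.appTop.hom)
  {B : CommRingCat.{u}} [Algebra Γ(T₀.left, ⊤) B] (j : Spec B ⟶ PicF.XT f T₀)
  (hj : j ≫ PicF.XTproj f T₀ =
    Spec.map (CommRingCat.ofHom (algebraMap Γ(T₀.left, ⊤) B)) ≫ T₀.left.isoSpec.inv)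

/-- The ring of the base change of a chart. -/
abbrev ring (T₀ T' : Over S) [Algebra Γ(T₀.left, ⊤) Γ(T'.left, ⊤)] (B : CommRingCat.{u})
    [Algebra Γ(T₀.left, ⊤) B] : CommRingCat.{u} :=
  CommRingCat.of (Γ(T'.left, ⊤) ⊗[Γ(T₀.left, ⊤)] B)

/-- The projection of the base change of a chart to the chart. -/
abbrev projMap (T₀ T' : Over S) [Algebra Γ(T₀.left, ⊤) Γ(T'.left, ⊤)] (B : CommRingCat.{u})
    [Algebra Γ(T₀.left, ⊤) B] : B ⟶ ring T₀ T' B :=
  CommRingCat.ofHom (algebraMap B (Γ(T'.left, ⊤) ⊗[Γ(T₀.left, ⊤)] B))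

include hg hj

theorem exists_chart :
    ∃ j' : Spec (ring T₀ T' B) ⟶ PicF.XT f T',
      IsPullback (Spec.map (projMap T₀ T' B)) j' j (PicF.XTmap f g) ∧
      j' ≫ PicF.XTproj f T' = Spec.map (CommRingCat.ofHom
        (algebraMap Γ(T'.left, ⊤) (Γ(T'.left, ⊤) ⊗[Γ(T₀.left, ⊤)] B))) ≫ T'.left.isoSpec.inv := by
  have h1 : IsPullback (Spec.map (projMap T₀ T' B))
      (Spec.map (CommRingCat.ofHom
        (algebraMap Γ(T'.left, ⊤) (Γ(T'.left, ⊤) ⊗[Γ(T₀.left, ⊤)] B))))
      (Spec.map (CommRingCat.ofHom (algebraMap Γ(T₀.left, ⊤) B)))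
      (Spec.map g.left.appTop) := by
    have h := (isPullback_SpecMap_of_isPushout _ _ _ _
      (CommRingCat.isPushout_tensorProduct Γ(T₀.left, ⊤) Γ(T'.left, ⊤) B)).flip
    rw [show g.left.appTop = CommRingCat.ofHom (algebraMap Γ(T₀.left, ⊤) Γ(T'.left, ⊤)) from
      CommRingCat.hom_ext hg.symm]
    exact h
  have h2 : IsPullback (Spec.map (projMap T₀ T' B))
      (Spec.map (CommRingCat.ofHom
        (algebraMap Γ(T'.left, ⊤) (Γ(T'.left, ⊤) ⊗[Γ(T₀.left, ⊤)] B))) ≫ T'.left.isoSpec.inv)
      (j ≫ PicF.XTproj f T₀) g.left := by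
    rw [hj]
    exact h1.paste_vert (IsPullback.of_vert_isIso ⟨(Scheme.isoSpec_inv_naturality g.left)⟩)
  have sq := FlatFunSheaf.isPullback_XTmap f g
  have w : (Spec.map (projMap T₀ T' B) ≫ j) ≫ PicF.XTproj f T₀ = (Spec.map (CommRingCat.ofHom
      (algebraMap Γ(T'.left, ⊤) (Γ(T'.left, ⊤) ⊗[Γ(T₀.left, ⊤)] B))) ≫ T'.left.isoSpec.inv) ≫
        g.left := by
    rw [Category.assoc]; exact h2.w
  refine ⟨sq.lift _ _ w, ?_, sq.lift_snd _ _ _⟩
  exact IsPullback.of_bot (by rw [sq.lift_snd]; exact h2) (sq.lift_fst _ _ _).symm sq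

omit hg hj in
/-- The base change of `F` on the chart. -/
noncomputable def chartIso (j' : Spec (ring T₀ T' B) ⟶ PicF.XT f T')
    (hj' : IsPullback (Spec.map (projMap T₀ T' B)) j' j (PicF.XTmap f g)) :
    Scheme.Modules.pullback (pullback.fst f T'.hom) ⋙ Scheme.Modules.pullback j' ≅
      Scheme.Modules.pullback (j ≫ pullback.fst f T₀.hom) ⋙
        Scheme.Modules.pullback (Spec.map (projMap T₀ T' B)) :=
  Scheme.Modules.pullbackComp _ _ ≪≫
    Scheme.Modules.pullbackCongr (by rw [← FGA.XTmap_fst f g, ← Category.assoc, ← hj'.w, Category.assoc]) ≪≫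
    (Scheme.Modules.pullbackComp _ _).symm

omit hg hj in
/-- The base change of a map of modules on a chart is `tilde` of the base change of its sections. -/
theorem prop_chart_iff (j' : Spec (ring T₀ T' B) ⟶ PicF.XT f T')
    (hj' : IsPullback (Spec.map (projMap T₀ T' B)) j' j (PicF.XTmap f g))
    (Q : MorphismProperty (Spec (ring T₀ T' B)).Modules) [Q.RespectsIso] {F G : X.Modules}
    [F.IsQuasicoherent] [G.IsQuasicoherent] (u : F ⟶ G) :
    Q ((Scheme.Modules.pullback j').map ((Scheme.Modules.pullback (pullback.fst f T'.hom)).map u)) ↔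
      Q ((tilde.functor (ring T₀ T' B)).map ((ModuleCat.extendScalars (projMap T₀ T' B).hom).map
        ((chartFunctor f T₀ j).map u))) := by
  have := isQCoh_pullback (j ≫ pullback.fst f T₀.hom) F
  have := isQCoh_pullback (j ≫ pullback.fst f T₀.hom) G
  refine (FlatFunSheaf.prop_map_map_iff' (chartIso f g j j' hj') u).trans ?_
  refine (prop_sections_iff (Q.inverseImage (Scheme.Modules.pullback (Spec.map (projMap T₀ T' B))))
    ((Scheme.Modules.pullback (j ≫ pullback.fst f T₀.hom)).map u)).trans ?_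
  exact Q.arrow_mk_iso_iff (Arrow.isoMk ((pullbackTildeIso (projMap T₀ T' B)).app _)
    ((pullbackTildeIso (projMap T₀ T' B)).app _)
    ((pullbackTildeIso (projMap T₀ T' B)).hom.naturality _).symm)

end Chart

section Algebra

variable {R : Type u} [CommRing R] (A : Type u) [CommRing A] [Algebra R A] {B : CommRingCat.{u}}
  [Algebra R B] {M N : ModuleCat.{u} B} (w : M ⟶ N) [Module R M] [Module R N] [IsScalarTower R B M]
  [IsScalarTower R B N]

/-- Base change of modules along `B → A ⊗[R] B` is base change along `R → A`. -/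
theorem exists_conj :
    ∃ (eM : A ⊗[R] M → (ModuleCat.extendScalars (algebraMap B (A ⊗[R] B))).obj M)
      (eN : A ⊗[R] N → (ModuleCat.extendScalars (algebraMap B (A ⊗[R] B))).obj N),
      Function.Bijective eM ∧ Function.Bijective eN ∧ eN 0 = 0 ∧
      ∀ z, ((ModuleCat.extendScalars (algebraMap B (A ⊗[R] B))).map w).hom (eM z) =
        eN ((w.hom.restrictScalars R).lTensor A z) := by
  let eM := (Algebra.IsPushout.cancelBaseChange R A B (A ⊗[R] B) M).symm
  let eN := (Algebra.IsPushout.cancelBaseChange R A B (A ⊗[R] B) N).symm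
  refine ⟨eM, eN, eM.bijective, eN.bijective, map_zero eN, fun z => ?_⟩
  show w.hom.baseChange (A ⊗[R] B) (eM z) = _
  induction z with
  | zero => simp
  | tmul a m => simp [eM, eN]
  | add x y hx hy => rw [map_add, map_add, map_add, hx, hy, map_add]

theorem bijective_iff :
    Function.Bijective ((ModuleCat.extendScalars (algebraMap B (A ⊗[R] B))).map w).hom ↔
      Function.Bijective ((w.hom.restrictScalars R).lTensor A) := by
  obtain ⟨eM, eN, hM, hN, -, h⟩ := exists_conj (R := R) A w
  rw [← Function.Bijective.of_comp_iff _ hM, ← Function.Bijective.of_comp_iff' hN]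
  exact iff_of_eq (congrArg Function.Bijective (funext h))

theorem surjective_iff :
    Function.Surjective ((ModuleCat.extendScalars (algebraMap B (A ⊗[R] B))).map w).hom ↔
      Function.Surjective ((w.hom.restrictScalars R).lTensor A) := by
  obtain ⟨eM, eN, hM, hN, -, h⟩ := exists_conj (R := R) A w
  rw [← Function.Surjective.of_comp_iff _ hM.2, ← Function.Surjective.of_comp_iff' hN]
  exact iff_of_eq (congrArg Function.Surjective (funext h))

theorem eq_zero_iff :
    ((ModuleCat.extendScalars (algebraMap B (A ⊗[R] B))).map w).hom = 0 ↔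
      (w.hom.restrictScalars R).lTensor A = 0 := by
  obtain ⟨eM, eN, hM, hN, h0, h⟩ := exists_conj (R := R) A w
  constructor
  · intro hz
    refine LinearMap.ext fun z => hN.1 ?_
    rw [← h, hz, LinearMap.zero_apply, LinearMap.zero_apply, h0]
  · intro hz
    refine LinearMap.ext fun y => ?_
    obtain ⟨z, rfl⟩ := hM.2 y
    rw [h, hz, LinearMap.zero_apply, LinearMap.zero_apply, h0]

end Algebra

end Groth.Agent.Lib.Flat55.ModuleChart
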