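import Groth.Agent.H19.FlatLocus.ModelMod
import Groth.Agent.Lib.Flat55.ModuleChart

/-!
# Flatness of the base change of a module, in affine charts
-/

set_option autoImplicit false
set_option backward.isDefEq.respectTransparency false
set_option linter.style.haveILetI false

universe u

open CategoryTheory CategoryTheory.Limits AlgebraicGeometry Opposite TensorProduct
open Groth.Agent.Lib Groth.Agent.Lib.QCoh Groth.Agent.Lib.QCoh.Tilde Groth.Agent.Lib.QCoh.Pullback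

attribute [local instance] Algebra.TensorProduct.rightAlgebra

namespace Groth.Agent.Lib.Flat55.FlatChart

/-- The module of an affine flat module is flat. -/
theorem flat_of_isFlatOver_tilde (R₀ S₀ M₀ : Type u) [CommRing R₀] [CommRing S₀] [Algebra R₀ S₀]
    [AddCommGroup M₀] [Module S₀ M₀] [Module R₀ M₀] [IsScalarTower R₀ S₀ M₀]
    (h : FlatMod.IsFlatOver (Spec.map (CommRingCat.ofHom (algebraMap R₀ S₀)))
      ((tilde.functor (CommRingCat.of S₀)).obj (ModuleCat.of S₀ M₀))) : Module.Flat R₀ M₀ := by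
  let φ := CommRingCat.ofHom (algebraMap R₀ S₀)
  let f := Spec.map φ
  let T := (tilde.functor (CommRingCat.of S₀)).obj (ModuleCat.of S₀ M₀)
  have : T.IsQuasicoherent := isQCoh_tildeFunctor_obj _
  let A := Γ(Spec (CommRingCat.of R₀), ⊤)
  let : Module A Γ(T, ⊤) := Module.compHom _ f.appTop.hom
  have : Module.Flat A Γ(T, ⊤) := H19.FlatLocus.ModelMod.flat_top_of_isFlatOver f T h
  let : Algebra R₀ A := (Scheme.ΓSpecIso (CommRingCat.of R₀)).inv.hom.toAlgebra
  let : Module R₀ Γ(T, ⊤) := Module.compHom _ (algebraMap R₀ A)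
  have : IsScalarTower R₀ A Γ(T, ⊤) := IsScalarTower.of_algebraMap_smul fun _ _ ↦ rfl
  have hb : Function.Bijective (algebraMap R₀ A) :=
    (Scheme.ΓSpecIso (CommRingCat.of R₀)).commRingCatIsoToRingEquiv.symm.bijective
  have : IsLocalization (⊥ : Submonoid R₀) R₀ :=
    IsLocalization.self fun x hx ↦ by rw [Submonoid.mem_bot.1 hx]; exact isUnit_one
  have : IsLocalization (⊥ : Submonoid R₀) A :=
    IsLocalization.isLocalization_of_algEquiv ⊥ (AlgEquiv.ofBijective (Algebra.ofId R₀ A) hb)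
  let e := ((sectionsTildeIso (R := CommRingCat.of S₀)).app (ModuleCat.of S₀ M₀)).toLinearEquiv
  let L : M₀ ≃ₗ[R₀] Γ(T, ⊤) :=
    { e.toAddEquiv with
      map_smul' := fun r m ↦ by
        show e (r • m) = _
        rw [← algebraMap_smul S₀ r m, e.map_smul]
        refine congrArg (fun c : Γ(Spec (CommRingCat.of S₀), ⊤) ↦ c • (show Γ(T, ⊤) from e m))
          (show (Scheme.ΓSpecIso (CommRingCat.of S₀)).inv (algebraMap R₀ S₀ r) =
            f.appTop ((Scheme.ΓSpecIso (CommRingCat.of R₀)).inv r) from ?_)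
        exact congr($(Scheme.ΓSpecIso_inv_naturality φ) r) }
  have : Module.Flat R₀ Γ(T, ⊤) :=
    (Module.flat_iff_of_isLocalization A (⊥ : Submonoid R₀) _).1 ‹Module.Flat A Γ(T, ⊤)›
  exact Module.Flat.of_linearEquiv L

/-- Composing with an isomorphism of the base does not change flatness over it. -/
theorem isFlatOver_comp_isIso_iff {X Y Z : Scheme.{u}} (f : X ⟶ Y) (e : Y ≅ Z) (M : X.Modules) :
    FlatMod.IsFlatOver (f ≫ e.hom) M ↔ FlatMod.IsFlatOver f M := by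
  refine ⟨fun h x => ?_, fun h x => FlatOverAt.of_comp f e.hom M x (Flat.stalkMap _ _) (h x)⟩
  have h1 := FlatOverAt.of_comp (f ≫ e.hom) e.inv M x (Flat.stalkMap _ _) (h x)
  rwa [Category.assoc, e.hom_inv_id, Category.comp_id] at h1

variable {X S : Scheme.{u}} (f : X ⟶ S)
  {T₀ T' : Over S} [IsAffine T₀.left] [IsAffine T'.left] (g : T' ⟶ T₀)
  [Algebra Γ(T₀.left, ⊤) Γ(T'.left, ⊤)]
  {B : CommRingCat.{u}} [Algebra Γ(T₀.left, ⊤) B] (j : Spec B ⟶ PicF.XT f T₀)

/-- Flatness of the base change on a chart. -/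
theorem isFlatOver_chart_iff (F : X.Modules) [F.IsQuasicoherent]
    [Module Γ(T₀.left, ⊤) ((ModuleChart.chartFunctor f T₀ j).obj F)]
    [IsScalarTower Γ(T₀.left, ⊤) B ((ModuleChart.chartFunctor f T₀ j).obj F)]
    (j' : Spec (ModuleChart.ring T₀ T' B) ⟶ PicF.XT f T')
    (hj' : IsPullback (Spec.map (ModuleChart.projMap T₀ T' B)) j' j (PicF.XTmap f g))
    (hj'' : j' ≫ PicF.XTproj f T' = Spec.map (CommRingCat.ofHom
        (algebraMap Γ(T'.left, ⊤) (Γ(T'.left, ⊤) ⊗[Γ(T₀.left, ⊤)] B))) ≫ T'.left.isoSpec.inv) :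
    FlatMod.IsFlatOver (j' ≫ PicF.XTproj f T') ((Scheme.Modules.pullback j').obj (FGA.ET f F T')) ↔
      Module.Flat Γ(T'.left, ⊤)
        (Γ(T'.left, ⊤) ⊗[Γ(T₀.left, ⊤)] ((ModuleChart.chartFunctor f T₀ j).obj F)) := by
  have := isQCoh_pullback (j ≫ pullback.fst f T₀.hom) F
  let C := ModuleChart.ring T₀ T' B
  let M := (ModuleChart.chartFunctor f T₀ j).obj F
  let e : (Scheme.Modules.pullback j').obj (FGA.ET f F T') ≅
      (tilde.functor C).obj (ModuleCat.of C ((Γ(T'.left, ⊤) ⊗[Γ(T₀.left, ⊤)] B) ⊗[B] M)) :=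
    (ModuleChart.chartIso f g j j' hj').app F ≪≫
      (Scheme.Modules.pullback (Spec.map (ModuleChart.projMap T₀ T' B))).mapIso
        (isoTildeSections ((Scheme.Modules.pullback (j ≫ pullback.fst f T₀.hom)).obj F)).symm ≪≫
      (pullbackTildeIso (ModuleChart.projMap T₀ T' B)).app _
  let L := Algebra.IsPushout.cancelBaseChange Γ(T₀.left, ⊤) Γ(T'.left, ⊤) B
    (Γ(T'.left, ⊤) ⊗[Γ(T₀.left, ⊤)] B) M
  rw [hj'', show T'.left.isoSpec.inv = T'.left.isoSpec.symm.hom from rfl, isFlatOver_comp_isIso_iff]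
  refine ⟨fun h => ?_, fun h x => ?_⟩
  · have := flat_of_isFlatOver_tilde Γ(T'.left, ⊤) (Γ(T'.left, ⊤) ⊗[Γ(T₀.left, ⊤)] B)
      ((Γ(T'.left, ⊤) ⊗[Γ(T₀.left, ⊤)] B) ⊗[B] M) fun x => FlatOverAt.of_iso _ e x (h x)
    exact Module.Flat.of_linearEquiv L.symm
  · have : Module.Flat Γ(T'.left, ⊤) ((Γ(T'.left, ⊤) ⊗[Γ(T₀.left, ⊤)] B) ⊗[B] M) :=
      Module.Flat.of_linearEquiv L
    exact FlatOverAt.of_iso _ e.symm x (H19.FlatLocus.ModelMod.isFlatOver_tilde Γ(T'.left, ⊤)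
      (Γ(T'.left, ⊤) ⊗[Γ(T₀.left, ⊤)] B) ((Γ(T'.left, ⊤) ⊗[Γ(T₀.left, ⊤)] B) ⊗[B] M) x)

end Groth.Agent.Lib.Flat55.FlatChart
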