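import Groth.Prelude.Def_FlatCA
import Mathlib.AlgebraicGeometry.AffineTransitionLimit
import Mathlib.CategoryTheory.Presentable.Directed
import Mathlib.CategoryTheory.Limits.Final

/-!
# A cofiltered limit of affine schemes as a directed colimit of rings
-/

set_option autoImplicit false

universe u

open CategoryTheory CategoryTheory.Limits AlgebraicGeometry Opposite

namespace Groth.Agent.Lib.Flat55.StageSystem

/-- A property of algebras which descends along directed colimits of algebras holds at some stage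
of a cofiltered system of affine schemes as soon as it holds at the limit. -/
theorem exists_stage {I : Type u} [SmallCategory I] [IsCofiltered I] {D : I ⥤ Scheme.{u}} (c : Cone D)
    (hc : IsLimit c) [∀ i, IsAffine (D.obj i)] (i₀ : I)
    (Q : ∀ (A : Type u) [CommRing A] [Algebra Γ(D.obj i₀, ⊤) A], Prop)
    (hQ : ∀ {ι : Type u} [Preorder ι] (G : ι → Type u) [∀ i, CommRing (G i)]
      [∀ i, Algebra Γ(D.obj i₀, ⊤) (G i)] (g : ∀ i j, i ≤ j → G i →ₐ[Γ(D.obj i₀, ⊤)] G j)
      (A : Type u) [CommRing A] [Algebra Γ(D.obj i₀, ⊤) A] [∀ i, Algebra (G i) A]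
      [∀ i, IsScalarTower Γ(D.obj i₀, ⊤) (G i) A],
      FlatCA.IsDirectedColimitRing G (fun i j h => (g i j h).toRingHom) A → Q A → ∃ i, Q (G i))
    (h : @Q Γ(c.pt, ⊤) inferInstance (c.π.app i₀).appTop.hom.toAlgebra) :
    ∃ (j : I) (φ : j ⟶ i₀), @Q Γ(D.obj j, ⊤) inferInstance (D.map φ).appTop.hom.toAlgebra := by
  let E : Over i₀ ⥤ Scheme.{u} := Over.forget i₀ ⋙ D
  let c' : Cone E := c.whisker (Over.forget i₀)
  have hc' : IsLimit c' := (Functor.Initial.isLimitWhiskerEquiv (Over.forget i₀) c).symm hc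
  have : ∀ j, IsAffine (E.obj j) := fun j => inferInstanceAs (IsAffine (D.obj j.left))
  have : ∀ j, CompactSpace (E.obj j) := fun j => inferInstance
  have : ∀ j, QuasiSeparatedSpace (E.obj j) := fun j => inferInstance
  have : ∀ {i j} (f : i ⟶ j), IsAffineHom (E.map f) := fun f => inferInstance
  obtain ⟨hcol⟩ := nonempty_isColimit_Γ_mapCocone E c' hc'
  obtain ⟨α, _, hdir, hne, F, hF⟩ := IsFiltered.exists_directed (Over i₀)ᵒᵖ
  have : IsDirectedOrder α := hdir
  let t := (Scheme.Γ.mapCocone c'.op).whisker F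
  have ht : IsColimit t := (Functor.Final.isColimitWhiskerEquiv F _).symm hcol
  have ht' : IsColimit ((forget CommRingCat).mapCocone t) := isColimitOfPreserves _ ht
  let G : α → Type u := fun a => Γ(D.obj (F.obj a).unop.left, ⊤)
  letI : ∀ a, Algebra Γ(D.obj i₀, ⊤) (G a) := fun a => (D.map (F.obj a).unop.hom).appTop.hom.toAlgebra
  letI : ∀ a, Algebra (G a) Γ(c.pt, ⊤) := fun a =>
    (c.π.app (F.obj a).unop.left).appTop.hom.toAlgebra
  letI : Algebra Γ(D.obj i₀, ⊤) Γ(c.pt, ⊤) := (c.π.app i₀).appTop.hom.toAlgebra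
  have : ∀ a, IsScalarTower Γ(D.obj i₀, ⊤) (G a) Γ(c.pt, ⊤) := fun a =>
    IsScalarTower.of_algebraMap_eq' (by
      show (c.π.app i₀).appTop.hom = _
      rw [← c.w (F.obj a).unop.hom, Scheme.Hom.comp_appTop]
      rfl)
  let g : ∀ a b : α, a ≤ b → G a →ₐ[Γ(D.obj i₀, ⊤)] G b := fun a b hab =>
    { (D.map (F.map (homOfLE hab)).unop.left).appTop.hom with
      commutes' := fun r => by
        show ((D.map (F.obj a).unop.hom).appTop ≫ (D.map (F.map (homOfLE hab)).unop.left).appTop) r =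
          (D.map (F.obj b).unop.hom).appTop r
        rw [← Scheme.Hom.comp_appTop, ← D.map_comp, Over.w] }
  have hsys : FlatCA.IsDirectedColimitRing G (fun i j h => (g i j h).toRingHom) Γ(c.pt, ⊤) := by
    refine ⟨hdir, hne, fun a => RingHom.ext fun x => ?_, fun a b d hab hbd => RingHom.ext fun x => ?_,
      fun a b hab => RingHom.ext fun x => ?_, fun x => ?_, fun a x hx => ?_⟩
    · exact congr($((F ⋙ E.op ⋙ Scheme.Γ).map_id a) x)
    · exact congr($(((F ⋙ E.op ⋙ Scheme.Γ).map_comp (homOfLE hab) (homOfLE hbd)).symm) x)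
    · exact congr($(t.w (homOfLE hab)) x)
    · obtain ⟨a, y, hy⟩ := Types.jointly_surjective _ ht' x
      exact ⟨a, y, hy⟩
    · obtain ⟨b, f, hb⟩ := (Types.FilteredColimit.isColimit_eq_iff' ht' x (0 : G a)).1
        (hx.trans (map_zero (t.ι.app a).hom).symm)
      exact ⟨b, leOfHom f, hb.trans (map_zero (g a b (leOfHom f)))⟩
  obtain ⟨a, ha⟩ := hQ G g Γ(c.pt, ⊤) hsys h
  exact ⟨(F.obj a).unop.left, (F.obj a).unop.hom, ha⟩

end Groth.Agent.Lib.Flat55.StageSystem
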