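import Groth.Agent.Lib.Flat55.EventualTensor
import Groth.Agent.Lib.Flat55.StageSystem
import Groth.Agent.Lib.Flat55.FlatChart
import Groth.Agent.Lib.Modules.AffineSections
import Groth.Agent.Lib.CohBasics.Affine
import Groth.Agent.Lib.DescAlg.FPPush
import Groth.Agent.H47.FlatModel
import Groth.Prelude.Def_AlgSpRep

/-!
# Flattening functors are limit preserving
-/

set_option autoImplicit false

universe u

open CategoryTheory CategoryTheory.Limits AlgebraicGeometry Opposite TensorProduct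
open Groth.Agent.Lib Groth.Agent.Lib.QCoh Groth.Agent.Lib.QCoh.Tilde Groth.Agent.Lib.QCoh.Pullback

attribute [local instance] Algebra.TensorProduct.rightAlgebra

namespace Groth.Agent.Lib.Flat55.FlatFunLimit

variable {S : Scheme.{u}}

/-- A flattening functor is limit preserving when its condition holds at some stage as soon as it
holds at the limit. -/
theorem isLimitPreserving_genPSp (P : Over S → Prop) (hP : ∀ ⦃T T₀ : Over S⦄ (_ : T ⟶ T₀), P T₀ → P T)
    (h : ∀ ⦃I : Type u⦄ [SmallCategory I] [IsCofiltered I] (D : I ⥤ Over S) (c : Cone D),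
      IsLimit ((Over.forget S).mapCone c) → (∀ i, IsAffine (D.obj i).left) → IsAffine c.pt.left →
        P c.pt → ∃ i, P (D.obj i)) :
    AlgSp.IsLimitPreserving (FlatFun.genPSp S P) := by
  intro I _ _ D c hc hD hT
  refine ⟨Types.FilteredColimit.isColimitOf' _ _ (fun x => ?_) fun i x y _ => ?_⟩
  · obtain ⟨i, hi⟩ := h D c hc hD hT
      ((FlatFun.genPSp_nonempty_iff_of_stable P hP _).1 ⟨x⟩)
    obtain ⟨t⟩ := FlatFun.genPSp_nonempty_of P hi
    exact ⟨op i, t, Subsingleton.elim (α := (FlatFun.genPSp S P).obj (op c.pt)) _ _⟩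
  · exact ⟨i, 𝟙 i, congrArg _ (Subsingleton.elim (α := (FlatFun.genPSp S P).obj (op (D.obj i.unop))) x y)⟩

section Monotone

variable {R : Type u} [CommRing R] {A A' : Type u} [CommRing A] [CommRing A'] [Algebra R A]
  [Algebra R A'] (φ : A →ₐ[R] A') {M N : Type u} [AddCommGroup M] [AddCommGroup N] [Module R M]
  [Module R N] (v : M →ₗ[R] N)

include φ

theorem lTensor_eq_zero_of_algHom (h : v.lTensor A = 0) : v.lTensor A' = 0 := by
  refine TensorProduct.ext' fun a m => ?_
  have h1 := congrArg (φ.toLinearMap.rTensor N) (LinearMap.congr_fun h ((1 : A) ⊗ₜ[R] m))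
  rw [LinearMap.lTensor_tmul, LinearMap.rTensor_tmul, AlgHom.toLinearMap_apply, map_one,
    LinearMap.zero_apply, map_zero] at h1
  rw [LinearMap.lTensor_tmul, LinearMap.zero_apply,
    show a ⊗ₜ[R] v m = a • ((1 : A') ⊗ₜ[R] v m) by rw [smul_tmul', smul_eq_mul, mul_one], h1,
    smul_zero]

theorem lTensor_surjective_of_algHom (h : Function.Surjective (v.lTensor A)) :
    Function.Surjective (v.lTensor A') := by
  intro z
  induction z with
  | zero => exact ⟨0, map_zero _⟩
  | add x y hx hy =>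
    obtain ⟨a, rfl⟩ := hx
    obtain ⟨b, rfl⟩ := hy
    exact ⟨a + b, map_add _ _ _⟩
  | tmul a n =>
    obtain ⟨w, hw⟩ := h ((1 : A) ⊗ₜ n)
    refine ⟨a • φ.toLinearMap.rTensor M w, ?_⟩
    have hl : ∀ y : A' ⊗[R] M, v.lTensor A' (a • y) = a • v.lTensor A' y := fun y => by
      induction y with
      | zero => simp
      | tmul c m => simp [smul_tmul']
      | add x y hx hy => simp [smul_add, map_add, hx, hy]
    rw [hl, EventualTensor.lTensor_rTensor, hw, LinearMap.rTensor_tmul, AlgHom.toLinearMap_apply,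
      map_one, smul_tmul', smul_eq_mul, mul_one]

omit v in
theorem flat_of_algHom (M : Type u) [AddCommGroup M] [Module R M] (h : Module.Flat A (A ⊗[R] M)) :
    Module.Flat A' (A' ⊗[R] M) := by
  let _ : Algebra A A' := φ.toRingHom.toAlgebra
  have : IsScalarTower R A A' := IsScalarTower.of_algebraMap_eq fun r => (φ.commutes r).symm
  exact Module.Flat.of_linearEquiv (AlgebraTensorModule.cancelBaseChange R A A' A' M).symm

end Monotone

theorem bijective_iff_ker {R : Type u} [CommRing R] (A : Type u) [CommRing A] [Algebra R A]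
    {B : Type u} [CommRing B] [Algebra R B] {M N : Type u} [AddCommGroup M] [AddCommGroup N]
    [Module B M] [Module B N] [Module R M] [Module R N] [IsScalarTower R B M] [IsScalarTower R B N]
    (v : M →ₗ[B] N) (hv : Function.Surjective v) :
    Function.Bijective ((v.restrictScalars R).lTensor A) ↔
      ((LinearMap.ker v).subtype.restrictScalars R).lTensor A = 0 := by
  have hex : Function.Exact ((LinearMap.ker v).subtype.restrictScalars R) (v.restrictScalars R) :=
    LinearMap.exact_subtype_ker_map v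
  have e := lTensor_exact A hex hv
  refine ⟨fun h => LinearMap.ext fun z => h.1 ?_, fun h => ⟨(injective_iff_map_eq_zero _).2 fun z hz => ?_,
    LinearMap.lTensor_surjective A hv⟩⟩
  · rw [LinearMap.zero_apply, map_zero]
    exact e.apply_apply_eq_zero z
  · obtain ⟨w, rfl⟩ := (e z).1 hz
    rw [h]
    rfl

section Stages

/-- Finitely many monotone properties of algebras which each descend hold at a common stage. -/
theorem exists_common_stage {R : Type u} [CommRing R] {κ : Type u} [Finite κ]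
    (Q : κ → ∀ (A : Type u) [CommRing A] [Algebra R A], Prop)
    (hmono : ∀ k (A A' : Type u) [CommRing A] [CommRing A'] [Algebra R A] [Algebra R A'],
      (A →ₐ[R] A') → Q k A → Q k A')
    {ι : Type u} [Preorder ι] (G : ι → Type u) [∀ i, CommRing (G i)] [∀ i, Algebra R (G i)]
    (g : ∀ i j, i ≤ j → G i →ₐ[R] G j) (hdir : IsDirected ι (· ≤ ·)) (hne : Nonempty ι)
    (h : ∀ k, ∃ i, Q k (G i)) : ∃ i, ∀ k, Q k (G i) := by
  have : IsDirectedOrder ι := hdir
  choose i hi using h
  obtain ⟨j, hj⟩ := Finite.exists_le i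
  exact ⟨j, fun k => hmono k _ _ (g _ _ (hj k)) (hi k)⟩

end Stages

/-- The property of being zero. -/
def zeroHom (C : Type*) [Category C] [HasZeroMorphisms C] : MorphismProperty C := fun _ _ v => v = 0

instance (C : Type*) [Category C] [HasZeroMorphisms C] : (zeroHom C).RespectsIso :=
  MorphismProperty.RespectsIso.mk _ (fun e v (hv : v = 0) => show e.hom ≫ v = 0 by rw [hv, comp_zero])
    (fun e v (hv : v = 0) => show v ≫ e.hom = 0 by rw [hv, zero_comp])

section Charts

variable {X : Scheme.{u}} (f : X ⟶ S) (T₀ : Over S) [IsAffine T₀.left]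

/-- An affine chart of the base change to an affine scheme over `S`, lying over a chart of `X`. -/
structure Chart where
  /-- The chart of the base change. -/
  W : (PicF.XT f T₀ : Scheme.{u}).Opens
  hW : IsAffineOpen W
  /-- The chart of `X`. -/
  U : X.Opens
  hU : IsAffineOpen U
  le : W ≤ (pullback.fst f T₀.hom) ⁻¹ᵁ U

variable {f T₀}

/-- The ring of a chart. -/
noncomputable abbrev Chart.ring (c : Chart f T₀) : CommRingCat.{u} := Γ(PicF.XT f T₀, c.W)

noncomputable instance Chart.algebra (c : Chart f T₀) : Algebra Γ(T₀.left, ⊤) c.ring :=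
  ((PicF.XTproj f T₀).appLE ⊤ c.W le_top).hom.toAlgebra

theorem Chart.fromSpec_proj (c : Chart f T₀) :
    c.hW.fromSpec ≫ PicF.XTproj f T₀ =
      Spec.map (CommRingCat.ofHom (algebraMap Γ(T₀.left, ⊤) c.ring)) ≫ T₀.left.isoSpec.inv := by
  rw [← IsAffineOpen.fromSpec_top]
  exact (IsAffineOpen.SpecMap_appLE_fromSpec _ (isAffineOpen_top _) c.hW le_top).symm

/-- The sections of the base change on a chart. -/
noncomputable abbrev Chart.modF (c : Chart f T₀) : X.Modules ⥤ ModuleCat.{u} c.ring :=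
  ModuleChart.chartFunctor f T₀ c.hW.fromSpec

noncomputable instance Chart.moduleR (c : Chart f T₀) (F : X.Modules) :
    Module Γ(T₀.left, ⊤) (c.modF.obj F) :=
  Module.compHom _ (algebraMap Γ(T₀.left, ⊤) c.ring)

instance Chart.tower (c : Chart f T₀) (F : X.Modules) :
    IsScalarTower Γ(T₀.left, ⊤) c.ring (c.modF.obj F) :=
  IsScalarTower.of_algebraMap_smul fun _ _ => rfl

theorem exists_cover (f : X ⟶ S) [QuasiCompact f] (T₀ : Over S) [IsAffine T₀.left] :
    ∃ (κ : Type u) (_ : Finite κ) (c : κ → Chart f T₀),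
      ∀ x : (PicF.XT f T₀ : Scheme.{u}), ∃ k, x ∈ (c k).W := by
  have : QuasiCompact (PicF.XTproj f T₀) := inferInstance
  have : CompactSpace (PicF.XT f T₀ : Scheme.{u}) := QuasiCompact.compactSpace_of_compactSpace (PicF.XTproj f T₀)
  have hloc : ∀ x : (PicF.XT f T₀ : Scheme.{u}), ∃ c : Chart f T₀, x ∈ c.W := by
    intro x
    obtain ⟨U, hU, hxU, -⟩ := exists_isAffineOpen_mem_and_subset (U := ⊤)
      (x := pullback.fst f T₀.hom x) trivial
    obtain ⟨W, hW, hxW, hWU⟩ := exists_isAffineOpen_mem_and_subset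
      (U := (pullback.fst f T₀.hom) ⁻¹ᵁ U) (x := x) hxU
    exact ⟨⟨W, hW, U, hU, hWU⟩, hxW⟩
  choose c hc using hloc
  obtain ⟨t, ht⟩ := CompactSpace.elim_nhds_subcover (fun x => ((c x).W : Set (PicF.XT f T₀ : Scheme.{u})))
    (fun x => (c x).W.2.mem_nhds (hc x))
  refine ⟨t, inferInstance, fun k => c k.1, fun x => ?_⟩
  have hx : x ∈ ⋃ y ∈ t, ((c y).W : Set (PicF.XT f T₀ : Scheme.{u})) := by
    rw [ht]; exact Set.mem_univ x
  obtain ⟨y, hy, hxy⟩ := Set.mem_iUnion₂.1 hx
  exact ⟨⟨y, hy⟩, hxy⟩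

theorem Chart.exists_iso (c : Chart f T₀) (F : X.Modules) [F.IsQuasicoherent] :
    ∃ (_ : Algebra Γ(X, c.U) c.ring),
      Nonempty (c.ring ⊗[Γ(X, c.U)] Γ(F, c.U) ≃ₗ[c.ring] c.modF.obj F) := by
  refine ⟨((pullback.fst f T₀.hom).appLE c.U c.W c.le).hom.toAlgebra, ?_⟩
  have := isQCoh_pullback c.hU.fromSpec F
  obtain ⟨e₀⟩ := DescAlg.FPPush.exists_specΓ_equiv c.hU F
  let φ := (pullback.fst f T₀.hom).appLE c.U c.W c.le
  let e : (Scheme.Modules.pullback (c.hW.fromSpec ≫ pullback.fst f T₀.hom)).obj F ≅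
      (tilde.functor _).obj ((ModuleCat.extendScalars φ.hom).obj (ModuleCat.of Γ(X, c.U) Γ(F, c.U))) :=
    (Scheme.Modules.pullbackCongr (IsAffineOpen.SpecMap_appLE_fromSpec _ c.hU c.hW c.le).symm).app F ≪≫
      ((Scheme.Modules.pullbackComp (Spec.map φ) c.hU.fromSpec).app F).symm ≪≫
      (Scheme.Modules.pullback (Spec.map φ)).mapIso
        ((isoTildeSections _).symm ≪≫ (tilde.functor _).mapIso
          ((specΓ _).mapIso ((Scheme.Modules.restrictFunctorIsoPullback c.hU.fromSpec).app F).symm ≪≫ e₀)) ≪≫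
      (pullbackTildeIso φ).app _
  exact ⟨((specΓ _).mapIso e ≪≫ (sectionsTildeIso.app _).symm).toLinearEquiv.symm⟩

theorem Chart.finite (c : Chart f T₀) (F : X.Modules) [F.IsQuasicoherent] (hF : CohB1.IsFT F) :
    Module.Finite c.ring (c.modF.obj F) := by
  have : SheafOfModules.IsFiniteType (R := X.ringCatSheaf) F := hF
  have : Module.Finite Γ(X, c.U) Γ(F, c.U) := CohBasics.Affine.finite_sections c.hU
  obtain ⟨_, ⟨e⟩⟩ := c.exists_iso F
  exact Module.Finite.equiv e

theorem Chart.finitePresentation (c : Chart f T₀) (F : X.Modules) [F.IsQuasicoherent]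
    (hF : CohB1.IsFP F) : Module.FinitePresentation c.ring (c.modF.obj F) := by
  have : Module.FinitePresentation Γ(X, c.U) Γ(F, c.U) :=
    DescAlg.FPPush.finitePresentation_sections c.hU F hF
  obtain ⟨_, ⟨e⟩⟩ := c.exists_iso F
  exact Module.FinitePresentation.of_equiv e

variable {T' : Over S} [IsAffine T'.left] (g : T' ⟶ T₀)

/-- The chart maps of a base change cover it. -/
theorem exists_lifts [Algebra Γ(T₀.left, ⊤) Γ(T'.left, ⊤)]
    (hg : algebraMap Γ(T₀.left, ⊤) Γ(T'.left, ⊤) = g.left.appTop.hom) {κ : Type*} (c : κ → Chart f T₀)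
    (hc : ∀ x : (PicF.XT f T₀ : Scheme.{u}), ∃ k, x ∈ (c k).W) :
    ∃ j' : ∀ k, Spec (ModuleChart.ring T₀ T' (c k).ring) ⟶ PicF.XT f T',
      (∀ k, IsPullback (Spec.map (ModuleChart.projMap T₀ T' (c k).ring)) (j' k) (c k).hW.fromSpec
        (PicF.XTmap f g)) ∧
      (∀ k, j' k ≫ PicF.XTproj f T' = Spec.map (CommRingCat.ofHom
        (algebraMap Γ(T'.left, ⊤) (Γ(T'.left, ⊤) ⊗[Γ(T₀.left, ⊤)] (c k).ring))) ≫ T'.left.isoSpec.inv) ∧
      (∀ k, IsOpenImmersion (j' k)) ∧ ∀ x, ∃ k, ∃ y, j' k y = x := by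
  choose j' h1 h2 using fun k => ModuleChart.exists_chart f g hg (c k).hW.fromSpec (c k).fromSpec_proj
  refine ⟨j', h1, h2, fun k => MorphismProperty.of_isPullback (h1 k) inferInstance, fun x => ?_⟩
  obtain ⟨k, hk⟩ := hc (PicF.XTmap f g x)
  obtain ⟨y, hy⟩ : PicF.XTmap f g x ∈ Set.range (c k).hW.fromSpec :=
    (c k).hW.range_fromSpec.ge hk
  obtain ⟨z, -, hz⟩ := Scheme.Pullback.exists_preimage_pullback y x hy
  refine ⟨k, (h1 k).isoPullback.inv z, ?_⟩
  rw [← Scheme.Hom.comp_apply, (h1 k).isoPullback_inv_snd, hz]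

variable [Algebra Γ(T₀.left, ⊤) Γ(T'.left, ⊤)]
  (hg : algebraMap Γ(T₀.left, ⊤) Γ(T'.left, ⊤) = g.left.appTop.hom) {κ : Type*} (c : κ → Chart f T₀)
  (hc : ∀ x : (PicF.XT f T₀ : Scheme.{u}), ∃ k, x ∈ (c k).W)
  {F G : X.Modules} [F.IsQuasicoherent] [G.IsQuasicoherent] (u : F ⟶ G)

include hg hc

theorem isIso_iff :
    IsIso ((Scheme.Modules.pullback (pullback.fst f T'.hom)).map u) ↔ ∀ k,
      Function.Bijective (((((c k).modF).map u).hom.restrictScalars Γ(T₀.left, ⊤)).lTensor Γ(T'.left, ⊤)) := by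
  obtain ⟨j', hj', -, hopen, hsurj⟩ := exists_lifts g hg c hc
  have hk : ∀ k, IsIso ((Scheme.Modules.pullback (j' k)).map
        ((Scheme.Modules.pullback (pullback.fst f T'.hom)).map u)) ↔
      Function.Bijective (((((c k).modF).map u).hom.restrictScalars Γ(T₀.left, ⊤)).lTensor Γ(T'.left, ⊤)) :=
    fun k => (ModuleChart.prop_chart_iff f g (c k).hW.fromSpec (j' k) (hj' k)
      (MorphismProperty.isomorphisms _) u).trans
        ((ModuleChart.isIso_tilde_map_iff _).trans (ModuleChart.bijective_iff _ _))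
  refine ⟨fun h k => (hk k).1 inferInstance, fun h => ?_⟩
  exact FlatFunSheaf.isIso_of_pullback j' (fun k => have := hopen k; inferInstance) hsurj _
    fun k => (hk k).2 (h k)

theorem epi_iff :
    Epi ((Scheme.Modules.pullback (pullback.fst f T'.hom)).map u) ↔ ∀ k,
      Function.Surjective (((((c k).modF).map u).hom.restrictScalars Γ(T₀.left, ⊤)).lTensor Γ(T'.left, ⊤)) := by
  obtain ⟨j', hj', -, hopen, hsurj⟩ := exists_lifts g hg c hc
  have hk : ∀ k, Epi ((Scheme.Modules.pullback (j' k)).map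
        ((Scheme.Modules.pullback (pullback.fst f T'.hom)).map u)) ↔
      Function.Surjective (((((c k).modF).map u).hom.restrictScalars Γ(T₀.left, ⊤)).lTensor Γ(T'.left, ⊤)) :=
    fun k => (ModuleChart.prop_chart_iff f g (c k).hW.fromSpec (j' k) (hj' k)
      (MorphismProperty.epimorphisms _) u).trans
        ((ModuleChart.epi_tilde_map_iff _).trans (ModuleChart.surjective_iff _ _))
  refine ⟨fun h k => (hk k).1 inferInstance, fun h => ?_⟩
  exact FlatFunSheaf.epi_of_pullback j' (fun k => have := hopen k; inferInstance) hsurj _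
    fun k => (hk k).2 (h k)

theorem eq_zero_iff :
    (Scheme.Modules.pullback (pullback.fst f T'.hom)).map u = 0 ↔ ∀ k,
      ((((c k).modF).map u).hom.restrictScalars Γ(T₀.left, ⊤)).lTensor Γ(T'.left, ⊤) = 0 := by
  obtain ⟨j', hj', -, hopen, hsurj⟩ := exists_lifts g hg c hc
  have hk : ∀ k, (Scheme.Modules.pullback (j' k)).map
        ((Scheme.Modules.pullback (pullback.fst f T'.hom)).map u) = 0 ↔
      ((((c k).modF).map u).hom.restrictScalars Γ(T₀.left, ⊤)).lTensor Γ(T'.left, ⊤) = 0 := by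
    intro k
    exact (ModuleChart.prop_chart_iff f g (c k).hW.fromSpec (j' k) (hj' k) (zeroHom _) u).trans
      ((ModuleChart.tilde_map_eq_zero_iff _).trans (ModuleChart.eq_zero_iff _ _))
  refine ⟨fun h k => (hk k).1 (FlatFunSheaf.pullback_map_eq_zero _ _ h), fun h => ?_⟩
  exact FlatFunSheaf.eq_zero_of_pullback j' (fun k => have := hopen k; inferInstance) hsurj _
    fun k => (hk k).2 (h k)

omit u in
theorem isFlatOver_iff :
    FlatMod.IsFlatOver (PicF.XTproj f T') (FGA.ET f F T') ↔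
      ∀ k, Module.Flat Γ(T'.left, ⊤) (Γ(T'.left, ⊤) ⊗[Γ(T₀.left, ⊤)] (c k).modF.obj F) := by
  obtain ⟨j', hj', hj'', hopen, hsurj⟩ := exists_lifts g hg c hc
  refine Iff.trans ?_ (forall_congr' fun k =>
    FlatChart.isFlatOver_chart_iff f g (c k).hW.fromSpec F (j' k) (hj' k) (hj'' k))
  refine ⟨fun h k y => ?_, fun h x => ?_⟩
  · have := hopen k
    exact (FlatOverAt.isFlatOverAt_pullback_iff (j' k) (PicF.XTproj f T') _ y (Flat.stalkMap _ y)).2 (h _)
  · obtain ⟨k, y, rfl⟩ := hsurj x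
    have := hopen k
    exact (FlatOverAt.isFlatOverAt_pullback_iff (j' k) (PicF.XTproj f T') _ y (Flat.stalkMap _ y)).1 (h k y)

end Charts

section Main

variable {X : Scheme.{u}} {f : X ⟶ S}

variable {I : Type u} [SmallCategory I] [IsCofiltered I] {D : I ⥤ Over S} {c : Cone D}
  (hc : IsLimit ((Over.forget S).mapCone c)) [∀ i, IsAffine (D.obj i).left] [IsAffine c.pt.left]

include hc

theorem exists_stage_over (i₀ : I)
    (Q : ∀ (A : Type u) [CommRing A] [Algebra Γ((D.obj i₀).left, ⊤) A], Prop)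
    (hQ : ∀ {ι : Type u} [Preorder ι] (G : ι → Type u) [∀ i, CommRing (G i)]
      [∀ i, Algebra Γ((D.obj i₀).left, ⊤) (G i)] (g : ∀ i j, i ≤ j → G i →ₐ[Γ((D.obj i₀).left, ⊤)] G j)
      (A : Type u) [CommRing A] [Algebra Γ((D.obj i₀).left, ⊤) A] [∀ i, Algebra (G i) A]
      [∀ i, IsScalarTower Γ((D.obj i₀).left, ⊤) (G i) A],
      FlatCA.IsDirectedColimitRing G (fun i j h => (g i j h).toRingHom) A → Q A → ∃ i, Q (G i))
    (h : @Q Γ(c.pt.left, ⊤) inferInstance (c.π.app i₀).left.appTop.hom.toAlgebra) :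
    ∃ (j : I) (φ : j ⟶ i₀), @Q Γ((D.obj j).left, ⊤) inferInstance (D.map φ).left.appTop.hom.toAlgebra :=
  have : ∀ i, IsAffine ((D ⋙ Over.forget S).obj i) := fun i => inferInstanceAs (IsAffine (D.obj i).left)
  StageSystem.exists_stage ((Over.forget S).mapCone c) hc i₀ Q hQ h

theorem exists_stage_epi [QuasiCompact f] {F G : X.Modules} [F.IsQuasicoherent] [G.IsQuasicoherent]
    (hG : CohB1.IsFT G) (u : F ⟶ G)
    (h : Epi ((Scheme.Modules.pullback (pullback.fst f c.pt.hom)).map u)) :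
    ∃ i, Epi ((Scheme.Modules.pullback (pullback.fst f (D.obj i).hom)).map u) := by
  obtain ⟨i₀⟩ := IsCofiltered.nonempty (C := I)
  obtain ⟨κ, _, ch, hch⟩ := exists_cover f (D.obj i₀)
  letI : Algebra Γ((D.obj i₀).left, ⊤) Γ(c.pt.left, ⊤) := (c.π.app i₀).left.appTop.hom.toAlgebra
  obtain ⟨j, φ, hj⟩ := exists_stage_over hc i₀
    (fun A _ _ => ∀ k, Function.Surjective
      ((((ch k).modF.map u).hom.restrictScalars Γ((D.obj i₀).left, ⊤)).lTensor A))
    (fun G' _ _ g A _ _ _ _ hsys hA => exists_common_stage (fun k A _ _ => Function.Surjective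
      ((((ch k).modF.map u).hom.restrictScalars Γ((D.obj i₀).left, ⊤)).lTensor A))
      (fun k _ _ _ _ _ _ ψ hk => lTensor_surjective_of_algHom ψ _ hk) G' g hsys.1 hsys.2.1
      fun k => have := (ch k).finite G hG; EventualTensor.exists_surjective hsys _ (hA k))
    ((epi_iff (show c.pt ⟶ D.obj i₀ from c.π.app i₀) rfl ch hch u).1 h)
  letI : Algebra Γ((D.obj i₀).left, ⊤) Γ((D.obj j).left, ⊤) := (D.map φ).left.appTop.hom.toAlgebra
  exact ⟨j, (epi_iff (D.map φ) rfl ch hch u).2 hj⟩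

theorem exists_stage_zero [QuasiCompact f] {F G : X.Modules} [F.IsQuasicoherent] [G.IsQuasicoherent]
    (hF : CohB1.IsFT F) (u : F ⟶ G)
    (h : (Scheme.Modules.pullback (pullback.fst f c.pt.hom)).map u = 0) :
    ∃ i, (Scheme.Modules.pullback (pullback.fst f (D.obj i).hom)).map u = 0 := by
  obtain ⟨i₀⟩ := IsCofiltered.nonempty (C := I)
  obtain ⟨κ, _, ch, hch⟩ := exists_cover f (D.obj i₀)
  letI : Algebra Γ((D.obj i₀).left, ⊤) Γ(c.pt.left, ⊤) := (c.π.app i₀).left.appTop.hom.toAlgebra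
  obtain ⟨j, φ, hj⟩ := exists_stage_over hc i₀
    (fun A _ _ => ∀ k,
      (((ch k).modF.map u).hom.restrictScalars Γ((D.obj i₀).left, ⊤)).lTensor A = 0)
    (fun G' _ _ g A _ _ _ _ hsys hA => exists_common_stage (fun k A _ _ =>
      (((ch k).modF.map u).hom.restrictScalars Γ((D.obj i₀).left, ⊤)).lTensor A = 0)
      (fun k _ _ _ _ _ _ ψ hk => lTensor_eq_zero_of_algHom ψ _ hk) G' g hsys.1 hsys.2.1
      fun k => have := (ch k).finite F hF; EventualTensor.exists_zero hsys _ (hA k))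
    ((eq_zero_iff (show c.pt ⟶ D.obj i₀ from c.π.app i₀) rfl ch hch u).1 h)
  letI : Algebra Γ((D.obj i₀).left, ⊤) Γ((D.obj j).left, ⊤) := (D.map φ).left.appTop.hom.toAlgebra
  exact ⟨j, (eq_zero_iff (D.map φ) rfl ch hch u).2 hj⟩

theorem exists_stage_isIso [QuasiCompact f] {F G : X.Modules} [F.IsQuasicoherent] [G.IsQuasicoherent]
    (hF : CohB1.IsFT F) (hG : CohB1.IsFP G) (u : F ⟶ G)
    (h : IsIso ((Scheme.Modules.pullback (pullback.fst f c.pt.hom)).map u)) :
    ∃ i, IsIso ((Scheme.Modules.pullback (pullback.fst f (D.obj i).hom)).map u) := by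
  have hGft : CohB1.IsFT G := by
    have : SheafOfModules.IsFinitePresentation (R := X.ringCatSheaf) G := hG
    infer_instance
  obtain ⟨i₀, hi₀⟩ := exists_stage_epi (f := f) hc hGft u inferInstance
  obtain ⟨κ, _, ch, hch⟩ := exists_cover f (D.obj i₀)
  have hsurj : ∀ k, Function.Surjective ((ch k).modF.map u).hom := by
    intro k
    have := isQCoh_pullback ((ch k).hW.fromSpec ≫ pullback.fst f (D.obj i₀).hom) F
    have := isQCoh_pullback ((ch k).hW.fromSpec ≫ pullback.fst f (D.obj i₀).hom) G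
    have h1 : Epi ((Scheme.Modules.pullback ((ch k).hW.fromSpec ≫ pullback.fst f (D.obj i₀).hom)).map u) :=
      (FlatFunSheaf.prop_map_map_iff' (Scheme.Modules.pullbackComp (ch k).hW.fromSpec
        (pullback.fst f (D.obj i₀).hom)) (Q := MorphismProperty.epimorphisms _) u).1
          (Functor.map_epi _ _)
    exact (ModuleChart.epi_tilde_map_iff _).1
      ((ModuleChart.prop_sections_iff (MorphismProperty.epimorphisms _) _).1 h1)
  letI : Algebra Γ((D.obj i₀).left, ⊤) Γ(c.pt.left, ⊤) := (c.π.app i₀).left.appTop.hom.toAlgebra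
  let v := fun k => (LinearMap.ker ((ch k).modF.map u).hom).subtype
  obtain ⟨j, φ, hj⟩ := exists_stage_over hc i₀
    (fun A _ _ => ∀ k, ((v k).restrictScalars Γ((D.obj i₀).left, ⊤)).lTensor A = 0)
    (fun G' _ _ g A _ _ _ _ hsys hA => exists_common_stage (fun k A _ _ =>
      ((v k).restrictScalars Γ((D.obj i₀).left, ⊤)).lTensor A = 0)
      (fun k _ _ _ _ _ _ ψ hk => lTensor_eq_zero_of_algHom ψ _ hk) G' g hsys.1 hsys.2.1
      fun k => by
        have := (ch k).finite F hF
        have := (ch k).finitePresentation G hG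
        have : Module.Finite (ch k).ring (LinearMap.ker ((ch k).modF.map u).hom) :=
          Module.Finite.iff_fg.2 (Module.FinitePresentation.fg_ker _ (hsurj k))
        exact EventualTensor.exists_zero hsys (v k) (hA k))
    (fun k => (bijective_iff_ker Γ(c.pt.left, ⊤) ((ch k).modF.map u).hom (hsurj k)).1
      ((isIso_iff (show c.pt ⟶ D.obj i₀ from c.π.app i₀) rfl ch hch u).1 h k))
  letI : Algebra Γ((D.obj i₀).left, ⊤) Γ((D.obj j).left, ⊤) := (D.map φ).left.appTop.hom.toAlgebra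
  exact ⟨j, (isIso_iff (D.map φ) rfl ch hch u).2
    fun k => (bijective_iff_ker Γ((D.obj j).left, ⊤) ((ch k).modF.map u).hom (hsurj k)).2 (hj k)⟩

theorem exists_stage_flat [QuasiCompact f] [LocallyOfFinitePresentation f] {F : X.Modules}
    [F.IsQuasicoherent] (hF : CohB1.IsFP F)
    (h : FlatMod.IsFlatOver (PicF.XTproj f c.pt) (FGA.ET f F c.pt)) :
    ∃ i, FlatMod.IsFlatOver (PicF.XTproj f (D.obj i)) (FGA.ET f F (D.obj i)) := by
  obtain ⟨i₀⟩ := IsCofiltered.nonempty (C := I)
  obtain ⟨κ, _, ch, hch⟩ := exists_cover f (D.obj i₀)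
  have hfp : ∀ k, Algebra.FinitePresentation Γ((D.obj i₀).left, ⊤) (ch k).ring := fun k =>
    (PicF.XTproj f (D.obj i₀)).finitePresentation_appLE (isAffineOpen_top _) (ch k).hW le_top
  letI : Algebra Γ((D.obj i₀).left, ⊤) Γ(c.pt.left, ⊤) := (c.π.app i₀).left.appTop.hom.toAlgebra
  obtain ⟨j, φ, hj⟩ := exists_stage_over hc i₀
    (fun A _ _ => ∀ k, Module.Flat A (A ⊗[Γ((D.obj i₀).left, ⊤)] (ch k).modF.obj F))
    (fun G' _ _ g A _ _ _ _ hsys hA => exists_common_stage (fun k A _ _ =>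
      Module.Flat A (A ⊗[Γ((D.obj i₀).left, ⊤)] (ch k).modF.obj F))
      (fun k _ _ _ _ _ _ ψ hk => flat_of_algHom ψ _ hk) G' g hsys.1 hsys.2.1
      fun k => by
        have := (ch k).finitePresentation F hF
        have := hfp k
        exact (H47.FlatModel.flat_baseChange_iff_exists (B₀ := (ch k).ring) G' g A hsys _).1 (hA k))
    ((isFlatOver_iff (show c.pt ⟶ D.obj i₀ from c.π.app i₀) rfl ch hch).1 h)
  letI : Algebra Γ((D.obj i₀).left, ⊤) Γ((D.obj j).left, ⊤) := (D.map φ).left.appTop.hom.toAlgebra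
  exact ⟨j, (isFlatOver_iff (D.map φ) rfl ch hch).2 hj⟩

end Main

end Groth.Agent.Lib.Flat55.FlatFunLimit
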