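import Groth.Agent.Lib.Flat55.ResTrdegCons
import Groth.Agent.Lib.Flat55.FlatFunLimit
import Groth.Agent.Lib.LimTop.Points
import Groth.Agent.Lib.Kaehler.LocalPres
import Groth.Agent.H19.FlatLocus.Scheme

/-!
# Flatness in dimensions `≥ n` descends along limits
-/

set_option autoImplicit false
set_option backward.isDefEq.respectTransparency false
set_option linter.style.haveILetI false

universe u

open CategoryTheory CategoryTheory.Limits AlgebraicGeometry TopologicalSpace Opposite TensorProduct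
open Groth.Agent.Lib Groth.Agent.Lib.Cyc Groth.Agent.Lib.QCoh.Tilde Groth.Agent.Lib.QCoh.Pullback

attribute [local instance] Algebra.TensorProduct.rightAlgebra

namespace Groth.Agent.Lib.Flat55.FlatDimLimit

variable {X S : Scheme.{u}}

theorem isFP_ET (f : X ⟶ S) (F : X.Modules) [F.IsQuasicoherent] (hF : CohB1.IsFP F) (T₀ : Over S)
    [IsAffine T₀.left] : CohB1.IsFP (FGA.ET f F T₀) := by
  refine Kaehler.LocalPres.isFP_of_cover fun x => ?_
  obtain ⟨U, hU, hxU, -⟩ := exists_isAffineOpen_mem_and_subset (U := ⊤)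
    (x := pullback.fst f T₀.hom x) trivial
  obtain ⟨W, hW, hxW, hWU⟩ := exists_isAffineOpen_mem_and_subset
    (U := (pullback.fst f T₀.hom) ⁻¹ᵁ U) (x := x) hxU
  let c : FlatFunLimit.Chart f T₀ := ⟨W, hW, U, hU, hWU⟩
  have := isQCoh_pullback (hW.fromSpec ≫ pullback.fst f T₀.hom) F
  exact ⟨W, hW, hxW, c.modF.obj F, c.finitePresentation F hF,
    ⟨(Scheme.Modules.restrictFunctorIsoPullback hW.fromSpec).app _ ≪≫
      (Scheme.Modules.pullbackComp hW.fromSpec (pullback.fst f T₀.hom)).app F ≪≫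
      (isoTildeSections _).symm⟩⟩

theorem isOpen_flatLocus (f : X ⟶ S) [LocallyOfFinitePresentation f] (F : X.Modules) [F.IsQuasicoherent]
    (hF : CohB1.IsFP F) (T₀ : Over S) [IsAffine T₀.left] :
    IsOpen {x | FlatMod.IsFlatOverAt (PicF.XTproj f T₀) (FGA.ET f F T₀) x} := by
  have : SheafOfModules.IsFinitePresentation (R := (PicF.XT f T₀).ringCatSheaf) (FGA.ET f F T₀) :=
    isFP_ET f F hF T₀
  have : (FGA.ET f F T₀).IsQuasicoherent := isQCoh_pullback (pullback.fst f T₀.hom) F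
  exact H19.FlatLocus.Scheme.isOpen_isFlatOverAt _ _

/-- The points where the base change is not flat and has big residual transcendence degree. -/
def Bad (f : X ⟶ S) (F : X.Modules) (n : ℕ) (T : Over S) : Set (PicF.XT f T : Scheme.{u}) :=
  {x | ¬ FlatMod.IsFlatOverAt (PicF.XTproj f T) (FGA.ET f F T) x ∧
    (n : Cardinal.{u}) ≤ Residue.trdegAt (PicF.XTproj f T) x}

theorem mapsTo_bad (f : X ⟶ S) (F : X.Modules) (n : ℕ) {T T₀ : Over S} (g : T ⟶ T₀) :
    Set.MapsTo (PicF.XTmap f g) (Bad f F n T) (Bad f F n T₀) := fun x hx =>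
  have sq := FlatFunSheaf.isPullback_XTmap f g
  ⟨fun h => hx.1 (FlatOverAt.of_iso _ (FGA.ETiso f F g) x
      (FlatOverAt.isFlatOverAt_baseChange _ _ _ _ sq _ x h)),
    hx.2.trans (ResTrdegBC.trdegAt_le sq x)⟩

/-- The base change functor to schemes. -/
noncomputable def xtFunctor (f : X ⟶ S) : Over S ⥤ Scheme.{u} where
  obj T := PicF.XT f T
  map g := PicF.XTmap f g
  map_id T := by
    apply pullback.hom_ext <;> simp [PicF.XTmap]
  map_comp g h := by
    apply pullback.hom_ext <;> simp [PicF.XTmap]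

/-- The projection from the base change. -/
noncomputable def xtProj (f : X ⟶ S) : xtFunctor f ⟶ Over.forget S where
  app T := PicF.XTproj f T
  naturality _ _ g := (FlatFunSheaf.isPullback_XTmap f g).w

variable {f : X ⟶ S} {I : Type u} [SmallCategory I] [IsCofiltered I] {D : I ⥤ Over S} {c : Cone D}

/-- The base change of a cofiltered limit is a limit. -/
noncomputable def isLimitXT (f : X ⟶ S) (hc : IsLimit ((Over.forget S).mapCone c)) :
    IsLimit ((xtFunctor f).mapCone c) :=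
  have : IsConnected I := IsCofiltered.isConnected I
  isLimitOfIsPullbackOfIsConnected (Functor.whiskerLeft D (xtProj f)) _ ((Over.forget S).mapCone c)
    { hom := PicF.XTproj f c.pt
      w := fun j => (FlatFunSheaf.isPullback_XTmap f (c.π.app j)).w.symm }
    (fun j => FlatFunSheaf.isPullback_XTmap f (c.π.app j)) hc

theorem isAffineHom_xtMap (f : X ⟶ S) {T T₀ : Over S} [IsAffine T.left] [IsAffine T₀.left]
    (g : T ⟶ T₀) : IsAffineHom (PicF.XTmap f g) :=
  MorphismProperty.of_isPullback (P := @IsAffineHom) (FlatFunSheaf.isPullback_XTmap f g).flip inferInstance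

theorem compactSpace_xt (f : X ⟶ S) [QuasiCompact f] (T₀ : Over S) [IsAffine T₀.left] :
    CompactSpace (PicF.XT f T₀ : Scheme.{u}) :=
  QuasiCompact.compactSpace_of_compactSpace (PicF.XTproj f T₀)

/-- Flatness on a chart. -/
theorem isFlatOverAt_chart_iff (f : X ⟶ S) (F : X.Modules) [F.IsQuasicoherent] {T₀ T' : Over S}
    [IsAffine T₀.left] [IsAffine T'.left] (g : T' ⟶ T₀) [Algebra Γ(T₀.left, ⊤) Γ(T'.left, ⊤)]
    (hg : algebraMap Γ(T₀.left, ⊤) Γ(T'.left, ⊤) = g.left.appTop.hom) (ch : FlatFunLimit.Chart f T₀) :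
    (∀ x, PicF.XTmap f g x ∈ ch.W → FlatMod.IsFlatOverAt (PicF.XTproj f T') (FGA.ET f F T') x) ↔
      Module.Flat Γ(T'.left, ⊤) (Γ(T'.left, ⊤) ⊗[Γ(T₀.left, ⊤)] ch.modF.obj F) := by
  obtain ⟨j', hj', hj''⟩ := ModuleChart.exists_chart f g hg ch.hW.fromSpec ch.fromSpec_proj
  have : IsOpenImmersion j' := MorphismProperty.of_isPullback hj' inferInstance
  refine Iff.trans ?_ (FlatChart.isFlatOver_chart_iff f g ch.hW.fromSpec F j' hj' hj'')
  refine ⟨fun h y => ?_, fun h x hx => ?_⟩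
  · refine (FlatOverAt.isFlatOverAt_pullback_iff j' (PicF.XTproj f T') _ y (Flat.stalkMap _ y)).2 (h _ ?_)
    rw [← Scheme.Hom.comp_apply, ← hj'.w, Scheme.Hom.comp_apply]
    exact ch.hW.range_fromSpec.le ⟨_, rfl⟩
  · obtain ⟨y, hy⟩ : PicF.XTmap f g x ∈ Set.range ch.hW.fromSpec := ch.hW.range_fromSpec.ge hx
    obtain ⟨z, -, hz⟩ := Scheme.Pullback.exists_preimage_pullback y x hy
    have hx' : j' (hj'.isoPullback.inv z) = x := by
      rw [← Scheme.Hom.comp_apply, hj'.isoPullback_inv_snd, hz]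
    exact hx' ▸ (FlatOverAt.isFlatOverAt_pullback_iff j' (PicF.XTproj f T') _ _ (Flat.stalkMap _ _)).1 (h _)

variable (hc : IsLimit ((Over.forget S).mapCone c)) [∀ i, IsAffine (D.obj i).left] [IsAffine c.pt.left]

include hc

omit [IsCofiltered I] [IsAffine c.pt.left] hc in
theorem isAffineHom_xt_transition : ∀ (i j : I) (φ : i ⟶ j), IsAffineHom ((D ⋙ xtFunctor f).map φ) :=
  fun _ _ φ => isAffineHom_xtMap f (D.map φ)

/-- Flatness at a point descends to a stage. -/
theorem exists_stage_flatAt [LocallyOfFinitePresentation f] (F : X.Modules) [F.IsQuasicoherent]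
    (hF : CohB1.IsFP F) {s : (PicF.XT f c.pt : Scheme.{u})}
    (hs : FlatMod.IsFlatOverAt (PicF.XTproj f c.pt) (FGA.ET f F c.pt) s) :
    ∃ j, FlatMod.IsFlatOverAt (PicF.XTproj f (D.obj j)) (FGA.ET f F (D.obj j))
      (PicF.XTmap f (c.π.app j) s) := by
  have := isAffineHom_xt_transition (f := f) (D := D)
  obtain ⟨i, V, -, hiV, hVO⟩ :=
    LimTop.Points.exists_basis_mem (isLimitXT f hc) (isOpen_flatLocus f F hF c.pt) hs
  obtain ⟨U, hU, hxU, -⟩ := exists_isAffineOpen_mem_and_subset (U := ⊤)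
    (x := pullback.fst f (D.obj i).hom (PicF.XTmap f (c.π.app i) s)) trivial
  obtain ⟨W, hW, hxW, hWle⟩ := exists_isAffineOpen_mem_and_subset
    (X := PicF.XT f (D.obj i)) (U := V ⊓ (pullback.fst f (D.obj i).hom) ⁻¹ᵁ U)
    (x := PicF.XTmap f (c.π.app i) s) ⟨hiV, hxU⟩
  obtain ⟨ch, rfl⟩ : ∃ ch : FlatFunLimit.Chart f (D.obj i), ch.W = W :=
    ⟨⟨W, hW, U, hU, fun y hy => (hWle hy).2⟩, rfl⟩
  have : Algebra.FinitePresentation Γ((D.obj i).left, ⊤) ch.ring :=
    (PicF.XTproj f (D.obj i)).finitePresentation_appLE (isAffineOpen_top _) ch.hW le_top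
  have := ch.finitePresentation F hF
  letI : Algebra Γ((D.obj i).left, ⊤) Γ(c.pt.left, ⊤) := (c.π.app i).left.appTop.hom.toAlgebra
  obtain ⟨j, φ, hj⟩ := FlatFunLimit.exists_stage_over hc i
    (fun A _ _ => Module.Flat A (A ⊗[Γ((D.obj i).left, ⊤)] ch.modF.obj F))
    (fun G' _ _ g A _ _ _ _ hsys hA =>
      (H47.FlatModel.flat_baseChange_iff_exists (B₀ := ch.ring) G' g A hsys _).1 hA)
    ((isFlatOverAt_chart_iff f F (show c.pt ⟶ D.obj i from c.π.app i) rfl ch).1
      fun x hx => hVO (hWle hx).1)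
  letI : Algebra Γ((D.obj i).left, ⊤) Γ((D.obj j).left, ⊤) := (D.map φ).left.appTop.hom.toAlgebra
  refine ⟨j, (isFlatOverAt_chart_iff f F (D.map φ) rfl ch).2 hj _ ?_⟩
  have h : PicF.XTmap f (c.π.app j) ≫ PicF.XTmap f (D.map φ) = PicF.XTmap f (c.π.app i) := by
    rw [← c.w φ]; exact ((xtFunctor f).map_comp _ _).symm
  rw [← Scheme.Hom.comp_apply, h]
  exact hxW

omit [IsAffine c.pt.left] in
/-- Polynomials over the limit come from a stage. -/
theorem exists_lift_poly (i₀ : I) {σ : Type*} (P : MvPolynomial σ Γ(c.pt.left, ⊤)) :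
    ∃ (j : Over i₀) (Q : MvPolynomial σ Γ((D.obj j.left).left, ⊤)),
      MvPolynomial.map (c.π.app j.left).left.appTop.hom Q = P := by
  have haff : ∀ i, IsAffine ((D ⋙ Over.forget S).obj i) := fun i => inferInstanceAs (IsAffine (D.obj i).left)
  have : ∀ {i j : I} (φ : i ⟶ j), IsAffineHom ((D ⋙ Over.forget S).map φ) := fun φ => inferInstance
  have push : ∀ (j k : Over i₀) (ψ : k ⟶ j) (a : MvPolynomial σ Γ((D.obj j.left).left, ⊤)),
      MvPolynomial.map (c.π.app k.left).left.appTop.hom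
        (MvPolynomial.map (D.map ψ.left).left.appTop.hom a) =
      MvPolynomial.map (c.π.app j.left).left.appTop.hom a := fun j k ψ a => by
    rw [MvPolynomial.map_map, ← CommRingCat.hom_comp, ← Scheme.Hom.comp_appTop, ← Over.comp_left, c.w]
    rfl
  induction P using MvPolynomial.induction_on with
  | C a =>
    obtain ⟨j, b, rfl⟩ := exists_appTop_π_eq_of_isLimit (D ⋙ Over.forget S) _ hc a
    let k := IsCofiltered.min j i₀
    refine ⟨Over.mk (IsCofiltered.minToRight j i₀),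
      MvPolynomial.C ((D.map (IsCofiltered.minToLeft j i₀)).left.appTop b), ?_⟩
    rw [MvPolynomial.map_C]
    refine congrArg MvPolynomial.C ?_
    show ((D.map (IsCofiltered.minToLeft j i₀)).left.appTop ≫ (c.π.app k).left.appTop) b = _
    rw [← Scheme.Hom.comp_appTop, ← Over.comp_left, c.w]
    rfl
  | add p q hp hq =>
    obtain ⟨j₁, Q₁, rfl⟩ := hp
    obtain ⟨j₂, Q₂, rfl⟩ := hq
    refine ⟨IsCofiltered.min j₁ j₂,
      MvPolynomial.map (D.map (IsCofiltered.minToLeft j₁ j₂).left).left.appTop.hom Q₁ +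
        MvPolynomial.map (D.map (IsCofiltered.minToRight j₁ j₂).left).left.appTop.hom Q₂, ?_⟩
    rw [map_add, push, push]
  | mul_X p i hp =>
    obtain ⟨j, Q, rfl⟩ := hp
    exact ⟨j, Q * MvPolynomial.X i, by rw [map_mul, MvPolynomial.map_X]⟩

/-- Big residual transcendence degree at all stages gives it at the limit. -/
theorem le_trdegAt_of_forall [LocallyOfFiniteType f] {n : ℕ} {s : (PicF.XT f c.pt : Scheme.{u})}
    (h : ∀ j, (n : Cardinal.{u}) ≤
      Residue.trdegAt (PicF.XTproj f (D.obj j)) (PicF.XTmap f (c.π.app j) s)) :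
    (n : Cardinal.{u}) ≤ Residue.trdegAt (PicF.XTproj f c.pt) s := by
  classical
  obtain ⟨i⟩ := IsCofiltered.nonempty (C := I)
  let p := PicF.XTproj f (D.obj i)
  obtain ⟨U, hU, hxU, -⟩ := exists_isAffineOpen_mem_and_subset (X := PicF.XT f (D.obj i)) (U := ⊤)
    (x := PicF.XTmap f (c.π.app i) s) trivial
  let : Algebra Γ((D.obj i).left, ⊤) Γ(PicF.XT f (D.obj i), U) := (p.appLE ⊤ U le_top).hom.toAlgebra
  have : Algebra.FiniteType Γ((D.obj i).left, ⊤) Γ(PicF.XT f (D.obj i), U) :=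
    HasRingHomProperty.appLE @LocallyOfFiniteType p inferInstance ⟨⊤, isAffineOpen_top _⟩ ⟨U, hU⟩ le_top
  obtain ⟨N, π, hπ⟩ := (Algebra.FiniteType.iff_quotient_mvPolynomial'' (R := Γ((D.obj i).left, ⊤))
    (S := Γ(PicF.XT f (D.obj i), U))).1 inferInstance
  let gen : Fin N → Γ(PicF.XT f (D.obj i), U) := fun k => π (MvPolynomial.X k)
  have hgen : Function.Surjective (MvPolynomial.eval₂Hom (p.appLE ⊤ U le_top).hom gen) := fun a => by
    obtain ⟨P, rfl⟩ := hπ a
    refine ⟨P, ?_⟩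
    conv_rhs => rw [MvPolynomial.aeval_unique π]
    rfl
  let Uj : ∀ T : Over S, (T ⟶ D.obj i) → (PicF.XT f T : Scheme.{u}).Opens :=
    fun T g => (PicF.XTmap f g) ⁻¹ᵁ U
  let v : ∀ (T : Over S) (g : T ⟶ D.obj i), Fin N → Γ(PicF.XT f T, Uj T g) :=
    fun T g k => (PicF.XTmap f g).appLE U _ le_rfl (gen k)
  have hmem : ∀ (j : I) (φ : j ⟶ i), PicF.XTmap f (c.π.app j) s ∈ Uj _ (D.map φ) := fun j φ => by
    show PicF.XTmap f (D.map φ) (PicF.XTmap f (c.π.app j) s) ∈ U
    rw [← Scheme.Hom.comp_apply]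
    have : PicF.XTmap f (c.π.app j) ≫ PicF.XTmap f (D.map φ) = PicF.XTmap f (c.π.app i) := by
      rw [← c.w φ]; exact ((xtFunctor f).map_comp _ _).symm
    rw [this]; exact hxU
  have hv : ∀ {T T' : Over S} (g : T ⟶ D.obj i) (g' : T' ⟶ T) (k : Fin N)
      (e : Uj T' (g' ≫ g) ≤ PicF.XTmap f g' ⁻¹ᵁ Uj T g),
      (PicF.XTmap f g').appLE (Uj T g) (Uj T' (g' ≫ g)) e (v T g k) = v T' (g' ≫ g) k := by
    intro T T' g g' k e
    simp only [v]
    rw [← CommRingCat.comp_apply, Scheme.Hom.appLE_comp_appLE]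
    simp only [show PicF.XTmap f g' ≫ PicF.XTmap f g = PicF.XTmap f (g' ≫ g) from
      ((xtFunctor f).map_comp _ _).symm]
    rfl
  have hle : ∀ {T T' : Over S} (g : T ⟶ D.obj i) (g' : T' ⟶ T),
      Uj T' (g' ≫ g) ≤ PicF.XTmap f g' ⁻¹ᵁ Uj T g := fun g g' => by
    simp only [Uj, ← Scheme.Hom.comp_preimage]
    rw [show PicF.XTmap f g' ≫ PicF.XTmap f g = PicF.XTmap f (g' ≫ g) from
      ((xtFunctor f).map_comp _ _).symm]
  -- some tuple has no relation at any stage
  have hex : ∀ j : Over i, ∃ e : Fin n → Fin N, ResTrdegCons.NoRel (PicF.XTproj f (D.obj j.left))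
      (Uj _ (D.map j.hom)) (v _ (D.map j.hom) ∘ e) (PicF.XTmap f (c.π.app j.left) s) := fun j =>
    (ResTrdegCons.le_trdegAt_iff (PicF.XTproj f (D.obj j.left)) (hmem j.left j.hom) (v _ (D.map j.hom))
      (ResTrdegCons.adjoin_pullback_eq_top (U' := Uj _ (D.map j.hom)) le_rfl
        (FlatFunSheaf.isPullback_XTmap f (D.map j.hom)) hU gen hgen (hmem j.left j.hom))).1 (h j.left)
  obtain ⟨e, he⟩ : ∃ e : Fin n → Fin N, ∀ j : Over i, ResTrdegCons.NoRel (PicF.XTproj f (D.obj j.left))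
      (Uj _ (D.map j.hom)) (v _ (D.map j.hom) ∘ e) (PicF.XTmap f (c.π.app j.left) s) := by
    by_contra! H
    choose j hj using H
    obtain ⟨m, hm⟩ := IsCofiltered.inf_objs_exists (Finset.univ.image j)
    obtain ⟨e, he⟩ := hex m
    obtain ⟨ψ⟩ := hm (Finset.mem_image_of_mem j (Finset.mem_univ e))
    refine hj e ?_
    have hψ : D.map ψ.left ≫ D.map (j e).hom = D.map m.hom := by rw [← D.map_comp, Over.w]
    have hpt : PicF.XTmap f (D.map ψ.left) (PicF.XTmap f (c.π.app m.left) s) =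
        PicF.XTmap f (c.π.app (j e).left) s := by
      rw [← Scheme.Hom.comp_apply]
      rw [show PicF.XTmap f (c.π.app m.left) ≫ PicF.XTmap f (D.map ψ.left) =
        PicF.XTmap f (c.π.app (j e).left) by
          rw [← c.w ψ.left]; exact ((xtFunctor f).map_comp _ _).symm]
      rfl
    rw [← hpt]
    refine ResTrdegCons.noRel_of_pullback (FlatFunSheaf.isPullback_XTmap f (D.map ψ.left)).w
      (U' := Uj _ (D.map ψ.left ≫ D.map (j e).hom)) (hle _ _) _ ?_ ?_
    · rw [hψ]; exact hmem m.left m.hom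
    · simp only [Function.comp_apply, hv]
      rw [hψ]
      exact he
  -- at the limit
  let U' := Uj c.pt (c.π.app i)
  refine (ResTrdegCons.le_trdegAt_iff (PicF.XTproj f c.pt) (U := U') hxU (v c.pt (c.π.app i))
    (ResTrdegCons.adjoin_pullback_eq_top (U' := U') le_rfl
      (FlatFunSheaf.isPullback_XTmap f (c.π.app i)) hU gen hgen hxU)).2 ⟨e, fun P m hm => ?_⟩
  obtain ⟨j, Q, rfl⟩ := exists_lift_poly hc i P
  have hw := c.w j.hom
  have hU'eq : Uj c.pt (c.π.app j.left ≫ D.map j.hom) = U' := by rw [hw]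
  have sq := (FlatFunSheaf.isPullback_XTmap f (c.π.app j.left)).w
  have e0 : U' ≤ PicF.XTmap f (c.π.app j.left) ⁻¹ᵁ Uj _ (D.map j.hom) := hU'eq ▸ hle _ _
  have hcm := MvPolynomial.coeff_map (c.π.app j.left).left.appTop.hom Q m
  erw [hcm] at hm
  erw [← ResTrdegCons.appLE_coeff sq e0, ResTrdegCons.mem_basicOpen_appLE e0 hxU] at hm
  have hconcl := (ResTrdegCons.mem_basicOpen_appLE e0 hxU _).2 (he j Q m hm)
  erw [ResTrdegCons.appLE_eval₂ sq e0] at hconcl
  have hv' : ∀ k, (PicF.XTmap f (c.π.app j.left)).appLE (Uj _ (D.map j.hom)) U' e0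
      (v _ (D.map j.hom) k) = v c.pt (c.π.app i) k := by
    intro k
    simp only [v]
    rw [← CommRingCat.comp_apply, Scheme.Hom.appLE_comp_appLE]
    simp only [show PicF.XTmap f (c.π.app j.left) ≫ PicF.XTmap f (D.map j.hom) =
      PicF.XTmap f (c.π.app i) by rw [← hw]; exact ((xtFunctor f).map_comp _ _).symm]
    rfl
  simp only [Function.comp_apply, hv'] at hconcl
  exact hconcl

/-- Flatness in dimensions `≥ n` descends to a stage. -/
theorem exists_stage [QuasiCompact f] [LocallyOfFinitePresentation f] (F : X.Modules) [F.IsQuasicoherent]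
    (hF : CohB1.IsFP F) (n : ℕ)
    (h : FlatFun.DimFibresLT n (PicF.XTproj f c.pt)
      {x | ¬ FlatMod.IsFlatOverAt (PicF.XTproj f c.pt) (FGA.ET f F c.pt) x}) :
    ∃ i, FlatFun.DimFibresLT n (PicF.XTproj f (D.obj i))
      {x | ¬ FlatMod.IsFlatOverAt (PicF.XTproj f (D.obj i)) (FGA.ET f F (D.obj i)) x} := by
  by_contra! H
  have hne : ∀ i, (Bad f F n (D.obj i)).Nonempty := by
    intro i
    obtain ⟨x, hx, hlt⟩ : ∃ x, ¬ FlatMod.IsFlatOverAt (PicF.XTproj f (D.obj i)) (FGA.ET f F (D.obj i)) x ∧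
        ¬ Residue.trdegAt (PicF.XTproj f (D.obj i)) x < (n : Cardinal.{u}) := by
      by_contra! hall
      exact H i fun x hx => hall x hx
    exact ⟨x, hx, not_lt.1 hlt⟩
  obtain ⟨i₀⟩ := IsCofiltered.nonempty (C := I)
  have := isAffineHom_xt_transition (f := f) (D := D)
  have : CompactSpace ((D ⋙ xtFunctor f).obj i₀) := compactSpace_xt f (D.obj i₀)
  have hPC : ∀ i, LimTop.PC.IsPC (Bad f F n (D.obj i)) := fun i =>
    LimTop.PC.IsPC.inter (LimTop.PC.IsPC.of_isClosed (isOpen_flatLocus f F hF (D.obj i)).isClosed_compl)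
      (ResTrdegCons.isPC_le_trdegAt (PicF.XTproj f (D.obj i)) n)
  obtain ⟨s, hs⟩ := LimTop.Points.exists_mem (isLimitXT f hc) i₀ (fun j _ => Bad f F n (D.obj j))
    (fun j _ => hPC j) (fun j _ => hne j) (fun j k ψ _ => mapsTo_bad f F n (D.map ψ))
  have hall : ∀ j, PicF.XTmap f (c.π.app j) s ∈ Bad f F n (D.obj j) := fun j => by
    let k := IsCofiltered.min j i₀
    have h1 := mapsTo_bad f F n (D.map (IsCofiltered.minToLeft j i₀)) (hs k (IsCofiltered.minToRight j i₀))
    have h2 : PicF.XTmap f (c.π.app k) ≫ PicF.XTmap f (D.map (IsCofiltered.minToLeft j i₀)) =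
        PicF.XTmap f (c.π.app j) := by
      rw [← c.w (IsCofiltered.minToLeft j i₀)]; exact ((xtFunctor f).map_comp _ _).symm
    rw [← h2, Scheme.Hom.comp_apply]
    exact h1
  have hflat : FlatMod.IsFlatOverAt (PicF.XTproj f c.pt) (FGA.ET f F c.pt) s := by
    by_contra hns
    exact (h s hns).not_ge (le_trdegAt_of_forall hc fun j => (hall j).2)
  obtain ⟨j, hj⟩ := exists_stage_flatAt hc F hF hflat
  exact (hall j).1 hj

end Groth.Agent.Lib.Flat55.FlatDimLimit
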