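import Groth.Agent.H52.FDesc.BaseChangeFlat
import Groth.Agent.Lib.DerivedOX.PullbackStalk
import Mathlib.AlgebraicGeometry.Morphisms.Flat

/-!
# Flatness over a base at a point: isomorphisms, composition, base change
-/

set_option autoImplicit false

universe u

open CategoryTheory CategoryTheory.Limits AlgebraicGeometry TensorProduct

namespace Groth.Agent.Lib.Flat55.FlatOverAt

open Groth.Agent.H52.FDesc Groth.Agent.H52.FDesc.BaseChangeFlat

variable {X Y Z Y' : Scheme.{u}}

open Groth.Agent.Lib.DerivedOX.PullbackStalk Groth.Agent.Lib.Modules in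
/-- Pullback along a map which is flat at the point does not change flatness over a base. -/
theorem isFlatOverAt_pullback_iff (f : X ⟶ Y) (g : Y ⟶ Z) (G : Y.Modules) (x : X)
    (hfl : (f.stalkMap x).hom.Flat) :
    FlatMod.IsFlatOverAt (f ≫ g) ((Scheme.Modules.pullback f).obj G) x ↔
      FlatMod.IsFlatOverAt g G (f x) := by
  let A := Y.presheaf.stalk (f x)
  let B := X.presheaf.stalk x
  let R := Z.presheaf.stalk (g (f x))
  let _ : Algebra A B := (f.stalkMap x).hom.toAlgebra
  have : Module.Flat A B := hfl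
  have : IsLocalHom (algebraMap A B) := inferInstanceAs (IsLocalHom (f.stalkMap x).hom)
  have : Module.FaithfullyFlat A B := .of_flat_of_isLocalHom
  let W := G.presheaf.stalk (f x)
  let _ : Module R W := FlatMod.moduleStalkOver g G (f x)
  have : SMulCommClass R A W := ⟨fun r a w => by
    show (g.stalkMap (f x)).hom r • (a • w) = a • ((g.stalkMap (f x)).hom r • w)
    rw [smul_comm]⟩
  let ψ : R →+* B := (f.stalkMap x).hom.comp (g.stalkMap (f x)).hom
  let _ : Module R (B ⊗[A] W) := Module.compHom _ ψ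
  have hsmul : ∀ (r : R) (b : B) (w : W), r • (b ⊗ₜ[A] w) = b ⊗ₜ[A] (r • w) := fun r b w => by
    show (algebraMap A B ((g.stalkMap (f x)).hom r) • b) ⊗ₜ[A] w = _
    rw [algebraMap_smul, TensorProduct.smul_tmul]
    rfl
  let V := ((Scheme.Modules.pullback f).obj G).presheaf.stalk x
  let _ : Module R V := FlatMod.moduleStalkOver (f ≫ g) ((Scheme.Modules.pullback f).obj G) x
  let e : B ⊗[A] W ≃ₗ[B] V := ((pullbackStalkIso f x).app G).toLinearEquiv
  have hψ : ((f ≫ g).stalkMap x).hom = ψ := by
    rw [Scheme.Hom.stalkMap_comp]; rfl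
  let eR : (B ⊗[A] W) ≃ₗ[R] V :=
    { e with
      map_smul' := fun r z => by
        show e (ψ r • z) = ((f ≫ g).stalkMap x).hom r • e z
        rw [map_smul, hψ]; rfl }
  show Module.Flat R V ↔ Module.Flat R W
  rw [← PullbackFlat.flat_tensor_iff (R := R) (A := A) (B := B) (G := W) hsmul]
  exact ⟨fun _ => Module.Flat.of_linearEquiv eR, fun _ => Module.Flat.of_linearEquiv eR.symm⟩

theorem of_comp (f : X ⟶ Y) (g : Y ⟶ Z) (M : X.Modules) (x : X) (hg : (g.stalkMap (f x)).hom.Flat)
    (h : FlatMod.IsFlatOverAt f M x) : FlatMod.IsFlatOverAt (f ≫ g) M x := by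
  let _ : Module (Y.presheaf.stalk (f x)) (M.presheaf.stalk x) := FlatMod.moduleStalkOver f M x
  let _ : Module (Z.presheaf.stalk (g (f x))) (M.presheaf.stalk x) :=
    FlatMod.moduleStalkOver (f ≫ g) M x
  let _ : Algebra (Z.presheaf.stalk (g (f x))) (Y.presheaf.stalk (f x)) := (g.stalkMap (f x)).hom.toAlgebra
  have : IsScalarTower (Z.presheaf.stalk (g (f x))) (Y.presheaf.stalk (f x)) (M.presheaf.stalk x) :=
    ⟨fun r a m => by
      show (f.stalkMap x).hom ((g.stalkMap (f x)).hom r * a) • m =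
        ((f ≫ g).stalkMap x).hom r • (f.stalkMap x).hom a • m
      rw [map_mul, mul_smul, Scheme.Hom.stalkMap_comp]
      rfl⟩
  have : Module.Flat (Y.presheaf.stalk (f x)) (M.presheaf.stalk x) := h
  have : Module.Flat (Z.presheaf.stalk (g (f x))) (Y.presheaf.stalk (f x)) := hg
  exact Module.Flat.trans (Z.presheaf.stalk (g (f x))) (Y.presheaf.stalk (f x)) _

/-- Flatness over the base at a point only depends on the isomorphism class of the module. -/
theorem of_iso (f : X ⟶ Y) {M N : X.Modules} (e : M ≅ N) (x : X) (h : FlatMod.IsFlatOverAt f M x) :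
    FlatMod.IsFlatOverAt f N x := by
  let _ : Module (Y.presheaf.stalk (f x)) (M.presheaf.stalk x) := FlatMod.moduleStalkOver f M x
  let _ : Module (Y.presheaf.stalk (f x)) (N.presheaf.stalk x) := FlatMod.moduleStalkOver f N x
  let ε := Groth.Agent.Lib.Modules.StalkModule.stalkLinearEquiv e x
  let ε' : (M.presheaf.stalk x) ≃ₗ[Y.presheaf.stalk (f x)] (N.presheaf.stalk x) :=
    { ε with
      map_smul' := fun r z => by
        exact ε.map_smul ((f.stalkMap x).hom r) z }
  have : Module.Flat (Y.presheaf.stalk (f x)) (M.presheaf.stalk x) := h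
  exact Module.Flat.of_linearEquiv ε'.symm

set_option maxHeartbeats 1000000 in
/-- The base change of a morphism flat at a point is flat at the points over it. -/
theorem flat_stalkMap_snd {X Y Y' : Scheme.{u}} (f : X ⟶ Y) (g : Y' ⟶ Y) (x' : ↥(pullback f g))
    (h : (f.stalkMap (pullback.fst f g x')).hom.Flat) :
    ((pullback.snd f g).stalkMap x').hom.Flat := by
  let p := pullback.fst f g
  let q := pullback.snd f g
  let R := Y.presheaf.stalk (f (p x'))
  let A := X.presheaf.stalk (p x')
  let S := Y'.presheaf.stalk (q x')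
  let L := (pullback f g).presheaf.stalk x'
  have hyy : g (q x') ⤳ f (p x') := by
    rw [← Scheme.Hom.comp_apply, ← Scheme.Hom.comp_apply, pullback.condition]
  let φ : R ⟶ A := f.stalkMap (p x')
  let ψ : R ⟶ S := Y.presheaf.stalkSpecializes hyy ≫ g.stalkMap (q x')
  let πA : A ⟶ L := p.stalkMap x'
  let πS : S ⟶ L := q.stalkMap x'
  have hψ : Spec.map ψ ≫ Y.fromSpecStalk (f (p x')) = Y'.fromSpecStalk (q x') ≫ g := by
    rw [Spec.map_comp, Category.assoc, Scheme.SpecMap_stalkSpecializes_fromSpecStalk,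
      Scheme.SpecMap_stalkMap_fromSpecStalk]
  have hcomm : φ ≫ πA = ψ ≫ πS := by
    apply Spec.map_injective
    rw [← cancel_mono (Y.fromSpecStalk (f (p x'))), Spec.map_comp, Spec.map_comp, Category.assoc,
      Category.assoc, hψ, Scheme.SpecMap_stalkMap_fromSpecStalk, ← Category.assoc, ← Category.assoc,
      Scheme.SpecMap_stalkMap_fromSpecStalk, Scheme.SpecMap_stalkMap_fromSpecStalk,
      Category.assoc, Category.assoc, pullback.condition]
  let _ : Algebra R A := φ.hom.toAlgebra
  let _ : Algebra R S := ψ.hom.toAlgebra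
  let _ : Algebra A L := πA.hom.toAlgebra
  let _ : Algebra R L := (πA.hom.comp φ.hom).toAlgebra
  have : IsScalarTower R A L := IsScalarTower.of_algebraMap_eq fun _ => rfl
  let iS : S →ₐ[R] L :=
    { πS.hom with commutes' := fun r => (congr($(hcomm).hom r)).symm }
  let θ : A ⊗[R] S →ₐ[A] L :=
    Algebra.TensorProduct.lift (Algebra.ofId A L) iS fun _ _ => Commute.all _ _
  let _ : Algebra (A ⊗[R] S) L := θ.toRingHom.toAlgebra
  have : IsScalarTower A (A ⊗[R] S) L := IsScalarTower.of_algebraMap_eq fun a => (θ.commutes a).symm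
  -- the flatness of `θ`
  let inl : Spec (CommRingCat.of (A ⊗[R] S)) ⟶ Spec A :=
    Spec.map (CommRingCat.ofHom (Algebra.TensorProduct.includeLeftRingHom : A →+* A ⊗[R] S))
  let inr : Spec (CommRingCat.of (A ⊗[R] S)) ⟶ Spec S :=
    Spec.map (CommRingCat.ofHom (Algebra.TensorProduct.includeRight : S →ₐ[R] A ⊗[R] S).toRingHom)
  have hin : inl ≫ Spec.map φ = inr ≫ Spec.map ψ := by
    refine (Spec.map_comp φ _).symm.trans ((congrArg Spec.map ?_).trans (Spec.map_comp ψ _))
    ext r
    exact Algebra.TensorProduct.tmul_one_eq_one_tmul (A := A) (B := S) r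
  let j : Spec (CommRingCat.of (A ⊗[R] S)) ⟶ pullback f g :=
    pullback.lift (inl ≫ X.fromSpecStalk (p x')) (inr ≫ Y'.fromSpecStalk (q x')) (by
      rw [Category.assoc, Category.assoc, ← Scheme.SpecMap_stalkMap_fromSpecStalk, ← hψ,
        ← Category.assoc, hin, Category.assoc])
  have hj : Mono j := ⟨fun {W} u v huv => by
    have h1 := congr($huv ≫ pullback.fst f g)
    have h2 := congr($huv ≫ pullback.snd f g)
    simp only [Category.assoc, j, pullback.lift_fst, pullback.lift_snd] at h1 h2
    rw [← Category.assoc, ← Category.assoc, cancel_mono] at h1 h2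
    rw [← cancel_mono (pullbackSpecIso R A S).inv]
    ext1 <;> rw [Category.assoc, Category.assoc]
    · rw [pullbackSpecIso_inv_fst]; exact h1
    · rw [pullbackSpecIso_inv_snd]; exact h2⟩
  let a : Spec L ⟶ Spec (CommRingCat.of (A ⊗[R] S)) :=
    Spec.map (CommRingCat.ofHom θ.toRingHom : CommRingCat.of (A ⊗[R] S) ⟶ L)
  have haj : a ≫ j = (pullback f g).fromSpecStalk x' := by
    have hA : a ≫ inl = Spec.map πA := by
      refine (Spec.map_comp (_ : A ⟶ CommRingCat.of (A ⊗[R] S)) _).symm.trans (congrArg Spec.map ?_)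
      ext z; show θ (z ⊗ₜ 1) = πA.hom z; simp [θ]; rfl
    have hS : a ≫ inr = Spec.map πS := by
      refine (Spec.map_comp (_ : S ⟶ CommRingCat.of (A ⊗[R] S)) _).symm.trans (congrArg Spec.map ?_)
      ext z; show θ (1 ⊗ₜ z) = πS.hom z; simp [θ, iS]
    apply pullback.hom_ext
    · rw [Category.assoc, pullback.lift_fst, ← Category.assoc, hA,
        Scheme.SpecMap_stalkMap_fromSpecStalk]
    · rw [Category.assoc, pullback.lift_snd, ← Category.assoc, hS,
        Scheme.SpecMap_stalkMap_fromSpecStalk]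
  have : Flat a := MorphismProperty.of_isPullback (P := @Flat)
    (isPullback_of_mono a j _ haj).flip (Groth.Agent.H52.FBase.StalkBC.flat_fromSpecStalk x')
  have : Module.Flat (A ⊗[R] S) L := (HasRingHomProperty.Spec_iff (P := @Flat)).mp this
  have : Module.Flat R A := h
  have hθ : θ.toRingHom.Flat := RingHom.flat_algebraMap_iff.2 ‹Module.Flat (A ⊗[R] S) L›
  have hι : (Algebra.TensorProduct.includeRight : S →ₐ[R] A ⊗[R] S).toRingHom.Flat := by
    have h1 : (algebraMap R A).Flat := RingHom.flat_algebraMap_iff.2 ‹_›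
    have h2 : Module.Flat S (S ⊗[R] A) := inferInstance
    exact (RingHom.flat_algebraMap_iff.2 h2).comp
      (RingHom.Flat.of_bijective (Algebra.TensorProduct.comm R S A).bijective)
  have e : (q.stalkMap x').hom =
      θ.toRingHom.comp (Algebra.TensorProduct.includeRight : S →ₐ[R] A ⊗[R] S).toRingHom := by
    ext z
    show πS.hom z = θ (1 ⊗ₜ z)
    simp [θ, iS]
  rw [e]
  exact hι.comp hθ

theorem flat_stalkMap_iso_comp {P Q R : Scheme.{u}} (a : P ⟶ Q) [IsIso a] (b : Q ⟶ R) (c : P ⟶ R)
    (hc : a ≫ b = c) (z : P) (h : (b.stalkMap (a z)).hom.Flat) : (c.stalkMap z).hom.Flat := by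
  subst hc
  have h2 : (a.stalkMap z).hom.Flat :=
    RingHom.Flat.of_bijective (ConcreteCategory.bijective_of_isIso _)
  rw [Scheme.Hom.stalkMap_comp]
  exact h.comp h2

theorem flat_stalkMap_fst {X Y Y' : Scheme.{u}} (f : X ⟶ Y) (g : Y' ⟶ Y) (x' : ↥(pullback f g))
    (h : (g.stalkMap (pullback.snd f g x')).hom.Flat) :
    ((pullback.fst f g).stalkMap x').hom.Flat := by
  have hp : pullback.snd f g x' = pullback.fst g f ((pullbackSymmetry f g).hom x') := by
    rw [← Scheme.Hom.comp_apply, pullbackSymmetry_hom_comp_fst]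
  have h1 := flat_stalkMap_snd g f ((pullbackSymmetry f g).hom x') (hp ▸ h)
  exact flat_stalkMap_iso_comp (pullbackSymmetry f g).hom (pullback.snd g f) _
    (pullbackSymmetry_hom_comp_snd f g) x' h1

section Square

variable {X S X' S' : Scheme.{u}} (f : X ⟶ S) (f' : X' ⟶ S') (g' : X' ⟶ X) (g : S' ⟶ S)
  (hc : IsPullback g' f' f g) (F : X.Modules) (x' : X')

include hc

theorem flat_stalkMap_of_isPullback (hg : (g.stalkMap (f' x')).hom.Flat) : (g'.stalkMap x').hom.Flat := by
  have h0 : f' x' = pullback.snd f g (hc.isoPullback.hom x') := by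
    rw [← Scheme.Hom.comp_apply, hc.isoPullback_hom_snd]
  have h1 := flat_stalkMap_fst f g (hc.isoPullback.hom x') (h0 ▸ hg)
  exact flat_stalkMap_iso_comp hc.isoPullback.hom (pullback.fst f g) _ hc.isoPullback_hom_fst x' h1

theorem isFlatOverAt_baseChange (h : FlatMod.IsFlatOverAt f F (g' x')) :
    FlatMod.IsFlatOverAt f' ((Scheme.Modules.pullback g').obj F) x' := by
  have h0 : g' x' = pullback.fst f g (hc.isoPullback.hom x') := by
    rw [← Scheme.Hom.comp_apply, hc.isoPullback_hom_fst]
  have h1 := BaseChangeFlat.isFlatOverAt_baseChange f g F (hc.isoPullback.hom x') (h0 ▸ h)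
  have h2 := (PullbackFlat.isFlatOverAt_pullback_iff hc.isoPullback.hom (pullback.snd f g) _ x').2 h1
  rw [hc.isoPullback_hom_snd] at h2
  exact of_iso f' ((Scheme.Modules.pullbackComp hc.isoPullback.hom (pullback.fst f g)).app F ≪≫
    (Scheme.Modules.pullbackCongr hc.isoPullback_hom_fst).app F) x' h2

theorem isFlatOverAt_of_baseChange (hg : (g.stalkMap (f' x')).hom.Flat)
    (h : FlatMod.IsFlatOverAt f' ((Scheme.Modules.pullback g').obj F) x') :
    FlatMod.IsFlatOverAt f F (g' x') := by
  have h1 := of_comp f' g _ x' hg h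
  rw [← hc.w] at h1
  exact (isFlatOverAt_pullback_iff g' f F x' (flat_stalkMap_of_isPullback f f' g' g hc x' hg)).1 h1

end Square

end Groth.Agent.Lib.Flat55.FlatOverAt
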