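import Groth.Prelude.Def_FlatFun
import Groth.Prelude.Def_FlatMod2
import Groth.Prelude.Def_PicGrp2
import Groth.Agent.Lib.Flat55.FlatOverAt

/-!
# Flattening functors as fpqc sheaves; pullback of maps of modules along flat covers
-/

set_option autoImplicit false

universe u

open CategoryTheory CategoryTheory.Limits AlgebraicGeometry Opposite TensorProduct
open Groth.Agent.Lib.Modules.StalkModule

namespace Groth.Agent.Lib.Flat55.FlatFunSheaf

section General

variable {C : Type*} [Category C] {D : Type*} [Category D] {E : Type*} [Category E]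
  {F : C ⥤ D} {G : D ⥤ E} {H : C ⥤ E}

theorem prop_map_map_iff' (e : F ⋙ G ≅ H) {Q : MorphismProperty E} [Q.RespectsIso] {A B : C}
    (u : A ⟶ B) : Q (G.map (F.map u)) ↔ Q (H.map u) :=
  Q.arrow_mk_iso_iff (Arrow.isoMk (e.app A) (e.app B) (e.hom.naturality u).symm)

theorem map_map_eq_zero_iff [HasZeroMorphisms E] (e : F ⋙ G ≅ H) {A B : C} (u : A ⟶ B) :
    G.map (F.map u) = 0 ↔ H.map u = 0 := by
  have h : e.inv.app A ≫ G.map (F.map u) ≫ e.hom.app B = H.map u := by
    rw [← Functor.comp_map, e.hom.naturality, ← Category.assoc, Iso.inv_hom_id_app, Category.id_comp]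
  exact ⟨fun h0 => by rw [← h, h0, zero_comp, comp_zero], fun h0 => by
    rwa [h0, ← IsIso.eq_inv_comp, comp_zero, ← IsIso.eq_comp_inv, zero_comp] at h⟩

end General

section Stalk

variable {X' X : Scheme.{u}} (a : X' ⟶ X) {F G : X.Modules} (u : F ⟶ G)

/-- The stalk of a pullback of a map of modules is the base change of the stalk map. -/
theorem exists_stalk_pullback_map (x : X') :
    letI := (a.stalkMap x).hom.toAlgebra
    ∃ (eF : (X'.presheaf.stalk x) ⊗[X.presheaf.stalk (a x)] (F.presheaf.stalk (a x)) →+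
        ((Scheme.Modules.pullback a).obj F).presheaf.stalk x)
      (eG : (X'.presheaf.stalk x) ⊗[X.presheaf.stalk (a x)] (G.presheaf.stalk (a x)) →+
        ((Scheme.Modules.pullback a).obj G).presheaf.stalk x),
      Function.Bijective eF ∧ Function.Bijective eG ∧
      ∀ z, stalkMapₗ ((Scheme.Modules.pullback a).map u) x (eF z) =
        eG ((stalkMapₗ u (a x)).lTensor (X'.presheaf.stalk x) z) := by
  let _ := (a.stalkMap x).hom.toAlgebra
  let e := DerivedOX.PullbackStalk.pullbackStalkIso a x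
  let eF := (e.app F).toLinearEquiv
  let eG := (e.app G).toLinearEquiv
  exact ⟨eF.toLinearMap.toAddMonoidHom, eG.toLinearMap.toAddMonoidHom, eF.bijective, eG.bijective,
    fun z => (ConcreteCategory.congr_hom (e.hom.naturality u) z).symm⟩

theorem injective_pullback (x : X') (h : (a.stalkMap x).hom.Flat) :
    Function.Injective (stalkMapₗ ((Scheme.Modules.pullback a).map u) x) ↔
      Function.Injective (stalkMapₗ u (a x)) := by
  let _ := (a.stalkMap x).hom.toAlgebra
  have : Module.Flat (X.presheaf.stalk (a x)) (X'.presheaf.stalk x) := h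
  have : IsLocalHom (algebraMap (X.presheaf.stalk (a x)) (X'.presheaf.stalk x)) :=
    inferInstanceAs (IsLocalHom (a.stalkMap x).hom)
  have : Module.FaithfullyFlat (X.presheaf.stalk (a x)) (X'.presheaf.stalk x) :=
    .of_flat_of_isLocalHom
  obtain ⟨eF, eG, hF, hG, hu⟩ := exists_stalk_pullback_map a u x
  rw [← Module.FaithfullyFlat.lTensor_injective_iff_injective (X.presheaf.stalk (a x))
    (X'.presheaf.stalk x) (stalkMapₗ u (a x)), ← Function.Injective.of_comp_iff' _ hF,
    ← hG.1.of_comp_iff]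
  exact iff_of_eq (congrArg Function.Injective (funext hu))

theorem surjective_pullback (x : X') (h : (a.stalkMap x).hom.Flat) :
    Function.Surjective (stalkMapₗ ((Scheme.Modules.pullback a).map u) x) ↔
      Function.Surjective (stalkMapₗ u (a x)) := by
  let _ := (a.stalkMap x).hom.toAlgebra
  have : Module.Flat (X.presheaf.stalk (a x)) (X'.presheaf.stalk x) := h
  have : IsLocalHom (algebraMap (X.presheaf.stalk (a x)) (X'.presheaf.stalk x)) :=
    inferInstanceAs (IsLocalHom (a.stalkMap x).hom)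
  have : Module.FaithfullyFlat (X.presheaf.stalk (a x)) (X'.presheaf.stalk x) :=
    .of_flat_of_isLocalHom
  obtain ⟨eF, eG, hF, hG, hu⟩ := exists_stalk_pullback_map a u x
  rw [← Module.FaithfullyFlat.lTensor_surjective_iff_surjective (X.presheaf.stalk (a x))
    (X'.presheaf.stalk x) (stalkMapₗ u (a x)), ← Function.Surjective.of_comp_iff _ hF.2,
    ← Function.Surjective.of_comp_iff' hG]
  exact iff_of_eq (congrArg Function.Surjective (funext hu))

theorem eq_zero_pullback (x : X') (h : (a.stalkMap x).hom.Flat) :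
    stalkMapₗ ((Scheme.Modules.pullback a).map u) x = 0 ↔ stalkMapₗ u (a x) = 0 := by
  let _ := (a.stalkMap x).hom.toAlgebra
  have : Module.Flat (X.presheaf.stalk (a x)) (X'.presheaf.stalk x) := h
  have : IsLocalHom (algebraMap (X.presheaf.stalk (a x)) (X'.presheaf.stalk x)) :=
    inferInstanceAs (IsLocalHom (a.stalkMap x).hom)
  have : Module.FaithfullyFlat (X.presheaf.stalk (a x)) (X'.presheaf.stalk x) :=
    .of_flat_of_isLocalHom
  obtain ⟨eF, eG, hF, hG, hu⟩ := exists_stalk_pullback_map a u x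
  rw [Module.FaithfullyFlat.zero_iff_lTensor_zero (X.presheaf.stalk (a x)) (X'.presheaf.stalk x)
    (stalkMapₗ u (a x))]
  constructor
  · intro h0
    refine LinearMap.ext fun z => hG.1 ?_
    rw [← hu, h0, LinearMap.zero_apply, LinearMap.zero_apply, map_zero]
  · intro h0
    refine LinearMap.ext fun w => ?_
    obtain ⟨z, rfl⟩ := hF.2 w
    rw [hu, h0, LinearMap.zero_apply, LinearMap.zero_apply, map_zero]

theorem pullback_map_eq_zero (h : u = 0) : (Scheme.Modules.pullback a).map u = 0 := by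
  refine hom_ext_stalkMapₗ fun x => ?_
  obtain ⟨eF, eG, hF, -, hu⟩ := exists_stalk_pullback_map a u x
  subst h
  refine LinearMap.ext fun w => ?_
  obtain ⟨z, rfl⟩ := hF.2 w
  rw [hu, stalkMapₗ_zero, LinearMap.lTensor_zero, stalkMapₗ_zero, LinearMap.zero_apply,
    LinearMap.zero_apply, map_zero]

end Stalk

section Cover

variable {X : Scheme.{u}} {ι : Type*} {X' : ι → Scheme.{u}} (a : ∀ i, X' i ⟶ X)
  (hfl : ∀ i, Flat (a i)) (hsurj : ∀ x : X, ∃ i, ∃ x' : X' i, a i x' = x)
  {F G : X.Modules} (u : F ⟶ G)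

include hfl hsurj

theorem mono_iff_pullback : Mono u ↔ ∀ i, Mono ((Scheme.Modules.pullback (a i)).map u) := by
  simp only [mono_iff_stalkMapₗ_injective]
  refine ⟨fun h i x => ?_, fun h x => ?_⟩
  · have := hfl i
    exact (injective_pullback (a i) u x (Flat.stalkMap _ x)).2 (h _)
  · obtain ⟨i, x', rfl⟩ := hsurj x
    have := hfl i
    exact (injective_pullback (a i) u x' (Flat.stalkMap _ x')).1 (h i x')

theorem epi_of_pullback (h : ∀ i, Epi ((Scheme.Modules.pullback (a i)).map u)) : Epi u := by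
  rw [epi_iff_stalkMapₗ_surjective]
  intro x
  obtain ⟨i, x', rfl⟩ := hsurj x
  have := hfl i
  exact (surjective_pullback (a i) u x' (Flat.stalkMap _ x')).1
    ((epi_iff_stalkMapₗ_surjective _).1 (h i) x')

theorem isIso_of_pullback (h : ∀ i, IsIso ((Scheme.Modules.pullback (a i)).map u)) : IsIso u := by
  rw [isIso_iff_stalkMapₗ_bijective]
  intro x
  obtain ⟨i, x', rfl⟩ := hsurj x
  have := hfl i
  have h' := (isIso_iff_stalkMapₗ_bijective _).1 (h i) x'
  exact ⟨(injective_pullback (a i) u x' (Flat.stalkMap _ x')).1 h'.1,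
    (surjective_pullback (a i) u x' (Flat.stalkMap _ x')).1 h'.2⟩

theorem eq_zero_of_pullback (h : ∀ i, (Scheme.Modules.pullback (a i)).map u = 0) : u = 0 := by
  refine hom_ext_stalkMapₗ fun x => ?_
  rw [stalkMapₗ_zero]
  obtain ⟨i, x', rfl⟩ := hsurj x
  have := hfl i
  exact (eq_zero_pullback (a i) u x' (Flat.stalkMap _ x')).1 (by rw [h i, stalkMapₗ_zero])

end Cover

section Functor

variable {S : Scheme.{u}}

/-- A flattening functor whose condition is stable and local for fpqc coverings is an fpqc sheaf. -/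
theorem isSheaf_genPSp (P : Over S → Prop) (hP : ∀ ⦃T T₀ : Over S⦄ (_ : T ⟶ T₀), P T₀ → P T)
    (hloc : ∀ (T : Over S) {ι : Type (u + 1)} (Ti : ι → Over S) (g : ∀ i, Ti i ⟶ T),
      (∀ i, Flat (g i).left) → (∀ t : T.left, ∃ i, ∃ t', (g i).left t' = t) →
      (∀ i, P (Ti i)) → P T) :
    Presheaf.IsSheaf (QuotSh.J Scheme.fpqcPrecoverage S) (FlatFun.genPSp S P) := by
  rw [isSheaf_iff_isSheaf_of_type]
  intro T R hR x hx
  rw [GrothendieckTopology.mem_over_iff,
    Precoverage.mem_toGrothendieck_iff_of_isStableUnderComposition] at hR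
  obtain ⟨R₀, hR₀, hle⟩ := hR
  obtain ⟨ι, Z, f, rfl⟩ := R₀.exists_eq_ofArrows
  obtain ⟨hsurj, hfl⟩ := (Scheme.ofArrows_mem_precoverage_iff _).1
    (Scheme.propQCPrecoverage_le_precoverage (T.left) hR₀)
  have hmem : ∀ i, R.arrows (Over.homMk (f i) : Over.mk (f i ≫ T.hom) ⟶ T) := fun i =>
    (Sieve.overEquiv_iff _ _).1 (hle _ _ ⟨i⟩)
  have hT : P T := hloc T (fun i => Over.mk (f i ≫ T.hom)) (fun i => Over.homMk (f i)) hfl
    (fun t => by obtain ⟨i, t', ht'⟩ := hsurj t; exact ⟨i, t', ht'⟩)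
    (fun i => (FlatFun.genPSp_nonempty_iff_of_stable P hP _).1 ⟨x _ (hmem i)⟩)
  obtain ⟨t⟩ := FlatFun.genPSp_nonempty_of P hT
  refine ⟨t, fun _ _ _ => Subsingleton.elim _ _, fun _ _ => Subsingleton.elim _ _⟩

end Functor

section BaseChange

variable {X S : Scheme.{u}} (f : X ⟶ S)

theorem isPullback_XTmap {T T' : Over S} (g : T' ⟶ T) :
    IsPullback (PicF.XTmap f g) (PicF.XTproj f T') (PicF.XTproj f T) g.left := by
  refine IsPullback.of_right ?_ (XTmap_XTproj' f g) (IsPullback.of_hasPullback f T.hom)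
  rw [FGA.XTmap_fst, Over.w g]
  exact IsPullback.of_hasPullback f T'.hom
where
  XTmap_XTproj' {X S : Scheme.{u}} (f : X ⟶ S) {T T' : Over S} (g : T' ⟶ T) :
      PicF.XTmap f g ≫ PicF.XTproj f T = PicF.XTproj f T' ≫ g.left := by
    simp only [PicF.XTmap, PicF.XTproj, pullback.map, pullback.lift_snd]

theorem flat_XTmap {T T' : Over S} (g : T' ⟶ T) [Flat g.left] : Flat (PicF.XTmap f g) :=
  MorphismProperty.of_isPullback (isPullback_XTmap f g).flip ‹_›

theorem exists_XTmap_eq {T : Over S} {ι : Type*} {Ti : ι → Over S} (g : ∀ i, Ti i ⟶ T)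
    (hsurj : ∀ t : T.left, ∃ i, ∃ t', (g i).left t' = t) (x : (PicF.XT f T : Scheme.{u})) :
    ∃ i, ∃ x', PicF.XTmap f (g i) x' = x := by
  obtain ⟨i, t', ht⟩ := hsurj (PicF.XTproj f T x)
  have sq := isPullback_XTmap f (g i)
  obtain ⟨z, hz, -⟩ := Scheme.Pullback.exists_preimage_pullback (f := PicF.XTproj f T)
    (g := (g i).left) x t' ht.symm
  refine ⟨i, sq.isoPullback.inv z, ?_⟩
  rw [← Scheme.Hom.comp_apply, sq.isoPullback_inv_fst, hz]

/-- Base change of `F` to `T` and then to `T'` is base change to `T'`, naturally in `F`. -/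
noncomputable def pullbackXTIso {T T' : Over S} (g : T' ⟶ T) :
    Scheme.Modules.pullback (pullback.fst f T.hom) ⋙ Scheme.Modules.pullback (PicF.XTmap f g) ≅
      Scheme.Modules.pullback (pullback.fst f T'.hom) :=
  Scheme.Modules.pullbackComp (PicF.XTmap f g) (pullback.fst f T.hom) ≪≫
    Scheme.Modules.pullbackCongr (FGA.XTmap_fst f g)

theorem prop_map_map_iff {T' : Over S} {Q : MorphismProperty (PicF.XT f T' : Scheme.{u}).Modules} [Q.RespectsIso]
    {F G : X.Modules} (u : F ⟶ G) {T : Over S} (g : T' ⟶ T) :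
    Q ((Scheme.Modules.pullback (PicF.XTmap f g)).map
        ((Scheme.Modules.pullback (pullback.fst f T.hom)).map u)) ↔
      Q ((Scheme.Modules.pullback (pullback.fst f T'.hom)).map u) :=
  prop_map_map_iff' (pullbackXTIso f g) u

theorem isFlatOver_baseChange (F : X.Modules) {T T' : Over S} (g : T' ⟶ T)
    (h : FlatMod.IsFlatOver (PicF.XTproj f T) (FGA.ET f F T)) :
    FlatMod.IsFlatOver (PicF.XTproj f T') (FGA.ET f F T') := fun x =>
  FlatOverAt.of_iso _ (FGA.ETiso f F g) x (FlatOverAt.isFlatOverAt_baseChange _ _ _ _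
    (isPullback_XTmap f g) _ x (h _))

theorem isFlatOverAt_of_cover (F : X.Modules) {T T' : Over S} (g : T' ⟶ T) [Flat g.left]
    (x : (PicF.XT f T' : Scheme.{u}))
    (h : FlatMod.IsFlatOverAt (PicF.XTproj f T') (FGA.ET f F T') x) :
    FlatMod.IsFlatOverAt (PicF.XTproj f T) (FGA.ET f F T) (PicF.XTmap f g x) :=
  FlatOverAt.isFlatOverAt_of_baseChange _ _ _ _ (isPullback_XTmap f g) _ x (Flat.stalkMap _ _)
    (FlatOverAt.of_iso _ (FGA.ETiso f F g).symm x h)

end BaseChange

end Groth.Agent.Lib.Flat55.FlatFunSheaf
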