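import Groth.Agent.Lib.Flat55.Localized
import Groth.Agent.Lib.Flat55.QCohFP
import Groth.Prelude.Def_FlatMod2
import Mathlib.AlgebraicGeometry.Morphisms.FinitePresentation
import Mathlib.AlgebraicGeometry.Morphisms.FiniteType
import Mathlib.RingTheory.RingHom.Flat

/-!
# The criterion of flatness by fibres for morphisms of schemes and finitely presented modules
-/

set_option autoImplicit false

universe u

open CategoryTheory AlgebraicGeometry Opposite TopologicalSpace

namespace Groth.Agent.Lib.Flat55.FibrewiseScheme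

open Groth.Agent.Lib

variable {X Y S : Scheme.{u}}

theorem germ_appLE (f : X ⟶ Y) {V : Y.Opens} {U : X.Opens} (e : U ≤ f ⁻¹ᵁ V) {x : X} (hx : x ∈ U)
    (s : Γ(Y, V)) :
    f.stalkMap x (Y.presheaf.germ V (f x) (e hx) s) = X.presheaf.germ U x hx (f.appLE V U e s) := by
  rw [Scheme.Hom.germ_stalkMap_apply]
  exact (TopCat.Presheaf.germ_res_apply X.presheaf (homOfLE e) x hx (f.app V s)).symm

theorem flat_congr {R N : Type*} [CommRing R] [AddCommGroup N] (i₁ i₂ : Module R N)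
    (h : ∀ (r : R) (n : N), (letI := i₁; r • n) = (letI := i₂; r • n))
    (hf : @Module.Flat R N _ _ i₂) : @Module.Flat R N _ _ i₁ := by
  rw [Module.ext' i₁ i₂ h]
  exact hf

set_option maxHeartbeats 400000 in
/-- The criterion of flatness by fibres at a point. -/
theorem flat_at_of_fibre (f : X ⟶ Y) (g : Y ⟶ S) [LocallyOfFinitePresentation (f ≫ g)]
    [LocallyOfFiniteType g] (M : X.Modules) [M.IsQuasicoherent]
    [SheafOfModules.IsFinitePresentation (R := X.ringCatSheaf) M] (x : X)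
    (h1 : FlatMod.IsFlatOverAt (f ≫ g) M x)
    (h2 : letI := FlatMod.moduleStalkOver f M x
      Module.Flat (↑(Y.presheaf.stalk (f x)) ⧸ Ideal.map (g.stalkMap (f x)).hom (IsLocalRing.maximalIdeal ↑(S.presheaf.stalk (g (f x)))))
        (↑(M.presheaf.stalk x) ⧸ (Ideal.map (g.stalkMap (f x)).hom (IsLocalRing.maximalIdeal ↑(S.presheaf.stalk (g (f x)))) •
          (⊤ : Submodule ↑(Y.presheaf.stalk (f x)) ↑(M.presheaf.stalk x))))) :
    FlatMod.IsFlatOverAt f M x ∧
      (Nontrivial ↑(M.presheaf.stalk x) → (g.stalkMap (f x)).hom.Flat) := by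
  obtain ⟨W, hW, hsW, -⟩ := exists_isAffineOpen_mem_and_subset (X := S) (x := g (f x)) (U := ⊤) trivial
  obtain ⟨V, hV, hyV, hVW⟩ := exists_isAffineOpen_mem_and_subset (X := Y) (x := f x) (U := g ⁻¹ᵁ W) hsW
  obtain ⟨U, hU, hxU, hUV, hfp⟩ := QCohFP.exists_affine_le M x (f ⁻¹ᵁ V) hyV
  let φ : Γ(S, W) →+* Γ(Y, V) := (g.appLE W V hVW).hom
  let ψ : Γ(Y, V) →+* Γ(X, U) := (f.appLE V U hUV).hom
  let : Algebra Γ(S, W) Γ(Y, V) := φ.toAlgebra
  let : Algebra Γ(Y, V) Γ(X, U) := ψ.toAlgebra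
  let : Algebra Γ(S, W) Γ(X, U) := (ψ.comp φ).toAlgebra
  have : IsScalarTower Γ(S, W) Γ(Y, V) Γ(X, U) := .of_algebraMap_eq fun _ ↦ rfl
  have : Algebra.FiniteType Γ(S, W) Γ(Y, V) :=
    HasRingHomProperty.appLE @LocallyOfFiniteType g inferInstance ⟨W, hW⟩ ⟨V, hV⟩ hVW
  have hUW : U ≤ (f ≫ g) ⁻¹ᵁ W := fun z hz ↦ hVW (hUV hz)
  have hcomp : ((f ≫ g).appLE W U hUW).hom = ψ.comp φ := by
    rw [← Scheme.Hom.appLE_comp_appLE (g := g) f (e₁ := hVW) (e₂ := hUV)]
    rfl
  have : Algebra.FinitePresentation Γ(S, W) Γ(X, U) := by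
    have h := HasRingHomProperty.appLE @LocallyOfFinitePresentation (f ≫ g) inferInstance
      ⟨W, hW⟩ ⟨U, hU⟩ hUW
    rw [hcomp] at h
    exact h
  let _ := TopCat.Presheaf.algebra_section_stalk S.presheaf (⟨g (f x), hsW⟩ : W)
  let _ := TopCat.Presheaf.algebra_section_stalk Y.presheaf (⟨f x, hyV⟩ : V)
  let _ := TopCat.Presheaf.algebra_section_stalk X.presheaf (⟨x, hxU⟩ : U)
  have := hW.isLocalization_stalk ⟨g (f x), hsW⟩
  have := hV.isLocalization_stalk ⟨f x, hyV⟩
  have := hU.isLocalization_stalk ⟨x, hxU⟩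
  let : Algebra (S.presheaf.stalk (g (f x))) (Y.presheaf.stalk (f x)) := (g.stalkMap (f x)).hom.toAlgebra
  let : Algebra (Y.presheaf.stalk (f x)) (X.presheaf.stalk x) := (f.stalkMap x).hom.toAlgebra
  let : Algebra (S.presheaf.stalk (g (f x))) (X.presheaf.stalk x) :=
    ((f.stalkMap x).hom.comp (g.stalkMap (f x)).hom).toAlgebra
  have : IsScalarTower (S.presheaf.stalk (g (f x))) (Y.presheaf.stalk (f x)) (X.presheaf.stalk x) :=
    .of_algebraMap_eq fun _ ↦ rfl
  have : IsLocalHom (algebraMap (S.presheaf.stalk (g (f x))) (X.presheaf.stalk x)) :=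
    ⟨fun a ha ↦ isUnit_of_map_unit (g.stalkMap (f x)).hom a
      (isUnit_of_map_unit (f.stalkMap x).hom _ ha)⟩
  have : IsLocalHom (algebraMap (Y.presheaf.stalk (f x)) (X.presheaf.stalk x)) :=
    ⟨fun a ha ↦ isUnit_of_map_unit (f.stalkMap x).hom a ha⟩
  let _ := StalkLoc.Basic.moduleSections M hxU
  have : IsScalarTower Γ(X, U) (X.presheaf.stalk x) (M.presheaf.stalk x) :=
    StalkLoc.Basic.isScalarTower_sections M hxU
  have := StalkLoc.Basic.isLocalizedModule_germ (M := M) hU hxU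
  let : Module (Y.presheaf.stalk (f x)) (M.presheaf.stalk x) := FlatMod.moduleStalkOver f M x
  let : Module (S.presheaf.stalk (g (f x))) (M.presheaf.stalk x) :=
    Module.compHom _ ((f.stalkMap x).hom.comp (g.stalkMap (f x)).hom)
  have : IsScalarTower (S.presheaf.stalk (g (f x))) (X.presheaf.stalk x) (M.presheaf.stalk x) :=
    IsScalarTower.of_algebraMap_smul fun _ _ ↦ rfl
  have : IsScalarTower (Y.presheaf.stalk (f x)) (X.presheaf.stalk x) (M.presheaf.stalk x) :=
    IsScalarTower.of_algebraMap_smul fun _ _ ↦ rfl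
  have : IsScalarTower (S.presheaf.stalk (g (f x))) (Y.presheaf.stalk (f x)) (M.presheaf.stalk x) :=
    IsScalarTower.of_algebraMap_smul fun _ _ ↦ rfl
  have : Module.Flat (S.presheaf.stalk (g (f x))) (M.presheaf.stalk x) := by
    have h := h1
    unfold FlatMod.IsFlatOverAt at h
    refine @flat_congr (S.presheaf.stalk (g (f x))) (M.presheaf.stalk x) _ _ _ _ (fun r m ↦ ?_) h
    change (f.stalkMap x).hom ((g.stalkMap (f x)).hom r) • m = ((f ≫ g).stalkMap x).hom r • m
    rw [Scheme.Hom.stalkMap_comp]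
    rfl
  have hflat : Module.Flat (Y.presheaf.stalk (f x)) (M.presheaf.stalk x) :=
    Localized.flat_of_flat_fibre (R := Γ(S, W)) (B := Γ(Y, V)) (C := Γ(X, U))
      (R' := S.presheaf.stalk (g (f x))) (B' := Y.presheaf.stalk (f x)) (C' := X.presheaf.stalk x)
      (hW.primeIdealOf ⟨g (f x), hsW⟩).asIdeal.primeCompl
      (hV.primeIdealOf ⟨f x, hyV⟩).asIdeal.primeCompl (hU.primeIdealOf ⟨x, hxU⟩).asIdeal
      (fun r ↦ (germ_appLE g hVW hyV r).symm) (fun b ↦ germ_appLE f hUV hxU b)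
      (StalkLoc.Basic.germₗ M hxU) h2
  refine ⟨hflat, fun hn ↦ ?_⟩
  have : Module.Finite (X.presheaf.stalk x) (M.presheaf.stalk x) :=
    Module.Finite.of_isLocalizedModule (hU.primeIdealOf ⟨x, hxU⟩).asIdeal.primeCompl
      (Rₚ := X.presheaf.stalk x) (StalkLoc.Basic.germₗ M hxU)
  exact Localized.flat_base_of_flat (C' := X.presheaf.stalk x) (X := M.presheaf.stalk x)

end Groth.Agent.Lib.Flat55.FibrewiseScheme
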