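import Groth.Agent.H46.UnivOpenTrdeg

/-!
# Residual transcendence degrees under base change
-/

set_option autoImplicit false

universe u

open CategoryTheory CategoryTheory.Limits AlgebraicGeometry IsLocalRing
open Groth.Agent.Lib.Cyc Groth.Agent.H46.UnivOpenTrdeg

namespace Groth.Agent.Lib.Flat55.ResTrdegBC

/-- The residue field of the image maps to the residue field of a point. -/
theorem exists_factor {Z W : Scheme.{u}} (z : Z) (g : Z ⟶ W) (p : W) (hp : g z = p) :
    ∃ ρ : W.residueField p ⟶ Z.residueField z,
      Spec.map ρ ≫ W.fromSpecResidueField p = Z.fromSpecResidueField z ≫ g := by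
  subst hp
  exact ⟨g.residueFieldMap z, Scheme.Hom.SpecMap_residueFieldMap_fromSpecResidueField g z⟩

variable {X S X' S' : Scheme.{u}} {f : X ⟶ S} {f' : X' ⟶ S'} {g' : X' ⟶ X} {g : S' ⟶ S}
  (sq : IsPullback g' f' f g)

include sq

/-- The residue field of a point of a base change is generated by the residue fields of its images. -/
theorem closure_residueField (x' : X') :
    Subfield.closure (Set.range (g'.residueFieldMap x').hom ∪ Set.range (f'.residueFieldMap x').hom) = ⊤ := by
  let a := g'.residueFieldMap x'
  let b := f'.residueFieldMap x'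
  obtain ⟨j, hj⟩ := exists_factor (f' x') g (f (g' x'))
    (by rw [← Scheme.Hom.comp_apply, ← sq.w, Scheme.Hom.comp_apply])
  have hcomm : f.residueFieldMap (g' x') ≫ a = j ≫ b := by
    apply Spec.map_injective
    rw [← cancel_mono (S.fromSpecResidueField (f (g' x'))), Spec.map_comp, Spec.map_comp,
      Category.assoc, Category.assoc, hj, Scheme.Hom.SpecMap_residueFieldMap_fromSpecResidueField,
      Scheme.Hom.SpecMap_residueFieldMap_fromSpecResidueField_assoc,
      Scheme.Hom.SpecMap_residueFieldMap_fromSpecResidueField_assoc, sq.w]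
  show Subfield.closure (Set.range a.hom ∪ Set.range b.hom) = ⊤
  let L₀ := Subfield.closure (Set.range a.hom ∪ Set.range b.hom)
  let ι : CommRingCat.of L₀ ⟶ X'.residueField x' := CommRingCat.ofHom L₀.subtype
  let a₀ : X.residueField (g' x') ⟶ CommRingCat.of L₀ := CommRingCat.ofHom
    (a.hom.codRestrict L₀ fun z => Subfield.subset_closure (Or.inl ⟨z, rfl⟩))
  let b₀ : S'.residueField (f' x') ⟶ CommRingCat.of L₀ := CommRingCat.ofHom
    (b.hom.codRestrict L₀ fun z => Subfield.subset_closure (Or.inr ⟨z, rfl⟩))
  have ha : a₀ ≫ ι = a := rfl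
  have hb : b₀ ≫ ι = b := rfl
  have hc : f.residueFieldMap (g' x') ≫ a₀ = j ≫ b₀ :=
    CommRingCat.hom_ext (RingHom.ext fun z => Subtype.ext (congr($(hcomm).hom z)))
  let q : Spec (CommRingCat.of L₀) ⟶ X' :=
    sq.lift (Spec.map a₀ ≫ X.fromSpecResidueField (g' x'))
      (Spec.map b₀ ≫ S'.fromSpecResidueField (f' x')) (by
        rw [Category.assoc, Category.assoc, ← Scheme.Hom.SpecMap_residueFieldMap_fromSpecResidueField,
          ← hj, ← Spec.map_comp_assoc, ← Spec.map_comp_assoc, hc])
  have hq : Spec.map ι ≫ q = X'.fromSpecResidueField x' := by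
    refine sq.hom_ext ?_ ?_
    · rw [Category.assoc, sq.lift_fst, ← Spec.map_comp_assoc, ha,
        Scheme.Hom.SpecMap_residueFieldMap_fromSpecResidueField]
    · rw [Category.assoc, sq.lift_snd, ← Spec.map_comp_assoc, hb,
        Scheme.Hom.SpecMap_residueFieldMap_fromSpecResidueField]
  obtain ⟨ρ, hρ⟩ := exists_residue_factor q x'
    ((congrArg (fun z => q z) (Subsingleton.elim (α := PrimeSpectrum L₀) _
      (Spec.map ι (default : PrimeSpectrum (X'.residueField x'))))).trans
      (((Scheme.Hom.comp_apply _ _ _).symm.trans congr($(hq) _)).trans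
        (Scheme.fromSpecResidueField_apply x' _)))
  have h1 : ρ ≫ ι = 𝟙 _ := by
    apply Spec.map_injective
    rw [← cancel_mono (X'.fromSpecResidueField x'), Spec.map_comp, Category.assoc, hρ, hq,
      Spec.map_id, Category.id_comp]
  exact eq_top_iff.2 fun z _ => by
    rw [show z = (ρ.hom z : L₀).1 from (congr($(h1).hom z)).symm]
    exact (ρ.hom z : L₀).2

/-- Residual transcendence degrees do not go up under base change. -/
theorem trdegAt_le (x' : X') : Residue.trdegAt f' x' ≤ Residue.trdegAt f (g' x') := by
  classical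
  let a := g'.residueFieldMap x'
  let b := f'.residueFieldMap x'
  obtain ⟨j, hj⟩ := exists_factor (f' x') g (f (g' x'))
    (by rw [← Scheme.Hom.comp_apply, ← sq.w, Scheme.Hom.comp_apply])
  have hcomm : f.residueFieldMap (g' x') ≫ a = j ≫ b := by
    apply Spec.map_injective
    rw [← cancel_mono (S.fromSpecResidueField (f (g' x'))), Spec.map_comp, Spec.map_comp,
      Category.assoc, Category.assoc, hj, Scheme.Hom.SpecMap_residueFieldMap_fromSpecResidueField,
      Scheme.Hom.SpecMap_residueFieldMap_fromSpecResidueField_assoc,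
      Scheme.Hom.SpecMap_residueFieldMap_fromSpecResidueField_assoc, sq.w]
  have hgen : Subfield.closure (Set.range a.hom ∪ Set.range b.hom) = ⊤ := closure_residueField sq x'
  let : Algebra (S.residueField (f (g' x'))) (X.residueField (g' x')) :=
    (f.residueFieldMap (g' x')).hom.toAlgebra
  let : Algebra (S'.residueField (f' x')) (X'.residueField x') := b.hom.toAlgebra
  have : FaithfulSMul (S.residueField (f (g' x'))) (X.residueField (g' x')) :=
    (faithfulSMul_iff_algebraMap_injective _ _).2 (RingHom.injective _)
  obtain ⟨ι, t, ht⟩ := exists_isTranscendenceBasis' (S.residueField (f (g' x'))) (X.residueField (g' x'))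
  let s : Set (X'.residueField x') := Set.range fun i => a.hom (t i)
  let E₀ := IntermediateField.adjoin (S'.residueField (f' x')) s
  have halg : Algebra.IsAlgebraic E₀ (X'.residueField x') := by
    refine ⟨fun z => mem_algebraicClosure_iff.1 ?_⟩
    have hsub : Set.range a.hom ∪ Set.range b.hom ⊆ algebraicClosure E₀ (X'.residueField x') := by
      rintro z (⟨y, rfl⟩ | ⟨y, rfl⟩)
      · let φ : IntermediateField.adjoin (S.residueField (f (g' x'))) (Set.range t) →+* E₀ :=
          (a.hom.comp (IntermediateField.adjoin (S.residueField (f (g' x'))) (Set.range t)).val.toRingHom).codRestrict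
            E₀ fun w => by
              obtain ⟨w, hw⟩ := w
              show a.hom w ∈ E₀
              induction hw using IntermediateField.adjoin_induction with
              | mem w hw =>
                obtain ⟨i, rfl⟩ := hw
                exact IntermediateField.subset_adjoin _ _ ⟨i, rfl⟩
              | algebraMap c =>
                rw [show a.hom (algebraMap _ (X.residueField (g' x')) c) = b.hom (j.hom c) from
                  congr($(hcomm).hom c)]
                exact E₀.algebraMap_mem _
              | add x y _ _ hx hy => rw [map_add]; exact add_mem hx hy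
              | inv x _ hx => rw [map_inv₀]; exact inv_mem hx
              | mul x y _ _ hx hy => rw [map_mul]; exact mul_mem hx hy
        refine mem_algebraicClosure_iff.2 (IsAlgebraic.ringHom_of_comp_eq φ a.hom
          ((IntermediateField.isAlgebraic_adjoin_iff.2 (ht.isAlgebraic.isAlgebraic y))) φ.injective ?_)
        rfl
      · exact IntermediateField.algebraMap_mem _ (⟨b.hom y, E₀.algebraMap_mem y⟩ : E₀)
    have hle : Subfield.closure (Set.range a.hom ∪ Set.range b.hom) ≤
        (algebraicClosure E₀ (X'.residueField x')).toSubfield := Subfield.closure_le.2 hsub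
    rw [hgen] at hle
    exact hle trivial
  have := IntermediateField.isAlgebraic_adjoin_iff_top.1 halg
  exact (Algebra.IsAlgebraic.trdeg_le_cardinalMk (R := S'.residueField (f' x')) (s := s)).trans
    (Cardinal.mk_range_le.trans ht.cardinalMk_eq_trdeg.le)

/-- Some point of the base change over a given pair keeps the residual transcendence degree. -/
theorem exists_trdegAt_ge (x : X) (t' : S') (h : f x = g t') :
    ∃ x' : X', g' x' = x ∧ f' x' = t' ∧ Residue.trdegAt f x ≤ Residue.trdegAt f' x' := by
  let : Algebra (S.residueField (f x)) (X.residueField x) := (f.residueFieldMap x).hom.toAlgebra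
  have : FaithfulSMul (S.residueField (f x)) (X.residueField x) :=
    (faithfulSMul_iff_algebraMap_injective _ _).2 (RingHom.injective _)
  obtain ⟨ι, t, ht⟩ := exists_isTranscendenceBasis' (S.residueField (f x)) (X.residueField x)
  obtain ⟨j, hj⟩ := exists_factor t' g (f x) h.symm
  obtain ⟨L, _, α, β, hαβ, hinj⟩ := exists_compositum (f.residueFieldMap x).hom j.hom t ht
  let αc : X.residueField x ⟶ CommRingCat.of L := CommRingCat.ofHom α
  let βc : S'.residueField t' ⟶ CommRingCat.of L := CommRingCat.ofHom β
  have hαβc : f.residueFieldMap x ≫ αc = j ≫ βc := CommRingCat.hom_ext hαβ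
  let q : Spec (CommRingCat.of L) ⟶ X' :=
    sq.lift (Spec.map αc ≫ X.fromSpecResidueField x) (Spec.map βc ≫ S'.fromSpecResidueField t') (by
      rw [Category.assoc, Category.assoc, ← Scheme.Hom.SpecMap_residueFieldMap_fromSpecResidueField,
        ← hj, ← Spec.map_comp_assoc, ← Spec.map_comp_assoc, hαβc])
  have hqx : g' (q (closedPoint L)) = x := by
    rw [← Scheme.Hom.comp_apply, sq.lift_fst, Scheme.Hom.comp_apply, Scheme.fromSpecResidueField_apply]
  have hqt : f' (q (closedPoint L)) = t' := by
    rw [← Scheme.Hom.comp_apply, sq.lift_snd, Scheme.Hom.comp_apply, Scheme.fromSpecResidueField_apply]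
  obtain ⟨x', hx'⟩ : ∃ z, q (closedPoint L) = z := ⟨_, rfl⟩
  rw [hx'] at hqx hqt
  refine ⟨x', hqx, hqt, ?_⟩
  subst hqx hqt
  obtain ⟨ρ, hρ⟩ := exists_residue_factor q x' hx'
  have h1 : g'.residueFieldMap x' ≫ ρ = αc := by
    apply Spec.map_injective
    rw [← cancel_mono (X.fromSpecResidueField (g' x')), Spec.map_comp, Category.assoc,
      Scheme.Hom.SpecMap_residueFieldMap_fromSpecResidueField, reassoc_of% hρ, sq.lift_fst]
  have h2 : f'.residueFieldMap x' ≫ ρ = βc := by
    apply Spec.map_injective
    rw [← cancel_mono (S'.fromSpecResidueField (f' x')), Spec.map_comp, Category.assoc,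
      Scheme.Hom.SpecMap_residueFieldMap_fromSpecResidueField, reassoc_of% hρ, sq.lift_snd]
  let : Algebra (S'.residueField (f' x')) (X'.residueField x') := (f'.residueFieldMap x').hom.toAlgebra
  have hind : AlgebraicIndependent (S'.residueField (f' x'))
      (fun i => (g'.residueFieldMap x').hom (t i)) := by
    refine fun p p' hpp => hinj ?_
    have e : ρ.hom.comp (MvPolynomial.aeval (fun i => (g'.residueFieldMap x').hom (t i))).toRingHom =
        MvPolynomial.eval₂Hom β fun i => α (t i) := by
      refine MvPolynomial.ringHom_ext (fun c => ?_) fun i => ?_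
      · rw [MvPolynomial.eval₂Hom_C]
        show ρ.hom (MvPolynomial.aeval _ (MvPolynomial.C c)) = _
        rw [MvPolynomial.aeval_C]
        exact congr($(h2).hom c)
      · rw [MvPolynomial.eval₂Hom_X']
        show ρ.hom (MvPolynomial.aeval _ (MvPolynomial.X i)) = _
        rw [MvPolynomial.aeval_X]
        exact congr($(h1).hom (t i))
    rw [← e]
    exact congrArg ρ.hom hpp
  exact ht.cardinalMk_eq_trdeg.ge.trans hind.cardinalMk_le_trdeg

end Groth.Agent.Lib.Flat55.ResTrdegBC
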