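import Groth.Agent.Lib.Ideal.Comap
import Groth.Agent.Lib.Synt92.BaseChangeSeq
import Groth.Prelude.Def_Mor2
import Mathlib.AlgebraicGeometry.IdealSheaf.Subscheme
import Mathlib.AlgebraicGeometry.Morphisms.Affine
import Mathlib.AlgebraicGeometry.Morphisms.Flat
import Mathlib.Algebra.Category.Ring.Constructions

/-!
# Regular closed immersions into affine schemes and their base change
-/

set_option autoImplicit false

universe u

open CategoryTheory CategoryTheory.Limits AlgebraicGeometry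
open RingTheory.Sequence

namespace Groth.Agent.Lib.Flat55.RegularImm

/-- The properness of a regular sequence is automatic at a point of the closed subscheme. -/
theorem isRegularClosedImmersion_of {Z U : Scheme.{u}} (i : Z ⟶ U) [IsClosedImmersion i]
    (h : ∀ z : Z, ∃ (V : U.Opens) (hV : IsAffineOpen V), i z ∈ V ∧
      ∃ rs : List Γ(U, V), IsWeaklyRegular Γ(U, V) rs ∧ i.ker.ideal ⟨V, hV⟩ = Ideal.ofList rs) :
    Mor2.IsRegularClosedImmersion i := by
  refine ⟨inferInstance, fun z ↦ ?_⟩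
  obtain ⟨V, hV, hzV, rs, hrs, hker⟩ := h z
  refine ⟨V, hV, hzV, rs, ⟨hrs, fun htop ↦ ?_⟩, hker⟩
  have h1 : i.ker.ideal ⟨V, hV⟩ = ⊤ := by
    rw [smul_eq_mul, Ideal.mul_top] at htop
    rw [hker]
    exact htop.symm
  have h2 : i z ∈ i.ker.support := by
    rw [← SetLike.mem_coe, Scheme.Hom.support_ker]
    exact subset_closure ⟨z, rfl⟩
  have h3 := (Scheme.IdealSheafData.mem_support_iff_of_mem (U := ⟨V, hV⟩) hzV).mp h2
  rw [h1] at h3
  simp [Scheme.zeroLocus_def] at h3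
  exact h3 1 (by simpa using hzV)

set_option backward.isDefEq.respectTransparency.types false in
/-- The ideal of the closed immersion of the spectrum of a quotient. -/
theorem ker_ideal_top {X : Scheme.{u}} {U : X.Opens} (hU : IsAffineOpen U) (I : Ideal Γ(X, U)) :
    haveI : IsAffine (U : Scheme.{u}) := hU
    (Spec.map (CommRingCat.ofHom (Ideal.Quotient.mk I)) ≫ hU.isoSpec.inv).ker.ideal
      ⟨⊤, isAffineOpen_top _⟩ = I.map U.topIso.inv.hom := by
  have : IsAffine (U : Scheme.{u}) := hU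
  have : IsClosedImmersion (Spec.map (CommRingCat.ofHom (Ideal.Quotient.mk I))) :=
    IsClosedImmersion.spec_of_surjective _ Ideal.Quotient.mk_surjective
  rw [Scheme.Hom.ker_apply]
  let φ : Γ(X, U) ⟶ CommRingCat.of (Γ(X, U) ⧸ I) := CommRingCat.ofHom (Ideal.Quotient.mk I)
  have h1 : RingHom.ker (Spec.map φ ≫ hU.isoSpec.inv).appTop.hom = I.comap U.topIso.hom.hom := by
    rw [show I.comap U.topIso.hom.hom = (RingHom.ker φ.hom).comap U.topIso.hom.hom by
      rw [CommRingCat.hom_ofHom, Ideal.mk_ker]]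
    rw [← RingHom.ker_equiv_comp _ (Scheme.ΓSpecIso _).commRingCatIsoToRingEquiv, RingHom.comap_ker,
      RingEquiv.toRingHom_eq_coe, Iso.commRingCatIsoToRingEquiv_toRingHom, ← CommRingCat.hom_comp,
      ← CommRingCat.hom_comp]
    congr 2
    simp only [Scheme.Hom.comp_app, TopologicalSpace.Opens.map_top, Category.assoc,
      Scheme.ΓSpecIso_naturality, Scheme.Opens.topIso_hom]
    rw [← Scheme.Hom.appTop, hU.isoSpec_inv_appTop, Category.assoc, Iso.inv_hom_id_assoc]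
    simp only [Scheme.Opens.topIso_hom]
  refine h1.trans (le_antisymm (fun z hz ↦ ?_) (Ideal.map_le_iff_le_comap.2 fun z hz ↦ ?_))
  · have h2 := Ideal.mem_map_of_mem U.topIso.inv.hom (Ideal.mem_comap.1 hz)
    rwa [← ConcreteCategory.comp_apply, Iso.hom_inv_id, ConcreteCategory.id_apply] at h2
  · rw [Ideal.mem_comap, Ideal.mem_comap, ← ConcreteCategory.comp_apply, Iso.inv_hom_id,
      ConcreteCategory.id_apply]
    exact hz

set_option backward.isDefEq.respectTransparency false in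
/-- A closed immersion cut out by a regular sequence with flat quotients stays regular after any
base change. -/
theorem baseChange {Z U S S' : Scheme.{u}} (i : Z ⟶ U) [IsClosedImmersion i] [IsAffine U]
    (φ : U ⟶ S) (k : Z ⟶ S) (hk : i ≫ φ = k) (g : S' ⟶ S) (L : List Γ(U, ⊤))
    (hker : i.ker.ideal ⟨⊤, isAffineOpen_top U⟩ = Ideal.ofList L) {V₀ : S.Opens} (hV₀ : IsAffineOpen V₀)
    (e : ⊤ ≤ φ ⁻¹ᵁ V₀) (hw : IsWeaklyRegular Γ(U, ⊤) L)
    (hflat : ∀ j, ((Ideal.Quotient.mk (Ideal.ofList (L.take j))).comp (φ.appLE V₀ ⊤ e).hom).Flat)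
    (h₁ : k ≫ 𝟙 S = i ≫ φ) (h₂ : g ≫ 𝟙 S = 𝟙 S' ≫ g) :
    Mor2.IsRegularClosedImmersion (pullback.map k g φ g i (𝟙 S') (𝟙 S) h₁ h₂) := by
  subst hk
  let ε := pullbackRightPullbackFstIso φ g i
  have hmap : pullback.map (i ≫ φ) g φ g i (𝟙 S') (𝟙 S) h₁ h₂ =
      ε.inv ≫ pullback.snd i (pullback.fst φ g) := by
    rw [← cancel_epi ε.hom, Iso.hom_inv_id_assoc]
    apply pullback.hom_ext
    · simp only [Category.assoc, pullback.lift_fst, pullback.map]
      rw [pullbackRightPullbackFstIso_hom_fst_assoc, pullback.condition]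
    · simp only [Category.assoc, pullback.lift_snd, pullback.map, Category.comp_id]
      rw [pullbackRightPullbackFstIso_hom_snd]
  have hci : IsClosedImmersion (pullback.map (i ≫ φ) g φ g i (𝟙 S') (𝟙 S) h₁ h₂) := by
    rw [hmap]; infer_instance
  have hkerP : (pullback.map (i ≫ φ) g φ g i (𝟙 S') (𝟙 S) h₁ h₂).ker = i.ker.comap (pullback.fst φ g) := by
    rw [hmap, Scheme.Hom.ker_comp_of_isIso, ← pullbackSymmetry_hom_comp_fst,
      Scheme.Hom.ker_comp_of_isIso, Scheme.IdealSheafData.ker_fst_of_isClosedImmersion]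
  refine isRegularClosedImmersion_of _ fun z ↦ ?_
  set w := pullback.map (i ≫ φ) g φ g i (𝟙 S') (𝟙 S) h₁ h₂ z
  have hgz : g (pullback.snd φ g w) ∈ V₀ := by
    rw [← Scheme.Hom.comp_apply, ← pullback.condition, Scheme.Hom.comp_apply]
    exact e (show pullback.fst φ g w ∈ (⊤ : U.Opens) from trivial)
  obtain ⟨V', hV', hzV', hle⟩ := exists_isAffineOpen_mem_and_subset (X := S')
    (x := pullback.snd φ g w) (U := g ⁻¹ᵁ V₀) hgz
  let W : (pullback φ g).Opens := pullback.fst φ g ⁻¹ᵁ ⊤ ⊓ pullback.snd φ g ⁻¹ᵁ V'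
  have : IsAffine (V₀ : Scheme.{u}) := hV₀
  have : IsAffine (V' : Scheme.{u}) := hV'
  have : IsAffine ((⊤ : U.Opens) : Scheme.{u}) := isAffineOpen_top U
  have hW : IsAffineOpen W :=
    .of_isIso (Scheme.Hom.isPullback_resLE (IsPullback.of_hasPullback φ g) hle e rfl).isoPullback.hom
  have hpo := (isIso_pushoutSection_iff (IsPullback.of_hasPullback φ g) hle e rfl).1
    (isIso_pushoutSection_of_isAffineOpen (IsPullback.of_hasPullback φ g) hle e rfl hV₀ hV' (isAffineOpen_top U))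
  let : Algebra Γ(S, V₀) Γ(U, ⊤) := (φ.appLE V₀ ⊤ e).hom.toAlgebra
  let : Algebra Γ(S, V₀) Γ(S', V') := (g.appLE V₀ V' hle).hom.toAlgebra
  let : Algebra Γ(U, ⊤) Γ(pullback φ g, W) :=
    ((pullback.fst φ g).appLE ⊤ W inf_le_left).hom.toAlgebra
  let : Algebra Γ(S', V') Γ(pullback φ g, W) :=
    ((pullback.snd φ g).appLE V' W inf_le_right).hom.toAlgebra
  let : Algebra Γ(S, V₀) Γ(pullback φ g, W) :=
    ((φ.appLE V₀ ⊤ e) ≫ (pullback.fst φ g).appLE ⊤ W inf_le_left).hom.toAlgebra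
  have : IsScalarTower Γ(S, V₀) Γ(U, ⊤) Γ(pullback φ g, W) := .of_algebraMap_eq fun _ ↦ rfl
  have : IsScalarTower Γ(S, V₀) Γ(S', V') Γ(pullback φ g, W) := .of_algebraMap_eq' (by
    change _ = (g.appLE V₀ V' hle ≫ (pullback.snd φ g).appLE V' W inf_le_right).hom
    rw [← hpo.w]
    rfl)
  have : Algebra.IsPushout Γ(S, V₀) Γ(U, ⊤) Γ(S', V') Γ(pullback φ g, W) :=
    CommRingCat.isPushout_iff_isPushout.1 hpo
  refine ⟨W, hW, ⟨trivial, hzV'⟩, L.map ((pullback.fst φ g).appLE ⊤ W inf_le_left).hom, ?_, ?_⟩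
  · exact (Synt92.BaseChangeSeq.of_isPushout (A := Γ(S, V₀)) (S := Γ(U, ⊤)) Γ(S', V') L hw
      fun j ↦ RingHom.flat_algebraMap_iff.1 (hflat j)).1
  · rw [hkerP, Ideal.Comap.ideal_comap (pullback.fst φ g) i.ker ⟨⊤, isAffineOpen_top U⟩ ⟨W, hW⟩
      inf_le_left, hker, Ideal.map_ofList]

end Groth.Agent.Lib.Flat55.RegularImm
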