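import Groth.Agent.Lib.Flat55.ResTrdegBC
import Groth.Agent.Lib.LimTop.PC
import Mathlib.RingTheory.FiniteType

/-!
# Residual transcendence degree in terms of algebraic relations between sections
-/

set_option autoImplicit false

universe u

open CategoryTheory CategoryTheory.Limits AlgebraicGeometry TopologicalSpace Topology
open Groth.Agent.Lib Groth.Agent.Lib.Cyc

namespace Groth.Agent.Lib.Flat55.ResTrdegCons

variable {X T : Scheme.{u}}

theorem evaluation_appLE (f : X ⟶ T) {U : X.Opens} {V : T.Opens} (e : U ≤ f ⁻¹ᵁ V) {x : X}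
    (hx : x ∈ U) (a : Γ(T, V)) :
    X.evaluation U x hx (f.appLE V U e a) = f.residueFieldMap x (T.evaluation V (f x) (e hx) a) := by
  rw [← CommRingCat.comp_apply, ← CommRingCat.comp_apply]
  congr 2
  simp only [Scheme.evaluation, Category.assoc, Scheme.residue_residueFieldMap]
  rw [Scheme.Hom.germ_stalkMap_assoc, Scheme.Hom.appLE, Category.assoc,
    TopCat.Presheaf.germ_res_assoc]

theorem exists_eq_div {U : X.Opens} (hU : IsAffineOpen U) {x : X} (hx : x ∈ U)
    (t : X.residueField x) : ∃ a g : Γ(X, U), X.evaluation U x hx g ≠ 0 ∧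
      t * X.evaluation U x hx g = X.evaluation U x hx a := by
  obtain ⟨t, rfl⟩ := X.residue_surjective x t
  let := TopCat.Presheaf.algebra_section_stalk X.presheaf ⟨x, hx⟩
  have := hU.isLocalization_stalk ⟨x, hx⟩
  obtain ⟨⟨a, g⟩, h⟩ := IsLocalization.surj (hU.primeIdealOf ⟨x, hx⟩).asIdeal.primeCompl t
  refine ⟨a, g, ?_, ?_⟩
  · rw [Scheme.evaluation_ne_zero_iff_mem_basicOpen, Scheme.mem_basicOpen _ _ _ hx]
    exact IsLocalization.map_units _ g
  · show X.residue x t * X.residue x (X.presheaf.germ U x hx g) =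
      X.residue x (X.presheaf.germ U x hx a)
    rw [← map_mul]
    exact congrArg _ h

theorem exists_map_eq_C_mul {R K σ : Type*} [CommRing R] [Field K] (ι : R →+* K)
    (hι : ∀ x : K, ∃ a g, ι g ≠ 0 ∧ x * ι g = ι a) (Q : MvPolynomial σ K) :
    ∃ (P : MvPolynomial σ R) (g : R), ι g ≠ 0 ∧ MvPolynomial.map ι P = MvPolynomial.C (ι g) * Q := by
  induction Q using MvPolynomial.induction_on with
  | C c =>
    obtain ⟨a, g, hg, h⟩ := hι c
    exact ⟨MvPolynomial.C a, g, hg, by rw [MvPolynomial.map_C, ← h, ← map_mul, mul_comm]⟩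
  | add p q hp hq =>
    obtain ⟨P₁, g₁, h₁, e₁⟩ := hp
    obtain ⟨P₂, g₂, h₂, e₂⟩ := hq
    refine ⟨MvPolynomial.C g₂ * P₁ + MvPolynomial.C g₁ * P₂, g₁ * g₂,
      by rw [map_mul]; exact mul_ne_zero h₁ h₂, ?_⟩
    simp only [map_add, map_mul, MvPolynomial.map_C, e₁, e₂]
    ring
  | mul_X p i hp =>
    obtain ⟨P, g, hg, e⟩ := hp
    exact ⟨P * MvPolynomial.X i, g, hg, by rw [map_mul, MvPolynomial.map_X, e, mul_assoc]⟩

theorem le_trdeg_iff {K L : Type u} [Field K] [Field L] [Algebra K L] {N n : ℕ} (w : Fin N → L)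
    (hw : IntermediateField.adjoin K (Set.range w) = ⊤) :
    (n : Cardinal.{u}) ≤ Algebra.trdeg K L ↔
      ∃ e : Fin n → Fin N, AlgebraicIndependent K (w ∘ e) := by
  constructor
  · intro hn
    have halg : Algebra.IsAlgebraic (Algebra.adjoin K (Set.range w)) L := by
      rw [← IntermediateField.isAlgebraic_adjoin_iff_top]
      refine ⟨fun z => ?_⟩
      have hz : z ∈ IntermediateField.adjoin K (Set.range w) := hw ▸ IntermediateField.mem_top
      exact isAlgebraic_algebraMap (⟨z, hz⟩ : IntermediateField.adjoin K (Set.range w))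
    obtain ⟨t, hts, ht⟩ := exists_isTranscendenceBasis_subset (R := K) (Set.range w)
    have hcard := ht.cardinalMk_eq_trdeg
    rw [← hcard] at hn
    obtain ⟨ε⟩ : Nonempty (Fin n ↪ t) :=
      Cardinal.lift_mk_le'.1 (by simpa using hn)
    choose e he using fun k => hts (ε k).2
    refine ⟨e, ?_⟩
    have : w ∘ e = (Subtype.val : t → L) ∘ ε := funext he
    rw [this]
    exact ht.1.comp ε ε.injective
  · rintro ⟨e, he⟩
    simpa using he.lift_cardinalMk_le_trdeg

variable {n : ℕ}

/-- No algebraic relation between the values of `v` at `x` over the residue field of the image. -/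
def NoRel (f : X ⟶ T) (U : X.Opens) (v : Fin n → Γ(X, U)) (x : X) : Prop :=
  ∀ (P : MvPolynomial (Fin n) Γ(T, ⊤)) (m : Fin n →₀ ℕ),
    x ∈ X.basicOpen (f.appLE ⊤ U le_top (P.coeff m)) →
      x ∈ X.basicOpen (MvPolynomial.eval₂ (f.appLE ⊤ U le_top).hom v P)

section Point

variable (f : X ⟶ T) {U : X.Opens} {x : X} (hx : x ∈ U)

theorem evaluation_eval₂ {σ : Type*} (v : σ → Γ(X, U)) (P : MvPolynomial σ Γ(T, ⊤)) :
    letI := (f.residueFieldMap x).hom.toAlgebra
    X.evaluation U x hx (MvPolynomial.eval₂ (f.appLE ⊤ U le_top).hom v P) =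
      MvPolynomial.aeval (fun i => X.evaluation U x hx (v i))
        (MvPolynomial.map (T.evaluation ⊤ (f x) trivial).hom P) := by
  let : Algebra (T.residueField (f x)) (X.residueField x) := (f.residueFieldMap x).hom.toAlgebra
  rw [MvPolynomial.aeval_def, MvPolynomial.eval₂_map]
  refine (MvPolynomial.eval₂_comp_left (X.evaluation U x hx).hom _ v P).trans ?_
  refine congrArg (fun φ => MvPolynomial.eval₂ φ (fun i => X.evaluation U x hx (v i)) P)
    (RingHom.ext fun a => evaluation_appLE f le_top hx a)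

theorem algInd_iff_noRel [IsAffine T] (v : Fin n → Γ(X, U)) :
    letI := (f.residueFieldMap x).hom.toAlgebra
    AlgebraicIndependent (T.residueField (f x)) (fun i => X.evaluation U x hx (v i)) ↔
      NoRel f U v x := by
  let : Algebra (T.residueField (f x)) (X.residueField x) := (f.residueFieldMap x).hom.toAlgebra
  have hc : ∀ c, X.evaluation U x hx (f.appLE ⊤ U le_top c) =
      f.residueFieldMap x (T.evaluation ⊤ (f x) trivial c) := fun c => evaluation_appLE f le_top hx c
  have hb : ∀ a : Γ(X, U), x ∈ X.basicOpen a ↔ X.evaluation U x hx a ≠ 0 := fun a =>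
    (Scheme.evaluation_ne_zero_iff_mem_basicOpen (X := X) x hx a).symm
  refine ⟨fun h P m hm => ?_, fun h => _root_.algebraicIndependent_iff.2 fun Q hQ => ?_⟩
  · by_contra h0
    rw [hb, not_not, evaluation_eval₂ f hx] at h0
    have h1 := congrArg (MvPolynomial.coeff m) (_root_.algebraicIndependent_iff.1 h _ h0)
    rw [MvPolynomial.coeff_map, MvPolynomial.coeff_zero] at h1
    rw [hb, hc, h1] at hm
    exact hm (map_zero _)
  · by_contra hne
    obtain ⟨m, hm⟩ := MvPolynomial.exists_coeff_ne_zero hne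
    obtain ⟨P, g, hg, hP⟩ := exists_map_eq_C_mul (T.evaluation ⊤ (f x) trivial).hom
      (exists_eq_div (isAffineOpen_top T) trivial) Q
    have h1 : x ∈ X.basicOpen (f.appLE ⊤ U le_top (P.coeff m)) := by
      rw [hb, hc, map_ne_zero_iff _ (RingHom.injective _)]
      have := congrArg (MvPolynomial.coeff m) hP
      rw [MvPolynomial.coeff_map, MvPolynomial.coeff_C_mul] at this
      rw [this]
      exact mul_ne_zero hg hm
    have h2 := h P m h1
    rw [hb, evaluation_eval₂ f hx, hP, map_mul, hQ,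
      mul_zero] at h2
    exact h2 rfl

theorem le_trdegAt_iff [IsAffine T] {N : ℕ} (gen : Fin N → Γ(X, U))
    (hgen : letI := (f.residueFieldMap x).hom.toAlgebra
      IntermediateField.adjoin (T.residueField (f x))
        (Set.range fun i => X.evaluation U x hx (gen i)) = ⊤) :
    (n : Cardinal.{u}) ≤ Residue.trdegAt f x ↔ ∃ e : Fin n → Fin N, NoRel f U (gen ∘ e) x := by
  let : Algebra (T.residueField (f x)) (X.residueField x) := (f.residueFieldMap x).hom.toAlgebra
  refine (le_trdeg_iff _ hgen).trans (exists_congr fun e => ?_)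
  exact algInd_iff_noRel f hx (gen ∘ e)

theorem evaluation_mem_adjoin {σ : Type*} (v : σ → Γ(X, U)) (P : MvPolynomial σ Γ(T, ⊤)) :
    letI := (f.residueFieldMap x).hom.toAlgebra
    X.evaluation U x hx (MvPolynomial.eval₂ (f.appLE ⊤ U le_top).hom v P) ∈
      IntermediateField.adjoin (T.residueField (f x))
        (Set.range fun i => X.evaluation U x hx (v i)) := by
  let : Algebra (T.residueField (f x)) (X.residueField x) := (f.residueFieldMap x).hom.toAlgebra
  rw [evaluation_eval₂]
  refine IntermediateField.algebra_adjoin_le_adjoin _ _ ?_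
  rw [Algebra.adjoin_range_eq_range_aeval]
  exact ⟨_, rfl⟩

theorem adjoin_eq_top (hU : IsAffineOpen U) {N : ℕ} (gen : Fin N → Γ(X, U))
    (hgen : Function.Surjective (MvPolynomial.eval₂Hom (f.appLE ⊤ U le_top).hom gen)) :
    letI := (f.residueFieldMap x).hom.toAlgebra
    IntermediateField.adjoin (T.residueField (f x))
      (Set.range fun i => X.evaluation U x hx (gen i)) = ⊤ := by
  let : Algebra (T.residueField (f x)) (X.residueField x) := (f.residueFieldMap x).hom.toAlgebra
  refine eq_top_iff.2 fun z _ => ?_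
  obtain ⟨a, g, hg, h⟩ := exists_eq_div hU hx z
  obtain ⟨P, rfl⟩ := hgen a
  obtain ⟨R, rfl⟩ := hgen g
  rw [eq_div_of_mul_eq hg h]
  exact div_mem (evaluation_mem_adjoin f hx gen P) (evaluation_mem_adjoin f hx gen R)

end Point

section BaseChange

variable {X' T' : Scheme.{u}} {g' : X' ⟶ X} {f' : X' ⟶ T'} {f : X ⟶ T} {g : T' ⟶ T}
  (w : g' ≫ f = f' ≫ g) {U : X.Opens} {U' : X'.Opens} (e : U' ≤ g' ⁻¹ᵁ U)

include w

theorem appLE_coeff (c : Γ(T, ⊤)) :
    g'.appLE U U' e (f.appLE ⊤ U le_top c) = f'.appLE ⊤ U' le_top (g.appTop c) := by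
  have h : g.appLE ⊤ ⊤ le_rfl = g.appTop := Scheme.Hom.appLE_eq_app g (U := ⊤)
  rw [← CommRingCat.comp_apply, ← CommRingCat.comp_apply, Scheme.Hom.appLE_comp_appLE, ← h,
    Scheme.Hom.appLE_comp_appLE]
  simp only [w]

theorem appLE_eval₂ {σ : Type*} (v : σ → Γ(X, U)) (P : MvPolynomial σ Γ(T, ⊤)) :
    g'.appLE U U' e (MvPolynomial.eval₂ (f.appLE ⊤ U le_top).hom v P) =
      MvPolynomial.eval₂ (f'.appLE ⊤ U' le_top).hom (fun i => g'.appLE U U' e (v i))
        (MvPolynomial.map g.appTop.hom P) := by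
  rw [MvPolynomial.eval₂_map]
  refine (MvPolynomial.eval₂_comp_left (g'.appLE U U' e).hom _ v P).trans ?_
  exact congrArg (fun φ => MvPolynomial.eval₂ φ (fun i => g'.appLE U U' e (v i)) P)
    (RingHom.ext fun a => appLE_coeff w e a)

omit w in
theorem mem_basicOpen_appLE {x' : X'} (hx' : x' ∈ U') (a : Γ(X, U)) :
    x' ∈ X'.basicOpen (g'.appLE U U' e a) ↔ g' x' ∈ X.basicOpen a := by
  rw [Scheme.basicOpen_appLE]
  exact ⟨fun h => h.2, fun h => ⟨hx', h⟩⟩

/-- Relations go up along base change. -/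
theorem noRel_of_pullback (v : Fin n → Γ(X, U)) {x' : X'} (hx' : x' ∈ U')
    (h : NoRel f' U' (fun i => g'.appLE U U' e (v i)) x') : NoRel f U v (g' x') := by
  intro P m hm
  have h1 := h (MvPolynomial.map g.appTop.hom P) m (by
    rw [MvPolynomial.coeff_map]
    exact (appLE_coeff w e _) ▸ (mem_basicOpen_appLE e hx' _).2 hm)
  rw [← appLE_eval₂ w e] at h1
  exact (mem_basicOpen_appLE e hx' _).1 h1

omit w in
/-- The pullbacks of generators generate the residue fields of a base change. -/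
theorem adjoin_pullback_eq_top (sq : IsPullback g' f' f g) (hU : IsAffineOpen U) {N : ℕ}
    (gen : Fin N → Γ(X, U))
    (hgen : Function.Surjective (MvPolynomial.eval₂Hom (f.appLE ⊤ U le_top).hom gen)) {x' : X'}
    (hx' : x' ∈ U') :
    letI := (f'.residueFieldMap x').hom.toAlgebra
    IntermediateField.adjoin (T'.residueField (f' x'))
      (Set.range fun i => X'.evaluation U' x' hx' (g'.appLE U U' e (gen i))) = ⊤ := by
  let : Algebra (T'.residueField (f' x')) (X'.residueField x') := (f'.residueFieldMap x').hom.toAlgebra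
  let E := IntermediateField.adjoin (T'.residueField (f' x'))
    (Set.range fun i => X'.evaluation U' x' hx' (g'.appLE U U' e (gen i)))
  have key : ∀ a, g'.residueFieldMap x' (X.evaluation U (g' x') (e hx') a) ∈ E := by
    intro a
    obtain ⟨P, rfl⟩ := hgen a
    rw [← evaluation_appLE g' e hx']
    show X'.evaluation U' x' hx' (g'.appLE U U' e (MvPolynomial.eval₂ _ gen P)) ∈ E
    rw [appLE_eval₂ sq.w e]
    exact evaluation_mem_adjoin f' hx' _ _
  refine eq_top_iff.2 fun z _ => ?_
  have hz : z ∈ Subfield.closure (Set.range (g'.residueFieldMap x').hom ∪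
      Set.range (f'.residueFieldMap x').hom) := by
    rw [ResTrdegBC.closure_residueField sq x']; trivial
  refine (Subfield.closure_le (t := E.toSubfield)).2 ?_ hz
  rintro _ (⟨y, rfl⟩ | ⟨y, rfl⟩)
  · obtain ⟨a, b, hb, h⟩ := exists_eq_div hU (e hx') y
    rw [eq_div_of_mul_eq hb h, map_div₀]
    exact div_mem (key a) (key b)
  · exact E.algebraMap_mem y

end BaseChange

/-- Over an affine base, residual transcendence degree `≥ n` is a pro-constructible condition. -/
theorem isPC_le_trdegAt [IsAffine T] (f : X ⟶ T) [LocallyOfFiniteType f] (n : ℕ) :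
    LimTop.PC.IsPC {x : X | (n : Cardinal.{u}) ≤ Residue.trdegAt f x} := by
  classical
  intro U hU
  let : Algebra Γ(T, ⊤) Γ(X, U) := (f.appLE ⊤ U le_top).hom.toAlgebra
  have : Algebra.FiniteType Γ(T, ⊤) Γ(X, U) :=
    HasRingHomProperty.appLE @LocallyOfFiniteType f inferInstance ⟨⊤, isAffineOpen_top T⟩ ⟨U, hU⟩ le_top
  obtain ⟨N, π, hπ⟩ := (Algebra.FiniteType.iff_quotient_mvPolynomial'' (R := Γ(T, ⊤))
    (S := Γ(X, U))).1 inferInstance
  let gen : Fin N → Γ(X, U) := fun i => π (MvPolynomial.X i)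
  have hgen : Function.Surjective (MvPolynomial.eval₂Hom (f.appLE ⊤ U le_top).hom gen) := by
    intro a
    obtain ⟨P, rfl⟩ := hπ a
    refine ⟨P, ?_⟩
    conv_rhs => rw [MvPolynomial.aeval_unique π]
    rfl
  have heq : ⇑U.ι ⁻¹' {x : X | (n : Cardinal.{u}) ≤ Residue.trdegAt f x} =
      ⋃ e : Fin n → Fin N, ⋂ P : MvPolynomial (Fin n) Γ(T, ⊤), ⋂ m : Fin n →₀ ℕ,
        (⇑U.ι ⁻¹' (X.basicOpen (f.appLE ⊤ U le_top (P.coeff m)) : Set X))ᶜ ∪
          ⇑U.ι ⁻¹' (X.basicOpen (MvPolynomial.eval₂ (f.appLE ⊤ U le_top).hom (gen ∘ e) P) : Set X) := by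
    ext z
    simp only [Set.mem_preimage, Set.mem_ofPred_eq, Set.mem_iUnion, Set.mem_iInter, Set.mem_union,
      Set.mem_compl_iff, SetLike.mem_coe]
    have hz : U.ι z ∈ U := z.2
    rw [le_trdegAt_iff f hz gen (adjoin_eq_top f hz hU gen hgen)]
    exact exists_congr fun e => forall_congr' fun P => forall_congr' fun m => imp_iff_not_or
  have hcpt : ∀ a : Γ(X, U), IsCompact (⇑U.ι ⁻¹' (X.basicOpen a : Set X)) := fun a =>
    U.ι.isOpenEmbedding.isInducing.isCompact_preimage' (hU.basicOpen a).isCompact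
      (by rw [Scheme.Opens.range_ι]; exact X.basicOpen_le a)
  have : IsAffine (U : Scheme.{u}) := hU
  rw [heq]
  refine @isClosed_iUnion_of_finite _ _ (constructibleTopology _) _ _ fun e =>
    @isClosed_iInter _ _ (constructibleTopology _) _ fun P =>
      @isClosed_iInter _ _ (constructibleTopology _) _ fun m => ?_
  exact @IsClosed.union _ _ _ (constructibleTopology _)
    (LimTop.PC.isClosed_cons_of_isClosed ((X.basicOpen _).2.preimage U.ι.continuous).isClosed_compl)
    (LimTop.PC.isClosed_cons ((X.basicOpen _).2.preimage U.ι.continuous) (hcpt _))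

end Groth.Agent.Lib.Flat55.ResTrdegCons
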