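import Groth.Agent.H21.SkDescent
import Groth.Agent.Lib.Cyc.Residue
import Mathlib.AlgebraicGeometry.Noetherian
import Mathlib.AlgebraicGeometry.Morphisms.Affine
import Mathlib.AlgebraicGeometry.Morphisms.Flat
import Mathlib.AlgebraicGeometry.Fiber
import Mathlib.RingTheory.Localization.Submodule
import Mathlib.RingTheory.Flat.FaithfullyFlat.Algebra

/-!
# Fibres being locally Noetherian and base change
-/

set_option autoImplicit false

universe u

open CategoryTheory CategoryTheory.Limits AlgebraicGeometry TensorProduct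

namespace Groth.Agent.Lib.Flat55.FibreNoetherian

set_option backward.isDefEq.respectTransparency false in
/-- Being locally Noetherian is invariant under an extension of the ground field which is
essentially of finite type. -/
theorem iff_of_fieldExtension {K L : CommRingCat.{u}} (hK : IsField K) (hL : IsField L) (φ : K ⟶ L)
    (hφ : φ.hom.EssFiniteType) {F F' : Scheme.{u}} (π : F' ⟶ F) (p : F ⟶ Spec K) (p' : F' ⟶ Spec L)
    (hc : IsPullback π p' p (Spec.map φ)) :
    IsLocallyNoetherian F ↔ IsLocallyNoetherian F' := by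
  have hflat : φ.hom.Flat := by
    let := φ.hom.toAlgebra
    let := hK.toField
    exact (inferInstance : Module.Flat K L)
  have hs : Surjective (Spec.map φ) := ⟨fun t ↦ by
    let := hK.toField
    let := hL.toField
    exact ⟨IsLocalRing.closedPoint L, Subsingleton.elim (α := PrimeSpectrum K) _ _⟩⟩
  have : Flat (Spec.map φ) := (HasRingHomProperty.Spec_iff (P := @Flat)).2 hflat
  have : IsAffineHom π := MorphismProperty.of_isPullback hc.flip (inferInstanceAs (IsAffineHom (Spec.map φ)))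
  have : Flat π := MorphismProperty.of_isPullback hc.flip (inferInstanceAs (Flat (Spec.map φ)))
  have : Surjective π := MorphismProperty.of_isPullback hc.flip hs
  have key : ∀ U : F.affineOpens, IsNoetherianRing Γ(F, U) ↔
      IsNoetherianRing Γ(F', π ⁻¹ᵁ U.1) := by
    rintro ⟨U, hU⟩
    have hU' : IsAffineOpen (π ⁻¹ᵁ U) := hU.preimage π
    have hsq : IsPullback (π ∣_ U) ((π ⁻¹ᵁ U).ι ≫ p') (U.ι ≫ p) (Spec.map φ) :=
      ((isPullback_morphismRestrict π U).flip.paste_horiz hc.flip).flip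
    have : IsAffine (U : Scheme.{u}) := hU
    have : IsAffine (π ⁻¹ᵁ U : Scheme.{u}) := hU'
    have hpo := isPushout_appTop_of_isPullback hsq
    let e₁ := (π ⁻¹ᵁ U).topIso
    let e₂ := U.topIso
    let : Algebra Γ(Spec K, ⊤) Γ((U : Scheme.{u}), ⊤) := (U.ι ≫ p).appTop.hom.toAlgebra
    let : Algebra Γ(Spec K, ⊤) Γ(Spec L, ⊤) := (Spec.map φ).appTop.hom.toAlgebra
    let : Algebra Γ((U : Scheme.{u}), ⊤) Γ((π ⁻¹ᵁ U : Scheme.{u}), ⊤) := (π ∣_ U).appTop.hom.toAlgebra
    let : Algebra Γ(Spec L, ⊤) Γ((π ⁻¹ᵁ U : Scheme.{u}), ⊤) := ((π ⁻¹ᵁ U).ι ≫ p').appTop.hom.toAlgebra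
    let : Algebra Γ(Spec K, ⊤) Γ((π ⁻¹ᵁ U : Scheme.{u}), ⊤) :=
      ((U.ι ≫ p).appTop ≫ (π ∣_ U).appTop).hom.toAlgebra
    have : IsScalarTower Γ(Spec K, ⊤) Γ((U : Scheme.{u}), ⊤) Γ((π ⁻¹ᵁ U : Scheme.{u}), ⊤) :=
      .of_algebraMap_eq fun _ ↦ rfl
    have : IsScalarTower Γ(Spec K, ⊤) Γ(Spec L, ⊤) Γ((π ⁻¹ᵁ U : Scheme.{u}), ⊤) := .of_algebraMap_eq' (by
      change _ = ((Spec.map φ).appTop ≫ ((π ⁻¹ᵁ U).ι ≫ p').appTop).hom
      rw [← hpo.w]
      rfl)
    have hpush : Algebra.IsPushout Γ(Spec K, ⊤) Γ((U : Scheme.{u}), ⊤) Γ(Spec L, ⊤)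
        Γ((π ⁻¹ᵁ U : Scheme.{u}), ⊤) := CommRingCat.isPushout_iff_isPushout.1 hpo
    have : Algebra.EssFiniteType Γ(Spec K, ⊤) Γ(Spec L, ⊤) := by
      rw [← RingHom.essFiniteType_algebraMap, RingHom.algebraMap_toAlgebra]
      exact (RingHom.EssFiniteType.respectsIso.arrow_mk_iso_iff (arrowIsoΓSpecOfIsAffine φ).symm).2 hφ
    constructor
    · intro hN
      have : IsNoetherianRing Γ((U : Scheme.{u}), ⊤) := isNoetherianRing_of_ringEquiv _ e₂.symm.commRingCatIsoToRingEquiv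
      have : Algebra.IsPushout Γ(Spec K, ⊤) Γ(Spec L, ⊤) Γ((U : Scheme.{u}), ⊤)
        Γ((π ⁻¹ᵁ U : Scheme.{u}), ⊤) := hpush.symm
      let ε := Algebra.IsPushout.equiv Γ(Spec K, ⊤) Γ((U : Scheme.{u}), ⊤) Γ(Spec L, ⊤)
        Γ((π ⁻¹ᵁ U : Scheme.{u}), ⊤)
      have : IsNoetherianRing (Γ((U : Scheme.{u}), ⊤) ⊗[Γ(Spec K, ⊤)] Γ(Spec L, ⊤)) :=
        Algebra.EssFiniteType.isNoetherianRing Γ((U : Scheme.{u}), ⊤) _
      have : IsNoetherianRing Γ((π ⁻¹ᵁ U : Scheme.{u}), ⊤) := isNoetherianRing_of_ringEquiv _ ε.toRingEquiv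
      exact isNoetherianRing_of_ringEquiv _ e₁.commRingCatIsoToRingEquiv
    · intro hN
      have : IsNoetherianRing Γ((π ⁻¹ᵁ U : Scheme.{u}), ⊤) := isNoetherianRing_of_ringEquiv _ e₁.symm.commRingCatIsoToRingEquiv
      have : Flat (π ∣_ U) := IsZariskiLocalAtTarget.restrict ‹Flat π› U
      have : Surjective (π ∣_ U) := IsZariskiLocalAtTarget.restrict ‹Surjective π› U
      have hff : (π ∣_ U).appTop.hom.FaithfullyFlat := (Flat.flat_and_surjective_iff_faithfullyFlat_of_isAffine _).1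
        ⟨inferInstance, inferInstance⟩
      have : Module.FaithfullyFlat Γ((U : Scheme.{u}), ⊤) Γ((π ⁻¹ᵁ U : Scheme.{u}), ⊤) :=
        RingHom.faithfullyFlat_algebraMap_iff.1 hff
      have := H21.SkDescent.isNoetherianRing_of_faithfullyFlat Γ((U : Scheme.{u}), ⊤) Γ((π ⁻¹ᵁ U : Scheme.{u}), ⊤)
      exact isNoetherianRing_of_ringEquiv _ e₂.commRingCatIsoToRingEquiv
  constructor
  · intro hF
    refine isLocallyNoetherian_of_affine_cover (S := fun U : F.affineOpens ↦ ⟨π ⁻¹ᵁ U.1, U.2.preimage π⟩)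
      (π.iSup_preimage_eq_top (iSup_affineOpens_eq_top F)) fun U ↦ (key U).1 (IsLocallyNoetherian.component_noetherian U)
  · intro hF'
    exact ⟨fun U ↦ (key U).2 (IsLocallyNoetherian.component_noetherian (X := F') ⟨π ⁻¹ᵁ U.1, U.2.preimage π⟩)⟩

/-- The fibres of a base change are locally Noetherian exactly when those of the morphism are. -/
theorem fiber_iff {X Y X' Y' : Scheme.{u}} (f : X ⟶ Y) (f' : X' ⟶ Y') (g' : X' ⟶ X) (g : Y' ⟶ Y)
    [LocallyOfFiniteType g] (hc : IsPullback g' f' f g) (y' : Y') :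
    IsLocallyNoetherian (f.fiber (g y')) ↔ IsLocallyNoetherian (f'.fiber y') := by
  have hout : IsPullback (f'.fiberι y' ≫ g') (f'.fiberToSpecResidueField y') f
      (Spec.map (g.residueFieldMap y') ≫ Y.fromSpecResidueField (g y')) := by
    rw [Scheme.Hom.SpecMap_residueFieldMap_fromSpecResidueField]
    exact (IsPullback.of_hasPullback f' (Y'.fromSpecResidueField y')).paste_horiz hc
  let π : f'.fiber y' ⟶ f.fiber (g y') :=
    pullback.lift (f'.fiberι y' ≫ g') (f'.fiberToSpecResidueField y' ≫ Spec.map (g.residueFieldMap y'))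
      (by rw [Category.assoc]; exact hout.w.trans (Category.assoc _ _ _).symm |>.trans (Category.assoc _ _ _))
  refine iff_of_fieldExtension (Field.toIsField _) (Field.toIsField _) (g.residueFieldMap y')
    (Groth.Agent.Lib.Cyc.Residue.residueFieldMap_essFiniteType (f := g) y') π (f.fiberToSpecResidueField (g y'))
    (f'.fiberToSpecResidueField y') (IsPullback.of_right ?_ (pullback.lift_snd _ _ _)
      (IsPullback.of_hasPullback f (Y.fromSpecResidueField (g y'))))
  convert hout using 1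
  exact pullback.lift_fst _ _ _

end Groth.Agent.Lib.Flat55.FibreNoetherian
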