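import Groth.Agent.Lib.Flat55.GenericStrata
import Groth.Agent.Lib.Flat55.FlatFunLimit
import Groth.Agent.Lib.Lim.IdealExt

/-!
# Generic flatness stratification
-/

set_option autoImplicit false

universe u

open CategoryTheory CategoryTheory.Limits AlgebraicGeometry TopologicalSpace Opposite TensorProduct
open Groth.Agent.Lib

namespace Groth.Agent.Lib.Flat55.GenericStrataScheme

open Groth.Agent.Lib.Lim.IdealExt (IsFG isFG_bot isFG_sup exists_isFG_le)

/-- A finite chain from a reflexive-transitive closure. -/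
theorem exists_fin {α : Type*} {r : α → α → Prop} {a b : α} (h : Relation.ReflTransGen r a b) :
    ∃ (t : ℕ) (I : Fin (t + 1) → α), I 0 = a ∧ I (Fin.last t) = b ∧
      ∀ i : Fin t, r (I i.castSucc) (I i.succ) := by
  induction h using Relation.ReflTransGen.head_induction_on with
  | refl => exact ⟨0, fun _ => b, rfl, rfl, fun i => i.elim0⟩
  | @head a c h _ ih =>
    obtain ⟨t, I, h0, hl, hI⟩ := ih
    refine ⟨t + 1, Fin.cons a I, rfl, ?_, fun i => ?_⟩
    · rw [← Fin.succ_last, Fin.cons_succ]; exact hl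
    · refine Fin.cases ?_ (fun j => ?_) i
      · show r a (I 0)
        rw [h0]; exact h
      · rw [Fin.cons_succ, Fin.castSucc_succ, Fin.cons_succ]
        exact hI j

variable {S : Scheme.{u}}

theorem isFG_mul {J K : S.IdealSheafData} (hJ : IsFG J) (hK : IsFG K) : IsFG (J * K) := fun U => by
  rw [Scheme.IdealSheafData.ideal_mul, Pi.mul_apply]
  exact Submodule.FG.mul (hJ U) (hK U)

theorem support_sup (J K : S.IdealSheafData) :
    ((J ⊔ K).support : Set S) = (J.support : Set S) ∩ K.support := by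
  have h : (J ⊔ K).support = J.support ⊓ K.support := Scheme.IdealSheafData.gc.l_sup
  rw [h]; rfl

/-- An ideal of finite type cutting out the complement of a quasi-compact open. -/
theorem exists_isFG_support [CompactSpace S] [QuasiSeparatedSpace S] (U : S.Opens)
    (hU : IsCompact (U : Set S)) : ∃ J : S.IdealSheafData, IsFG J ∧ (J.support : Set S) = (U : Set S)ᶜ := by
  classical
  let Z : Closeds S := ⟨(U : Set S)ᶜ, U.2.isClosed_compl⟩
  let I := Scheme.IdealSheafData.vanishingIdeal Z
  have hZ : Z ≤ I.support := Scheme.IdealSheafData.le_support_iff_le_vanishingIdeal.2 le_rfl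
  have hloc : ∀ x : U, ∃ J : Lim.IdealExt.FGSub I, x.1 ∉ J.1.support := by
    intro x
    by_contra! hall
    have : x.1 ∈ (I.support : Set S) := by
      have h : (⨆ J : Lim.IdealExt.FGSub I, J.1).support = ⨅ J : Lim.IdealExt.FGSub I, J.1.support :=
        Scheme.IdealSheafData.gc.l_iSup
      rw [Lim.IdealExt.eq_iSup_fgSub I, h, Closeds.coe_iInf]
      exact Set.mem_iInter.2 hall
    rw [Scheme.IdealSheafData.coe_support_vanishingIdeal] at this
    exact this x.2
  choose J hJ using hloc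
  obtain ⟨t, ht⟩ := hU.elim_finite_subcover (fun x : U => ((J x).1.support : Set S)ᶜ)
    (fun x => (J x).1.support.isClosed.isOpen_compl) (fun x hx => Set.mem_iUnion.2 ⟨⟨x, hx⟩, hJ ⟨x, hx⟩⟩)
  obtain ⟨M, hM⟩ := (t.image J).exists_le
  refine ⟨M.1, M.2.2, subset_antisymm (fun x hx hxU => ?_) ?_⟩
  · obtain ⟨y, hy, hxy⟩ := Set.mem_iUnion₂.1 (ht hxU)
    exact hxy (Scheme.IdealSheafData.support_antitone (hM _ (Finset.mem_image_of_mem J hy)) hx)
  · exact subset_trans hZ (Scheme.IdealSheafData.support_antitone M.2.1)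

variable {X : Scheme.{u}} (f : X ⟶ S) (F : X.Modules)

/-- The module is flat over the stratum cut out by two ideals. -/
def SStep (K K' : S.IdealSheafData) : Prop :=
  K ≤ K' ∧ IsFG K' ∧ FlatMod.IsFlatOver
    (PicF.XTproj f (Over.mk ((K.subschemeι ⁻¹ᵁ K'.support.compl).ι ≫ K.subschemeι)))
    (FGA.ET f F (Over.mk ((K.subschemeι ⁻¹ᵁ K'.support.compl).ι ≫ K.subschemeι)))

/-- Flatness over a base is local on the base. -/
theorem isFlatOver_of_cover (T : Over S) (h : ∀ y : T.left, ∃ O : T.left.Opens, y ∈ O ∧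
      FlatMod.IsFlatOver (PicF.XTproj f (Over.mk (O.ι ≫ T.hom))) (FGA.ET f F (Over.mk (O.ι ≫ T.hom)))) :
    FlatMod.IsFlatOver (PicF.XTproj f T) (FGA.ET f F T) := by
  intro x
  obtain ⟨O, hy, hO⟩ := h (PicF.XTproj f T x)
  let g : Over.mk (O.ι ≫ T.hom) ⟶ T := Over.homMk O.ι rfl
  have sq := FlatFunSheaf.isPullback_XTmap f g
  obtain ⟨z, hz, -⟩ := Scheme.Pullback.exists_preimage_pullback (f := PicF.XTproj f T) (g := g.left) x
    ⟨PicF.XTproj f T x, hy⟩ rfl
  have hx : PicF.XTmap f g (sq.isoPullback.inv z) = x := by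
    rw [← Scheme.Hom.comp_apply, sq.isoPullback_inv_fst, hz]
  have : Flat g.left := inferInstanceAs (Flat O.ι)
  exact hx ▸ FlatFunSheaf.isFlatOverAt_of_cover f F g _ (hO _)

theorem map_ideal_eq_zero {T : Scheme.{u}} (K : S.IdealSheafData) (v : T ⟶ K.subscheme)
    (U : S.affineOpens) (e : ⊤ ≤ (v ≫ K.subschemeι) ⁻¹ᵁ U.1) {a : Γ(S, U.1)} (ha : a ∈ K.ideal U) :
    (v ≫ K.subschemeι).appLE U.1 ⊤ e a = 0 := by
  rw [← K.ker_subschemeι, Scheme.Hom.ker_apply, RingHom.mem_ker] at ha
  rw [Scheme.Hom.comp_appLE, CommRingCat.comp_apply, ha, map_zero]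

theorem isUnit_appLE {T : Scheme.{u}} [IsAffine T] (v : T ⟶ S) {U : S.Opens} (e : ⊤ ≤ v ⁻¹ᵁ U)
    (c : Γ(S, U)) (hc : ∀ y : T, v y ∈ S.basicOpen c) : IsUnit (v.appLE U ⊤ e c) := by
  have h : T.basicOpen (v.appLE U ⊤ e c) = ⊤ := by
    rw [Scheme.basicOpen_appLE]
    exact top_le_iff.1 fun y _ => ⟨trivial, hc y⟩
  refine Ideal.span_singleton_eq_top.1 ((IsAffineOpen.iSup_basicOpen_eq_self_iff (isAffineOpen_top T)
    (s := {v.appLE U ⊤ e c})).1 ?_)
  simpa using h

theorem exists_notMem_basicOpen (K : S.IdealSheafData) (U : S.affineOpens) {s : S} (hs : s ∈ U.1)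
    (h : s ∉ K.support) : ∃ c ∈ K.ideal U, s ∈ S.basicOpen c := by
  rw [Scheme.IdealSheafData.mem_support_iff_of_mem hs, Scheme.mem_zeroLocus_iff] at h
  push Not at h
  exact h

variable [CompactSpace S] [QuasiSeparatedSpace S]

open GenericStrata in
/-- Stratification of the part of a closed subscheme lying in an affine open. -/
theorem chain_affine [QuasiCompact f] [LocallyOfFinitePresentation f] [F.IsQuasicoherent]
    (hF : CohB1.IsFP F) (U : S.affineOpens) (JU : S.IdealSheafData) (hJU : IsFG JU)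
    (hsupp : (JU.support : Set S) = (U.1 : Set S)ᶜ) (K : S.IdealSheafData) (hK : IsFG K) :
    Relation.ReflTransGen (SStep f F) K (K ⊔ JU) := by
  have : IsAffine (U.1 : Scheme.{u}) := U.2
  let T₀ : Over S := Over.mk U.1.ι
  have : IsAffine T₀.left := U.2
  obtain ⟨κ, _, ch, hch⟩ := FlatFunLimit.exists_cover f T₀
  let R := Γ(T₀.left, ⊤)
  have hle : (⊤ : T₀.left.Opens) ≤ U.1.ι ⁻¹ᵁ U.1 := by rw [U.1.ι_preimage_self]
  let θ : Γ(S, U.1) ⟶ R := U.1.ι.appLE U.1 ⊤ hle
  have hθ : Function.Bijective θ := by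
    have : IsIso θ := by
      dsimp only [θ]
      rw [Scheme.Opens.ι_appLE]
      have key : ∀ {V W : S.Opens} (h : W ≤ V), V = W → IsIso (S.presheaf.map (homOfLE h).op) := by
        rintro V _ h rfl
        rw [show homOfLE h = 𝟙 V from rfl]
        infer_instance
      exact key _ U.1.ι_image_top.symm
    exact ConcreteCategory.bijective_of_isIso θ
  -- the product of the charts
  have hfp : ∀ k, Algebra.FinitePresentation R (ch k).ring := fun k =>
    (PicF.XTproj f T₀).finitePresentation_appLE (isAffineOpen_top _) (ch k).hW le_top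
  let B := ∀ k, ((ch k).ring : Type u)
  let M := ∀ k, (((ch k).modF.obj F : ModuleCat.{u} (ch k).ring) : Type u)
  have : Algebra.FinitePresentation R B := Algebra.FinitePresentation.pi _
  have hMfp : Module.FinitePresentation B M := by
    classical
    let : ∀ k, Algebra B (ch k).ring := fun k => (Pi.evalRingHom _ k).toAlgebra
    let : ∀ k, Module B ((ch k).modF.obj F) := fun k => Module.compHom _ (algebraMap B (ch k).ring)
    have : ∀ k, IsScalarTower B (ch k).ring ((ch k).modF.obj F) := fun k =>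
      IsScalarTower.of_algebraMap_smul fun _ _ => rfl
    have : ∀ k, Module.FinitePresentation B (ch k).ring := fun k => by
      refine Module.finitePresentation_of_surjective (Algebra.linearMap B (ch k).ring)
        (Function.surjective_eval k) ⟨{1 - Pi.single k 1}, le_antisymm ?_ fun x hx => ?_⟩
      · rw [Submodule.span_le, Finset.coe_singleton, Set.singleton_subset_iff]
        show (1 - Pi.single k 1 : ∀ l, ((ch l).ring : Type u)) k = 0
        rw [Pi.sub_apply, Pi.one_apply, Pi.single_eq_same, sub_self]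
      · rw [Finset.coe_singleton, Submodule.mem_span_singleton]
        refine ⟨x, funext fun l => ?_⟩
        show x l * (1 - Pi.single k 1 : ∀ l, ((ch l).ring : Type u)) l = x l
        have hx' : x k = 0 := hx
        rcases eq_or_ne l k with rfl | hl
        · rw [hx', zero_mul]
        · rw [Pi.sub_apply, Pi.one_apply, Pi.single_eq_of_ne hl, sub_zero, mul_one]
    have : ∀ k, Module.FinitePresentation B ((ch k).modF.obj F) := fun k =>
      have := (ch k).finitePresentation F hF
      Module.FinitePresentation.trans B ((ch k).modF.obj F) (ch k).ring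
    exact Module.FinitePresentation.pi (R := B) _
  have : IsScalarTower R B M := ⟨fun r b m => funext fun k => smul_assoc r (b k) (m k)⟩
  let J₀ : Ideal R := (K.ideal U).map θ.hom
  have hchain := exists_chain R B M J₀ (Ideal.FG.map (hK U) _)
  let a : Ideal R → Ideal Γ(S, U.1) := fun J => J.comap θ.hom
  let I' := K ⊔ JU
  have key : ∀ J, Relation.ReflTransGen (Step R M) J₀ J → ∃ K₁ : S.IdealSheafData, IsFG K₁ ∧
      K ≤ K₁ ∧ K₁ ≤ I' ∧ Relation.ReflTransGen (SStep f F) K K₁ ∧
      K₁.ideal U ≤ a J ∧ I'.ideal U * a J ≤ K₁.ideal U := by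
    intro J hJ
    induction hJ with
    | refl =>
      refine ⟨K, hK, le_rfl, le_sup_left, .refl, Ideal.le_comap_map, le_trans Ideal.mul_le_right ?_⟩
      exact (Ideal.comap_map_of_bijective _ hθ).le
    | @tail J J' _ hstep ih =>
      obtain ⟨K₁, hK₁, h1, h2, hc, h3, h4⟩ := ih
      obtain ⟨hJJ', hJ'fg, hflat⟩ := hstep
      have ha' : (a J').FG := by
        let e := RingEquiv.ofBijective θ.hom hθ
        have : a J' = J'.map e.symm.toRingHom := (Ideal.map_symm e (I := J')).symm
        rw [this]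
        exact Ideal.FG.map hJ'fg _
      obtain ⟨E, -, hE, hEU⟩ := exists_isFG_le (⊤ : S.IdealSheafData) U (a J') ha' (by simp)
      have hidl : (K₁ ⊔ I' * E).ideal U = K₁.ideal U ⊔ I'.ideal U * a J' := by
        rw [Scheme.IdealSheafData.ideal_sup, Pi.sup_apply, Scheme.IdealSheafData.ideal_mul,
          Pi.mul_apply, hEU]
      refine ⟨K₁ ⊔ I' * E, isFG_sup hK₁ (isFG_mul (isFG_sup hK hJU) hE), h1.trans le_sup_left,
        sup_le h2 (fun V => by rw [Scheme.IdealSheafData.ideal_mul, Pi.mul_apply]; exact Ideal.mul_le_left), ?_, ?_, ?_⟩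
      swap
      · rw [Scheme.IdealSheafData.ideal_sup, Pi.sup_apply, Scheme.IdealSheafData.ideal_mul,
          Pi.mul_apply, hEU]
        exact sup_le (h3.trans (Ideal.comap_mono hJJ')) Ideal.mul_le_right
      swap
      · exact le_of_le_of_eq le_sup_right hidl.symm
      refine hc.tail ⟨le_sup_left, isFG_sup hK₁ (isFG_mul (isFG_sup hK hJU) hE), ?_⟩
      let K'' := K₁ ⊔ I' * E
      have hK''le : K'' ≤ I' := sup_le h2 fun V => by
        rw [Scheme.IdealSheafData.ideal_mul, Pi.mul_apply]; exact Ideal.mul_le_left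
      have hK''U : K''.ideal U ≤ a J' := by
        simp only [K'', Scheme.IdealSheafData.ideal_sup, Pi.sup_apply, Scheme.IdealSheafData.ideal_mul,
          Pi.mul_apply, hEU]
        exact sup_le (h3.trans (Ideal.comap_mono hJJ')) Ideal.mul_le_right
      let W := K₁.subschemeι ⁻¹ᵁ K''.support.compl
      refine isFlatOver_of_cover f F (Over.mk (W.ι ≫ K₁.subschemeι)) fun y => ?_
      let s := (W.ι ≫ K₁.subschemeι) y
      have hs'' : s ∉ K''.support := y.2
      have hsI : s ∉ I'.support := fun h => hs'' (Scheme.IdealSheafData.support_antitone hK''le h)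
      have hs1 : s ∈ (K.support : Set S) := by
        refine Scheme.IdealSheafData.support_antitone h1 ?_
        show s ∈ (K₁.support : Set S)
        rw [← K₁.range_subschemeι]
        exact ⟨W.ι y, rfl⟩
      have hsU : s ∈ U.1 := by
        by_contra hsU
        refine hsI ?_
        show s ∈ ((K ⊔ JU).support : Set S)
        rw [support_sup, hsupp]
        exact ⟨hs1, hsU⟩
      obtain ⟨ε, hε, hsε⟩ := exists_notMem_basicOpen I' U hsU hsI
      obtain ⟨γ, hγ, hsγ⟩ := exists_notMem_basicOpen K'' U hsU hs''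
      obtain ⟨O, hOaff, hyO, hOle⟩ := exists_isAffineOpen_mem_and_subset
        (U := (W.ι ≫ K₁.subschemeι) ⁻¹ᵁ (S.basicOpen ε ⊓ S.basicOpen γ)) (x := y) ⟨hsε, hsγ⟩
      refine ⟨O, hyO, ?_⟩
      let T' : Over S := Over.mk (O.ι ≫ W.ι ≫ K₁.subschemeι)
      have : IsAffine T'.left := hOaff
      have hrange : ∀ z : T'.left, T'.hom z ∈ S.basicOpen ε ⊓ S.basicOpen γ := fun z => hOle z.2
      have hsub : Set.range T'.hom ⊆ Set.range U.1.ι := by
        rintro _ ⟨z, rfl⟩
        rw [Scheme.Opens.range_ι]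
        exact S.basicOpen_le ε (hrange z).1
      let g : T' ⟶ T₀ := Over.homMk (IsOpenImmersion.lift U.1.ι T'.hom hsub)
        (IsOpenImmersion.lift_fac _ _ _)
      let : Algebra R Γ(T'.left, ⊤) := g.left.appTop.hom.toAlgebra
      have e : (⊤ : T'.left.Opens) ≤ T'.hom ⁻¹ᵁ U.1 := fun z _ => S.basicOpen_le ε (hrange z).1
      have hφ : ∀ r, algebraMap R Γ(T'.left, ⊤) (θ r) = T'.hom.appLE U.1 ⊤ e r := by
        intro r
        have h := IsOpenImmersion.lift_fac U.1.ι T'.hom hsub
        show g.left.appTop (U.1.ι.appLE U.1 ⊤ hle r) = _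
        rw [show g.left.appTop = g.left.appLE ⊤ ⊤ le_rfl from
            (Scheme.Hom.appLE_eq_app g.left (U := ⊤)).symm, ← CommRingCat.comp_apply,
          Scheme.Hom.appLE_comp_appLE]
        simp only [g, Over.homMk_left, h]
      have hkill : ∀ r ∈ K₁.ideal U, algebraMap R Γ(T'.left, ⊤) (θ r) = 0 := fun r hr => by
        rw [hφ]
        exact map_ideal_eq_zero K₁ (O.ι ≫ W.ι) U e hr
      have hunitε : IsUnit (algebraMap R Γ(T'.left, ⊤) (θ ε)) := by
        rw [hφ]; exact isUnit_appLE T'.hom e ε fun z => (hrange z).1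
      have hunitγ : IsUnit (algebraMap R Γ(T'.left, ⊤) (θ γ)) := by
        rw [hφ]; exact isUnit_appLE T'.hom e γ fun z => (hrange z).2
      have hflatM : Module.Flat Γ(T'.left, ⊤) (Γ(T'.left, ⊤) ⊗[R] M) := by
        refine hflat _ (eq_bot_iff.2 (Ideal.map_le_iff_le_comap.2 fun r hr => ?_))
          (Ideal.eq_top_of_isUnit_mem _ (Ideal.mem_map_of_mem _ (hK''U hγ)) hunitγ)
        obtain ⟨r, rfl⟩ := hθ.2 r
        have h0 := hkill _ (h4 (Ideal.mul_mem_mul hε hr))
        rw [map_mul, map_mul, hunitε.mul_right_eq_zero] at h0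
        exact Ideal.mem_comap.2 (Ideal.mem_bot.2 h0)
      refine (FlatFunLimit.isFlatOver_iff g rfl ch hch).2 fun k => ?_
      classical
      exact Module.Flat.of_retract
        ((LinearMap.single R (fun l => ((ch l).modF.obj F : Type u)) k).baseChange Γ(T'.left, ⊤))
        ((LinearMap.proj (R := R) (φ := fun l => ((ch l).modF.obj F : Type u)) k).baseChange Γ(T'.left, ⊤))
        (by rw [← LinearMap.baseChange_comp, LinearMap.proj_comp_single_same, LinearMap.baseChange_id])
  obtain ⟨K₁, hK₁, h1, h2, hc, -, h4⟩ := key ⊤ hchain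
  have hU : K₁.ideal U = I'.ideal U := by
    refine le_antisymm (h2 U) ?_
    simpa [a] using h4
  refine hc.tail ⟨h2, isFG_sup hK hJU, fun x => ?_⟩
  -- the last stratum is empty
  exfalso
  let W := K₁.subschemeι ⁻¹ᵁ I'.support.compl
  let y : W := PicF.XTproj f (Over.mk (W.ι ≫ K₁.subschemeι)) x
  let s := (W.ι ≫ K₁.subschemeι) y
  have hsI : s ∉ I'.support := y.2
  have hs1 : s ∈ (K₁.support : Set S) := by
    rw [← K₁.range_subschemeι]
    exact ⟨W.ι y, rfl⟩
  by_cases hsU : s ∈ U.1
  · apply hsI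
    rw [Scheme.IdealSheafData.mem_support_iff_of_mem hsU, ← hU,
      ← Scheme.IdealSheafData.mem_support_iff_of_mem hsU]
    exact hs1
  · apply hsI
    show s ∈ ((K ⊔ JU).support : Set S)
    rw [support_sup, hsupp]
    exact ⟨Scheme.IdealSheafData.support_antitone h1 hs1, hsU⟩

/-- Stratification of a closed subscheme covered by finitely many affine opens. -/
theorem chain_list [QuasiCompact f] [LocallyOfFinitePresentation f] [F.IsQuasicoherent]
    (hF : CohB1.IsFP F) (Us : List S.affineOpens) : ∀ K : S.IdealSheafData, IsFG K →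
      (∀ s ∈ (K.support : Set S), ∃ U ∈ Us, s ∈ U.1) → Relation.ReflTransGen (SStep f F) K ⊤ := by
  induction Us with
  | nil =>
    intro K _ h
    have : K = ⊤ := (Scheme.IdealSheafData.support_eq_bot_iff _).1
      (Closeds.ext (Set.eq_empty_of_forall_notMem fun s hs => by simpa using h s hs))
    rw [this]
  | cons U Us ih =>
    intro K hK h
    obtain ⟨JU, hJU, hsupp⟩ := exists_isFG_support U.1 U.2.isCompact
    refine (chain_affine f F hF U JU hJU hsupp K hK).trans (ih _ (isFG_sup hK hJU) fun s hs => ?_)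
    rw [support_sup, hsupp] at hs
    obtain ⟨V, hV, hsV⟩ := h s hs.1
    rcases List.mem_cons.1 hV with rfl | hV
    · exact absurd hsV hs.2
    · exact ⟨V, hV, hsV⟩

theorem exists_stratification [QuasiCompact f] [LocallyOfFinitePresentation f] [F.IsQuasicoherent]
    (hF : CohB1.IsFP F) :
    ∃ (t : ℕ) (I : Fin (t + 1) → S.IdealSheafData), I 0 = ⊥ ∧ I (Fin.last t) = ⊤ ∧
      (∀ i, IsFG (I i)) ∧ ∀ i : Fin t, SStep f F (I i.castSucc) (I i.succ) := by
  classical
  obtain ⟨𝒮, h𝒮⟩ := isCompact_univ.elim_finite_subcover (fun U : S.affineOpens => (U.1 : Set S))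
    (fun U => U.1.2) (fun x _ => by
      obtain ⟨_, ⟨U, hU, rfl⟩, hxU, -⟩ :=
        S.isBasis_affineOpens.exists_subset_of_mem_open (Set.mem_univ x) isOpen_univ
      exact Set.mem_iUnion.mpr ⟨⟨U, hU⟩, hxU⟩)
  obtain ⟨t, I, h0, hl, hI⟩ := exists_fin (chain_list f F hF 𝒮.toList ⊥ isFG_bot fun s _ => by
    obtain ⟨U, hU, hs⟩ := Set.mem_iUnion₂.1 (h𝒮 (Set.mem_univ s))
    exact ⟨U, Finset.mem_toList.2 hU, hs⟩)
  refine ⟨t, I, h0, hl, fun i => ?_, hI⟩
  refine Fin.cases (h0 ▸ isFG_bot) (fun j => (hI j).2.1) i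

end Groth.Agent.Lib.Flat55.GenericStrataScheme
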