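import Groth.Agent.Lib.Flat55.FibreDimFlat
import Groth.Agent.Lib.Cyc.LocalDim
import Groth.Agent.Lib.VarDim.Semicont
import Groth.Agent.Lib.DvrCrit.Curve
import Groth.Agent.H2.FibreDimPullback
import Mathlib.AlgebraicGeometry.Morphisms.UniversallyOpen
import Groth.Agent.Lib.VarDim.Irreducible
import Mathlib.AlgebraicGeometry.ZariskisMainTheorem

/-!
# Equidimensionality of the fibres of flat morphisms, and zero-dimensional fibres
-/

set_option autoImplicit false

universe u

open CategoryTheory CategoryTheory.Limits AlgebraicGeometry Topology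
open Groth.Agent.Lib Groth.Agent.Lib.VarDim.Basic Groth.Agent.Lib.VarDim.Fibre

namespace Groth.Agent.Lib.Flat55.FlatEquidim

variable {X Y : Scheme.{u}} (f : X ⟶ Y)

/-- Maximal points of a scheme. -/
def IsMax (z : X) : Prop := ∀ z' : X, z' ⤳ z → z' = z

/-- Maximal points of fibres. -/
def IsMaxFib (z : X) : Prop := ∀ z' : X, f.base z' = f.base z → z' ⤳ z → z' = z

theorem IsMax.isMaxFib {z : X} (h : IsMax z) : IsMaxFib f z := fun z' _ => h z'

theorem exists_isMax_specializes (x : X) : ∃ z : X, z ⤳ x ∧ IsMax z := by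
  obtain ⟨z, -, hzx, hmax, -⟩ := exists_maximal (X := X) isClosed_univ (Set.mem_univ x)
  exact ⟨z, hzx, fun z' h => hmax z' trivial h⟩

theorem isMax_apply [Flat f] {z : X} (h : IsMax z) : IsMax (f.base z) := by
  intro y hy
  obtain ⟨z', hz', rfl⟩ := Flat.generalizingMap f hy
  rw [h z' hz']

theorem isGenericPoint_closure (x : X) : IsGenericPoint x (closure ({x} : Set X)) := rfl

theorem closure_mem_irreducibleComponents {z : X} (h : IsMax z) :
    closure ({z} : Set X) ∈ irreducibleComponents X := by
  refine ⟨isIrreducible_singleton.closure, fun T hT hle => ?_⟩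
  obtain ⟨b, hb⟩ := QuasiSober.sober hT.closure isClosed_closure
  have hbz : b = z := h b (hb.specializes (subset_closure (hle (subset_closure rfl))))
  rw [← hbz, hb.def]
  exact subset_closure

theorem exists_isMax_isGenericPoint {Z : Set X} (hZ : Z ∈ irreducibleComponents X) :
    ∃ z : X, IsMax z ∧ IsGenericPoint z Z := by
  obtain ⟨b, hb⟩ := QuasiSober.sober hZ.1 (isClosed_of_mem_irreducibleComponents Z hZ)
  refine ⟨b, fun z' hz' => ?_, hb⟩
  have hle : Z ⊆ closure {z'} := hb ▸ hz'.closure_subset
  exact ((show IsGenericPoint z' Z from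
    Set.Subset.antisymm (hZ.2 isIrreducible_singleton.closure hle) hle)).eq hb

variable [LocallyOfFiniteType f]

/-- At a maximal point of a fibre the dimension of the fibre is the transcendence degree. -/
theorem fibreDimAt_eq_tdAt {z : X} (h : IsMaxFib f z) :
    FlatMor.fibreDimAt f z = (tdAt f z : WithBot ℕ∞) := by
  refine le_antisymm ((Cyc.LocalDim.fibreDimAt_le_iff f z _).2 fun ξ hξ hs => ?_)
    (VarDim.Semicont.tdAt_le_fibreDimAt f specializes_rfl rfl)
  rw [h ξ hξ hs, tdAt]
  obtain ⟨e, he⟩ := FibreDim.Chart.exists_fibreDimAt_eq f z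
  have := Cyc.LocalDim.trdegAt_le_of_fibreDimAt_le f z e he.le
  rw [Cardinal.cast_toNat_of_lt_aleph0 (this.trans_lt Cardinal.natCast_lt_aleph0)]

omit [LocallyOfFiniteType f] in
/-- The points of a fibre which are maximal in it are the generic points of its components. -/
theorem isMax_asFiber_iff {y : Y} (a : f.fiber y) :
    IsMax a ↔ IsMaxFib f ((f.fiberι y).base a) := by
  have hy : ∀ b : f.fiber y, f.base ((f.fiberι y).base b) = y := fun b => by
    have : (f.fiberι y).base b ∈ Set.range (f.fiberι y).base := ⟨b, rfl⟩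
    rwa [f.range_fiberι] at this
  constructor
  · intro h z' hz' hs
    obtain ⟨b, rfl⟩ : z' ∈ Set.range (f.fiberι y).base := by
      rw [f.range_fiberι]; exact hz'.trans (hy a)
    rw [h b ((f.fiberι y).isEmbedding.isInducing.specializes_iff.1 hs)]
  · intro h b hb
    exact (f.fiberι y).isEmbedding.injective
      (h _ ((hy b).trans (hy a).symm) (hb.map (f.fiberι y).continuous))

set_option backward.isDefEq.respectTransparency.types false in
/-- The dimension of a component of a fibre. -/
theorem topologicalKrullDim_fibre_component {y : Y} (a : f.fiber y) {Z : Set (f.fiber y)}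
    (hg : IsGenericPoint a Z) :
    topologicalKrullDim ↥Z = (tdAt f ((f.fiberι y).base a) : WithBot ℕ∞) := by
  have : LocallyOfFiniteType (X := f.fiber y) (Y := Spec (CommRingCat.of (Y.residueField y)))
      (f.fiberToSpecResidueField y) :=
    inferInstanceAs (LocallyOfFiniteType (Limits.pullback.snd f (Y.fromSpecResidueField y)))
  rw [topologicalKrullDim_isGenericPoint (K := Y.residueField y) (f.fiberToSpecResidueField y) hg]
  exact congrArg (fun n : ℕ => (n : WithBot ℕ∞))
    (congrArg Cardinal.toNat (Cyc.FieldDim.trdegAt_fiber f y a))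

/-- All components of all fibres have dimension `n` iff the transcendence degree is `n` at all maximal
points of fibres. -/
theorem forall_fibre_component_iff (n : ℕ) :
    (∀ (y : Y), ∀ Z ∈ irreducibleComponents ↥(f.fiber y),
        topologicalKrullDim ↥Z = (n : WithBot ℕ∞)) ↔
      ∀ x : X, IsMaxFib f x → tdAt f x = n := by
  constructor
  · intro h x hx
    have ha : IsMax (f.asFiber x) :=
      (isMax_asFiber_iff f (f.asFiber x)).2 (by rw [f.fiberι_asFiber]; exact hx)
    have h1 := h _ _ (closure_mem_irreducibleComponents ha)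
    rw [topologicalKrullDim_fibre_component f _ (isGenericPoint_closure (f.asFiber x)),
      f.fiberι_asFiber] at h1
    exact_mod_cast h1
  · intro h y Z hZ
    obtain ⟨a, ha, hg⟩ := exists_isMax_isGenericPoint hZ
    rw [topologicalKrullDim_fibre_component f a hg, h _ ((isMax_asFiber_iff f a).1 ha)]

section field

variable {K : Type u} [Field K] (qX : X ⟶ Spec (CommRingCat.of K))
  (qY : Y ⟶ Spec (CommRingCat.of K)) [LocallyOfFiniteType qX]

omit f in
theorem forall_component_iff (m : ℕ) :
    (∀ Z ∈ irreducibleComponents (X : Type u), topologicalKrullDim ↥Z = (m : WithBot ℕ∞)) ↔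
      ∀ z : X, IsMax z → pdim qX z = m := by
  constructor
  · intro h z hz
    have h1 := h _ (closure_mem_irreducibleComponents hz)
    rw [topologicalKrullDim_isGenericPoint qX (isGenericPoint_closure z)] at h1
    exact_mod_cast h1
  · intro h Z hZ
    obtain ⟨z, hz, hg⟩ := exists_isMax_isGenericPoint hZ
    rw [topologicalKrullDim_isGenericPoint qX hg, h z hz]

omit f in
theorem isMax_genericPoint [IrreducibleSpace X] : IsMax (genericPoint X) := fun z hz =>
  (hz.antisymm ((genericPoint_spec X).specializes (Set.mem_univ z))).eq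

omit f in
theorem eq_genericPoint_of_isMax [IrreducibleSpace X] {z : X} (h : IsMax z) :
    z = genericPoint X :=
  (h _ ((genericPoint_spec X).specializes (Set.mem_univ z))).symm

variable [LocallyOfFiniteType qY] [Flat f]

omit qX [LocallyOfFiniteType qX] in
include qY in
/-- A maximal point of a fibre has the relative dimension of the components through it. -/
theorem tdAt_eq_of_isMax {x z : X} (hx : IsMaxFib f x) (hzx : z ⤳ x) (hz : IsMax z) :
    tdAt f z = tdAt f x := by
  have : IsLocallyNoetherian Y := LocallyOfFiniteType.isLocallyNoetherian qY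
  have : LocallyOfFinitePresentation f := DvrCrit.lfp_of_lft f
  obtain ⟨N, hxN, hN⟩ := FibreDimFlat.exists_open_forall_fibreDimAt_eq f x hx
  have h := hN z (hzx.mem_open N.2 hxN)
  rw [fibreDimAt_eq_tdAt f hx, fibreDimAt_eq_tdAt f (hz.isMaxFib f)] at h
  exact_mod_cast h

include qY in
/-- The fibres are equidimensional of dimension `n` iff every component of the source has relative
dimension `n`. -/
theorem forall_isMax_iff (hf : f ≫ qY = qX) (d n : ℕ)
    (hY : ∀ y : Y, IsMax y → pdim qY y = d) :
    (∀ z : X, IsMax z → pdim qX z = d + n) ↔ ∀ x : X, IsMaxFib f x → tdAt f x = n := by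
  have key : ∀ z : X, IsMax z → pdim qX z = d + tdAt f z := fun z hz => by
    rw [pdim_eq_add qX qY f hf z, hY _ (isMax_apply f hz)]
  constructor
  · intro h x hx
    obtain ⟨z, hzx, hz⟩ := exists_isMax_specializes x
    have h1 := key z hz
    rw [h z hz] at h1
    rw [← tdAt_eq_of_isMax f qY hx hzx hz]
    omega
  · intro h z hz
    rw [key z hz, h z (hz.isMaxFib f)]

include qY in
/-- The equidimensionality equivalence over a base equidimensional of dimension `d`. -/
theorem components_iff (hf : f ≫ qY = qX) (d n : ℕ) (hY : ∀ y : Y, IsMax y → pdim qY y = d) :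
    (∀ Z ∈ irreducibleComponents (X : Type u),
        topologicalKrullDim ↥Z = ((d + n : ℕ) : WithBot ℕ∞)) ↔
      ∀ (y : Y), ∀ Z ∈ irreducibleComponents ↥(f.fiber y),
        topologicalKrullDim ↥Z = (n : WithBot ℕ∞) := by
  rw [forall_component_iff qX, forall_fibre_component_iff f n,
    forall_isMax_iff f qX qY hf d n hY]

omit qX [LocallyOfFiniteType qX] [LocallyOfFiniteType qY] [Flat f] in
/-- Equidimensional fibres give constant fibre dimension at every point. -/
theorem fibreDimAt_eq_of_forall (n : ℕ) (h : ∀ x : X, IsMaxFib f x → tdAt f x = n) (x : X) :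
    FlatMor.fibreDimAt f x = (n : WithBot ℕ∞) := by
  obtain ⟨z, -, hz, hmax, hd⟩ := FibreDim.Chart.exists_maximal_generization f x
  have hm : IsMaxFib f z := fun z' h' hs => hmax z' (h'.trans hz) hs
  rw [← hd, fibreDimAt_eq_tdAt f hm, h z hm]

end field

/-- Zero-dimensional fibres give a locally quasi-finite morphism. -/
theorem locallyQuasiFinite_of_fibreDimAt_le_zero
    (h : ∀ x : X, FlatMor.fibreDimAt f x ≤ ((0 : ℕ) : WithBot ℕ∞)) : LocallyQuasiFinite f := by
  rw [locallyQuasiFinite_iff_isDiscrete_preimage_singleton]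
  intro y
  have : LocallyOfFiniteType (X := f.fiber y) (Y := Spec (CommRingCat.of (Y.residueField y)))
      (f.fiberToSpecResidueField y) :=
    inferInstanceAs (LocallyOfFiniteType (Limits.pullback.snd f (Y.fromSpecResidueField y)))
  have hp : ∀ a : f.fiber y, pdim (K := Y.residueField y) (f.fiberToSpecResidueField y) a = 0 := by
    intro a
    have e : pdim (K := Y.residueField y) (f.fiberToSpecResidueField y) a =
        tdAt f ((f.fiberι y).base a) := congrArg Cardinal.toNat (Cyc.FieldDim.trdegAt_fiber f y a)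
    have h1 := (VarDim.Semicont.tdAt_le_fibreDimAt f (specializes_refl ((f.fiberι y).base a)) rfl).trans
      (h _)
    rw [e]
    exact Nat.le_zero.1 (by exact_mod_cast h1)
  rw [← f.range_fiberι y, ← Set.image_univ]
  refine IsDiscrete.image ?_ (f.fiberι y).isEmbedding.toIsInducing
  rw [isDiscrete_univ_iff]
  have hqf : ∀ x : X, f.base x = y → f.QuasiFiniteAt x := fun x hx => by
    refine FibreDim.Semicont.quasiFiniteAt_of_incomparable f x fun z hz hc => ?_
    obtain ⟨a, rfl⟩ : x ∈ Set.range (f.fiberι y).base := by rw [f.range_fiberι]; exact hx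
    obtain ⟨b, rfl⟩ : z ∈ Set.range (f.fiberι y).base := by rw [f.range_fiberι]; exact hz.trans hx
    rcases hc with hc | hc
    · exact congrArg _ (eq_of_pdim_le (K := Y.residueField y) (f.fiberToSpecResidueField y)
        ((f.fiberι y).isEmbedding.isInducing.specializes_iff.1 hc) (by rw [hp, hp]))
    · exact congrArg _ (eq_of_pdim_le (K := Y.residueField y) (f.fiberToSpecResidueField y)
        ((f.fiberι y).isEmbedding.isInducing.specializes_iff.1 hc) (by rw [hp, hp])).symm
  refine discreteTopology_iff_isOpen_singleton.2 fun a => ?_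
  have hya : f.base ((f.fiberι y).base a) = y := by
    have : (f.fiberι y).base a ∈ Set.range (f.fiberι y).base := ⟨a, rfl⟩
    rwa [f.range_fiberι] at this
  obtain ⟨x, hxa⟩ : ∃ x, (f.fiberι y).base a = x := ⟨_, rfl⟩
  rw [hxa] at hya
  subst hya
  rw [show a = f.asFiber x from
    (f.fiberι (f.base x)).isEmbedding.injective (hxa.trans (f.fiberι_asFiber x).symm)]
  exact Scheme.Hom.quasiFiniteAt_iff_isOpen_singleton_asFiber.1 (hqf x rfl)

set_option backward.isDefEq.respectTransparency.types false in
/-- A locally quasi-finite morphism has fibres of dimension zero. -/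
theorem fibreDimAt_le_zero [LocallyQuasiFinite f] (x : X) :
    FlatMor.fibreDimAt f x ≤ ((0 : ℕ) : WithBot ℕ∞) := by
  rw [Cyc.LocalDim.fibreDimAt_le_iff]
  intro ξ hξ _
  have : LocallyOfFiniteType (X := f.fiber (f x)) (Y := Spec (CommRingCat.of (Y.residueField (f x))))
      (f.fiberToSpecResidueField (f x)) :=
    inferInstanceAs (LocallyOfFiniteType (Limits.pullback.snd f (Y.fromSpecResidueField (f x))))
  obtain ⟨a, rfl⟩ := Cyc.FieldDim.exists_fiberι_eq f ξ (f x) hξ
  rw [← Cyc.FieldDim.trdegAt_fiber,
    trdegAt_eq_pdim (K := Y.residueField (f x)) (f.fiberToSpecResidueField (f x)),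
    (pdim_eq_zero_iff (K := Y.residueField (f x)) (f.fiberToSpecResidueField (f x)) a).2
      (isClosed_discrete _)]

omit [LocallyOfFiniteType f] in
/-- For a proper flat morphism of finite presentation the locus of zero-dimensional fibres is open and
closed. -/
theorem isClopen_zero_locus [IsProper f] [Flat f] [LocallyOfFinitePresentation f] :
    IsClopen {y : Y | topologicalKrullDim (f.base ⁻¹' {y}) = 0} := by
  have hS : {y : Y | topologicalKrullDim (f.base ⁻¹' {y}) = 0} =
      {y | topologicalKrullDim ↥(f.fiber y) ≤ ((0 : ℕ) : WithBot ℕ∞)} ∩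
        {y | ((0 : ℕ) : WithBot ℕ∞) ≤ topologicalKrullDim ↥(f.fiber y)} := by
    ext y
    simp only [Set.mem_inter_iff, Set.mem_ofPred_eq, Nat.cast_zero,
      FibreDim.Basic.topologicalKrullDim_fiber]
    exact ⟨fun h => ⟨h.le, h.ge⟩, fun h => le_antisymm h.1 h.2⟩
  rw [hS]
  refine IsClopen.inter ⟨?_, FibreDim.Global.isOpen_setOf_fibre_dim_le f f.isClosedMap _⟩
    ⟨FibreDim.Global.isClosed_setOf_le_fibre_dim f f.isClosedMap 0,
      FibreDimFlat.isOpen_setOf_le_fibre_dim f 0⟩
  rw [← isOpen_compl_iff]
  convert FibreDimFlat.isOpen_setOf_le_fibre_dim f 1 using 1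
  ext y
  simp only [Set.mem_compl_iff, Set.mem_ofPred_eq, not_le, Nat.cast_zero, Nat.cast_one]
  cases topologicalKrullDim ↥(f.fiber y) with
  | bot => simp
  | coe a =>
    rw [← WithBot.coe_zero, ← WithBot.coe_one, WithBot.coe_lt_coe, WithBot.coe_le_coe,
      Order.one_le_iff_ne_zero, pos_iff_ne_zero]

omit [LocallyOfFiniteType f] in
/-- Over the locus of zero-dimensional fibres a proper morphism is finite. -/
theorem isFinite_morphismRestrict [IsProper f] (U : Y.Opens)
    (hU : (U : Set Y) ⊆ {y : Y | topologicalKrullDim (f.base ⁻¹' {y}) = 0}) :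
    IsFinite (f ∣_ U) := by
  have hlqf : LocallyQuasiFinite (f ∣_ U) := by
    refine locallyQuasiFinite_of_fibreDimAt_le_zero _ fun x => ?_
    rw [Groth.Agent.H2.FibreDimPullback.fibreDimAt_of_isPullback
      (isPullback_morphismRestrict f U).flip x]
    refine (FibreDim.Basic.fibreDimAt_le_topologicalKrullDim f rfl).trans ?_
    rw [FibreDim.Basic.topologicalKrullDim_fiber, Nat.cast_zero]
    exact (hU x.2).le
  exact IsFinite.of_isProper_of_locallyQuasiFinite _

/-- Preimages of irreducible closed sets along a base change of a flat morphism with equidimensional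
components are equidimensional. -/
theorem preimage_component_dim {k : Type u} [Field k] {X Y Y' : Scheme.{u}}
    (f : X ⟶ Y) (qX : X ⟶ Spec (CommRingCat.of k)) (qY : Y ⟶ Spec (CommRingCat.of k))
    (qY' : Y' ⟶ Spec (CommRingCat.of k)) [LocallyOfFiniteType qX] [LocallyOfFiniteType qY]
    [LocallyOfFiniteType qY'] [IrreducibleSpace Y] (hf : f ≫ qY = qX) [Flat f] (n : ℕ)
    (hX : ∀ Z : Set X, Z ∈ irreducibleComponents X →
      topologicalKrullDim ↥Z = topologicalKrullDim ↥Y + (n : WithBot ℕ∞))
    (g : Y' ⟶ Y) (_hg : g ≫ qY = qY') (V : Set Y') (hV : IsClosed V) (hVirr : IsIrreducible V)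
    (W : Set ↥((pullback.snd f g).base ⁻¹' V))
    (hW : W ∈ irreducibleComponents ↥((pullback.snd f g).base ⁻¹' V)) :
    topologicalKrullDim ↥W = topologicalKrullDim ↥V + (n : WithBot ℕ∞) := by
  have : LocallyOfFiniteType f := VarDim.Irreducible.locallyOfFiniteType qX qY f hf
  have hfib : ∀ x, IsMaxFib f x → tdAt f x = n := by
    refine (forall_isMax_iff f qX qY hf (pdim qY (genericPoint Y)) n
      fun y hy => by rw [eq_genericPoint_of_isMax hy]).1 ?_
    refine (forall_component_iff qX _).1 fun Z hZ => ?_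
    rw [hX Z hZ, topologicalKrullDim_irreducibleSpace qY, Nat.cast_add]
  obtain ⟨v, hv⟩ := QuasiSober.sober hVirr hV
  obtain ⟨ξ, hξT, hmax, hg⟩ :=
    exists_genericPoint_component (hV.preimage (pullback.snd f g).continuous) hW
  have hξv : (pullback.snd f g).base ξ = v := by
    obtain ⟨z, hz, hzv⟩ := Flat.generalizingMap (pullback.snd f g) (hv.specializes hξT)
    rw [← hmax z (show (pullback.snd f g).base z ∈ V from hzv ▸ hv.mem) hz, hzv]
  have hm : IsMaxFib (pullback.snd f g) ξ := fun z hz hzs =>
    hmax z (show (pullback.snd f g).base z ∈ V by rw [hz, hξv]; exact hv.mem) hzs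
  have hn : tdAt (pullback.snd f g) ξ = n := by
    have h := Groth.Agent.H2.FibreDimPullback.fibreDimAt_of_isPullback
      (IsPullback.of_hasPullback f g) ξ
    rw [fibreDimAt_eq_tdAt _ hm, fibreDimAt_eq_of_forall f n hfib] at h
    exact_mod_cast h
  rw [topologicalKrullDim_component (pullback.snd f g ≫ qY') hg,
    topologicalKrullDim_isGenericPoint qY' hv,
    pdim_eq_add (pullback.snd f g ≫ qY') qY' (pullback.snd f g) rfl ξ, hξv, hn, Nat.cast_add]

/-- The local fibre dimension of a morphism from an irreducible variety is at least the generic one,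
with equality on a dense open. -/
theorem fibreDimAt_generic {k : Type u} [Field k] {X Y : Scheme.{u}}
    (qX : X ⟶ Spec (CommRingCat.of k)) (qY : Y ⟶ Spec (CommRingCat.of k)) [LocallyOfFiniteType qX]
    [LocallyOfFiniteType qY] [IrreducibleSpace X] (f : X ⟶ Y) (hf : f ≫ qY = qX) (a b : ℕ)
    (ha : topologicalKrullDim X = a) (hb : topologicalKrullDim (closure (Set.range f.base)) = b) :
    (∀ x : X, ((a - b : ℕ) : WithBot ℕ∞) ≤ FlatMor.fibreDimAt f x) ∧
      IsOpen {x : X | FlatMor.fibreDimAt f x = (a - b : ℕ)} ∧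
        Dense {x : X | FlatMor.fibreDimAt f x = (a - b : ℕ)} := by
  have : LocallyOfFiniteType f := VarDim.Irreducible.locallyOfFiniteType qX qY f hf
  have hη : IsGenericPoint (f.base (genericPoint X)) (closure (Set.range f.base)) := by
    have h := (genericPoint_spec X).image f.continuous
    rwa [Set.image_univ] at h
  have h1 : pdim qY (f.base (genericPoint X)) = b := by
    have h := topologicalKrullDim_isGenericPoint qY hη
    rw [hb] at h
    exact_mod_cast h.symm
  have h2 : pdim qX (genericPoint X) = a := by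
    have h := topologicalKrullDim_irreducibleSpace qX
    rw [ha] at h
    exact_mod_cast h.symm
  have hgen : FlatMor.fibreDimAt f (genericPoint X) = ((a - b : ℕ) : WithBot ℕ∞) := by
    rw [fibreDimAt_eq_tdAt f (isMax_genericPoint.isMaxFib f)]
    have h := pdim_eq_add qX qY f hf (genericPoint X)
    rw [h1, h2] at h
    exact_mod_cast (by omega : tdAt f (genericPoint X) = a - b)
  have hlow : ∀ x : X, ((a - b : ℕ) : WithBot ℕ∞) ≤ FlatMor.fibreDimAt f x := fun x => by
    obtain ⟨U, hxU, hU⟩ := FibreDim.Semicont.exists_open_forall_fibreDimAt_le f x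
    rw [← hgen]
    exact hU _ (((genericPoint_spec X).specializes (Set.mem_univ x)).mem_open U.2 hxU)
  refine ⟨hlow, ?_, ?_⟩
  · convert FibreDim.Semicont.isOpen_setOf_fibreDimAt_le f ((a - b : ℕ) : WithBot ℕ∞) using 1
    ext x
    exact ⟨fun h => le_of_eq h, fun h => le_antisymm h (hlow x)⟩
  · intro x
    exact closure_mono (Set.singleton_subset_iff.2
      (show genericPoint X ∈ {x : X | FlatMor.fibreDimAt f x = ((a - b : ℕ) : WithBot ℕ∞)} from hgen))
      (specializes_iff_mem_closure.1 ((genericPoint_spec X).specializes (Set.mem_univ x)))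

/-- A quasi-finite morphism does not lower the dimension. -/
theorem topologicalKrullDim_le_of_quasiFinite {X Y : Scheme.{u}} (f : X ⟶ Y) [LocallyQuasiFinite f] :
    topologicalKrullDim X ≤ topologicalKrullDim ↥(closure (Set.range f.base)) := by
  have hsub : ∀ T : Set Y, IsClosed T → QuasiSober T := fun T hT =>
    hT.isClosedEmbedding_subtypeVal.quasiSober
  have := hsub _ (isClosed_closure (s := Set.range f.base))
  have : QuasiSober ↥(Set.univ : Set X) := isClosed_univ.isClosedEmbedding_subtypeVal.quasiSober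
  rw [topologicalKrullDim_scheme_eq, GrpSch.topologicalKrullDim_eq_krullDim_subset,
    GrpSch.topologicalKrullDim_eq_krullDim_subset]
  refine Order.krullDim_le_of_strictMono
    (fun x => ⟨f.base x.1, subset_closure ⟨x.1, rfl⟩⟩) fun x x' hlt => ?_
  have hs : x'.1 ⤳ x.1 := hlt.le
  refine lt_iff_le_not_ge.2 ⟨?_, ?_⟩
  · exact hs.map f.continuous
  intro he
  have he' : f.base x.1 = f.base x'.1 :=
    ((hs.map f.continuous).antisymm (show f.base x.1 ⤳ f.base x'.1 from he)).eq.symm
  have : DiscreteTopology ↥(f.base ⁻¹' {f.base x.1}) :=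
    (f.isDiscrete_preimage_singleton (f.base x.1)).to_subtype
  have h : (⟨x'.1, he'.symm⟩ : ↥(f.base ⁻¹' {f.base x.1})) ⤳ ⟨x.1, rfl⟩ :=
    (subtype_specializes_iff _ _).2 hs
  exact hlt.ne (Subtype.ext (congrArg Subtype.val h.eq).symm)

/-- A maximal point has a neighbourhood inside its closure. -/
theorem exists_nhd_subset_closure {k : Type u} [Field k] {Y : Scheme.{u}}
    (g : Y ⟶ Spec (CommRingCat.of k)) [LocallyOfFiniteType g] {z : Y} (hz : IsMax z) :
    ∃ V : Set Y, IsOpen V ∧ z ∈ V ∧ ∀ y ∈ V, z ⤳ y := by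
  have : IsLocallyNoetherian Y := LocallyOfFiniteType.isLocallyNoetherian g
  obtain ⟨U, hU, hzU, -⟩ := exists_isAffineOpen_mem_and_subset (x := z) (U := ⊤) trivial
  have : CompactSpace U.toScheme := isCompact_iff_compactSpace.1 hU.isCompact
  have : IsLocallyNoetherian U.toScheme := isLocallyNoetherian_of_isOpenImmersion U.ι
  have : IsNoetherian U.toScheme := {}
  obtain ⟨O, hO, hzO, hOsub⟩ := VarDim.Semicont.exists_open_subset_closure (X := U.toScheme)
    (z := ⟨z, hzU⟩) fun w hw => Subtype.ext (hz w.1 (hw.map continuous_subtype_val))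
  exact ⟨Subtype.val '' O, U.2.isOpenMap_subtype_val O hO, ⟨_, hzO, rfl⟩, by
    rintro _ ⟨w, hw, rfl⟩; exact (hOsub w hw).map continuous_subtype_val⟩

/-- In an equidimensional scheme the nowhere dense locally closed sets are those of smaller
dimension. -/
theorem isNowhereDense_iff {k : Type u} [Field k] {Y : Scheme.{u}} [Nonempty Y]
    (g : Y ⟶ Spec (CommRingCat.of k)) [LocallyOfFiniteType g]
    (heq : ∀ T ∈ irreducibleComponents Y, topologicalKrullDim ↥T = topologicalKrullDim ↥Y)
    (Z : Set Y) (hZ : IsLocallyClosed Z) :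
    IsNowhereDense Z ↔ topologicalKrullDim ↥Z < topologicalKrullDim ↥Y := by
  obtain ⟨z₀, -, hz₀⟩ := exists_isMax_specializes (Classical.arbitrary Y)
  have hd : topologicalKrullDim ↥Y = (pdim g z₀ : WithBot ℕ∞) := by
    rw [← heq _ (closure_mem_irreducibleComponents hz₀),
      topologicalKrullDim_isGenericPoint g (isGenericPoint_closure z₀)]
  have hmax : ∀ z : Y, IsMax z → pdim g z = pdim g z₀ := fun z hz => by
    have h := topologicalKrullDim_isGenericPoint g (isGenericPoint_closure z)
    rw [heq _ (closure_mem_irreducibleComponents hz), hd] at h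
    exact_mod_cast h.symm
  rw [hd]
  constructor
  · intro hn
    have hlt : ∀ x ∈ Z, pdim g x < pdim g z₀ := by
      intro x hx
      obtain ⟨z, hzx, hz⟩ := exists_isMax_specializes x
      rw [← hmax z hz]
      refine pdim_lt g hzx fun he => ?_
      obtain ⟨W, C, hW, hC, rfl⟩ := hZ
      obtain ⟨V, hV, hzV, hVsub⟩ : ∃ V : Set Y, IsOpen V ∧ z ∈ V ∧ ∀ y ∈ V, z ⤳ y :=
        exists_nhd_subset_closure g hz
      have : z ∈ interior (closure (W ∩ C)) :=
        ⟨V, ⟨hV, fun y hy => (specializes_iff_mem_closure.1 ((he ▸ hVsub y hy : x ⤳ y))) |>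
          closure_mono (Set.singleton_subset_iff.2 hx)⟩, hzV⟩
      rw [hn] at this
      exact this
    rcases Nat.eq_zero_or_pos (pdim g z₀) with h0 | h0
    · refine lt_of_le_of_lt ((topologicalKrullDim_le_iff g hZ ⊥).2 fun x hx => ?_)
        (WithBot.bot_lt_coe _)
      have := hlt x hx
      omega
    · refine lt_of_le_of_lt ((topologicalKrullDim_le_iff g hZ ((pdim g z₀ - 1 : ℕ) : WithBot ℕ∞)).2
        fun x hx => ?_) ?_
      · exact_mod_cast Nat.le_sub_one_of_lt (hlt x hx)
      · exact_mod_cast Nat.sub_lt h0 Nat.one_pos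
  · intro hlt
    show interior (closure Z) = ∅
    refine Set.eq_empty_of_forall_notMem fun y hy => ?_
    obtain ⟨z, hzy, hz⟩ := exists_isMax_specializes y
    have hzI : z ∈ interior (closure Z) := hzy.mem_open isOpen_interior hy
    obtain ⟨V, hV, hzV, hVsub⟩ := exists_nhd_subset_closure g hz
    obtain ⟨x, hxV, hxZ⟩ := mem_closure_iff.1 (interior_subset hzI) V hV hzV
    obtain ⟨W, C, hW, hC, rfl⟩ := hZ
    have hzZ : z ∈ W ∩ C := ⟨(hVsub x hxV).mem_open hW hxZ.1,
      (hC.closure_subset_iff.2 Set.inter_subset_right) (interior_subset hzI)⟩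
    have := lt_of_le_of_lt (pdim_le_topologicalKrullDim g (IsLocallyClosed.inter
      hW.isLocallyClosed hC.isLocallyClosed) hzZ) hlt
    rw [hmax z hz] at this
    exact lt_irrefl _ this

end Groth.Agent.Lib.Flat55.FlatEquidim
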