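import Groth.Agent.H46.DimData
import Groth.Agent.H2.FibreDimPullback
import Groth.Agent.Lib.Flat55.FlatEquidim
import Groth.Agent.Lib.Cyc.TorPD
import Mathlib.AlgebraicGeometry.Stalk
import Mathlib.AlgebraicGeometry.Noetherian

/-!
# Fibre dimensions and the dimension inequality
-/

set_option autoImplicit false

universe u

open CategoryTheory CategoryTheory.Limits AlgebraicGeometry Topology TopologicalSpace IsLocalRing
open Groth.Agent.Lib Groth.Agent.Lib.Cyc Groth.Agent.H46.DimData Groth.Agent.H46.FibreTrdeg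

namespace Groth.Agent.Lib.Flat55.DimIneqFibre

/-- A bound on the dimensions of all local rings bounds the dimension of a scheme. -/
theorem topologicalKrullDim_le_of_forall_stalk {X : Scheme.{u}} (n : WithBot ℕ∞)
    (h : ∀ x : X, ringKrullDim (X.presheaf.stalk x) ≤ n) : topologicalKrullDim X ≤ n := by
  refine iSup_le fun l => ?_
  obtain ⟨x, hx⟩ : ∃ x, IsGenericPoint x (l 0 : Set X) :=
    QuasiSober.sober (l 0).isIrreducible (l 0).isClosed
  refine le_trans ?_ (h x)
  rw [← PrimeSpectrum.topologicalKrullDim_eq_ringKrullDim]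
  let j := X.fromSpecStalk x
  have hg : ∀ i, ∃ g : PrimeSpectrum (X.presheaf.stalk x), IsGenericPoint (j.base g) (l i : Set X) := by
    intro i
    obtain ⟨a, ha⟩ := QuasiSober.sober (l i).isIrreducible (l i).isClosed
    have hax : a ⤳ x := ha.specializes ((l.monotone (Fin.zero_le i) : (l 0 : Set X) ⊆ l i) hx.mem)
    exact ⟨DimFun.genPrime x a hax, by
      show IsGenericPoint (X.fromSpecStalk x _) _; rw [DimFun.fromSpecStalk_genPrime]; exact ha⟩
  choose g hg using hg
  let cut : Fin (l.length + 1) → IrreducibleCloseds (PrimeSpectrum (X.presheaf.stalk x)) := fun i =>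
    ⟨closure {g i}, isIrreducible_singleton.closure, isClosed_closure⟩
  have hmono : StrictMono cut := by
    intro a b hab
    have hle : (l a : Set X) ⊆ l b := (l.monotone hab.le)
    have hs : g b ⤳ g a :=
      j.isEmbedding.isInducing.specializes_iff.1 ((hg b).specializes (hle (hg a).mem))
    refine lt_iff_le_not_ge.2 ⟨hs.closure_subset, fun hge => ?_⟩
    have hs' : g a ⤳ g b := specializes_iff_mem_closure.2 (hge (subset_closure rfl))
    refine (l.strictMono hab).ne (SetLike.coe_injective ?_)
    have e := congrArg j.base (hs'.antisymm hs).eq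
    exact (hg a).def.symm.trans (e ▸ (hg b).def)
  exact le_iSup_of_le (LTSeries.mk l.length cut hmono) le_rfl

theorem eq_or_add_le_of_noetherian {X Y : Scheme.{u}} (f : X ⟶ Y) [LocallyOfFiniteType f]
    [IsLocallyNoetherian Y] {ξ ζ : X} (h : ξ ⤳ ζ) :
    ξ = ζ ∨ trd f ζ + 1 ≤ sd (f ζ) + trd f ξ := by
  have : IsLocallyNoetherian X := LocallyOfFiniteType.isLocallyNoetherian f
  by_cases he : ξ = ζ
  · exact Or.inl he
  refine Or.inr ?_
  have h1 := qd_ineq f h
  have h2 := qd_lt (specializes_refl ζ) h h he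
  have h3 := qd_le_sd (h.map f.continuous)
  omega

/-- The dimension inequality over a base point with Noetherian local ring. -/
theorem fibreDimAt_add_one_le {X Y : Scheme.{u}} (f : X ⟶ Y) [LocallyOfFiniteType f] (x : X)
    [IsNoetherianRing (Y.presheaf.stalk (f.base x))] :
    ∃ ξ : X, ξ ⤳ x ∧ closure {ξ} ∈ irreducibleComponents X ∧
      ((f.base ξ = f.base x ∧ FlatMor.fibreDimAt f x = FlatMor.fibreDimAt f ξ) ∨
        FlatMor.fibreDimAt f x + 1 ≤
          FlatMor.fibreDimAt f ξ + ringKrullDim (Y.presheaf.stalk (f.base x))) := by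
  obtain ⟨ζ, hζx, hζ, hζmax, hζd⟩ := FibreDim.Chart.exists_maximal_generization f x
  obtain ⟨ξ, hξζ, hξ⟩ := FlatEquidim.exists_isMax_specializes ζ
  refine ⟨ξ, hξζ.trans hζx, FlatEquidim.closure_mem_irreducibleComponents hξ, ?_⟩
  let j := Y.fromSpecStalk (f.base x)
  have : IsLocallyNoetherian (Spec (Y.presheaf.stalk (f.base x))) := inferInstance
  let p := pullback.fst f j
  let f' := pullback.snd f j
  have hpb : IsPullback p f' f j := IsPullback.of_hasPullback f j
  have hlift : ∀ a : X, a ⤳ x → ∃ a' : ↥(pullback f j), p.base a' = a := fun a ha => by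
    obtain ⟨a', ha', -⟩ := Scheme.Pullback.exists_preimage_pullback (f := f) (g := j) a
      (DimFun.genPrime (f.base x) (f.base a) (ha.map f.continuous))
      (DimFun.fromSpecStalk_genPrime _ _ _).symm
    exact ⟨a', ha'⟩
  obtain ⟨ζ', hζ'⟩ := hlift ζ hζx
  obtain ⟨ξ', hξ'⟩ := hlift ξ (hξζ.trans hζx)
  have : IsPreimmersion p :=
    MorphismProperty.pullback_fst f j (inferInstanceAs (IsPreimmersion (Y.fromSpecStalk (f.base x))))
  have hs : ξ' ⤳ ζ' := p.isEmbedding.isInducing.specializes_iff.1 (by rw [hξ', hζ']; exact hξζ)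
  have hξ'max : H46.FibreTrdeg.IsMaxFib f' ξ' := fun z _ hz => p.isEmbedding.injective (by
    have h1 : p.base z ⤳ ξ := hξ' ▸ hz.map p.continuous
    rw [hξ', hξ _ h1])
  have hζ'max : H46.FibreTrdeg.IsMaxFib f' ζ' := fun z hz hzs => p.isEmbedding.injective (by
    rw [hζ']
    refine hζmax _ ?_ (hζ' ▸ hzs.map p.continuous)
    have e1 : f.base (p.base z) = j.base (f'.base z) := congr($(hpb.w) z)
    have e2 : f.base (p.base ζ') = j.base (f'.base ζ') := congr($(hpb.w) ζ')
    rw [e1, show f'.base z = f'.base ζ' from hz, ← e2, hζ']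
    exact hζ)
  have eζ : FlatMor.fibreDimAt f ζ = (trd f' ζ' : WithBot ℕ∞) := by
    rw [← hζ', ← H2.FibreDimPullback.fibreDimAt_of_isPullback hpb ζ',
      H46.FibreTrdeg.fibreDimAt_of_isMaxFib f' hζ'max]
  have eξ : FlatMor.fibreDimAt f ξ = (trd f' ξ' : WithBot ℕ∞) := by
    rw [← hξ', ← H2.FibreDimPullback.fibreDimAt_of_isPullback hpb ξ',
      H46.FibreTrdeg.fibreDimAt_of_isMaxFib f' hξ'max]
  rcases eq_or_add_le_of_noetherian f' hs with h | h
  · left
    have : ξ = ζ := by rw [← hξ', ← hζ', h]
    exact ⟨this ▸ hζ, by rw [← hζd, this]⟩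
  · right
    have hsd : (sd (f'.base ζ') : WithBot ℕ∞) ≤ ringKrullDim (Y.presheaf.stalk (f.base x)) := by
      rw [← ringKrullDim_stalk]
      exact (Cyc.TorPD.ringKrullDim_stalk_le _).trans
        (PrimeSpectrum.topologicalKrullDim_eq_ringKrullDim (Y.presheaf.stalk (f.base x))).le
    rw [← hζd, eζ, eξ]
    calc ((trd f' ζ' : WithBot ℕ∞) + 1) ≤ (trd f' ξ' : WithBot ℕ∞) + (sd (f'.base ζ') : WithBot ℕ∞) := by
          exact_mod_cast h.trans (Nat.add_comm _ _).le
      _ ≤ _ := add_le_add le_rfl hsd

/-- Over a base point of dimension at most one the fibre dimension is that of the generic points. -/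
theorem fibreDimAt_eq_of_dim_le_one {X Y : Scheme.{u}} (f : X ⟶ Y) [LocallyOfFiniteType f] (x : X)
    [IsNoetherianRing (Y.presheaf.stalk (f.base x))]
    (hdimY : ringKrullDim (Y.presheaf.stalk (f.base x)) ≤ 1) (d : ℕ)
    (hgen : ∀ Z ∈ irreducibleComponents (X : Type u), x ∈ Z → ∀ η : X, IsGenericPoint η Z →
      FlatMor.fibreDimAt f η = d) :
    FlatMor.fibreDimAt f x = d := by
  obtain ⟨ξ, hs, hcomp, h⟩ := fibreDimAt_add_one_le f x
  have hd := hgen _ hcomp hs.mem_closure ξ rfl
  obtain ⟨U, hxU, hU⟩ := FibreDim.Semicont.exists_open_forall_fibreDimAt_le f x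
  refine le_antisymm ?_ (hd ▸ hU ξ (hs.mem_open U.2 hxU))
  rcases h with ⟨-, h⟩ | h
  · rw [h, hd]
  · obtain ⟨e, he⟩ := FibreDim.Chart.exists_fibreDimAt_eq f x
    have h' := h.trans (add_le_add le_rfl hdimY)
    rw [he, hd] at h'
    rw [he]
    have : e + 1 ≤ d + 1 := by exact_mod_cast h'
    exact_mod_cast Nat.le_of_add_le_add_right this

/-- Fibres of a morphism to a one-dimensional base. -/
theorem fibre_component_dim_over_dim_one {X Y : Scheme.{u}} (f : X ⟶ Y) [IsLocallyNoetherian Y]
    [IrreducibleSpace Y] [IrreducibleSpace X] (hY : topologicalKrullDim Y = 1)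
    [LocallyOfFiniteType f] (hf : DenseRange f.base) (y : Y)
    (Z : Set ↥(f.fiber y)) (hZ : Z ∈ irreducibleComponents ↥(f.fiber y)) :
    topologicalKrullDim Z = topologicalKrullDim ↥(f.fiber (genericPoint Y)) := by
  have hη : f.base (genericPoint X) = genericPoint Y := by
    have h := (genericPoint_spec X).image f.continuous
    rw [Set.image_univ, hf.closure_range] at h
    exact h.eq (genericPoint_spec Y)
  obtain ⟨a, ha, hag⟩ := FlatEquidim.exists_isMax_isGenericPoint hZ
  have hd : FlatMor.fibreDimAt f ((f.fiberι y).base a) = (VarDim.Basic.tdAt f (genericPoint X) :) := by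
    refine fibreDimAt_eq_of_dim_le_one f _ ?_ _ fun C hC _ η hη' => ?_
    · exact (Cyc.TorPD.ringKrullDim_stalk_le _).trans hY.le
    · obtain ⟨z, hz, hzg⟩ := FlatEquidim.exists_isMax_isGenericPoint hC
      rw [hη'.eq hzg, FlatEquidim.fibreDimAt_eq_tdAt f (hz.isMaxFib f),
        FlatEquidim.eq_genericPoint_of_isMax hz]
  rw [FlatEquidim.topologicalKrullDim_fibre_component f a hag,
    ← FlatEquidim.fibreDimAt_eq_tdAt f ((FlatEquidim.isMax_asFiber_iff f a).1 ha), hd]
  refine le_antisymm ?_ ?_
  · rw [← FlatEquidim.fibreDimAt_eq_tdAt f (FlatEquidim.isMax_genericPoint.isMaxFib f)]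
    exact FibreDim.Basic.fibreDimAt_le_topologicalKrullDim f hη
  · refine FibreDim.Basic.topologicalKrullDim_fiber_le f fun x hx => ?_
    obtain ⟨z, -, hz, hmax, hzd⟩ := FibreDim.Chart.exists_maximal_generization f x
    have : genericPoint X = z := hmax _ (hη.trans hx.symm)
      ((genericPoint_spec X).specializes (Set.mem_univ z))
    rw [← hzd, ← this, FlatEquidim.fibreDimAt_eq_tdAt f (FlatEquidim.isMax_genericPoint.isMaxFib f)]

/-- Dimension of the source from the dimensions of the fibres over a universally catenary base. -/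
theorem dim_eq_add {X Y : Scheme.{u}} (f : X ⟶ Y) [IsLocallyNoetherian Y]
    [LocallyOfFiniteType f] [IrreducibleSpace X]
    (hY : ∀ y : Y, CAlg.IsUniversallyCatenary (Y.presheaf.stalk y)) (n : ℕ) :
    ((∀ y : Y, (n : WithBot ℕ∞) ≤ topologicalKrullDim (f.fiber y)) →
        topologicalKrullDim Y + n ≤ topologicalKrullDim X) ∧
      ((∀ y : Y, topologicalKrullDim (f.fiber y) = n) →
        topologicalKrullDim X = topologicalKrullDim Y + n) := by
  have : IsLocallyNoetherian X := LocallyOfFiniteType.isLocallyNoetherian f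
  have low : (∀ y : Y, (n : WithBot ℕ∞) ≤ topologicalKrullDim (f.fiber y)) →
      ∀ y : Y, ((sd y + n : ℕ) : WithBot ℕ∞) ≤ topologicalKrullDim X := by
    intro h y
    have hne : ∀ y' : Y, ∃ x, f.base x = y' := fun y' => by
      obtain ⟨x, hx, -⟩ := (FibreDim.Global.le_topologicalKrullDim_fiber_iff f y' n).1 (h y')
      exact ⟨x, hx⟩
    let ξ := genericPoint X
    have hgenY : ∀ y' : Y, f.base ξ ⤳ y' := fun y' => by
      obtain ⟨x, rfl⟩ := hne y'
      exact ((genericPoint_spec X).specializes (Set.mem_univ x)).map f.continuous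
    have hmaxY : DimFun.IsMaxPt (f.base ξ) := fun b hb => (hb.antisymm (hgenY b)).eq
    have hdn : n ≤ trd f ξ := by
      obtain ⟨w, hw, hwn⟩ :=
        (FibreDim.Global.le_topologicalKrullDim_fiber_iff f (f.base ξ) n).1 (h _)
      obtain ⟨z, -, hz, hmax, hzd⟩ := FibreDim.Chart.exists_maximal_generization f w
      have : ξ = z := hmax _ hw.symm ((genericPoint_spec X).specializes (Set.mem_univ z))
      rw [← hzd, ← this, H46.FibreTrdeg.fibreDimAt_of_isMaxFib f
        (H46.Equidim.isMaxFib_of_isMaxPt f DimFun.isMaxPt_genericPoint)] at hwn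
      exact_mod_cast hwn
    obtain ⟨x₀, hx₀⟩ := hne y
    obtain ⟨x, hx, hx0⟩ : ∃ x : X, f.base x = y ∧ trd f x = 0 := by
      classical
      have hP : ∃ m, ∃ x : X, f.base x = y ∧ trd f x = m := ⟨_, x₀, hx₀, rfl⟩
      obtain ⟨x, hx, hm⟩ := Nat.find_spec hP
      refine ⟨x, hx, ?_⟩
      by_contra hpos
      obtain ⟨a, rfl⟩ : x ∈ Set.range (f.fiberι y).base := by rw [f.range_fiberι]; exact hx
      have hcl : ¬ IsClosed ({a} : Set (f.fiber y)) := fun hcl => hpos (by
        have e := (VarDim.Basic.pdim_eq_zero_iff (K := Y.residueField y)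
          (f.fiberToSpecResidueField y) a).2 hcl
        have h1 := H46.FibreTrdeg.fdelta_fiber f y a
        rw [VarDim.Basic.fdelta_eq, e] at h1
        exact_mod_cast h1.symm)
      obtain ⟨b, hb, hne'⟩ : ∃ b ∈ closure ({a} : Set (f.fiber y)), b ≠ a := by
        by_contra! hc
        exact hcl (closure_subset_iff_isClosed.1 hc)
      have hlt := H46.FibreTrdeg.trd_lt f
        ((specializes_iff_mem_closure.2 hb).map (f.fiberι y).continuous)
        ((FieldDim.apply_fiberι f y a).trans (FieldDim.apply_fiberι f y b).symm)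
        (fun e => hne' ((f.fiberι y).isEmbedding.injective e).symm)
      exact Nat.find_min hP (hm ▸ hlt) ⟨_, FieldDim.apply_fiberι f y b, rfl⟩
    subst hx
    have hs : ξ ⤳ x := (genericPoint_spec X).specializes (Set.mem_univ x)
    have h1 := qd_eq f hs (hY _)
    have h2 := qd_le_sd hs
    have h3 : qd (hs.map f.continuous) = sd (f.base x) := by
      obtain ⟨w, hw, hwmax, hq⟩ := exists_qd_eq (f.base x)
      have : w = f.base ξ := (hwmax _ (hgenY w)).symm
      subst this
      exact hq
    refine le_trans ?_ (Cyc.TorPD.ringKrullDim_stalk_le x)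
    rw [ringKrullDim_stalk]
    exact_mod_cast (by omega : sd (f.base x) + n ≤ sd x)
  have hlow : (∀ y : Y, (n : WithBot ℕ∞) ≤ topologicalKrullDim (f.fiber y)) →
      topologicalKrullDim Y + n ≤ topologicalKrullDim X := by
    intro h
    rcases isEmpty_or_nonempty Y with hE | hE
    · rw [le_bot_iff.1 (topologicalKrullDim_le_of_forall_stalk (X := Y) ⊥ fun y => isEmptyElim y),
        WithBot.bot_add]
      exact bot_le
    · obtain ⟨y₀⟩ := hE
      cases hD : topologicalKrullDim X with
      | bot =>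
        have := hD ▸ low h y₀
        rw [le_bot_iff] at this
        exact absurd this (WithBot.natCast_ne_bot _)
      | coe D =>
        induction D using ENat.recTopCoe with
        | top => exact le_top
        | coe D =>
          have hb : ∀ y, sd y + n ≤ D := fun y => by
            have := hD ▸ low h y
            exact_mod_cast this
          have hY' : topologicalKrullDim Y ≤ ((D - n : ℕ) : WithBot ℕ∞) :=
            topologicalKrullDim_le_of_forall_stalk _ fun y => by
              rw [ringKrullDim_stalk]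
              have := hb y
              exact_mod_cast (by omega : sd y ≤ D - n)
          refine (add_le_add hY' le_rfl).trans ?_
          have := hb y₀
          rw [← Nat.cast_add]
          exact WithBot.coe_le_coe.2 (Nat.cast_le.2 (by omega))
  refine ⟨hlow, fun h => le_antisymm ?_ (hlow fun y => (h y).ge)⟩
  refine topologicalKrullDim_le_of_forall_stalk _ fun x => ?_
  rw [ringKrullDim_stalk]
  have h1 := sd_le_add f x
  have h2 := fd_add_trd f x
  have h3 : fe f x ≤ n := by
    have := (FibreDim.Basic.fibreDimAt_le_topologicalKrullDim f (rfl : f.base x = _)).trans (h _).le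
    rw [H46.DimData.fibreDimAt_eq] at this
    exact_mod_cast this
  calc (sd x : WithBot ℕ∞) ≤ (sd (f.base x) : WithBot ℕ∞) + n := by
        exact_mod_cast (by omega : sd x ≤ sd (f.base x) + n)
    _ ≤ _ := add_le_add (by rw [← ringKrullDim_stalk]; exact Cyc.TorPD.ringKrullDim_stalk_le _) le_rfl

end Groth.Agent.Lib.Flat55.DimIneqFibre
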