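import Groth.Agent.Lib.Flat55.FibreDimVal
import Groth.Agent.Lib.Flat55.DimIneqFibre
import Groth.Agent.Lib.JacCrit.OverField
import Mathlib.AlgebraicGeometry.AffineScheme
import Mathlib.RingTheory.KrullDimension.Polynomial
import Mathlib.AlgebraicGeometry.Morphisms.FinitePresentation

/-!
# Dimensions of products, sources and special fibres
-/

set_option autoImplicit false

universe u

open CategoryTheory CategoryTheory.Limits AlgebraicGeometry Topology TopologicalSpace
open Groth.Agent.Lib Groth.Agent.Lib.VarDim.Basic Groth.Agent.Lib.VarDim.Fibre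
open Groth.Agent.Lib.Flat55.FlatEquidim

namespace Groth.Agent.Lib.Flat55.DimSums

/-- Adding bounds of two families of natural numbers. -/
theorem add_le_of_forall {ι κ : Type*} (p : ι → ℕ) (q : κ → ℕ) (A B C : WithBot ℕ∞)
    (hA : ∀ d : WithBot ℕ∞, A ≤ d ↔ ∀ i, (p i : WithBot ℕ∞) ≤ d)
    (hB : ∀ d : WithBot ℕ∞, B ≤ d ↔ ∀ j, (q j : WithBot ℕ∞) ≤ d)
    (h : ∀ i j, ((p i + q j : ℕ) : WithBot ℕ∞) ≤ C) : A + B ≤ C := by
  rcases isEmpty_or_nonempty ι with hι | ⟨⟨i₀⟩⟩
  · rw [le_bot_iff.1 ((hA ⊥).2 fun i => isEmptyElim i), WithBot.bot_add]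
    exact bot_le
  rcases isEmpty_or_nonempty κ with hκ | ⟨⟨j₀⟩⟩
  · rw [le_bot_iff.1 ((hB ⊥).2 fun i => isEmptyElim i), WithBot.add_bot]
    exact bot_le
  cases C with
  | bot => exact absurd (le_bot_iff.1 (h i₀ j₀)) (WithBot.natCast_ne_bot _)
  | coe c =>
    induction c using ENat.recTopCoe with
    | top => exact le_top
    | coe c =>
      have hb : ∀ i j, p i + q j ≤ c := fun i j => by exact_mod_cast h i j
      have hne : (Set.range p).Nonempty := ⟨_, i₀, rfl⟩
      have hbd : BddAbove (Set.range p) :=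
        ⟨c, by rintro _ ⟨i, rfl⟩; have := hb i j₀; omega⟩
      obtain ⟨i₁, hi₁⟩ : sSup (Set.range p) ∈ Set.range p := Nat.sSup_mem hne hbd
      have hA' : A ≤ (p i₁ : WithBot ℕ∞) := (hA _).2 fun i => by
        exact_mod_cast hi₁ ▸ le_csSup hbd ⟨i, rfl⟩
      have hB' : B ≤ ((c - p i₁ : ℕ) : WithBot ℕ∞) := (hB _).2 fun j => by
        have := hb i₁ j
        exact_mod_cast (by omega : q j ≤ c - p i₁)
      refine (add_le_add hA' hB').trans ?_
      rw [← Nat.cast_add]
      have := hb i₁ j₀
      exact WithBot.coe_le_coe.2 (Nat.cast_le.2 (by omega))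

theorem dim_le_iff {k : Type u} [Field k] {X : Scheme.{u}} (f : X ⟶ Spec (CommRingCat.of k))
    [LocallyOfFiniteType f] (d : WithBot ℕ∞) :
    topologicalKrullDim X ≤ d ↔ ∀ x : X, (pdim f x : WithBot ℕ∞) ≤ d :=
  topologicalKrullDim_scheme_le_iff f d

section field

variable {k : Type u} [Field k] {X Y : Scheme.{u}} (f : X ⟶ Spec (CommRingCat.of k))
  (g : Y ⟶ Spec (CommRingCat.of k)) [LocallyOfFiniteType f]

theorem fibreDimAt_snd (w : ↥(pullback f g)) :
    FlatMor.fibreDimAt (pullback.snd f g) w =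
      FlatMor.localDim X ((pullback.fst f g).base w) := by
  rw [H2.FibreDimPullback.fibreDimAt_of_isPullback (IsPullback.of_hasPullback f g) w]
  exact Groth.Agent.Lib.JacCrit.OverField.fibreDimAt_eq_localDim f _

variable [LocallyOfFiniteType g]

/-- Every point of the product has a generization of at least the expected dimension. -/
theorem exists_le_pdim (z : ↥(pullback f g)) (η : Y) (hη : η ⤳ (pullback.snd f g).base z) :
    ∃ (w : ↥(pullback f g)) (a : ℕ), w ⤳ z ∧
      FlatMor.localDim X ((pullback.fst f g).base z) = (a : WithBot ℕ∞) ∧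
      pdim g η + a ≤ pdim (pullback.snd f g ≫ g) w := by
  obtain ⟨a, ha⟩ := FibreDim.Chart.exists_fibreDimAt_eq (pullback.snd f g) z
  obtain ⟨w₁, hw₁, hw₁η, hle⟩ :=
    FibreDimVal.exists_specializes_fibreDimAt_le (pullback.snd f g) z η hη
  obtain ⟨w, hw, hwf, hmax, hwd⟩ :=
    FibreDim.Chart.exists_maximal_generization (pullback.snd f g) w₁
  refine ⟨w, a, hw.trans hw₁, (fibreDimAt_snd f g z).symm.trans ha, ?_⟩
  have hm : FlatEquidim.IsMaxFib (pullback.snd f g) w := fun z' h hs => hmax z' (h.trans hwf) hs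
  rw [ha, ← hwd, fibreDimAt_eq_tdAt _ hm, Nat.cast_le] at hle
  rw [pdim_eq_add (pullback.snd f g ≫ g) g (pullback.snd f g) rfl w, hwf, hw₁η]
  exact Nat.add_le_add_left hle _

/-- Transcendence degrees on a product are bounded by the local dimensions of the factors. -/
theorem pdim_le (w : ↥(pullback f g)) :
    (pdim (pullback.snd f g ≫ g) w : WithBot ℕ∞) ≤
      (pdim g ((pullback.snd f g).base w) : WithBot ℕ∞) +
        FlatMor.localDim X ((pullback.fst f g).base w) := by
  rw [pdim_eq_add (pullback.snd f g ≫ g) g (pullback.snd f g) rfl w, Nat.cast_add,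
    ← fibreDimAt_snd f g w]
  exact add_le_add le_rfl
    (VarDim.Semicont.tdAt_le_fibreDimAt (pullback.snd f g) specializes_rfl rfl)

theorem localDim_le_dim (x : X) : FlatMor.localDim X x ≤ topologicalKrullDim X :=
  FibreDim.Basic.localDim_le_topologicalKrullDim x

omit [LocallyOfFiniteType g] in
theorem le_localDim {ξ x : X} (h : ξ ⤳ x) : (pdim f ξ : WithBot ℕ∞) ≤ FlatMor.localDim X x := by
  have : Subsingleton (Spec (CommRingCat.of k) : Scheme.{u}) :=
    inferInstanceAs (Subsingleton (PrimeSpectrum k))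
  have hs : f.base ξ = f.base x := Subsingleton.elim _ _
  rw [← Groth.Agent.Lib.JacCrit.OverField.fibreDimAt_eq_localDim f x]
  exact VarDim.Semicont.tdAt_le_fibreDimAt f h hs

omit [LocallyOfFiniteType g] in
theorem exists_pdim_eq_localDim (x : X) :
    ∃ ξ : X, ξ ⤳ x ∧ FlatMor.localDim X x = (pdim f ξ : WithBot ℕ∞) := by
  obtain ⟨z, hz, hzf, hmax, hd⟩ := FibreDim.Chart.exists_maximal_generization f x
  refine ⟨z, hz, ?_⟩
  rw [← Groth.Agent.Lib.JacCrit.OverField.fibreDimAt_eq_localDim f x, ← hd,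
    fibreDimAt_eq_tdAt f fun z' h hs => hmax z' (h.trans hzf) hs]
  rfl

theorem localDim_pullback (z : ↥(pullback f g)) :
    FlatMor.localDim ↥(pullback f g) z =
      FlatMor.localDim X ((pullback.fst f g).base z) +
        FlatMor.localDim Y ((pullback.snd f g).base z) := by
  have hlft : LocallyOfFiniteType (pullback.snd f g ≫ g) := inferInstance
  obtain ⟨w, hw, hwd⟩ := exists_pdim_eq_localDim (pullback.snd f g ≫ g) z
  obtain ⟨η, hη, hηd⟩ := exists_pdim_eq_localDim g ((pullback.snd f g).base z)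
  obtain ⟨w', a, hw', ha, hle⟩ := exists_le_pdim f g z η hη
  refine le_antisymm ?_ ?_
  · rw [hwd, add_comm]
    refine (pdim_le f g w).trans (add_le_add
      (le_localDim g (hw.map (pullback.snd f g).continuous)) ?_)
    exact FibreDim.Basic.localDim_mono (hw.map (pullback.fst f g).continuous)
  · rw [ha, hηd, ← Nat.cast_add, add_comm]
    refine le_trans ?_ (le_localDim (pullback.snd f g ≫ g) hw')
    exact_mod_cast hle

theorem dim_pullback :
    topologicalKrullDim ↥(pullback f g) = topologicalKrullDim ↥X + topologicalKrullDim ↥Y := by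
  have hlft : LocallyOfFiniteType (pullback.snd f g ≫ g) := inferInstance
  refine le_antisymm ?_ ?_
  · rw [dim_le_iff (pullback.snd f g ≫ g)]
    intro w
    refine (pdim_le f g w).trans ?_
    rw [add_comm (topologicalKrullDim ↥X)]
    exact add_le_add (pdim_le_topologicalKrullDim_scheme g _) (localDim_le_dim _)
  · refine add_le_of_forall (pdim f) (pdim g) _ _ _ (dim_le_iff f) (dim_le_iff g) fun x y => ?_
    have : Subsingleton (Spec (CommRingCat.of k) : Scheme.{u}) :=
      inferInstanceAs (Subsingleton (PrimeSpectrum k))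
    obtain ⟨z, hzx, hzy⟩ := Scheme.Pullback.exists_preimage_pullback (f := f) (g := g) x y
      (Subsingleton.elim _ _)
    obtain ⟨w, a, -, ha, hle⟩ := exists_le_pdim f g z y (hzy ▸ specializes_rfl)
    have h1 : (pdim f x : WithBot ℕ∞) ≤ (a : WithBot ℕ∞) := by
      rw [← ha, hzx]; exact le_localDim f specializes_rfl
    refine le_trans ?_ (pdim_le_topologicalKrullDim_scheme (pullback.snd f g ≫ g) w)
    have : pdim f x ≤ a := by exact_mod_cast h1
    exact_mod_cast (by omega : pdim f x + pdim g y ≤ pdim (pullback.snd f g ≫ g) w)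

end field

/-- Over a valuation ring all fibres of an irreducible scheme dominating the base are equidimensional
of the dimension of the generic fibre. -/
theorem fibre_component_dim_of_valuationRing (R : Type u) [CommRing R] [IsDomain R] [ValuationRing R]
    {X : Scheme.{u}} [IrreducibleSpace X] (f : X ⟶ Spec (CommRingCat.of R)) [LocallyOfFiniteType f]
    (x₀ : X) (hx₀ : f.base x₀ = (⟨⊥, Ideal.isPrime_bot⟩ : PrimeSpectrum R))
    (s : ↥(Spec (CommRingCat.of R))) (Z : Set ↥(f.fiber s))
    (hZ : Z ∈ irreducibleComponents ↥(f.fiber s)) :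
    topologicalKrullDim ↥Z =
      topologicalKrullDim ↥(f.fiber (⟨⊥, Ideal.isPrime_bot⟩ : PrimeSpectrum R)) := by
  let η : ↥(Spec (CommRingCat.of R)) := (⟨⊥, Ideal.isPrime_bot⟩ : PrimeSpectrum R)
  have hη : f.base (genericPoint X) = η := by
    have h1 : f.base (genericPoint X) ⤳ η := by
      have h := ((genericPoint_spec X).specializes (Set.mem_univ x₀)).map f.continuous
      rwa [show (f : X → ↥(Spec (CommRingCat.of R))) x₀ = η from hx₀] at h
    exact (h1.antisymm ((PrimeSpectrum.le_iff_specializes η _).1 bot_le)).eq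
  obtain ⟨a, ha, hag⟩ := exists_isMax_isGenericPoint hZ
  have hm := (isMax_asFiber_iff f a).1 ha
  have hgs := (genericPoint_spec X).specializes (Set.mem_univ ((f.fiberι s).base a))
  have h1 := FibreDimVal.fibreDimAt_le_of_specializes f _ (genericPoint X) hgs
    fun z hz he => hm z he hz
  obtain ⟨U, hxU, hU⟩ :=
    FibreDim.Semicont.exists_open_forall_fibreDimAt_le f ((f.fiberι s).base a)
  have h2 := le_antisymm h1 (hU _ (hgs.mem_open U.2 hxU))
  rw [topologicalKrullDim_fibre_component f a hag, ← fibreDimAt_eq_tdAt f hm, h2]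
  refine le_antisymm (FibreDim.Basic.fibreDimAt_le_topologicalKrullDim f hη)
    (FibreDim.Basic.topologicalKrullDim_fiber_le f fun x' hx' => ?_)
  obtain ⟨z, -, hz, hmax, hzd⟩ := FibreDim.Chart.exists_maximal_generization f x'
  have : genericPoint X = z := hmax _ (hη.trans hx'.symm)
    ((genericPoint_spec X).specializes (Set.mem_univ z))
  rw [← hzd, ← this]

/-- Over a valuation ring the special fibre of an irreducible scheme is equidimensional of the
dimension of the generic fibre. -/
theorem special_fibre_component_dim (R : Type u) [CommRing R] [IsDomain R] [ValuationRing R]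
    {X : Scheme.{u}} [IrreducibleSpace X] (f : X ⟶ Spec (CommRingCat.of R)) [LocallyOfFiniteType f]
    [Surjective f] (s : ↥(Spec (CommRingCat.of R))) (Z : Set ↥(f.fiber s))
    (hZ : Z ∈ irreducibleComponents ↥(f.fiber s)) :
    topologicalKrullDim ↥Z =
      topologicalKrullDim ↥(f.fiber (⟨⊥, Ideal.isPrime_bot⟩ : PrimeSpectrum R)) :=
  have ⟨x, hx⟩ := f.surjective (⟨⊥, Ideal.isPrime_bot⟩ : PrimeSpectrum R)
  fibre_component_dim_of_valuationRing R f x hx s Z hZ

/-- Lifting specializations bounds the dimension of a subset. -/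
theorem dim_le_of_specializing {X Y : Scheme.{u}} (φ : X ⟶ Y) (T : Set Y) [QuasiSober ↥T]
    (hT : ∀ y ∈ T, ∃ x, φ.base x = y)
    (hlift : (∀ (x : X), ∀ y ∈ T, φ.base x ⤳ y → ∃ x', x ⤳ x' ∧ φ.base x' = y) ∨
      ∀ (x : X), ∀ y ∈ T, y ⤳ φ.base x → ∃ x', x' ⤳ x ∧ φ.base x' = y) :
    topologicalKrullDim ↥T ≤ topologicalKrullDim X := by
  have : QuasiSober ↥(Set.univ : Set X) := isClosed_univ.isClosedEmbedding_subtypeVal.quasiSober
  rw [topologicalKrullDim_scheme_eq, GrpSch.topologicalKrullDim_eq_krullDim_subset,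
    GrpSch.topologicalKrullDim_eq_krullDim_subset]
  have hlt : ∀ (x x' : {x : X // x ∈ (Set.univ : Set X)}) (y y' : {y : Y // y ∈ T}),
      φ.base x.1 = y.1 → φ.base x'.1 = y'.1 → y < y' → x'.1 ⤳ x.1 → x < x' := by
    intro x x' y y' h h' hyy hs
    refine lt_iff_le_not_ge.2 ⟨hs, fun hge => ?_⟩
    have h2 : y.1 ⤳ y'.1 := h ▸ h' ▸ (show x.1 ⤳ x'.1 from hge).map φ.continuous
    exact (not_le_of_gt hyy) h2
  rcases hlift with hl | hl
  · refine iSup_le fun l => ?_
    suffices ∃ l' : LTSeries {x : X // x ∈ (Set.univ : Set X)},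
        l'.length = l.length ∧ φ.base l'.head.1 = l.head.1 by
      obtain ⟨l', hlen, -⟩ := this
      exact le_iSup_of_le l' (by rw [hlen])
    induction l using RelSeries.inductionOn with
    | singleton y =>
      obtain ⟨x, hx⟩ := hT y.1 y.2
      exact ⟨RelSeries.singleton _ ⟨x, trivial⟩, rfl, hx⟩
    | cons p y hy hp =>
      obtain ⟨l', hlen, hhead⟩ := hp
      obtain ⟨x', hx', hx'y⟩ := hl l'.head.1 y.1 y.2 (hhead ▸ (hy : y < p.head).le)
      refine ⟨l'.cons ⟨x', trivial⟩ (hlt ⟨x', trivial⟩ l'.head y p.head hx'y hhead hy hx'),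
        by simp [hlen], ?_⟩
      rw [RelSeries.head_cons, RelSeries.head_cons]
      exact hx'y
  · refine iSup_le fun l => ?_
    suffices ∃ l' : LTSeries {x : X // x ∈ (Set.univ : Set X)},
        l'.length = l.length ∧ φ.base l'.last.1 = l.last.1 by
      obtain ⟨l', hlen, -⟩ := this
      exact le_iSup_of_le l' (by rw [hlen])
    induction l using RelSeries.inductionOn' with
    | singleton y =>
      obtain ⟨x, hx⟩ := hT y.1 y.2
      exact ⟨RelSeries.singleton _ ⟨x, trivial⟩, rfl, hx⟩
    | snoc p y hy hp =>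
      obtain ⟨l', hlen, hlast⟩ := hp
      obtain ⟨x', hx', hx'y⟩ := hl l'.last.1 y.1 y.2 (hlast ▸ (hy : p.last < y).le)
      refine ⟨l'.snoc ⟨x', trivial⟩ (hlt l'.last ⟨x', trivial⟩ p.last y hlast hx'y hy hx'),
        by simp [hlen], ?_⟩
      rw [RelSeries.last_snoc, RelSeries.last_snoc]
      exact hx'y

/-- A surjective open or closed morphism does not raise the dimension. -/
theorem dim_le_of_surjective {X Y : Scheme.{u}} (f : X ⟶ Y) (hs : Function.Surjective f.base)
    (h : IsOpenMap f.base ∨ IsClosedMap f.base) :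
    topologicalKrullDim Y ≤ topologicalKrullDim X := by
  have : QuasiSober ↥(Set.univ : Set Y) := isClosed_univ.isClosedEmbedding_subtypeVal.quasiSober
  rw [topologicalKrullDim_scheme_eq (X := Y)]
  refine dim_le_of_specializing f _ (fun y _ => hs y) (h.symm.imp (fun hc x y _ hy => ?_)
    fun ho x y' _ hy => ?_)
  · have hy' : y ∈ f.base '' closure {x} := by
      refine closure_minimal (Set.singleton_subset_iff.2 ?_) (hc _ isClosed_closure)
        (specializes_iff_mem_closure.1 hy)
      exact ⟨x, subset_closure rfl, rfl⟩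
    obtain ⟨x', hx', rfl⟩ := hy'
    exact ⟨x', specializes_iff_mem_closure.2 hx', rfl⟩
  · have : QuasiCompact (f.fiberι y') :=
      MorphismProperty.pullback_fst f (Y.fromSpecResidueField y') inferInstance
    obtain ⟨a, ha⟩ := exists_specializes_of_mem_closure_range (f.fiberι y') (y := x) (by
      rw [f.range_fiberι, mem_closure_iff]
      intro O hO hxO
      obtain ⟨x', hx', e⟩ := hy.mem_open (ho O hO) ⟨x, hxO, rfl⟩
      exact ⟨x', hx', e⟩)
    exact ⟨_, ha, by
      have : (f.fiberι y').base a ∈ Set.range (f.fiberι y').base := ⟨a, rfl⟩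
      rwa [f.range_fiberι] at this⟩

/-- The dimension of the source of a finite morphism. -/
theorem dim_eq_of_isFinite {X Y : Scheme.{u}} (f : X ⟶ Y) [IsFinite f] :
    topologicalKrullDim X = topologicalKrullDim (Set.range f.base) := by
  refine le_antisymm ?_ ?_
  · have h := FlatEquidim.topologicalKrullDim_le_of_quasiFinite f
    rwa [f.isClosedMap.isClosed_range.closure_eq] at h
  · have : QuasiSober ↥(Set.range f.base) :=
      f.isClosedMap.isClosed_range.isClosedEmbedding_subtypeVal.quasiSober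
    refine dim_le_of_specializing f _ (fun y hy => hy) (Or.inl fun x y _ hy => ?_)
    have hy' : y ∈ f.base '' closure {x} := by
      refine closure_minimal (Set.singleton_subset_iff.2 ?_) (f.isClosedMap _ isClosed_closure)
        (specializes_iff_mem_closure.1 hy)
      exact ⟨x, subset_closure rfl, rfl⟩
    obtain ⟨x', hx', rfl⟩ := hy'
    exact ⟨x', specializes_iff_mem_closure.2 hx', rfl⟩

/-- Every nonempty fibre has a point which is algebraic over the base point. -/
theorem exists_trd_eq_zero {X Y : Scheme.{u}} (f : X ⟶ Y) [LocallyOfFiniteType f] (y : Y) (x₀ : X)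
    (hx₀ : f.base x₀ = y) : ∃ x : X, f.base x = y ∧ Groth.Agent.H46.FibreTrdeg.trd f x = 0 := by
  classical
  have hP : ∃ m, ∃ x : X, f.base x = y ∧ Groth.Agent.H46.FibreTrdeg.trd f x = m :=
    ⟨_, x₀, hx₀, rfl⟩
  obtain ⟨x, hx, hm⟩ := Nat.find_spec hP
  refine ⟨x, hx, ?_⟩
  by_contra hpos
  obtain ⟨a, rfl⟩ : x ∈ Set.range (f.fiberι y).base := by rw [f.range_fiberι]; exact hx
  have : LocallyOfFiniteType (X := f.fiber y) (Y := Spec (CommRingCat.of (Y.residueField y)))
      (f.fiberToSpecResidueField y) := MorphismProperty.pullback_snd _ _ ‹_›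
  have hcl : ¬ IsClosed ({a} : Set (f.fiber y)) := fun hcl => hpos (by
    have e := (VarDim.Basic.pdim_eq_zero_iff (K := Y.residueField y)
      (f.fiberToSpecResidueField y) a).2 hcl
    have h1 := H46.FibreTrdeg.fdelta_fiber f y a
    rw [VarDim.Basic.fdelta_eq, e] at h1
    exact_mod_cast h1.symm)
  obtain ⟨b, hb, hne'⟩ : ∃ b ∈ closure ({a} : Set (f.fiber y)), b ≠ a := by
    by_contra! hc
    exact hcl (closure_subset_iff_isClosed.1 hc)
  have hlt := H46.FibreTrdeg.trd_lt f
    ((specializes_iff_mem_closure.2 hb).map (f.fiberι y).continuous)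
    ((Cyc.FieldDim.apply_fiberι f y a).trans (Cyc.FieldDim.apply_fiberι f y b).symm)
    (fun e => hne' ((f.fiberι y).isEmbedding.injective e).symm)
  exact Nat.find_min hP (hm ▸ hlt) ⟨_, Cyc.FieldDim.apply_fiberι f y b, rfl⟩

section zero

variable (k : Type u) [Field k] (X : Scheme.{u}) (p : X ⟶ Spec (CommRingCat.of k))
  [LocallyOfFiniteType p] (f : Γ(X, ⊤))

theorem pdim_add_one_le (hY : interior (X.zeroLocus (U := ⊤) {f}) = ∅) {y : X}
    (hy : y ∈ X.zeroLocus (U := ⊤) {f}) :
    ∃ ζ : X, ζ ⤳ y ∧ pdim p y + 1 ≤ pdim p ζ := by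
  obtain ⟨z, hzy, hz⟩ := exists_isMax_specializes y
  refine ⟨z, hzy, Nat.succ_le_of_lt (pdim_lt p hzy fun he => ?_)⟩
  obtain ⟨V, hV, hzV, hsub⟩ := exists_nhd_subset_closure p hz
  have hmem : y ∈ interior (X.zeroLocus (U := ⊤) {f}) := by
    refine mem_interior.2 ⟨V, fun v hv => ?_, hV, he ▸ hzV⟩
    exact (X.zeroLocus_isClosed (U := ⊤) {f}).closure_subset_iff.2 (Set.singleton_subset_iff.2 hy)
      (specializes_iff_mem_closure.1 (he ▸ hsub v hv))
  rw [hY] at hmem
  exact hmem

/-- A function vanishing somewhere on a component cuts a subset of codimension at most one. -/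
theorem exists_pdim_le_add_one {ζ y : X} (h : ζ ⤳ y) (hy : y ∈ X.zeroLocus (U := ⊤) {f}) :
    ∃ w ∈ X.zeroLocus (U := ⊤) {f}, ζ ⤳ w ∧ pdim p ζ ≤ pdim p w + 1 := by
  let ψ : k →+* Γ(X, ⊤) := ((Scheme.ΓSpecIso (CommRingCat.of k)).inv ≫ p.appTop).hom
  let ev : Polynomial k →+* Γ(X, ⊤) := Polynomial.eval₂RingHom ψ f
  let φ : X ⟶ Spec (CommRingCat.of (Polynomial k)) :=
    X.toSpecΓ ≫ Spec.map (CommRingCat.ofHom ev)
  let q : Spec (CommRingCat.of (Polynomial k)) ⟶ Spec (CommRingCat.of k) :=
    Spec.map (CommRingCat.ofHom (Polynomial.C : k →+* Polynomial k))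
  have hq : LocallyOfFiniteType q := by
    rw [HasRingHomProperty.Spec_iff (P := @LocallyOfFiniteType)]
    exact RingHom.finiteType_algebraMap.2 (inferInstanceAs (Algebra.FiniteType k (Polynomial k)))
  have hpq : φ ≫ q = p := by
    have e : CommRingCat.ofHom (Polynomial.C : k →+* Polynomial k) ≫ CommRingCat.ofHom ev =
        (Scheme.ΓSpecIso (CommRingCat.of k)).inv ≫ p.appTop := by
      ext r
      exact Polynomial.eval₂_C ψ f
    simp only [φ, q, Category.assoc, ← Spec.map_comp, e]
    rw [Spec.map_comp, ← Scheme.toSpecΓ_naturality_assoc, ← SpecMap_ΓSpecIso_hom,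
      ← Spec.map_comp, Iso.inv_hom_id, Spec.map_id, Category.comp_id]
  have : LocallyOfFiniteType φ := VarDim.Irreducible.locallyOfFiniteType p q φ hpq
  obtain ⟨w, hζw, hwy, hle⟩ := (VarDim.Semicont.semicont p q φ hpq ζ).1 y h
  refine ⟨w, ?_, hζw, ?_⟩
  · have hz : ∀ v : X, v ∈ X.zeroLocus (U := ⊤) {f} ↔
        φ.base v ∈ PrimeSpectrum.zeroLocus ({Polynomial.X} : Set (Polynomial k)) := fun v => by
      rw [← Scheme.toSpecΓ_preimage_zeroLocus]
      show (X.toSpecΓ.base v : PrimeSpectrum Γ(X, ⊤)) ∈ PrimeSpectrum.zeroLocus ({f} : Set Γ(X, ⊤)) ↔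
        PrimeSpectrum.comap ev (X.toSpecΓ.base v : PrimeSpectrum Γ(X, ⊤)) ∈ _
      generalize (X.toSpecΓ.base v : PrimeSpectrum Γ(X, ⊤)) = P
      simp [ev]
      exact Set.singleton_subset_iff
    rw [hz, show φ.base w = φ.base y from hwy, ← hz]
    exact hy
  · have h1 := pdim_eq_add p q φ hpq ζ
    have h2 := pdim_eq_add p q φ hpq w
    have h3 : pdim q (φ.base ζ) ≤ 1 := by
      have := (pdim_le_topologicalKrullDim_scheme q (φ.base ζ)).trans
        (le_of_eq (PrimeSpectrum.topologicalKrullDim_eq_ringKrullDim (Polynomial k)))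
      rw [Polynomial.ringKrullDim_of_isNoetherianRing, ringKrullDim_eq_zero_of_field, zero_add] at this
      exact_mod_cast this
    omega

include p in
theorem dim_zeroLocus (hY : interior (X.zeroLocus (U := ⊤) {f}) = ∅) :
    topologicalKrullDim (X.zeroLocus (U := ⊤) {f}) + 1 ≤ topologicalKrullDim X ∧
      ((∃ Z ∈ irreducibleComponents (X : Type u), topologicalKrullDim Z = topologicalKrullDim X) →
        (∀ Z ∈ irreducibleComponents (X : Type u), topologicalKrullDim Z = topologicalKrullDim X →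
          (Z ∩ X.zeroLocus (U := ⊤) {f}).Nonempty) →
        topologicalKrullDim (X.zeroLocus (U := ⊤) {f}) + 1 = topologicalKrullDim X) := by
  have hlc : IsLocallyClosed (X.zeroLocus (U := ⊤) {f}) :=
    (X.zeroLocus_isClosed (U := ⊤) {f}).isLocallyClosed
  have hle : topologicalKrullDim (X.zeroLocus (U := ⊤) {f}) + 1 ≤ topologicalKrullDim X :=
    add_le_of_forall (fun y : {y : X // y ∈ X.zeroLocus (U := ⊤) {f}} => pdim p y.1)
      (fun _ : PUnit.{1} => 1) _ _ _
      (fun d => by rw [topologicalKrullDim_le_iff p hlc]; exact ⟨fun h y => h _ y.2, fun h y hy => h ⟨y, hy⟩⟩)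
      (fun d => by simp) fun y _ => by
        obtain ⟨ζ, -, hζ⟩ := pdim_add_one_le k X p f hY y.2
        exact le_trans (by exact_mod_cast hζ) (pdim_le_topologicalKrullDim_scheme p ζ)
  refine ⟨hle, fun ⟨Z, hZ, hZd⟩ hmeet => le_antisymm hle ?_⟩
  obtain ⟨ζ, -, hζ⟩ := exists_isMax_isGenericPoint hZ
  obtain ⟨y, hyZ, hy⟩ := hmeet Z hZ hZd
  obtain ⟨w, hw, -, hwd⟩ := exists_pdim_le_add_one k X p f (hζ.specializes hyZ) hy
  rw [← hZd, topologicalKrullDim_isGenericPoint p hζ]
  refine le_trans ?_ (add_le_add (pdim_le_topologicalKrullDim p hlc hw) le_rfl)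
  exact_mod_cast hwd

end zero

section generic

open Groth.Agent.H46.DimData Groth.Agent.H46.FibreTrdeg

/-- The dimension of the source is bounded by the base and the generic fibre. -/
theorem dim_le_add_generic {X Y : Scheme.{u}} (f : X ⟶ Y) [IsLocallyNoetherian Y]
    [LocallyOfFiniteType f] [IrreducibleSpace X] [IrreducibleSpace Y] (hf : DenseRange f.base) :
    topologicalKrullDim X ≤ topologicalKrullDim Y + topologicalKrullDim (f.fiber (genericPoint Y)) ∧
      ((∀ y : Y, CAlg.IsUniversallyCatenary (Y.presheaf.stalk y)) →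
        (topologicalKrullDim X = topologicalKrullDim Y + topologicalKrullDim (f.fiber (genericPoint Y)) ↔
          topologicalKrullDim Y = ⨆ y ∈ Set.range f.base, ringKrullDim (Y.presheaf.stalk y))) := by
  have : IsLocallyNoetherian X := LocallyOfFiniteType.isLocallyNoetherian f
  have hη : f.base (genericPoint X) = genericPoint Y := by
    have h := (genericPoint_spec X).image f.continuous
    rw [Set.image_univ, hf.closure_range] at h
    exact h.eq (genericPoint_spec Y)
  have hmax : Groth.Agent.H46.FibreTrdeg.IsMaxFib f (genericPoint X) :=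
    H46.Equidim.isMaxFib_of_isMaxPt f Cyc.DimFun.isMaxPt_genericPoint
  have he : topologicalKrullDim ↥(f.fiber (genericPoint Y)) =
      (trd f (genericPoint X) : WithBot ℕ∞) := by
    refine le_antisymm (FibreDim.Basic.topologicalKrullDim_fiber_le f fun x hx => ?_) ?_
    · obtain ⟨z, -, hz, hmax', hzd⟩ := FibreDim.Chart.exists_maximal_generization f x
      have : genericPoint X = z := hmax' _ (hη.trans hx.symm)
        ((genericPoint_spec X).specializes (Set.mem_univ z))
      rw [← hzd, ← this, H46.FibreTrdeg.fibreDimAt_of_isMaxFib f hmax]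
    · rw [← H46.FibreTrdeg.fibreDimAt_of_isMaxFib f hmax]
      exact FibreDim.Basic.fibreDimAt_le_topologicalKrullDim f hη
  set S := ⨆ y ∈ Set.range f.base, ringKrullDim (Y.presheaf.stalk y) with hSdef
  have hqd : ∀ x : X, ∀ hs : genericPoint X ⤳ x, qd hs = sd x ∧
      qd (hs.map f.continuous) = sd (f.base x) := fun x hs =>
    ⟨qd_of_isMaxPt hs Cyc.DimFun.isMaxPt_genericPoint,
      qd_of_isMaxPt _ (hη ▸ Cyc.DimFun.isMaxPt_genericPoint)⟩
  have hup : topologicalKrullDim X ≤ S + (trd f (genericPoint X) : WithBot ℕ∞) := by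
    refine DimIneqFibre.topologicalKrullDim_le_of_forall_stalk _ fun x => ?_
    have hs := (genericPoint_spec X).specializes (Set.mem_univ x)
    have h1 := qd_ineq f hs
    rw [(hqd x hs).1, (hqd x hs).2] at h1
    rw [H46.DimData.ringKrullDim_stalk]
    refine le_trans ?_ (add_le_add
      (le_iSup₂_of_le (f.base x) ⟨x, rfl⟩ le_rfl) le_rfl)
    rw [H46.DimData.ringKrullDim_stalk]
    exact_mod_cast (by omega : sd x ≤ sd (f.base x) + trd f (genericPoint X))
  have hS : S ≤ topologicalKrullDim Y :=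
    iSup₂_le fun y _ => Cyc.TorPD.ringKrullDim_stalk_le y
  rw [he]
  refine ⟨hup.trans (add_le_add hS le_rfl), fun hcat => ?_⟩
  have hlow : S + (trd f (genericPoint X) : WithBot ℕ∞) ≤ topologicalKrullDim X := by
    refine add_le_of_forall (fun x : X => sd (f.base x)) (fun _ : PUnit.{1} => trd f (genericPoint X))
      _ _ _ (fun d => ?_) (fun d => by simp) fun x _ => ?_
    · refine iSup₂_le_iff.trans ⟨fun h x => ?_, fun h y hy => ?_⟩
      · rw [← H46.DimData.ringKrullDim_stalk]; exact h _ ⟨x, rfl⟩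
      · obtain ⟨x, rfl⟩ := hy
        rw [H46.DimData.ringKrullDim_stalk]; exact h x
    · obtain ⟨x', hx', h0⟩ := exists_trd_eq_zero f (f.base x) x rfl
      have hs := (genericPoint_spec X).specializes (Set.mem_univ x')
      have h1 := qd_eq f hs (hcat _)
      rw [(hqd x' hs).1, (hqd x' hs).2, h0, hx'] at h1
      refine le_trans ?_ (Cyc.TorPD.ringKrullDim_stalk_le x')
      rw [H46.DimData.ringKrullDim_stalk]
      exact_mod_cast (by omega : sd (f.base x) + trd f (genericPoint X) ≤ sd x')
  rw [le_antisymm hup hlow]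
  refine ⟨fun h => le_antisymm ?_ hS, fun h => by rw [← h]⟩
  generalize topologicalKrullDim Y = D at h ⊢
  generalize S = T at h ⊢
  cases D with
  | bot => exact bot_le
  | coe a =>
    cases T with
    | bot =>
      rw [WithBot.bot_add] at h
      exact absurd h.symm (WithBot.add_ne_bot.2 ⟨WithBot.coe_ne_bot, WithBot.natCast_ne_bot _⟩)
    | coe b =>
      induction a using ENat.recTopCoe with
      | top =>
        induction b using ENat.recTopCoe with
        | top => exact le_rfl
        | coe b =>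
          have h' : (((b + trd f (genericPoint X) : ℕ) : ℕ∞) : WithBot ℕ∞) = ((⊤ : ℕ∞) : WithBot ℕ∞) := by
            rw [Nat.cast_add]; exact_mod_cast h
          exact absurd (WithBot.coe_inj.1 h') (ENat.natCast_ne_top _)
      | coe a =>
        induction b using ENat.recTopCoe with
        | top => exact le_top
        | coe b =>
          have : b + trd f (genericPoint X) = a + trd f (genericPoint X) := by exact_mod_cast h
          exact_mod_cast (by omega : a ≤ b)

end generic

end Groth.Agent.Lib.Flat55.DimSums
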