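import Groth.Agent.Lib.Flat55.SpecialFibre
import Groth.Agent.Lib.LocalFlat.Fibre
import Mathlib.RingTheory.FinitePresentation
import Mathlib.RingTheory.MvPolynomial.Localization
import Mathlib.Algebra.Module.FinitePresentation
import Mathlib.RingTheory.Localization.Integer

/-!
# The criterion of flatness by fibres for local rings of finitely presented algebras
-/

set_option autoImplicit false

universe u v w

namespace Groth.Agent.Lib.Flat55.Localized

open MvPolynomial Relations

/-- Flatness can be checked over a subring of which the ring is a ring of fractions. -/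
theorem flat_of_fractions {A A' M : Type*} [CommRing A] [CommRing A'] [Algebra A A'] [AddCommGroup M]
    [Module A M] [Module A' M] [IsScalarTower A A' M]
    (hsurj : ∀ (l : ℕ) (f : Fin l → A'), ∃ d : A, IsUnit (algebraMap A A' d) ∧
      ∀ i, ∃ F : A, algebraMap A A' F = algebraMap A A' d * f i) [Module.Flat A M] :
    Module.Flat A' M := by
  refine Module.Flat.iff_forall_isTrivialRelation.2 fun {l f x} hfx ↦ ?_
  obtain ⟨d, hd, hF⟩ := hsurj l f
  choose F hF using hF
  have h0 : ∑ i, F i • x i = 0 := by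
    simp only [← algebraMap_smul A' (F _), hF, mul_smul, ← Finset.smul_sum, hfx, smul_zero]
  obtain ⟨k, a, y, hy, ha⟩ := Module.Flat.isTrivialRelation_of_sum_smul_eq_zero h0
  refine ⟨k, fun i j ↦ algebraMap A A' (a i j), y, fun i ↦ ?_, fun j ↦ ?_⟩
  · simpa only [algebraMap_smul] using hy i
  · apply hd.mul_left_cancel
    rw [mul_zero, Finset.mul_sum, ← map_zero (algebraMap A A'), ← ha j, map_sum]
    refine Finset.sum_congr rfl fun i _ ↦ ?_
    rw [map_mul, hF, mul_assoc]

/-- Flatness modulo an ideal passes to a ring with the same fractions. -/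
theorem flat_quotient_of_flat {A A' : Type u} {M : Type v} [CommRing A] [CommRing A'] [Algebra A A'] [AddCommGroup M]
    [Module A M] [Module A' M] [IsScalarTower A A' M] (hA : (algebraMap A A').Flat) (I : Ideal A)
    [Module.Flat (A' ⧸ I.map (algebraMap A A')) (M ⧸ I.map (algebraMap A A') • (⊤ : Submodule A' M))] :
    Module.Flat (A ⧸ I) (M ⧸ I • (⊤ : Submodule A M)) := by
  set I' := I.map (algebraMap A A') with hI'
  let N' : Submodule A' M := I' • ⊤
  let : Algebra (A ⧸ I) (A' ⧸ I') :=
    RingHom.toAlgebra (R := A ⧸ I) (S := A' ⧸ I') (Ideal.quotientMap I' (algebraMap A A') Ideal.le_comap_map)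
  let : Module (A ⧸ I) (M ⧸ N') := Module.compHom _ (algebraMap (A ⧸ I) (A' ⧸ I'))
  have : IsScalarTower (A ⧸ I) (A' ⧸ I') (M ⧸ N') := IsScalarTower.of_algebraMap_smul fun _ _ ↦ rfl
  have : Module.Flat (A ⧸ I) (A' ⧸ I') := Presented.quotient_flat (algebraMap A A') hA I
  have h : Module.Flat (A ⧸ I) (M ⧸ N') := Module.Flat.trans (A ⧸ I) (A' ⧸ I') (M ⧸ N')
  have heq : N'.restrictScalars A = I • (⊤ : Submodule A M) :=
    Ideal.smul_restrictScalars I (⊤ : Submodule A' M)
  let E : (M ⧸ I • (⊤ : Submodule A M)) ≃ₗ[A] M ⧸ N' :=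
    Submodule.quotEquivOfEq _ _ heq.symm ≪≫ₗ Submodule.Quotient.restrictScalarsEquiv A N'
  have : IsScalarTower A (A ⧸ I) (M ⧸ N') := IsScalarTower.of_algebraMap_smul fun a y ↦ by
    change Ideal.Quotient.mk I' (algebraMap A A' a) • y = a • y
    obtain ⟨y, rfl⟩ := Submodule.Quotient.mk_surjective N' y
    rw [← algebraMap_smul A' a (Submodule.Quotient.mk y : M ⧸ N')]
    rfl
  exact Module.Flat.of_linearEquiv (E.extendScalarsOfSurjective (S := A ⧸ I) Ideal.Quotient.mk_surjective)

theorem isUnit_map_of_notMem {R C C' : Type u} [CommRing R] [CommRing C] [CommRing C'] (ρ : R →+* C')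
    [Algebra C C'] [IsLocalRing C'] (x : R) (hx : x ∉ (IsLocalRing.maximalIdeal C').comap ρ) :
    IsUnit (ρ x) := IsLocalRing.notMem_maximalIdeal.1 hx

/-- A localisation of a finitely presented module at a prime, presented over a localised base. -/
theorem exists_presentation {σ : Type} [Finite σ] {R R' C C' : Type u} [CommRing R] [CommRing R']
    [Algebra R R'] (p : Submonoid R) [IsLocalization p R'] [CommRing C] [CommRing C'] [IsLocalRing C']
    [Algebra C C'] (P : Ideal C) [P.IsPrime] [IsLocalization.AtPrime C' P]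
    (ρ₀ : MvPolynomial σ R →+* C) (hρ₀ : Function.Surjective ρ₀) (hker : (RingHom.ker ρ₀).FG)
    (ρ : MvPolynomial σ R' →+* C')
    (hρ : ∀ a, ρ (MvPolynomial.map (algebraMap R R') a) = algebraMap C C' (ρ₀ a))
    {M : Type v} {X : Type w} [AddCommGroup M] [Module C M] [Module.FinitePresentation C M]
    [AddCommGroup X] [Module C X] [Module C' X] [IsScalarTower C C' X]
    (l : M →ₗ[C] X) [IsLocalizedModule P.primeCompl l] :
    ∃ (n m : ℕ) (g : Fin m → Fin n → MvPolynomial σ R')
      (e : QuotAt g ((IsLocalRing.maximalIdeal C').comap ρ) ≃+ X),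
      ∀ a y, e (a • y) = ρ a • e y := by
  let : Algebra (MvPolynomial σ R) C := ρ₀.toAlgebra
  have : Module.FinitePresentation (MvPolynomial σ R) C :=
    Module.finitePresentation_of_surjective (Algebra.linearMap (MvPolynomial σ R) C) hρ₀ hker
  let : Module (MvPolynomial σ R) M := Module.compHom M ρ₀
  have : IsScalarTower (MvPolynomial σ R) C M := IsScalarTower.of_algebraMap_smul fun _ _ ↦ rfl
  have : Module.FinitePresentation (MvPolynomial σ R) M := Module.FinitePresentation.trans (R := MvPolynomial σ R) M C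
  obtain ⟨n, m, l₀, r, hl₀, hex⟩ := Module.FinitePresentation.exists_fin' (R := MvPolynomial σ R) (M := M)
  let g₀ : Fin m → Fin n → MvPolynomial σ R := fun v ↦ r (Pi.single v 1)
  let g : Fin m → Fin n → MvPolynomial σ R' := fun v ↦ mapVec (algebraMap R R') (g₀ v)
  have hspan : LinearMap.ker l₀ = Submodule.span (MvPolynomial σ R) (Set.range g₀) := by
    rw [LinearMap.exact_iff.1 hex]
    refine le_antisymm ?_ (Submodule.span_le.2 ?_)
    · rintro _ ⟨c, rfl⟩
      rw [pi_eq_sum_univ' c, map_sum]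
      exact Submodule.sum_mem _ fun v _ ↦ by
        rw [map_smul]; exact Submodule.smul_mem _ _ (Submodule.subset_span ⟨v, rfl⟩)
    · rintro _ ⟨v, rfl⟩; exact ⟨_, rfl⟩
  set q := (IsLocalRing.maximalIdeal C').comap ρ
  let : Module (MvPolynomial σ R') X := Module.compHom X ρ
  have hsm : ∀ (a : MvPolynomial σ R') (x : X), a • x = ρ a • x := fun _ _ ↦ rfl
  have hC : ∀ (a : MvPolynomial σ R) (x : X),
      MvPolynomial.map (algebraMap R R') a • x = ρ₀ a • x := fun a x ↦ by
    rw [hsm, hρ, algebraMap_smul]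
  let L : (Fin n → MvPolynomial σ R') →ₗ[MvPolynomial σ R'] X :=
    (Pi.basisFun (MvPolynomial σ R') (Fin n)).constr (MvPolynomial σ R') fun i ↦ l (l₀ (Pi.single i 1))
  have hL : ∀ f : Fin n → MvPolynomial σ R, L (mapVec (algebraMap R R') f) = l (l₀ f) := by
    intro f
    conv_lhs => rw [pi_eq_sum_univ' (mapVec (algebraMap R R') f)]
    conv_rhs => rw [pi_eq_sum_univ' f]
    simp only [map_sum, map_smul, mapVec_apply]
    refine Finset.sum_congr rfl fun i _ ↦ ?_
    rw [← Pi.basisFun_apply, Module.Basis.constr_basis, hC]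
    exact (map_smul l (ρ₀ (f i)) _).symm
  let L' : Quot g →ₗ[MvPolynomial σ R'] X := (rel g).liftQ L <| by
    rw [rel, Submodule.span_le]
    rintro _ ⟨v, rfl⟩
    rw [SetLike.mem_coe, LinearMap.mem_ker, hL,
      show l₀ (g₀ v) = 0 from hex.apply_apply_eq_zero _, map_zero]
  have hunitP : ∀ u : MvPolynomial σ R, ρ₀ u ∉ P → MvPolynomial.map (algebraMap R R') u ∈ q.primeCompl :=
    fun u hu hm ↦ (IsLocalRing.mem_maximalIdeal _).1 hm (hρ u ▸ IsLocalization.map_units C' (⟨_, hu⟩ : P.primeCompl))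
  have : IsLocalizedModule q.primeCompl L' := by
    refine ⟨fun s ↦ ?_, fun x ↦ ?_, fun {x₁ x₂} h ↦ ?_⟩
    · rw [Module.End.isUnit_iff]
      obtain ⟨c, hc⟩ := IsLocalRing.notMem_maximalIdeal.1 s.2
      refine ⟨fun x y hxy ↦ ?_, fun y ↦ ⟨(↑c⁻¹ : C') • y, ?_⟩⟩
      · change ρ s • x = ρ s • y at hxy
        rw [← hc] at hxy
        simpa [← mul_smul] using congrArg ((↑c⁻¹ : C') • ·) hxy
      · change ρ s • (↑c⁻¹ : C') • y = y
        rw [← hc, ← mul_smul, Units.mul_inv, one_smul]
    · obtain ⟨⟨y, u⟩, hu⟩ := IsLocalizedModule.surj P.primeCompl l x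
      obtain ⟨f, rfl⟩ := hl₀ y
      obtain ⟨u₀, hu₀⟩ := hρ₀ (u : C)
      refine ⟨⟨Submodule.Quotient.mk (mapVec (algebraMap R R') f),
        ⟨_, hunitP u₀ (hu₀ ▸ u.2)⟩⟩, ?_⟩
      change MvPolynomial.map (algebraMap R R') u₀ • x = L (mapVec (algebraMap R R') f)
      rw [hC, hu₀, hL]
      exact hu
    · suffices ∀ z, L' z = 0 → ∃ s : q.primeCompl, s • z = 0 by
        obtain ⟨s, hs⟩ := this (x₁ - x₂) (by rw [map_sub, h, sub_self])
        exact ⟨s, by rwa [smul_sub, sub_eq_zero] at hs⟩
      intro z hz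
      obtain ⟨f, rfl⟩ := Submodule.Quotient.mk_surjective _ z
      let : Algebra (MvPolynomial σ R) (MvPolynomial σ R') := MvPolynomial.algebraMvPolynomial
      obtain ⟨d, hd⟩ := IsLocalization.exist_integer_multiples_of_finite (p.map (MvPolynomial.C : R →+* MvPolynomial σ R)) f
      choose f₀ hf₀ using hd
      obtain ⟨d', hd', hdd'⟩ := Submonoid.mem_map.1 d.2
      have hf : mapVec (algebraMap R R') f₀ = (MvPolynomial.C (algebraMap R R' d') : MvPolynomial σ R') • f := funext fun i ↦ by
        rw [mapVec_apply, Pi.smul_apply, smul_eq_mul]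
        refine (hf₀ i).trans ?_
        change (d : MvPolynomial σ R) • f i = _
        rw [Algebra.smul_def, ← hdd']
        change MvPolynomial.map (algebraMap R R') (MvPolynomial.C d') * f i = _
        rw [map_C]
      have h0 : l (l₀ f₀) = 0 := by
        rw [← hL, hf, map_smul, show L f = 0 from hz, smul_zero]
      obtain ⟨u, hu⟩ := (IsLocalizedModule.eq_zero_iff P.primeCompl l).1 h0
      obtain ⟨u₀, hu₀⟩ := hρ₀ (u : C)
      have h1 : u₀ • f₀ ∈ LinearMap.ker l₀ := by
        rw [LinearMap.mem_ker, map_smul]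
        change ρ₀ u₀ • l₀ f₀ = 0
        rw [hu₀]; exact hu
      rw [hspan, Submodule.mem_span_range_iff_exists_fun] at h1
      obtain ⟨c, hc⟩ := h1
      have hd'q : MvPolynomial.C (algebraMap R R' d') ∈ q.primeCompl := fun hm ↦ (IsLocalRing.mem_maximalIdeal _).1 hm
        (((IsLocalization.map_units R' (⟨d', hd'⟩ : p)).map MvPolynomial.C).map ρ)
      refine ⟨⟨_, hunitP u₀ (hu₀ ▸ u.2)⟩ * ⟨_, hd'q⟩, ?_⟩
      rw [Submonoid.smul_def, Submonoid.coe_mul, ← Submodule.Quotient.mk_smul,
        Submodule.Quotient.mk_eq_zero, mul_smul, ← hf, ← mapVec_smul, ← hc, mapVec_sum]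
      exact Submodule.sum_mem _ fun v _ ↦ Submodule.smul_mem _ _ (Submodule.subset_span ⟨v, rfl⟩)
  exact ⟨n, m, g, (IsLocalizedModule.iso q.primeCompl L').toAddEquiv,
    fun a y ↦ map_smul (IsLocalizedModule.iso q.primeCompl L') a y⟩

/-- The criterion of flatness by fibres for local rings. -/
theorem flat_of_flat_fibre {R B C : Type u} [CommRing R] [CommRing B] [CommRing C]
    [Algebra R B] [Algebra R C] [Algebra B C] [IsScalarTower R B C]
    [Algebra.FiniteType R B] [Algebra.FinitePresentation R C]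
    {R' B' C' : Type u} [CommRing R'] [IsLocalRing R'] [Algebra R R'] (p : Submonoid R) [IsLocalization p R']
    [CommRing B'] [Algebra B B'] (b : Submonoid B) [IsLocalization b B']
    [CommRing C'] [IsLocalRing C'] [Algebra C C'] (P : Ideal C) [P.IsPrime] [IsLocalization.AtPrime C' P]
    [Algebra R' B'] [Algebra B' C'] [Algebra R' C'] [IsScalarTower R' B' C'] [IsLocalHom (algebraMap R' C')]
    (hRB : ∀ r, algebraMap B B' (algebraMap R B r) = algebraMap R' B' (algebraMap R R' r))
    (hBC : ∀ x, algebraMap B' C' (algebraMap B B' x) = algebraMap C C' (algebraMap B C x))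
    {M : Type v} {X : Type u} [AddCommGroup M] [Module C M] [Module.FinitePresentation C M]
    [AddCommGroup X] [Module C X] [Module R' X] [Module B' X] [Module C' X] [IsScalarTower C C' X]
    [IsScalarTower R' C' X] [IsScalarTower B' C' X] (l : M →ₗ[C] X) [IsLocalizedModule P.primeCompl l]
    [Module.Flat R' X]
    (hfib : Module.Flat (B' ⧸ (IsLocalRing.maximalIdeal R').map (algebraMap R' B'))
      (X ⧸ (IsLocalRing.maximalIdeal R').map (algebraMap R' B') • (⊤ : Submodule B' X))) :
    Module.Flat B' X := by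
  obtain ⟨k, π₀, hπ₀⟩ := Algebra.FiniteType.iff_quotient_mvPolynomial''.1 (inferInstance : Algebra.FiniteType R B)
  obtain ⟨k', ρ₁, hρ₁⟩ := Algebra.FiniteType.iff_quotient_mvPolynomial''.1 (inferInstance : Algebra.FiniteType R C)
  let σ := Fin k ⊕ Fin k'
  let ρ₀ : MvPolynomial σ R →ₐ[R] C :=
    aeval (Sum.elim (fun i ↦ algebraMap B C (π₀ (MvPolynomial.X i))) fun j ↦ ρ₁ (MvPolynomial.X j))
  have hρ₀ : Function.Surjective ρ₀ := fun c ↦ by
    obtain ⟨a, rfl⟩ := hρ₁ c
    exact ⟨rename Sum.inr a, DFunLike.congr_fun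
      (show ρ₀.comp (rename Sum.inr) = ρ₁ from MvPolynomial.algHom_ext fun j ↦ by simp [ρ₀]) a⟩
  let ρ : MvPolynomial σ R' →ₐ[R'] C' := aeval fun i ↦ algebraMap C C' (ρ₀ (MvPolynomial.X i))
  have hRC : ∀ r, algebraMap R' C' (algebraMap R R' r) = algebraMap C C' (algebraMap R C r) := fun r ↦ by
    rw [IsScalarTower.algebraMap_apply R' B' C', ← hRB, hBC, ← IsScalarTower.algebraMap_apply R B C]
  have hρ : ∀ a, ρ.toRingHom (MvPolynomial.map (algebraMap R R') a) = algebraMap C C' (ρ₀.toRingHom a) := by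
    intro a
    refine DFunLike.congr_fun (show ρ.toRingHom.comp (MvPolynomial.map (algebraMap R R')) =
      (algebraMap C C').comp ρ₀.toRingHom from MvPolynomial.ringHom_ext (fun r ↦ ?_) fun i ↦ ?_) a
    · simp [ρ, ρ₀, hRC]
    · simp [ρ]
  obtain ⟨n, m, g, e, he⟩ := exists_presentation p P ρ₀.toRingHom hρ₀
    (Algebra.FinitePresentation.ker_fG_of_surjective ρ₀ hρ₀) ρ.toRingHom hρ l
  set q := (IsLocalRing.maximalIdeal C').comap ρ.toRingHom
  have hq : q.comap MvPolynomial.C = IsLocalRing.maximalIdeal R' := by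
    rw [Ideal.comap_comap, show ρ.toRingHom.comp MvPolynomial.C = algebraMap R' C' from
      RingHom.ext ρ.commutes]
    exact IsLocalRing.maximalIdeal_comap (algebraMap R' C')
  -- the image of `R'[τ]` in `B'`
  let ζ : MvPolynomial (Fin k) R' →ₐ[R'] B' := aeval fun i ↦ algebraMap B B' (π₀ (MvPolynomial.X i))
  let Bp := ζ.range
  have hmem : ∀ x : B, algebraMap B B' x ∈ Bp := fun x ↦ by
    obtain ⟨a, rfl⟩ := hπ₀ x
    refine ⟨MvPolynomial.map (algebraMap R R') a, DFunLike.congr_fun
      (show ζ.toRingHom.comp (MvPolynomial.map (algebraMap R R')) =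
        (algebraMap B B').comp π₀.toRingHom from MvPolynomial.ringHom_ext (fun r ↦ ?_) fun i ↦ ?_) a⟩
    · simp [ζ, hRB]
    · simp [ζ]
  have hfrac : ∀ (l : ℕ) (f : Fin l → B'), ∃ d : Bp, IsUnit (algebraMap Bp B' d) ∧
      ∀ i, ∃ F : Bp, algebraMap Bp B' F = algebraMap Bp B' d * f i := fun l f ↦ by
    obtain ⟨d, hd⟩ := IsLocalization.exist_integer_multiples_of_finite b f
    refine ⟨⟨_, hmem d⟩, IsLocalization.map_units B' d, fun i ↦ ?_⟩
    obtain ⟨F, hF⟩ := hd i
    exact ⟨⟨_, hmem F⟩, hF.trans (Algebra.smul_def _ _)⟩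
  have hflatB : (algebraMap Bp B').Flat := by
    have : IsLocalization ((IsUnit.submonoid B').comap (algebraMap Bp B').toMonoidHom) B' := by
      refine ⟨⟨fun y ↦ y.2, fun z ↦ ?_, fun {x y} h ↦ ⟨1, by rw [Subtype.ext h]⟩⟩⟩
      obtain ⟨d, hd, hF⟩ := hfrac 1 fun _ ↦ z
      obtain ⟨F, hF⟩ := hF 0
      exact ⟨⟨F, ⟨d, hd⟩⟩, by rw [hF, mul_comm]⟩
    exact RingHom.flat_algebraMap_iff.2 (IsLocalization.flat B' ((IsUnit.submonoid B').comap (algebraMap Bp B').toMonoidHom))
  have : IsScalarTower Bp B' X := IsScalarTower.of_algebraMap_smul fun _ _ ↦ rfl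
  let E : QuotAt g q ≃ₗ[R'] X :=
    { e with
      map_smul' := fun r y ↦ by
        change e (r • y) = r • e y
        rw [← algebraMap_smul (MvPolynomial σ R') r y, he, ← algebraMap_smul C' r (e y)]
        exact congrArg (· • e y) (ρ.commutes r) }
  have : Module.Flat R' (QuotAt g q) := Module.Flat.of_linearEquiv E
  let : Module Bp (QuotAt g q) := e.module Bp
  let EB : QuotAt g q ≃ₗ[Bp] X := AddEquiv.linearEquiv Bp e
  have hB : Module.Flat Bp (QuotAt g q) := by
    refine SpecialFibre.flat_fibrewise_mod Sum.inl g q hq ζ.rangeRestrict ζ.rangeRestrict_surjective ?_ ?_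
    · intro a y
      apply EB.injective
      rw [map_smul]
      change ζ a • e y = e (rename Sum.inl a • y)
      rw [he, ← algebraMap_smul C' (ζ a) (e y)]
      exact congrArg (· • e y) (DFunLike.congr_fun (show (IsScalarTower.toAlgHom R' B' C').comp ζ =
        ρ.comp (rename Sum.inl) from MvPolynomial.algHom_ext fun i ↦ by simp [ζ, ρ, ρ₀, hBC]) a)
    · set I := (IsLocalRing.maximalIdeal R').map (algebraMap R' Bp) with hI
      have hI' : I.map (algebraMap Bp B') = (IsLocalRing.maximalIdeal R').map (algebraMap R' B') := by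
        rw [hI, Ideal.map_map]; rfl
      have : Module.Flat (B' ⧸ I.map (algebraMap Bp B')) (X ⧸ I.map (algebraMap Bp B') • (⊤ : Submodule B' X)) := by
        rw [hI']; exact hfib
      have h := flat_quotient_of_flat (M := X) hflatB I
      refine Module.Flat.of_linearEquiv (LinearEquiv.extendScalarsOfSurjective (R := Bp) (S := Bp ⧸ I)
        Ideal.Quotient.mk_surjective (Submodule.Quotient.equiv _ (I • (⊤ : Submodule Bp X)) EB ?_))
      rw [Submodule.map_smul'', Submodule.map_top, LinearMap.range_eq_top.2 EB.surjective]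
  have : Module.Flat Bp X := Module.Flat.of_linearEquiv EB.symm
  exact flat_of_fractions hfrac

/-- If moreover the module is not zero, the middle ring is flat over the base. -/
theorem flat_base_of_flat {R' B' C' : Type u} [CommRing R'] [CommRing B'] [IsLocalRing B'] [CommRing C'] [IsLocalRing C']
    [Algebra R' B'] [Algebra B' C'] [IsLocalHom (algebraMap B' C')]
    {X : Type u} [AddCommGroup X] [Module R' X] [Module B' X] [Module C' X] [IsScalarTower R' B' X]
    [IsScalarTower B' C' X] [Module.Finite C' X] [Nontrivial X] [Module.Flat R' X] [Module.Flat B' X] :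
    Module.Flat R' B' := by
  have : Module.FaithfullyFlat B' X := LocalFlat.Fibre.faithfullyFlat_of_finite (S' := C')
  exact LocalFlat.Fibre.flat_of_flat_of_faithfullyFlat (M := X)

end Groth.Agent.Lib.Flat55.Localized
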