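import Groth.Agent.H19.FlatLocus.Scheme
import Mathlib.AlgebraicGeometry.Morphisms.SmoothFiber
import Mathlib.AlgebraicGeometry.Morphisms.Smooth
import Mathlib.RingTheory.Smooth.Fiber
import Mathlib.RingTheory.Flat.Localization

/-!
# Smoothness at a point from flatness and a smooth fibre
-/

set_option autoImplicit false

universe u

open CategoryTheory CategoryTheory.Limits AlgebraicGeometry TopologicalSpace

namespace Groth.Agent.Lib.Flat55.SmoothAt

variable {X Y : Scheme.{u}}

theorem flat_appLE (f : X ⟶ Y) {V : Y.Opens} (hV : IsAffineOpen V) {U : X.Opens} (hU : IsAffineOpen U)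
    (hUV : U ≤ f ⁻¹ᵁ V) (h : ∀ x ∈ U, (f.stalkMap x).hom.Flat) : (f.appLE V U hUV).hom.Flat := by
  let : Algebra Γ(Y, V) Γ(X, U) := (f.appLE V U hUV).hom.toAlgebra
  refine Module.flat_of_isLocalized_maximal (R := Γ(Y, V)) Γ(X, U) Γ(X, U)
    (fun P _ ↦ LocalizedModule P.primeCompl Γ(X, U))
    (fun P _ ↦ LocalizedModule.mkLinearMap P.primeCompl Γ(X, U)) fun P hP ↦ ?_
  let q : PrimeSpectrum Γ(X, U) := ⟨P, hP.isPrime⟩
  have hy : hU.fromSpec q ∈ U := by
    have := Set.mem_range_self (f := hU.fromSpec) q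
    rwa [hU.range_fromSpec] at this
  have hq : hU.primeIdealOf ⟨hU.fromSpec q, hy⟩ = q :=
    hU.fromSpec.isOpenEmbedding.injective (hU.fromSpec_primeIdealOf ⟨_, hy⟩)
  have := (H19.FlatLocus.Scheme.flat_stalkMap_iff f hV hU hUV hy).1 (h _ hy)
  rw [hq] at this
  exact this

set_option backward.isDefEq.respectTransparency false in
/-- A morphism locally of finite presentation, flat at `x`, with smooth fibre through `x`, is smooth
at `x`. -/
theorem mem_smoothLocus_of_fibre (f : X ⟶ Y) [LocallyOfFinitePresentation f] (x : X)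
    (hflat : (f.stalkMap x).hom.Flat) (y : Y) (hy : f x = y)
    (hfib : Smooth (f.fiberToSpecResidueField y)) : x ∈ f.smoothLocus := by
  subst hy
  obtain ⟨V, hV, hxV, -⟩ := exists_isAffineOpen_mem_and_subset (X := Y) (x := f x) (U := ⊤) trivial
  obtain ⟨U, hU, hxU, hUW⟩ := exists_isAffineOpen_mem_and_subset (X := X) (x := x)
    (U := f ⁻¹ᵁ V ⊓ ⟨_, H19.FlatLocus.Scheme.isOpen_flat_stalkMap f⟩) ⟨hxV, hflat⟩
  have hUV : U ≤ f ⁻¹ᵁ V := fun z hz ↦ (hUW hz).1
  rw [Scheme.Hom.mem_smoothLocus, formallySmooth_stalkMap_iff V hV U hU hUV hxU]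
  let : Algebra Γ(Y, V) Γ(X, U) := (f.appLE V U hUV).hom.toAlgebra
  have : Module.Flat Γ(Y, V) Γ(X, U) := flat_appLE f hV hU hUV fun z hz ↦ (hUW hz).2
  have : Algebra.FinitePresentation Γ(Y, V) Γ(X, U) :=
    HasRingHomProperty.appLE @LocallyOfFinitePresentation f inferInstance ⟨V, hV⟩ ⟨U, hU⟩ hUV
  set p := hV.primeIdealOf ⟨f x, hxV⟩
  set q := hU.primeIdealOf ⟨x, hxU⟩
  have : q.asIdeal.LiesOver p.asIdeal :=
    ⟨congr($(IsAffineOpen.comap_primeIdealOf_appLE V hV U hU hUV hxU).1).symm⟩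
  let f₀ : Spec Γ(X, U) ⟶ Spec Γ(Y, V) :=
    Spec.map (CommRingCat.ofHom (algebraMap Γ(Y, V) Γ(X, U)))
  have hsq : hU.fromSpec ≫ f = f₀ ≫ hV.fromSpec := (hV.SpecMap_appLE_fromSpec f hU hUV).symm
  have h1 : Smooth ((pullback.snd f hV.fromSpec).fiberToSpecResidueField p) := by
    apply MorphismProperty.of_isPullback
    · exact isPullback_fiberToSpecResidueField_of_isPullback (IsPullback.of_hasPullback _ _) _
    · rw [show hV.fromSpec p = f x from hV.fromSpec_primeIdealOf ⟨f x, hxV⟩]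
      exact hfib
  let l := pullback.lift (f := f) (g := hV.fromSpec) hU.fromSpec f₀ hsq
  have : IsOpenImmersion l := by
    have : IsOpenImmersion (l ≫ pullback.fst f hV.fromSpec) := by
      rw [pullback.lift_fst]; infer_instance
    exact IsOpenImmersion.of_comp l (pullback.fst f hV.fromSpec)
  have h2 : Smooth (f₀.fiberToSpecResidueField p) := by
    have : Smooth (pullback.snd (pullback.snd f hV.fromSpec) ((Spec Γ(Y, V)).fromSpecResidueField p)) := h1
    rw [show f₀ = l ≫ pullback.snd f hV.fromSpec from (pullback.lift_snd _ _ _).symm,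
      Scheme.Hom.fiberToSpecResidueField, ← pullbackRightPullbackFstIso_inv_snd_snd]
    infer_instance
  have h3 : (algebraMap p.asIdeal.ResidueField (p.asIdeal.Fiber Γ(X, U))).Smooth := by
    rw [← CommRingCat.hom_ofHom (algebraMap p.asIdeal.ResidueField (p.asIdeal.Fiber Γ(X, U))),
      ← HasRingHomProperty.Spec_iff (P := @Smooth), ← MorphismProperty.arrow_mk_iso_iff (P := @Smooth)
        (Spec.fiberToSpecResidueFieldIso Γ(Y, V) Γ(X, U) p)]
    exact h2
  have : Algebra.FormallySmooth p.asIdeal.ResidueField (p.asIdeal.Fiber Γ(X, U)) :=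
    RingHom.formallySmooth_algebraMap.1 h3.formallySmooth
  exact Algebra.IsSmoothAt.of_formallySmooth_fiber p.asIdeal q.asIdeal

end Groth.Agent.Lib.Flat55.SmoothAt
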