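import Groth.Agent.Lib.Flat55.Slicing
import Groth.Agent.Lib.Flat55.FibrewiseScheme
import Mathlib.AlgebraicGeometry.Morphisms.Flat
import Mathlib.AlgebraicGeometry.Morphisms.FinitePresentation
import Mathlib.RingTheory.RingHom.FinitePresentation

/-!
# Slicing a flat morphism by a lift of a nonzerodivisor on the fibre
-/

set_option autoImplicit false

universe u

open CategoryTheory AlgebraicGeometry TopologicalSpace

namespace Groth.Agent.Lib.Flat55.SlicingScheme

open Groth.Agent.Lib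

set_option maxHeartbeats 400000 in
theorem exists_slice {X S : Scheme.{u}} (f : X ⟶ S) [LocallyOfFinitePresentation f] (x : X)
    (hflat : (f.stalkMap x).hom.Flat) (h : X.presheaf.stalk x) (hm : h ∈ IsLocalRing.maximalIdeal (X.presheaf.stalk x))
    (hreg : Ideal.Quotient.mk (Ideal.map (f.stalkMap x).hom (IsLocalRing.maximalIdeal (S.presheaf.stalk (f x)))) h ∈
      nonZeroDivisors (X.presheaf.stalk x ⧸ Ideal.map (f.stalkMap x).hom (IsLocalRing.maximalIdeal (S.presheaf.stalk (f x))))) :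
    ∃ (U : X.Opens) (hU : IsAffineOpen U) (hx : x ∈ U) (h' : Γ(X, U)), X.presheaf.germ U x hx h' = h ∧ h' ∈ nonZeroDivisors Γ(X, U) ∧
      Flat (Spec.map (CommRingCat.ofHom (Ideal.Quotient.mk (Ideal.span {h'}))) ≫ hU.fromSpec ≫ f) ∧
      LocallyOfFinitePresentation (Spec.map (CommRingCat.ofHom (Ideal.Quotient.mk (Ideal.span {h'}))) ≫ hU.fromSpec ≫ f) := by
  obtain ⟨W₀, hxW₀, h₀, hh₀⟩ := TopCat.Presheaf.exists_germ_eq X.presheaf h
  obtain ⟨V, hV, hxV, -⟩ := exists_isAffineOpen_mem_and_subset (X := S) (x := f x) (U := ⊤) trivial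
  obtain ⟨U, hU, hxU, hUW⟩ := exists_isAffineOpen_mem_and_subset (X := X) (x := x)
    (U := f ⁻¹ᵁ V ⊓ W₀) ⟨hxV, hxW₀⟩
  have hUV : U ≤ f ⁻¹ᵁ V := fun z hz ↦ (hUW hz).1
  have hUW₀ : U ≤ W₀ := fun z hz ↦ (hUW hz).2
  let φ : Γ(S, V) →+* Γ(X, U) := (f.appLE V U hUV).hom
  let : Algebra Γ(S, V) Γ(X, U) := φ.toAlgebra
  have : Algebra.FinitePresentation Γ(S, V) Γ(X, U) :=
    HasRingHomProperty.appLE @LocallyOfFinitePresentation f inferInstance ⟨V, hV⟩ ⟨U, hU⟩ hUV
  let _ := TopCat.Presheaf.algebra_section_stalk S.presheaf (⟨f x, hxV⟩ : V)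
  let _ := TopCat.Presheaf.algebra_section_stalk X.presheaf (⟨x, hxU⟩ : U)
  have := hV.isLocalization_stalk ⟨f x, hxV⟩
  have := hU.isLocalization_stalk ⟨x, hxU⟩
  let : Algebra (S.presheaf.stalk (f x)) (X.presheaf.stalk x) := (f.stalkMap x).hom.toAlgebra
  have : IsLocalHom (algebraMap (S.presheaf.stalk (f x)) (X.presheaf.stalk x)) :=
    ⟨fun a ha ↦ isUnit_of_map_unit (f.stalkMap x).hom a ha⟩
  have : Module.Flat (S.presheaf.stalk (f x)) (X.presheaf.stalk x) := hflat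
  let h₁ : Γ(X, U) := X.presheaf.map (homOfLE hUW₀).op h₀
  have hh₁ : algebraMap Γ(X, U) (X.presheaf.stalk x) h₁ = h :=
    (TopCat.Presheaf.germ_res_apply X.presheaf (homOfLE hUW₀) x hxU h₀).trans hh₀
  have hP : h₁ ∈ (hU.primeIdealOf ⟨x, hxU⟩).asIdeal := by
    rw [← IsLocalization.AtPrime.to_map_mem_maximal_iff (X.presheaf.stalk x)
      (hU.primeIdealOf ⟨x, hxU⟩).asIdeal, hh₁]
    exact hm
  obtain ⟨a, ha, hslice⟩ := Slicing.exists_slice (R := Γ(S, V)) (C := Γ(X, U))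
    (R' := S.presheaf.stalk (f x)) (C' := X.presheaf.stalk x)
    (hV.primeIdealOf ⟨f x, hxV⟩).asIdeal (hU.primeIdealOf ⟨x, hxU⟩).asIdeal
    (fun r ↦ FibrewiseScheme.germ_appLE f hUV hxU r) h₁ hP (by rw [hh₁]; exact hreg)
  let D := X.basicOpen a
  have hxD : x ∈ D := by
    rw [X.mem_basicOpen a x hxU]
    exact IsLocalization.map_units (X.presheaf.stalk x)
      (⟨a, ha⟩ : (hU.primeIdealOf ⟨x, hxU⟩).asIdeal.primeCompl)
  have := hU.isLocalization_basicOpen a
  obtain ⟨hnzd, hfl⟩ := hslice Γ(X, D)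
  have hD : IsAffineOpen D := hU.basicOpen a
  let h' : Γ(X, D) := algebraMap Γ(X, U) Γ(X, D) h₁
  have hDV : D ≤ f ⁻¹ᵁ V := (X.basicOpen_le a).trans hUV
  have hg : Spec.map (CommRingCat.ofHom (Ideal.Quotient.mk (Ideal.span {h'}))) ≫ hD.fromSpec ≫ f =
      Spec.map (f.appLE V D hDV ≫ CommRingCat.ofHom (Ideal.Quotient.mk (Ideal.span {h'}))) ≫ hV.fromSpec := by
    rw [Spec.map_comp, Category.assoc, hV.SpecMap_appLE_fromSpec f hD hDV]
  have happ : (f.appLE V D hDV).hom = (algebraMap Γ(X, U) Γ(X, D)).comp φ := by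
    rw [← Scheme.Hom.appLE_map (f := f) (i := (homOfLE (X.basicOpen_le a)).op) (e := hUV)]
    rfl
  refine ⟨D, hD, hxD, h', ?_, hnzd, ?_, ?_⟩
  · exact (TopCat.Presheaf.germ_res_apply X.presheaf (homOfLE (X.basicOpen_le a)) x hxD h₁).trans hh₁
  · rw [hg]
    have : Flat (Spec.map (f.appLE V D hDV ≫ CommRingCat.ofHom (Ideal.Quotient.mk (Ideal.span {h'})))) := by
      rw [HasRingHomProperty.Spec_iff (P := @Flat), CommRingCat.hom_comp, CommRingCat.hom_ofHom, happ]
      exact hfl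
    infer_instance
  · rw [hg]
    have : LocallyOfFinitePresentation
        (Spec.map (f.appLE V D hDV ≫ CommRingCat.ofHom (Ideal.Quotient.mk (Ideal.span {h'})))) := by
      rw [HasRingHomProperty.Spec_iff (P := @LocallyOfFinitePresentation), CommRingCat.hom_comp, CommRingCat.hom_ofHom]
      exact (RingHom.FinitePresentation.of_surjective _ Ideal.Quotient.mk_surjective
        (by rw [Ideal.mk_ker]; exact Submodule.fg_span_singleton _)).comp
        (HasRingHomProperty.appLE @LocallyOfFinitePresentation f inferInstance ⟨V, hV⟩ ⟨D, hD⟩ hDV)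
    infer_instance

end Groth.Agent.Lib.Flat55.SlicingScheme
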