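import Groth.Agent.Lib.Flat55.FibrewiseScheme
import Groth.Agent.H46.FiberStalk
import Groth.Prelude.Def_MoreMor

/-!
# The criterion of flatness by fibres for morphisms of schemes
-/

set_option autoImplicit false

universe u

open CategoryTheory CategoryTheory.Limits AlgebraicGeometry Opposite TopologicalSpace IsLocalRing

namespace Groth.Agent.Lib.Flat55.FibrewiseStalk

open Groth.Agent.Lib

variable {X Y S : Scheme.{u}}

/-- The image in `O_{Y, y}` of the maximal ideal downstairs. -/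
noncomputable abbrev mIdeal (g : Y ⟶ S) (y : Y) : Ideal (Y.presheaf.stalk y) :=
  (maximalIdeal (S.presheaf.stalk (g y))).map (g.stalkMap y).hom

theorem mIdeal_comp_le (f : X ⟶ Y) (g : Y ⟶ S) (x : X) :
    mIdeal g (f x) ≤ (mIdeal (f ≫ g) x).comap (f.stalkMap x).hom := by
  rw [← Ideal.map_le_iff_le_comap]
  simp only [mIdeal, Ideal.map_map, Scheme.Hom.stalkMap_comp]
  exact le_refl _

theorem map_mIdeal (f : X ⟶ Y) (g : Y ⟶ S) (x : X) :
    (mIdeal g (f x)).map (f.stalkMap x).hom = mIdeal (f ≫ g) x := by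
  simp only [mIdeal, Ideal.map_map, Scheme.Hom.stalkMap_comp]
  rfl

/-- The map of the local rings of the fibres, at `x`. -/
noncomputable abbrev fibreStalkMap (f : X ⟶ Y) (g : Y ⟶ S) (x : X) :
    Y.presheaf.stalk (f x) ⧸ mIdeal g (f x) →+* X.presheaf.stalk x ⧸ mIdeal (f ≫ g) x :=
  Ideal.quotientMap _ (f.stalkMap x).hom (mIdeal_comp_le f g x)

set_option maxHeartbeats 400000 in
/-- The criterion of flatness by fibres at a point, for the structure sheaf. -/
theorem flat_stalkMap_of_fibreStalkMap (f : X ⟶ Y) (g : Y ⟶ S)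
    [LocallyOfFinitePresentation (f ≫ g)] [LocallyOfFiniteType g] (x : X)
    (h1 : ((f ≫ g).stalkMap x).hom.Flat) (h2 : (fibreStalkMap f g x).Flat) :
    (f.stalkMap x).hom.Flat ∧ (g.stalkMap (f x)).hom.Flat := by
  obtain ⟨W, hW, hsW, -⟩ := exists_isAffineOpen_mem_and_subset (X := S) (x := g (f x)) (U := ⊤) trivial
  obtain ⟨V, hV, hyV, hVW⟩ := exists_isAffineOpen_mem_and_subset (X := Y) (x := f x) (U := g ⁻¹ᵁ W) hsW
  obtain ⟨U, hU, hxU, hUV⟩ := exists_isAffineOpen_mem_and_subset (X := X) (x := x) (U := f ⁻¹ᵁ V) hyV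
  let φ : Γ(S, W) →+* Γ(Y, V) := (g.appLE W V hVW).hom
  let ψ : Γ(Y, V) →+* Γ(X, U) := (f.appLE V U hUV).hom
  let : Algebra Γ(S, W) Γ(Y, V) := φ.toAlgebra
  let : Algebra Γ(Y, V) Γ(X, U) := ψ.toAlgebra
  let : Algebra Γ(S, W) Γ(X, U) := (ψ.comp φ).toAlgebra
  have : IsScalarTower Γ(S, W) Γ(Y, V) Γ(X, U) := .of_algebraMap_eq fun _ ↦ rfl
  have : Algebra.FiniteType Γ(S, W) Γ(Y, V) :=
    HasRingHomProperty.appLE @LocallyOfFiniteType g inferInstance ⟨W, hW⟩ ⟨V, hV⟩ hVW
  have hUW : U ≤ (f ≫ g) ⁻¹ᵁ W := fun z hz ↦ hVW (hUV hz)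
  have hcomp : ((f ≫ g).appLE W U hUW).hom = ψ.comp φ := by
    rw [← Scheme.Hom.appLE_comp_appLE (g := g) f (e₁ := hVW) (e₂ := hUV)]
    rfl
  have : Algebra.FinitePresentation Γ(S, W) Γ(X, U) := by
    have h := HasRingHomProperty.appLE @LocallyOfFinitePresentation (f ≫ g) inferInstance
      ⟨W, hW⟩ ⟨U, hU⟩ hUW
    rw [hcomp] at h
    exact h
  let _ := TopCat.Presheaf.algebra_section_stalk S.presheaf (⟨g (f x), hsW⟩ : W)
  let _ := TopCat.Presheaf.algebra_section_stalk Y.presheaf (⟨f x, hyV⟩ : V)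
  let _ := TopCat.Presheaf.algebra_section_stalk X.presheaf (⟨x, hxU⟩ : U)
  have := hW.isLocalization_stalk ⟨g (f x), hsW⟩
  have := hV.isLocalization_stalk ⟨f x, hyV⟩
  have := hU.isLocalization_stalk ⟨x, hxU⟩
  let : Algebra (S.presheaf.stalk (g (f x))) (Y.presheaf.stalk (f x)) := (g.stalkMap (f x)).hom.toAlgebra
  let : Algebra (Y.presheaf.stalk (f x)) (X.presheaf.stalk x) := (f.stalkMap x).hom.toAlgebra
  let : Algebra (S.presheaf.stalk (g (f x))) (X.presheaf.stalk x) :=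
    ((f.stalkMap x).hom.comp (g.stalkMap (f x)).hom).toAlgebra
  have : IsScalarTower (S.presheaf.stalk (g (f x))) (Y.presheaf.stalk (f x)) (X.presheaf.stalk x) :=
    .of_algebraMap_eq fun _ ↦ rfl
  have : IsLocalHom (algebraMap (S.presheaf.stalk (g (f x))) (X.presheaf.stalk x)) :=
    ⟨fun a ha ↦ isUnit_of_map_unit (g.stalkMap (f x)).hom a
      (isUnit_of_map_unit (f.stalkMap x).hom _ ha)⟩
  have : IsLocalHom (algebraMap (Y.presheaf.stalk (f x)) (X.presheaf.stalk x)) :=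
    ⟨fun a ha ↦ isUnit_of_map_unit (f.stalkMap x).hom a ha⟩
  have : IsLocalizedModule (hU.primeIdealOf ⟨x, hxU⟩).asIdeal.primeCompl
      (Algebra.linearMap Γ(X, U) (X.presheaf.stalk x)) :=
    isLocalizedModule_iff_isLocalization.mpr inferInstance
  have : Module.Flat (S.presheaf.stalk (g (f x))) (X.presheaf.stalk x) := by
    rw [Scheme.Hom.stalkMap_comp] at h1
    exact h1
  set I := mIdeal g (f x)
  set J := mIdeal (f ≫ g) x
  let : Algebra (Y.presheaf.stalk (f x) ⧸ I) (X.presheaf.stalk x ⧸ J) :=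
    RingHom.toAlgebra (R := Y.presheaf.stalk (f x) ⧸ I) (S := X.presheaf.stalk x ⧸ J) (fibreStalkMap f g x)
  have : IsScalarTower (Y.presheaf.stalk (f x)) (Y.presheaf.stalk (f x) ⧸ I) (X.presheaf.stalk x ⧸ J) :=
    .of_algebraMap_eq fun _ ↦ rfl
  have hIJ : J.restrictScalars (Y.presheaf.stalk (f x)) =
      I • (⊤ : Submodule (Y.presheaf.stalk (f x)) (X.presheaf.stalk x)) := by
    rw [Ideal.smul_top_eq_map]
    exact congrArg _ (map_mIdeal f g x).symm
  let E : (X.presheaf.stalk x ⧸ I • (⊤ : Submodule (Y.presheaf.stalk (f x)) (X.presheaf.stalk x)))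
      ≃ₗ[Y.presheaf.stalk (f x)] X.presheaf.stalk x ⧸ J :=
    Submodule.quotEquivOfEq _ _ hIJ.symm ≪≫ₗ Submodule.Quotient.restrictScalarsEquiv _ J
  have : Module.Flat (Y.presheaf.stalk (f x) ⧸ I) (X.presheaf.stalk x ⧸ J) := h2
  have hfib := Module.Flat.of_linearEquiv
    (E.extendScalarsOfSurjective (S := Y.presheaf.stalk (f x) ⧸ I) Ideal.Quotient.mk_surjective)
  have hflat : Module.Flat (Y.presheaf.stalk (f x)) (X.presheaf.stalk x) :=
    Localized.flat_of_flat_fibre (R := Γ(S, W)) (B := Γ(Y, V)) (C := Γ(X, U))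
      (R' := S.presheaf.stalk (g (f x))) (B' := Y.presheaf.stalk (f x)) (C' := X.presheaf.stalk x)
      (hW.primeIdealOf ⟨g (f x), hsW⟩).asIdeal.primeCompl
      (hV.primeIdealOf ⟨f x, hyV⟩).asIdeal.primeCompl (hU.primeIdealOf ⟨x, hxU⟩).asIdeal
      (fun r ↦ (FibrewiseScheme.germ_appLE g hVW hyV r).symm)
      (fun b ↦ FibrewiseScheme.germ_appLE f hUV hxU b)
      (Algebra.linearMap Γ(X, U) (X.presheaf.stalk x)) hfib
  exact ⟨hflat, Localized.flat_base_of_flat (C' := X.presheaf.stalk x) (X := X.presheaf.stalk x)⟩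

theorem ker_stalkMap_fiberι' (g : Y ⟶ S) (s : S) (b : g.fiber s) (y : Y) (hy : g.fiberι s b = y) :
    RingHom.ker (((Y.presheaf.stalkCongr (.of_eq hy.symm)).hom ≫ (g.fiberι s).stalkMap b).hom) =
      mIdeal g y ∧
    Function.Surjective (((Y.presheaf.stalkCongr (.of_eq hy.symm)).hom ≫ (g.fiberι s).stalkMap b).hom) := by
  subst hy
  simp only [TopCat.Presheaf.stalkCongr, TopCat.Presheaf.stalkSpecializes_refl, Category.id_comp]
  exact ⟨H46.FiberStalk.ker_stalkMap_fiberι g s b, (g.fiberι s).stalkMap_surjective b⟩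

theorem fiberMap_fiberι (f : X ⟶ Y) (g : Y ⟶ S) (s : S) :
    MoreMor.fiberMap f g s ≫ g.fiberι s = (f ≫ g).fiberι s ≫ f :=
  pullback.lift_fst _ _ _

/-- The stalk map of the map of fibres is the map on quotients. -/
theorem flat_fiberMap_iff (f : X ⟶ Y) (g : Y ⟶ S) (s : S) (a : (f ≫ g).fiber s) (x : X)
    (hx : (f ≫ g).fiberι s a = x) :
    ((MoreMor.fiberMap f g s).stalkMap a).hom.Flat ↔ (fibreStalkMap f g x).Flat := by
  subst hx
  set x := (f ≫ g).fiberι s a
  set fm := MoreMor.fiberMap f g s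
  have hb : g.fiberι s (fm a) = f x := by
    rw [← Scheme.Hom.comp_apply, fiberMap_fiberι, Scheme.Hom.comp_apply]
  obtain ⟨hk₁, hs₁⟩ := ker_stalkMap_fiberι' g s (fm a) (f x) hb
  have hk₂ := H46.FiberStalk.ker_stalkMap_fiberι (f ≫ g) s a
  have hs₂ := ((f ≫ g).fiberι s).stalkMap_surjective a
  set q₁ := ((Y.presheaf.stalkCongr (.of_eq hb.symm)).hom ≫ (g.fiberι s).stalkMap (fm a)).hom
  set q₂ := (((f ≫ g).fiberι s).stalkMap a).hom
  have hsq : (fm.stalkMap a).hom.comp q₁ = q₂.comp (f.stalkMap x).hom := by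
    have h := Scheme.Hom.stalkMap_congr_hom _ _ (fiberMap_fiberι f g s).symm a
    rw [Scheme.Hom.stalkMap_comp, Scheme.Hom.stalkMap_comp] at h
    have h' := congrArg CommRingCat.Hom.hom h
    simp only [CommRingCat.hom_comp] at h'
    simp only [q₁, q₂, CommRingCat.hom_comp]
    exact h'.symm
  let e₁ := (Ideal.quotEquivOfEq hk₁.symm).trans (RingHom.quotientKerEquivOfSurjective hs₁)
  let e₂ := (Ideal.quotEquivOfEq hk₂.symm).trans (RingHom.quotientKerEquivOfSurjective hs₂)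
  have hfac : fibreStalkMap f g x = e₂.symm.toRingHom.comp ((fm.stalkMap a).hom.comp e₁.toRingHom) :=
    Ideal.Quotient.ringHom_ext (RingHom.ext fun r ↦ e₂.injective (by
      refine Eq.trans ?_ (e₂.apply_symm_apply _).symm
      exact (RingHom.congr_fun hsq r).symm))
  constructor
  · intro h
    rw [hfac]
    exact ((RingHom.Flat.of_bijective e₁.bijective).comp h).comp (RingHom.Flat.of_bijective e₂.symm.bijective)
  · intro h
    have : (fm.stalkMap a).hom = e₂.toRingHom.comp ((fibreStalkMap f g x).comp e₁.symm.toRingHom) :=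
      RingHom.ext fun r ↦ by
        change _ = e₂ (fibreStalkMap f g x (e₁.symm r))
        rw [hfac]
        change _ = e₂ (e₂.symm ((fm.stalkMap a).hom (e₁ (e₁.symm r))))
        rw [e₂.apply_symm_apply, e₁.apply_symm_apply]
    rw [this]
    exact ((RingHom.Flat.of_bijective e₁.symm.bijective).comp h).comp (RingHom.Flat.of_bijective e₂.bijective)

/-- The criterion of flatness by fibres at a point. -/
theorem flat_stalkMap_of_fiberMap (f : X ⟶ Y) (g : Y ⟶ S)
    [LocallyOfFinitePresentation (f ≫ g)] [LocallyOfFiniteType g] (x : X) (s : S)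
    (a : (f ≫ g).fiber s) (ha : (f ≫ g).fiberι s a = x)
    (h1 : ((f ≫ g).stalkMap x).hom.Flat) (h2 : ((MoreMor.fiberMap f g s).stalkMap a).hom.Flat) :
    (f.stalkMap x).hom.Flat ∧ (g.stalkMap (f x)).hom.Flat :=
  flat_stalkMap_of_fibreStalkMap f g x h1 ((flat_fiberMap_iff f g s a x ha).1 h2)

end Groth.Agent.Lib.Flat55.FibrewiseStalk
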