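import Groth.Agent.Lib.Flat55.Slicing
import Groth.Agent.Lib.Flat55.Presented
import Groth.Agent.Lib.Synt92.BaseChangeSeq
import Mathlib.RingTheory.Regular.Flat
import Mathlib.RingTheory.Ideal.Quotient.Operations
import Mathlib.RingTheory.FinitePresentation

/-!
# Slicing by a sequence which is regular on the fibre
-/

set_option autoImplicit false

universe u

namespace Groth.Agent.Lib.Flat55.SliceSeq

open RingTheory.Sequence

/-- One step of a good sequence: `h` is regular modulo `J` and the cokernel is flat. -/
def StepOK {R D : Type u} [CommRing R] [CommRing D] (φ : R →+* D) (J : Ideal D) (h : D) : Prop :=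
  (∀ x, h * x ∈ J → x ∈ J) ∧ ((Ideal.Quotient.mk (J ⊔ Ideal.span {h})).comp φ).Flat

theorem quotient_comp_flat {R D D' : Type u} [CommRing R] [CommRing D] [CommRing D'] (φ : R →+* D)
    (f : D →+* D') (hf : f.Flat) (J : Ideal D) (hJ : ((Ideal.Quotient.mk J).comp φ).Flat) :
    ((Ideal.Quotient.mk (J.map f)).comp (f.comp φ)).Flat := by
  have h := hJ.comp (Presented.quotient_flat f hf J)
  exact h

theorem StepOK.map {R D D' : Type u} [CommRing R] [CommRing D] [CommRing D'] {φ : R →+* D}
    (f : D →+* D') (hf : f.Flat) {J : Ideal D} {h : D} (hok : StepOK φ J h) :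
    StepOK (f.comp φ) (J.map f) (f h) := by
  refine ⟨?_, ?_⟩
  · let := (Ideal.quotientMap (J.map f) f Ideal.le_comap_map).toAlgebra
    have : Module.Flat (D ⧸ J) (D' ⧸ J.map f) := Presented.quotient_flat f hf J
    have hreg : IsRegular (Ideal.Quotient.mk J h) := by
      rw [isRegular_iff_mem_nonZeroDivisors, mem_nonZeroDivisors_iff_right]
      intro z hz
      obtain ⟨z, rfl⟩ := Ideal.Quotient.mk_surjective z
      rw [← map_mul, Ideal.Quotient.eq_zero_iff_mem, mul_comm] at hz
      exact Ideal.Quotient.eq_zero_iff_mem.2 (hok.1 z hz)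
    intro x hx
    rw [← Ideal.Quotient.eq_zero_iff_mem]
    refine Module.Flat.isSMulRegular_of_isRegular (M := D' ⧸ J.map f) hreg ?_
    change Ideal.Quotient.mk J h • Ideal.Quotient.mk (J.map f) x = Ideal.Quotient.mk J h • 0
    rw [smul_zero, Algebra.smul_def]
    change Ideal.Quotient.mk (J.map f) (f h) * Ideal.Quotient.mk (J.map f) x = 0
    rwa [← map_mul, Ideal.Quotient.eq_zero_iff_mem]
  · have h2 := quotient_comp_flat φ f hf _ hok.2
    rw [Ideal.map_sup, Ideal.map_span, Set.image_singleton] at h2
    exact h2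

theorem awayMap {R C Ca : Type u} [CommRing R] [CommRing C] [CommRing Ca] [Algebra R C] [Algebra C Ca]
    (a b : C) [IsLocalization.Away (a * b) Ca] (Ca' : Type u) [CommRing Ca'] [Algebra C Ca']
    [IsLocalization.Away a Ca'] :
    ∃ f : Ca' →+* Ca, f.Flat ∧ f.comp (algebraMap C Ca') = algebraMap C Ca := by
  have hu : IsUnit (algebraMap C Ca a) :=
    isUnit_of_mul_isUnit_left (x := algebraMap C Ca a) (y := algebraMap C Ca b)
      (by rw [← map_mul]; exact IsLocalization.Away.algebraMap_isUnit (a * b))
  let f : Ca' →+* Ca := IsLocalization.Away.lift a hu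
  refine ⟨f, ?_, IsLocalization.Away.lift_comp a hu⟩
  let := f.toAlgebra
  have : IsScalarTower C Ca' Ca := .of_algebraMap_eq fun z ↦ (IsLocalization.Away.lift_eq a hu z).symm
  have : Module.Flat C Ca := IsLocalization.flat Ca (Submonoid.powers (a * b))
  exact (Module.flat_iff_of_isLocalization (R := C) Ca' (Submonoid.powers a) Ca).2 ‹_›

theorem exists_slices {R C : Type u} [CommRing R] [CommRing C] [Algebra R C] [Algebra.FinitePresentation R C]
    (p : Ideal R) [p.IsPrime] (P : Ideal C) [P.IsPrime]
    {R' C' : Type u} [CommRing R'] [IsLocalRing R'] [Algebra R R'] [IsLocalization.AtPrime R' p]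
    [CommRing C'] [IsLocalRing C'] [Algebra C C'] [IsLocalization.AtPrime C' P]
    [Algebra R' C'] [IsLocalHom (algebraMap R' C')]
    (hcomm : ∀ r, algebraMap R' C' (algebraMap R R' r) = algebraMap C C' (algebraMap R C r))
    [Module.Flat R' C'] (hs : List C) (hP : ∀ h ∈ hs, h ∈ P)
    (hreg : ∀ (i : ℕ) (hi : i < hs.length) (x : C'),
      algebraMap C C' hs[i] * x ∈ (Ideal.ofList (hs.take i)).map (algebraMap C C') ⊔
        (IsLocalRing.maximalIdeal R').map (algebraMap R' C') →
      x ∈ (Ideal.ofList (hs.take i)).map (algebraMap C C') ⊔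
        (IsLocalRing.maximalIdeal R').map (algebraMap R' C'))
    (k : ℕ) (hk : k ≤ hs.length) :
    ∃ a ∉ P, ∀ (Ca : Type u) [CommRing Ca] [Algebra C Ca] [IsLocalization.Away a Ca],
      ((algebraMap C Ca).comp (algebraMap R C)).Flat ∧ ∀ (i : ℕ) (hi : i < k),
        StepOK ((algebraMap C Ca).comp (algebraMap R C)) ((Ideal.ofList (hs.take i)).map (algebraMap C Ca))
          (algebraMap C Ca (hs[i]'(hi.trans_le hk))) := by
  induction k with
  | zero =>
    let : Algebra R C' := ((algebraMap C C').comp (algebraMap R C)).toAlgebra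
    have : IsScalarTower R R' C' := .of_algebraMap_eq fun r ↦ (hcomm r).symm
    have : IsScalarTower R C C' := .of_algebraMap_eq fun _ ↦ rfl
    have : Module.Flat R C' := (Module.flat_iff_of_isLocalization (R := R) R' p.primeCompl C').1 ‹_›
    have : Module.Flat R (LocalizedModule P.primeCompl C) :=
      Module.Flat.of_linearEquiv ((IsLocalizedModule.iso P.primeCompl
        (Algebra.linearMap C C')).restrictScalars R)
    obtain ⟨_, ⟨a, rfl⟩, hPa, hsub⟩ := PrimeSpectrum.isTopologicalBasis_basic_opens.exists_subset_of_mem_open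
      (a := (⟨P, inferInstance⟩ : PrimeSpectrum C))
      (u := {q | Module.Flat R (LocalizedModule q.asIdeal.primeCompl C)}) ‹_›
      (H19.FlatLocus.isOpen_flat_of_finitePresentation (R := R) (S := C) (M := C))
    refine ⟨a, hPa, fun Ca _ _ _ ↦ ⟨?_, fun i hi ↦ absurd hi (Nat.not_lt_zero i)⟩⟩
    let : Algebra R Ca := ((algebraMap C Ca).comp (algebraMap R C)).toAlgebra
    have : IsScalarTower R C Ca := .of_algebraMap_eq fun _ ↦ rfl
    rw [← RingHom.algebraMap_toAlgebra ((algebraMap C Ca).comp (algebraMap R C)), RingHom.flat_algebraMap_iff]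
    refine Module.flat_of_isLocalized_maximal (R := R) Ca Ca
      (fun Q _ ↦ Localization.AtPrime Q)
      (fun Q _ ↦ Algebra.linearMap Ca (Localization.AtPrime Q)) fun Q hQ ↦ ?_
    have hQ' : IsLocalization.AtPrime (Localization.AtPrime Q) (Q.comap (algebraMap C Ca)) :=
      IsLocalization.isLocalization_isLocalization_atPrime_isLocalization (Submonoid.powers a)
        (Localization.AtPrime Q) Q
    have : IsLocalizedModule (Q.comap (algebraMap C Ca)).primeCompl
        (Algebra.linearMap C (Localization.AtPrime Q)) := inferInstance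
    have hmem : (⟨Q.comap (algebraMap C Ca), inferInstance⟩ : PrimeSpectrum C) ∈
        (PrimeSpectrum.basicOpen a : Set (PrimeSpectrum C)) := fun ha ↦
      hQ.ne_top (Ideal.eq_top_of_isUnit_mem _ ha (IsLocalization.Away.algebraMap_isUnit a))
    have : Module.Flat R (LocalizedModule (Q.comap (algebraMap C Ca)).primeCompl C) := hsub hmem
    exact Module.Flat.of_linearEquiv ((IsLocalizedModule.iso (Q.comap (algebraMap C Ca)).primeCompl
      (Algebra.linearMap C (Localization.AtPrime Q))).symm.restrictScalars R)
  | succ k ih =>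
    obtain ⟨a, ha, hgood⟩ := ih (Nat.le_of_succ_le hk)
    let J : Ideal C := Ideal.ofList (hs.take k)
    let J' : Ideal C' := J.map (algebraMap C C')
    have hJP : J ≤ P := Ideal.span_le.2 fun z hz ↦ hP z (List.mem_of_mem_take hz)
    -- the prefix is flat near `P`, hence at `P`
    have hfl : ((Ideal.Quotient.mk (J.map (algebraMap C (Localization.Away a)))).comp
        ((algebraMap C (Localization.Away a)).comp (algebraMap R C))).Flat := by
      obtain ⟨h0, hsteps⟩ := hgood (Localization.Away a)
      rcases k with - | j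
      · have hb : J.map (algebraMap C (Localization.Away a)) = ⊥ := by simp [J]
        exact h0.comp (RingHom.Flat.of_bijective
          ⟨fun x y hxy ↦ sub_eq_zero.1 (by rwa [Ideal.Quotient.eq, hb, Ideal.mem_bot] at hxy),
            Ideal.Quotient.mk_surjective⟩)
      · have e : J.map (algebraMap C (Localization.Away a)) =
            (Ideal.ofList (hs.take j)).map (algebraMap C (Localization.Away a)) ⊔
              Ideal.span {algebraMap C (Localization.Away a) (hs[j]'(by omega))} := by
          simp only [J]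
          rw [List.take_succ_eq_append_getElem (by omega : j < hs.length), Ideal.ofList_append,
            Ideal.map_sup, Ideal.ofList_singleton]
          congr 1
          rw [Ideal.map_span, Set.image_singleton]
        rw [e]
        exact (hsteps j (Nat.lt_succ_self j)).2
    have hau : IsUnit (algebraMap C C' a) := IsLocalization.map_units C' (⟨a, ha⟩ : P.primeCompl)
    let g : Localization.Away a →+* C' := IsLocalization.Away.lift a hau
    have hgc : g.comp (algebraMap C (Localization.Away a)) = algebraMap C C' :=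
      IsLocalization.Away.lift_comp a hau
    have hgflat : g.Flat := by
      let := g.toAlgebra
      have : IsScalarTower C (Localization.Away a) C' :=
        .of_algebraMap_eq fun z ↦ (IsLocalization.Away.lift_eq a hau z).symm
      have : Module.Flat C C' := IsLocalization.flat C' P.primeCompl
      exact (Module.flat_iff_of_isLocalization (R := C) (Localization.Away a) (Submonoid.powers a) C').2 ‹_›
    have hfl' := quotient_comp_flat _ g hgflat _ hfl
    rw [Ideal.map_map, hgc, ← RingHom.comp_assoc _ _ g, hgc] at hfl'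
    -- the situation modulo the prefix
    let C₁ := C ⧸ J
    let C₁' := C' ⧸ J'
    let : Algebra C₁ C₁' := (Ideal.quotientMap J' (algebraMap C C') Ideal.le_comap_map).toAlgebra
    have : Algebra.FinitePresentation R C₁ :=
      Algebra.FinitePresentation.quotient (Submodule.fg_span (List.finite_toSet (hs.take k)))
    have hne : J' ≠ ⊤ := fun e ↦ (IsLocalRing.maximalIdeal.isMaximal C').ne_top (top_le_iff.1
      (e ▸ (Ideal.map_mono hJP).trans (le_of_eq (IsLocalization.AtPrime.map_eq_maximalIdeal P C'))))
    have : Nontrivial C₁' := Ideal.Quotient.nontrivial_iff.2 hne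
    have : IsLocalRing C₁' := .of_surjective' (Ideal.Quotient.mk J') Ideal.Quotient.mk_surjective
    let P₁ : Ideal C₁ := P.map (Ideal.Quotient.mk J)
    have hmem : ∀ y, Ideal.Quotient.mk J y ∈ P₁ ↔ y ∈ P := fun y ↦ by
      rw [← Ideal.mem_comap, Ideal.comap_map_mk hJP]
    have : P₁.IsPrime := Ideal.map_isPrime_of_surjective Ideal.Quotient.mk_surjective (by rwa [Ideal.mk_ker])
    have : IsLocalization.AtPrime C₁' P₁ := by
      have h1 : IsLocalization (P.primeCompl.map (Ideal.Quotient.mk J)) C₁' :=
        IsLocalization.of_surjective (R := C) (S := C') P.primeCompl (Ideal.Quotient.mk J)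
          Ideal.Quotient.mk_surjective (Ideal.Quotient.mk J') Ideal.Quotient.mk_surjective
          (RingHom.ext fun _ ↦ rfl) (by rw [Ideal.mk_ker, Ideal.mk_ker])
      have h2 : P.primeCompl.map (Ideal.Quotient.mk J) = P₁.primeCompl := by
        ext x
        obtain ⟨y, rfl⟩ := Ideal.Quotient.mk_surjective x
        simp only [Submonoid.mem_map, Ideal.mem_primeCompl_iff]
        exact ⟨fun ⟨z, hz, hzy⟩ h ↦ hz ((hmem z).1 (hzy ▸ h)), fun h ↦ ⟨y, fun hy ↦ h ((hmem y).2 hy), rfl⟩⟩
      rw [h2] at h1
      exact h1
    have : IsLocalHom (algebraMap R' C₁') := ⟨fun z hz ↦ by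
      refine isUnit_of_map_unit (algebraMap R' C') z ?_
      by_contra hnu
      rw [← mem_nonunits_iff, ← IsLocalRing.mem_maximalIdeal] at hnu
      have hmax : (IsLocalRing.maximalIdeal C').map (Ideal.Quotient.mk J') ≠ ⊤ := by
        rw [IsLocalRing.map_maximalIdeal_of_surjective (f := Ideal.Quotient.mk J') Ideal.Quotient.mk_surjective]
        exact (IsLocalRing.maximalIdeal.isMaximal C₁').ne_top
      exact hmax (Ideal.eq_top_of_isUnit_mem _ (Ideal.mem_map_of_mem _ hnu) hz)⟩
    have : Module.Flat R' C₁' := by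
      let : Algebra R C₁' := ((Ideal.Quotient.mk J').comp ((algebraMap C C').comp (algebraMap R C))).toAlgebra
      have : IsScalarTower R R' C₁' := .of_algebraMap_eq fun r ↦
        (congrArg (Ideal.Quotient.mk J') (hcomm r)).symm
      exact (Module.flat_iff_of_isLocalization (R := R) R' p.primeCompl C₁').2 hfl'
    obtain ⟨b, hb, hslice⟩ := Slicing.exists_slice (R := R) (C := C₁) p P₁ (R' := R') (C' := C₁')
      (fun r ↦ congrArg (Ideal.Quotient.mk J') (hcomm r)) (Ideal.Quotient.mk J (hs[k]'hk))
      ((hmem _).2 (hP _ (List.getElem_mem hk))) (by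
        rw [mem_nonZeroDivisors_iff_right]
        intro z hz
        obtain ⟨z, rfl⟩ := Ideal.Quotient.mk_surjective z
        obtain ⟨x, rfl⟩ := Ideal.Quotient.mk_surjective z
        change Ideal.Quotient.mk _ (Ideal.Quotient.mk J' x) *
          Ideal.Quotient.mk _ (Ideal.Quotient.mk J' (algebraMap C C' (hs[k]'hk))) = 0 at hz
        rw [← map_mul, ← map_mul, Ideal.Quotient.eq_zero_iff_mem, IsScalarTower.algebraMap_eq R' C' C₁',
          ← Ideal.map_map, Ideal.Quotient.algebraMap_eq, Ideal.mem_quotient_iff_mem_sup, mul_comm,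
          sup_comm] at hz
        rw [Ideal.Quotient.eq_zero_iff_mem, IsScalarTower.algebraMap_eq R' C' C₁',
          ← Ideal.map_map, Ideal.Quotient.algebraMap_eq, Ideal.mem_quotient_iff_mem_sup, sup_comm]
        exact hreg k hk x hz)
    obtain ⟨b, rfl⟩ := Ideal.Quotient.mk_surjective b
    have hb' : b ∉ P := fun h ↦ hb ((hmem b).2 h)
    refine ⟨a * b, fun h ↦ (Ideal.IsPrime.mem_or_mem ‹_› h).elim ha hb', fun Ca _ _ _ ↦ ?_⟩
    obtain ⟨f, hf, hfc⟩ := awayMap (R := R) (Ca := Ca) a b (Localization.Away a)
    obtain ⟨h0, hsteps⟩ := hgood (Localization.Away a)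
    refine ⟨?_, fun i hi ↦ ?_⟩
    · rw [← hfc, RingHom.comp_assoc]
      exact h0.comp hf
    rcases Nat.lt_succ_iff_lt_or_eq.1 hi with hi' | hik
    · have h1 := (hsteps i hi').map f hf
      rw [Ideal.map_map, hfc, ← RingHom.comp_assoc, hfc, ← RingHom.comp_apply f, hfc] at h1
      exact h1
    subst hik
    have : IsLocalization.Away (b * a) Ca := by rwa [mul_comm]
    obtain ⟨f', hf', hfc'⟩ := awayMap (R := R) (Ca := Ca) b a (Localization.Away b)
    let J₁ : Ideal (Localization.Away b) := J.map (algebraMap C (Localization.Away b))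
    let : Algebra C₁ (Localization.Away b ⧸ J₁) :=
      (Ideal.quotientMap J₁ (algebraMap C (Localization.Away b)) Ideal.le_comap_map).toAlgebra
    have : IsLocalization.Away (Ideal.Quotient.mk J b) (Localization.Away b ⧸ J₁) := by
      have h1 : IsLocalization ((Submonoid.powers b).map (Ideal.Quotient.mk J)) (Localization.Away b ⧸ J₁) :=
        IsLocalization.of_surjective (R := C) (S := Localization.Away b) (Submonoid.powers b)
          (Ideal.Quotient.mk J) Ideal.Quotient.mk_surjective (Ideal.Quotient.mk J₁)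
          Ideal.Quotient.mk_surjective (RingHom.ext fun _ ↦ rfl) (by rw [Ideal.mk_ker, Ideal.mk_ker])
      rwa [Submonoid.map_powers] at h1
    obtain ⟨hnzd, hflat⟩ := hslice (Localization.Away b ⧸ J₁)
    have hok : StepOK ((algebraMap C (Localization.Away b)).comp (algebraMap R C)) J₁
        (algebraMap C (Localization.Away b) (hs[i]'hk)) := by
      refine ⟨fun x hx ↦ ?_, ?_⟩
      · rw [← Ideal.Quotient.eq_zero_iff_mem] at hx ⊢
        rw [map_mul] at hx
        exact (mem_nonZeroDivisors_iff.1 hnzd).1 _ hx
      · let K := Ideal.span {algebraMap C (Localization.Away b) (hs[i]'hk)}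
        let dq := DoubleQuot.quotQuotEquivQuotSup J₁ K
        have hb2 : RingHom.Flat (R := (Localization.Away b ⧸ J₁) ⧸ K.map (Ideal.Quotient.mk J₁))
            (S := Localization.Away b ⧸ J₁ ⊔ K) dq.toRingHom :=
          RingHom.Flat.of_bijective (R := (Localization.Away b ⧸ J₁) ⧸ K.map (Ideal.Quotient.mk J₁))
            (S := Localization.Away b ⧸ J₁ ⊔ K) dq.bijective
        have e : (Ideal.span {algebraMap C (Localization.Away b) (hs[i]'hk)}).map (Ideal.Quotient.mk J₁) =
            Ideal.span {algebraMap C₁ (Localization.Away b ⧸ J₁) (Ideal.Quotient.mk J (hs[i]'hk))} := by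
          rw [Ideal.map_span, Set.image_singleton]; rfl
        have h3 := hflat
        rw [← e] at h3
        exact h3.comp hb2
    have h1 := hok.map f' hf'
    rw [Ideal.map_map, hfc', ← RingHom.comp_assoc, hfc', ← RingHom.comp_apply f', hfc'] at h1
    exact h1

theorem steps_to_seq {R D : Type u} [CommRing R] [CommRing D] [Algebra R D] [Module.Flat R D] (hs : List D)
    (h : ∀ (i : ℕ) (hi : i < hs.length), StepOK (algebraMap R D) (Ideal.ofList (hs.take i)) hs[i]) :
    IsWeaklyRegular D hs ∧ ∀ i, Module.Flat R (D ⧸ Ideal.ofList (hs.take i)) := by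
  refine ⟨⟨fun i hi ↦ ?_⟩, fun i ↦ ?_⟩
  · rw [isSMulRegular_quotient_iff_mem_of_smul_mem, Ideal.smul_eq_mul, Ideal.mul_top]
    exact (h i hi).1
  induction i with
  | zero =>
    exact Module.Flat.of_linearEquiv
      ((Submodule.quotEquivOfEqBot (Ideal.ofList (hs.take 0)) (by simp)).restrictScalars R)
  | succ i ih =>
    by_cases hi : i < hs.length
    · rw [List.take_succ_eq_append_getElem hi, Ideal.ofList_append, Ideal.ofList_singleton]
      exact RingHom.flat_algebraMap_iff.1 (h i hi).2
    · rwa [List.take_of_length_le (by omega), ← List.take_of_length_le (i := i) (l := hs) (by omega)]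

end Groth.Agent.Lib.Flat55.SliceSeq
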