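import Groth.Agent.Lib.Flat55.Localized
import Groth.Agent.H19.FlatLocus.Main
import Mathlib.RingTheory.Flat.TorsionFree
import Mathlib.RingTheory.Polynomial.Quotient
import Mathlib.RingTheory.Localization.Algebra
import Mathlib.RingTheory.FinitePresentation
import Mathlib.RingTheory.Localization.LocalizationLocalization
import Mathlib.RingTheory.PrincipalIdealDomain

/-!
# Slicing: cutting by a lift of a nonzerodivisor on the fibre keeps flatness
-/

set_option autoImplicit false

universe u

namespace Groth.Agent.Lib.Flat55.Slicing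

open Polynomial

/-- An element of the maximal ideal which is regular on the fibre makes the fibre flat over `k[T]`. -/
theorem flat_fibre {R C : Type u} [CommRing R] [IsLocalRing R] [CommRing C] [IsLocalRing C]
    [Algebra R C] [IsLocalHom (algebraMap R C)] [Algebra R[X] C] [IsScalarTower R R[X] C]
    (hX : algebraMap R[X] C X ∈ IsLocalRing.maximalIdeal C)
    (hreg : Ideal.Quotient.mk ((IsLocalRing.maximalIdeal R).map (algebraMap R C)) (algebraMap R[X] C X) ∈
      nonZeroDivisors (C ⧸ (IsLocalRing.maximalIdeal R).map (algebraMap R C))) :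
    Module.Flat (R[X] ⧸ (IsLocalRing.maximalIdeal R).map (algebraMap R R[X]))
      (C ⧸ (IsLocalRing.maximalIdeal R).map (algebraMap R R[X]) • (⊤ : Submodule R[X] C)) := by
  set m := IsLocalRing.maximalIdeal R with hm
  set h := algebraMap R[X] C X with hh
  set I := m.map (algebraMap R R[X]) with hI
  set J := m.map (algebraMap R C) with hJ
  have hIJ : J.restrictScalars R[X] = I • (⊤ : Submodule R[X] C) := by
    rw [Ideal.smul_top_eq_map, hI, Ideal.map_map, ← IsScalarTower.algebraMap_eq]
  let e : (R ⧸ m)[X] ≃+* R[X] ⧸ I :=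
    (Ideal.polynomialQuotientEquivQuotientPolynomial m).trans (Ideal.quotEquivOfEq rfl)
  let := Ideal.Quotient.field m
  have : IsDomain (R[X] ⧸ I) := e.symm.toMulEquiv.isDomain
  have : IsPrincipalIdealRing (R[X] ⧸ I) := IsPrincipalIdealRing.of_surjective e.toRingHom e.surjective
  rw [Module.Flat.flat_iff_torsion_eq_bot_of_isBezout, eq_bot_iff]
  rintro y ⟨⟨z, hz⟩, hzy⟩
  obtain ⟨p, rfl⟩ := e.surjective z
  have hp : p ≠ 0 := by
    intro hp0
    exact nonZeroDivisors.ne_zero hz (by rw [hp0, map_zero])
  obtain ⟨p₁, hpp₁, hp₁⟩ := exists_eq_pow_rootMultiplicity_mul_and_not_dvd p hp 0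
  rw [map_zero, sub_zero] at hpp₁ hp₁
  obtain ⟨P, rfl⟩ := map_surjective (Ideal.Quotient.mk m) Ideal.Quotient.mk_surjective p₁
  set n := p.rootMultiplicity 0
  have he : e p = Ideal.Quotient.mk I (X ^ n * P) := by
    rw [hpp₁, ← map_X (Ideal.Quotient.mk m), ← Polynomial.map_pow, ← Polynomial.map_mul]
    change Ideal.quotEquivOfEq rfl (Ideal.polynomialQuotientEquivQuotientPolynomial m _) = _
    rw [Ideal.polynomialQuotientEquivQuotientPolynomial_map_mk]
    rfl
  have hP0 : P.coeff 0 ∉ m := fun h0 ↦ hp₁ (Polynomial.X_dvd_iff.2 (by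
    rw [coeff_map, Ideal.Quotient.eq_zero_iff_mem]; exact h0))
  have hunit : IsUnit (algebraMap R[X] C P) := by
    rw [← IsLocalRing.notMem_maximalIdeal]
    intro hmem
    rw [← divX_mul_X_add P, map_add, map_mul] at hmem
    have h0 : algebraMap R[X] C (Polynomial.C (P.coeff 0)) ∈ IsLocalRing.maximalIdeal C := by
      have h2 := sub_mem hmem (Ideal.mul_mem_left _ (algebraMap R[X] C P.divX) hX)
      rwa [hh, add_sub_cancel_left] at h2
    rw [← Polynomial.algebraMap_eq, ← IsScalarTower.algebraMap_apply, IsLocalRing.mem_maximalIdeal] at h0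
    exact hP0 ((IsLocalRing.mem_maximalIdeal _).2 fun hu ↦ h0 (hu.map _))
  obtain ⟨c, rfl⟩ := Submodule.Quotient.mk_surjective _ y
  rw [Submodule.mem_bot, Submodule.Quotient.mk_eq_zero, ← hIJ, Submodule.restrictScalars_mem,
    ← Ideal.Quotient.eq_zero_iff_mem]
  have hzy' : e p • (Submodule.Quotient.mk c : C ⧸ I • (⊤ : Submodule R[X] C)) = 0 := hzy
  rw [he] at hzy'
  have h2 : Submodule.Quotient.mk ((X ^ n * P) • c) = (0 : C ⧸ I • (⊤ : Submodule R[X] C)) := hzy'
  rw [Submodule.Quotient.mk_eq_zero, ← hIJ, Submodule.restrictScalars_mem, Algebra.smul_def, map_mul,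
    map_pow, ← Ideal.Quotient.eq_zero_iff_mem, map_mul, map_mul, map_pow, ← hh, mul_assoc] at h2
  exact (hunit.map _).mul_right_eq_zero.1 ((mem_nonZeroDivisors_iff.1 (pow_mem hreg n)).1 _ h2)

/-- Slicing at a prime: near the prime the element is a nonzerodivisor with flat quotient. -/
theorem exists_slice {R C : Type u} [CommRing R] [CommRing C] [Algebra R C] [Algebra.FinitePresentation R C]
    (p : Ideal R) [p.IsPrime] (P : Ideal C) [P.IsPrime]
    {R' C' : Type u} [CommRing R'] [IsLocalRing R'] [Algebra R R'] [IsLocalization.AtPrime R' p]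
    [CommRing C'] [IsLocalRing C'] [Algebra C C'] [IsLocalization.AtPrime C' P]
    [Algebra R' C'] [IsLocalHom (algebraMap R' C')]
    (hcomm : ∀ r, algebraMap R' C' (algebraMap R R' r) = algebraMap C C' (algebraMap R C r))
    [Module.Flat R' C'] (h : C) (hP : h ∈ P)
    (hreg : Ideal.Quotient.mk ((IsLocalRing.maximalIdeal R').map (algebraMap R' C')) (algebraMap C C' h) ∈
      nonZeroDivisors (C' ⧸ (IsLocalRing.maximalIdeal R').map (algebraMap R' C'))) :
    ∃ a ∉ P, ∀ (Ca : Type u) [CommRing Ca] [Algebra C Ca] [IsLocalization.Away a Ca],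
      algebraMap C Ca h ∈ nonZeroDivisors Ca ∧
        ((Ideal.Quotient.mk (Ideal.span {algebraMap C Ca h})).comp
          ((algebraMap C Ca).comp (algebraMap R C))).Flat := by
  let : Algebra R[X] C := (aeval (R := R) h).toRingHom.toAlgebra
  have : IsScalarTower R R[X] C := .of_algebraMap_eq fun r ↦ (aeval_C h r).symm
  let : Algebra R'[X] C' := (aeval (R := R') (algebraMap C C' h)).toRingHom.toAlgebra
  have : IsScalarTower R' R'[X] C' := .of_algebraMap_eq fun r ↦ (aeval_C _ r).symm
  let : Algebra R[X] R'[X] := (mapRingHom (algebraMap R R')).toAlgebra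
  have hloc : IsLocalization (p.primeCompl.map (Polynomial.C : R →+* R[X])) R'[X] :=
    Polynomial.isLocalization p.primeCompl R'
  have hBC : ∀ x, algebraMap R'[X] C' (algebraMap R[X] R'[X] x) = algebraMap C C' (algebraMap R[X] C x) := by
    intro x
    refine DFunLike.congr_fun (show (algebraMap R'[X] C').comp (algebraMap R[X] R'[X]) =
      (algebraMap C C').comp (algebraMap R[X] C) from Polynomial.ringHom_ext (fun r ↦ ?_) ?_) x
    · change aeval (algebraMap C C' h) (mapRingHom (algebraMap R R') (Polynomial.C r)) =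
        algebraMap C C' (aeval h (Polynomial.C r))
      rw [coe_mapRingHom, map_C, aeval_C, aeval_C, hcomm]
    · change aeval (algebraMap C C' h) (mapRingHom (algebraMap R R') X) = algebraMap C C' (aeval h X)
      rw [coe_mapRingHom, map_X, aeval_X, aeval_X]
  have hX : algebraMap R'[X] C' X = algebraMap C C' h := aeval_X _
  have : IsLocalizedModule P.primeCompl (Algebra.linearMap C C') :=
    isLocalizedModule_iff_isLocalization.mpr inferInstance
  have hfib := flat_fibre (R := R') (C := C')
    (by rw [hX, IsLocalization.AtPrime.to_map_mem_maximal_iff C' P]; exact hP) (by rw [hX]; exact hreg)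
  have h1 : Module.Flat R'[X] C' :=
    Localized.flat_of_flat_fibre (R := R) (B := R[X]) (C := C) (R' := R') (B' := R'[X]) (C' := C')
      p.primeCompl (p.primeCompl.map (Polynomial.C : R →+* R[X])) P
      (fun r ↦ by
        change mapRingHom (algebraMap R R') (algebraMap R R[X] r) = algebraMap R' R'[X] (algebraMap R R' r)
        rw [coe_mapRingHom, Polynomial.algebraMap_eq, Polynomial.algebraMap_eq, map_C])
      hBC (Algebra.linearMap C C') hfib
  let : Algebra R[X] C' := ((algebraMap R'[X] C').comp (algebraMap R[X] R'[X])).toAlgebra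
  have : IsScalarTower R[X] R'[X] C' := .of_algebraMap_eq fun _ ↦ rfl
  have : IsScalarTower R[X] C C' := .of_algebraMap_eq fun x ↦ hBC x
  have : Module.Flat R[X] C' := (Module.flat_iff_of_isLocalization (R := R[X]) R'[X]
    (p.primeCompl.map (Polynomial.C : R →+* R[X])) C').1 h1
  have : Module.Flat R[X] (LocalizedModule P.primeCompl C) :=
    Module.Flat.of_linearEquiv ((IsLocalizedModule.iso P.primeCompl
      (Algebra.linearMap C C')).restrictScalars R[X])
  have : Algebra.FinitePresentation R[X] C :=
    Algebra.FinitePresentation.of_restrict_scalars_finitePresentation R R[X] C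
  obtain ⟨_, ⟨a, rfl⟩, hPa, hsub⟩ := PrimeSpectrum.isTopologicalBasis_basic_opens.exists_subset_of_mem_open
    (a := (⟨P, inferInstance⟩ : PrimeSpectrum C))
    (u := {q | Module.Flat R[X] (LocalizedModule q.asIdeal.primeCompl C)}) ‹_›
    (H19.FlatLocus.isOpen_flat_of_finitePresentation (R := R[X]) (S := C) (M := C))
  refine ⟨a, hPa, fun Ca _ _ _ ↦ ?_⟩
  let : Algebra R[X] Ca := ((algebraMap C Ca).comp (algebraMap R[X] C)).toAlgebra
  have : IsScalarTower R[X] C Ca := .of_algebraMap_eq fun _ ↦ rfl
  have : Module.Flat R[X] Ca := by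
    refine Module.flat_of_isLocalized_maximal (R := R[X]) Ca Ca
      (fun Q _ ↦ Localization.AtPrime Q)
      (fun Q _ ↦ Algebra.linearMap Ca (Localization.AtPrime Q)) fun Q hQ ↦ ?_
    have hQ' : IsLocalization.AtPrime (Localization.AtPrime Q) (Q.comap (algebraMap C Ca)) :=
      IsLocalization.isLocalization_isLocalization_atPrime_isLocalization (Submonoid.powers a)
        (Localization.AtPrime Q) Q
    have : IsLocalizedModule (Q.comap (algebraMap C Ca)).primeCompl
        (Algebra.linearMap C (Localization.AtPrime Q)) := inferInstance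
    have hmem : (⟨Q.comap (algebraMap C Ca), inferInstance⟩ : PrimeSpectrum C) ∈
        (PrimeSpectrum.basicOpen a : Set (PrimeSpectrum C)) := fun ha ↦
      hQ.ne_top (Ideal.eq_top_of_isUnit_mem _ ha (IsLocalization.Away.algebraMap_isUnit a))
    have : Module.Flat R[X] (LocalizedModule (Q.comap (algebraMap C Ca)).primeCompl C) := hsub hmem
    exact Module.Flat.of_linearEquiv ((IsLocalizedModule.iso (Q.comap (algebraMap C Ca)).primeCompl
      (Algebra.linearMap C (Localization.AtPrime Q))).symm.restrictScalars R[X])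
  have hXa : algebraMap R[X] Ca X = algebraMap C Ca h := congrArg (algebraMap C Ca) (aeval_X h)
  refine ⟨?_, ?_⟩
  · have hr := Module.Flat.isSMulRegular_of_isRegular (M := Ca) (Polynomial.monic_X (R := R)).isRegular
    refine mem_nonZeroDivisors_iff_right.2 fun z hz ↦ hr ?_
    change (X : R[X]) • z = (X : R[X]) • (0 : Ca)
    rw [smul_zero, Algebra.smul_def, hXa, mul_comm, hz]
  · let K : Ideal R[X] := Ideal.span {X}
    have hK : K.map (algebraMap R[X] Ca) = Ideal.span {algebraMap C Ca h} := by
      rw [Ideal.map_span, Set.image_singleton, hXa]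
    rw [← hK]
    have hb : Function.Bijective ((Ideal.Quotient.mk K).comp (algebraMap R R[X])) := by
      constructor
      · rw [injective_iff_map_eq_zero]
        intro r hr
        rw [RingHom.comp_apply, Ideal.Quotient.eq_zero_iff_mem, Ideal.mem_span_singleton,
          Polynomial.algebraMap_eq, Polynomial.X_dvd_iff, coeff_C_zero] at hr
        exact hr
      · intro z
        obtain ⟨z, rfl⟩ := Ideal.Quotient.mk_surjective z
        refine ⟨z.coeff 0, Ideal.Quotient.eq.2 (Ideal.mem_span_singleton.2 ?_)⟩
        rw [Polynomial.algebraMap_eq, Polynomial.X_dvd_iff, coeff_sub, coeff_C_zero, sub_self]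
    have hq := Presented.quotient_flat (algebraMap R[X] Ca) (RingHom.flat_algebraMap_iff.2 ‹_›) K
    convert (RingHom.Flat.of_bijective hb).comp hq using 1
    refine RingHom.ext fun r ↦ ?_
    change Ideal.Quotient.mk _ (algebraMap C Ca (algebraMap R C r)) =
      Ideal.Quotient.mk _ (algebraMap C Ca (algebraMap R[X] C (algebraMap R R[X] r)))
    rw [← IsScalarTower.algebraMap_apply R R[X] C]

end Groth.Agent.Lib.Flat55.Slicing
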