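import Groth.Agent.Lib.Flat55.DimSums
import Groth.Agent.Lib.Homog.Transitive
import Groth.Agent.H75.RedSub
import Groth.Prelude.Def_EGA4Misc
import Mathlib.RingTheory.LocalRing.ResidueField.Fiber
import Mathlib.RingTheory.LocalRing.ResidueField.Ideal

/-!
# Applications: equidimensional fibres near the generic point, special fibres, birational maps
-/

set_option autoImplicit false

universe u

open CategoryTheory CategoryTheory.Limits AlgebraicGeometry Topology TopologicalSpace TensorProduct
open Groth.Agent.Lib Groth.Agent.Lib.VarDim.Basic Groth.Agent.Lib.VarDim.Fibre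
open Groth.Agent.Lib.Flat55.FlatEquidim

namespace Groth.Agent.Lib.Flat55.FibreDimApps

/-- The dimension of a fibre of a ring map as the dimension of a subspace. -/
theorem dim_fibre_eq {R S : Type u} [CommRing R] [CommRing S] [Algebra R S] (p : PrimeSpectrum R) :
    topologicalKrullDim
      ↥((Spec.map (CommRingCat.ofHom (algebraMap R S))).fiber p) =
      ringKrullDim (p.asIdeal.Fiber S) := by
  rw [FibreDim.Basic.topologicalKrullDim_fiber, ← PrimeSpectrum.topologicalKrullDim_eq_ringKrullDim]
  exact IsHomeomorph.topologicalKrullDim_eq _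
    (PrimeSpectrum.preimageHomeomorphFiber R S p).isHomeomorph

/-- Over a valuation ring the dimensions of the special and of the generic fibre agree. -/
theorem ringKrullDim_special_eq_generic {R S : Type u} [CommRing R] [IsDomain R] [ValuationRing R]
    [CommRing S] [IsDomain S] [Algebra R S] (hinj : Function.Injective (algebraMap R S))
    [Algebra.FiniteType R S] [Nontrivial (IsLocalRing.ResidueField R ⊗[R] S)] :
    ringKrullDim (IsLocalRing.ResidueField R ⊗[R] S) = ringKrullDim (FractionRing R ⊗[R] S) := by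
  let m : PrimeSpectrum R := IsLocalRing.closedPoint R
  let η : PrimeSpectrum R := ⟨⊥, Ideal.isPrime_bot⟩
  let f := Spec.map (CommRingCat.ofHom (algebraMap R S))
  have : LocallyOfFiniteType f := H20.FibreDimSet.locallyOfFiniteType_specMap
  have : IrreducibleSpace ↥(Spec (CommRingCat.of S)) := PrimeSpectrum.irreducibleSpace
  let em : IsLocalRing.ResidueField R ≃ₐ[R] m.asIdeal.ResidueField :=
    AlgEquiv.ofBijective
      (IsScalarTower.toAlgHom R (R ⧸ IsLocalRing.maximalIdeal R)
        (IsLocalRing.maximalIdeal R).ResidueField)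
      (IsLocalRing.maximalIdeal R).bijective_algebraMap_quotient_residueField
  let eη : FractionRing R ≃ₐ[R] η.asIdeal.ResidueField :=
    FractionRing.algEquiv R (⊥ : Ideal R).ResidueField
  rw [ringKrullDim_eq_of_ringEquiv
      (Algebra.TensorProduct.congr (R := R) (S := R) em (AlgEquiv.refl (A₁ := S))).toRingEquiv,
    ringKrullDim_eq_of_ringEquiv
      (Algebra.TensorProduct.congr (R := R) (S := R) eη (AlgEquiv.refl (A₁ := S))).toRingEquiv]
  have hne : Nontrivial (m.asIdeal.Fiber S) :=
    (Algebra.TensorProduct.congr (R := R) (S := R) em (AlgEquiv.refl (A₁ := S))).toEquiv.nontrivial_congr.1 ‹_›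
  let x₀ : ↥(Spec (CommRingCat.of S)) := (⟨⊥, Ideal.isPrime_bot⟩ : PrimeSpectrum S)
  have hx₀ : f.base x₀ = η := PrimeSpectrum.ext (RingHom.injective_iff_ker_eq_bot _ |>.1 hinj)
  have key := fun (Z : Set ↥(f.fiber m)) (hZ : Z ∈ irreducibleComponents ↥(f.fiber m)) =>
    DimSums.fibre_component_dim_of_valuationRing R f x₀ hx₀ m Z hZ
  show ringKrullDim (m.asIdeal.Fiber S) = ringKrullDim (η.asIdeal.Fiber S)
  rw [← dim_fibre_eq m, ← dim_fibre_eq η]
  obtain ⟨z⟩ := (inferInstance : Nonempty (PrimeSpectrum (m.asIdeal.Fiber S)))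
  let b : f.fiber m := (f.fiberHomeo m).symm ((PrimeSpectrum.preimageHomeomorphFiber R S m).symm z)
  refine le_antisymm (FibreDim.Basic.topologicalKrullDim_fiber_le f fun x hx => ?_) ?_
  · obtain ⟨w, hwx, hw, hmax, hwd⟩ := FibreDim.Chart.exists_maximal_generization f x
    obtain ⟨a, rfl⟩ : w ∈ Set.range (f.fiberι m).base := by
      rw [f.range_fiberι]; exact hw.trans hx
    have hm : IsMaxFib f ((f.fiberι m).base a) := fun z' h hs => hmax z' (h.trans hw) hs
    rw [← hwd, fibreDimAt_eq_tdAt f hm,
      ← topologicalKrullDim_fibre_component f a (isGenericPoint_closure a)]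
    exact (key _ (closure_mem_irreducibleComponents ((isMax_asFiber_iff f a).2 hm))).le
  · rw [← key _ (irreducibleComponent_mem_irreducibleComponents b)]
    exact topologicalKrullDim_subspace_le _ _

/-- Birational morphisms do not increase the dimensions of local rings. -/
theorem ringKrullDim_stalk_le_of_isBirational {X Y : Scheme.{u}} (f : Y ⟶ X) [IsLocallyNoetherian X]
    [LocallyOfFiniteType f] (hf : RadPt.IsBirational f) (y : Y) :
    ringKrullDim (Y.presheaf.stalk y) ≤ ringKrullDim (X.presheaf.stalk (f.base y)) := by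
  have : IsLocallyNoetherian Y := LocallyOfFiniteType.isLocallyNoetherian f
  obtain ⟨ξ, hs, hξ, hq⟩ := H46.DimData.exists_qd_eq y
  have hgen : ξ ∈ genericPoints Y := Cyc.FieldDim.closure_mem_irreducibleComponents ξ hξ
  have htrd : H46.FibreTrdeg.trd f ξ = 0 := by
    rw [H46.FibreTrdeg.trd, Cyc.FieldDim.trdegAt_eq_zero_of_surjective f ξ
      (((hf.2 _ (hf.1.mapsTo hgen)).2 ξ rfl).2)]
    exact Cardinal.zero_toNat
  have h1 := H46.DimData.qd_ineq f hs
  have h2 := H46.DimData.qd_le_sd (hs.map f.continuous)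
  rw [H46.DimData.ringKrullDim_stalk, H46.DimData.ringKrullDim_stalk]
  exact_mod_cast (by omega : H46.DimData.sd y ≤ H46.DimData.sd (f.base y))

/-- A composite with a dominant map between irreducible varieties of the same dimension is dominant only
if the first map is. -/
theorem isDominant_of_comp {k : Type u} [Field k] {X Y Z : Scheme.{u}}
    (qX : X ⟶ Spec (CommRingCat.of k)) (qY : Y ⟶ Spec (CommRingCat.of k))
    (qZ : Z ⟶ Spec (CommRingCat.of k)) [LocallyOfFiniteType qX] [QuasiCompact qX]
    [LocallyOfFiniteType qY] [LocallyOfFiniteType qZ] [IrreducibleSpace Y] [IrreducibleSpace Z]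
    (ρ : X ⟶ Y) (η : Y ⟶ Z) (hρ : ρ ≫ qY = qX) (hη : η ≫ qZ = qY)
    (hdim : topologicalKrullDim Y = topologicalKrullDim Z) [IsDominant (ρ ≫ η)] : IsDominant ρ := by
  have : IsLocallyNoetherian Z := LocallyOfFiniteType.isLocallyNoetherian qZ
  have hc : QuasiCompact ((ρ ≫ η) ≫ qZ) := by rw [Category.assoc, hη, hρ]; infer_instance
  have : QuasiCompact (ρ ≫ η) := QuasiCompact.of_comp (ρ ≫ η) qZ
  obtain ⟨x, hx⟩ := exists_specializes_of_mem_closure_range (ρ ≫ η) (y := genericPoint Z)
    (by rw [show closure (Set.range (ρ ≫ η)) = Set.univ from (ρ ≫ η).denseRange.closure_range]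
        trivial)
  have hxz : (ρ ≫ η).base x = genericPoint Z :=
    (hx.antisymm ((genericPoint_spec Z).specializes (Set.mem_univ _))).eq
  have h1 := pdim_apply_le qY qZ η hη (ρ.base x)
  have h2 := topologicalKrullDim_irreducibleSpace qZ
  rw [← hdim, topologicalKrullDim_irreducibleSpace qY] at h2
  have h3 : pdim qY (genericPoint Y) = pdim qZ (genericPoint Z) := by exact_mod_cast h2
  rw [show η.base (ρ.base x) = genericPoint Z from hxz] at h1
  have hρx : genericPoint Y = ρ.base x :=
    eq_of_pdim_le qY ((genericPoint_spec Y).specializes (Set.mem_univ _)) (by omega)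
  refine ⟨fun y => closure_mono (Set.singleton_subset_iff.2 (show genericPoint Y ∈ Set.range ρ from ⟨x, hρx.symm⟩)) ?_⟩
  rw [(genericPoint_spec Y).def]
  trivial

/-- Near the generic point the fibres are equidimensional of the dimension of the generic fibre. -/
theorem exists_nhd_fibres_equidim {X S : Scheme.{u}} (f : X ⟶ S) [IsNoetherian S] [IrreducibleSpace S]
    [IrreducibleSpace X] [IsDominant f] [LocallyOfFiniteType f] [QuasiCompact f] :
    ∃ U : S.Opens, genericPoint S ∈ U ∧ ∀ s ∈ U, ∀ T ∈ irreducibleComponents ↥(⇑f ⁻¹' {s}),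
      topologicalKrullDim ↥T = topologicalKrullDim ↥(⇑f ⁻¹' {genericPoint S}) := by
  let I := Scheme.IdealSheafData.vanishingIdeal (⊤ : Closeds S)
  let i := I.subschemeι
  have hi : Function.Surjective i.base := fun s => by
    show s ∈ Set.range i
    simp [i, I, Scheme.IdealSheafData.range_subschemeι]
  have : Surjective i := ⟨hi⟩
  have hred : IsReduced I.subscheme := Groth.Agent.H75.RedSub.isReduced_vanishingIdeal _
  have : IsLocallyNoetherian I.subscheme := LocallyOfFiniteType.isLocallyNoetherian i
  have : CompactSpace I.subscheme := QuasiCompact.compactSpace_of_compactSpace i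
  have : IsNoetherian I.subscheme := {}
  have : Nonempty I.subscheme := ⟨(hi (genericPoint S)).choose⟩
  let p := pullback.fst f i
  let f' := pullback.snd f i
  have hpb : IsPullback p f' f i := IsPullback.of_hasPullback f i
  obtain ⟨W, hWne, hW⟩ := Homog.exists_flat_restrict f'
  obtain ⟨O, hO, hWO⟩ := isOpen_induced_iff.1 (i.isEmbedding.isInducing.isOpen_iff.1 W.2)
  have hmemO : ∀ t : I.subscheme, i.base t ∈ O ↔ t ∈ W := fun t => (Set.ext_iff.1 hWO t)
  have hηO : genericPoint S ∈ O := by
    obtain ⟨t, ht⟩ := hWne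
    exact ((genericPoint_spec S).specializes (Set.mem_univ _)).mem_open hO ((hmemO t).2 ht)
  have hη : f.base (genericPoint X) = genericPoint S := by
    have h := (genericPoint_spec X).image f.continuous
    rw [Set.image_univ, f.denseRange.closure_range] at h
    exact h.eq (genericPoint_spec S)
  refine ⟨⟨O, hO⟩, hηO, fun s hs T hT => ?_⟩
  let T' : Set ↥(f.fiber s) := f.fiberHomeo s ⁻¹' T
  have hT' : T' ∈ irreducibleComponents ↥(f.fiber s) :=
    preimage_mem_irreducibleComponents hT (f.fiberHomeo s).isOpenEmbedding (by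
      obtain ⟨t, ht⟩ := hT.1.nonempty
      exact ⟨t, ht, (f.fiberHomeo s).surjective t⟩)
  rw [← IsHomeomorph.topologicalKrullDim_eq _
    (Homeomorph.sets (s := T') (t := T) (f.fiberHomeo s) rfl).isHomeomorph]
  obtain ⟨a, ha, hag⟩ := exists_isMax_isGenericPoint hT'
  have hm := (isMax_asFiber_iff f a).1 ha
  rw [topologicalKrullDim_fibre_component f a hag, ← fibreDimAt_eq_tdAt f hm]
  have hfz : f.base ((f.fiberι s).base a) = s := Cyc.FieldDim.apply_fiberι f s a
  generalize (f.fiberι s).base a = z at hm hfz ⊢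
  have hgen : topologicalKrullDim ↥(⇑f ⁻¹' {genericPoint S}) =
      FlatMor.fibreDimAt f (genericPoint X) := by
    rw [← FibreDim.Basic.topologicalKrullDim_fiber]
    refine le_antisymm (FibreDim.Basic.topologicalKrullDim_fiber_le f fun x' hx' => ?_)
      (FibreDim.Basic.fibreDimAt_le_topologicalKrullDim f hη)
    obtain ⟨w, -, hw, hmax, hwd⟩ := FibreDim.Chart.exists_maximal_generization f x'
    have : genericPoint X = w := hmax _ (hη.trans hx'.symm)
      ((genericPoint_spec X).specializes (Set.mem_univ w))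
    rw [← hwd, ← this]
  rw [hgen]
  let V := f' ⁻¹ᵁ W
  let g := f' ∣_ W
  have : Flat g := hW
  have : IsLocallyNoetherian W.toScheme := isLocallyNoetherian_of_isOpenImmersion W.ι
  have : LocallyOfFinitePresentation g := DvrCrit.lfp_of_lft g
  let j : V.toScheme ⟶ X := V.ι ≫ p
  have hpi : IsClosedImmersion p := inferInstance
  have hfd : ∀ v : V.toScheme, FlatMor.fibreDimAt g v = FlatMor.fibreDimAt f (j.base v) := fun v => by
    rw [H2.FibreDimPullback.fibreDimAt_of_isPullback (isPullback_morphismRestrict f' W).flip v,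
      H2.FibreDimPullback.fibreDimAt_of_isPullback hpb]
    rfl
  have hjv : ∀ v : V.toScheme, f.base (j.base v) = i.base (W.ι.base (g.base v)) := fun v => by
    have e1 : j ≫ f = g ≫ W.ι ≫ i := by
      simp only [j, Category.assoc, hpb.w]
      rw [← Category.assoc, ← morphismRestrict_ι, Category.assoc]
    exact congr($e1 v)
  have hj : ∀ x : X, f.base x ∈ O → ∃ v : V.toScheme, j.base v = x := fun x hx => by
    obtain ⟨t, ht⟩ := hi (f.base x)
    obtain ⟨v, hv1, hv2⟩ := Scheme.Pullback.exists_preimage_pullback (f := f) (g := i) x t ht.symm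
    exact ⟨⟨v, show f'.base v ∈ W by rw [show f'.base v = t from hv2, ← hmemO, ht]; exact hx⟩, hv1⟩
  obtain ⟨v, hv⟩ := hj z (by rw [hfz]; exact hs)
  obtain ⟨ξ, hξ⟩ := hj (genericPoint X) (by rw [hη]; exact hηO)
  have hjemb : Topology.IsEmbedding j.base :=
    p.isEmbedding.comp V.ι.isOpenEmbedding.isEmbedding
  obtain ⟨N, hvN, hN⟩ := FibreDimFlat.exists_open_forall_fibreDimAt_eq g v fun w hw hwv =>
    hjemb.injective (by
      rw [hv]
      refine hm _ ?_ (hv ▸ hwv.map j.continuous)
      rw [hjv, show g.base w = g.base v from hw, ← hjv, hv])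
  have hξN : ξ ∈ N := by
    refine Specializes.mem_open ?_ N.2 hvN
    rw [← hjemb.isInducing.specializes_iff, hξ]
    exact (genericPoint_spec X).specializes (Set.mem_univ _)
  rw [← hv, ← hξ, ← hfd, ← hfd, hN ξ hξN]

end Groth.Agent.Lib.Flat55.FibreDimApps
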