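import Groth.Agent.Lib.LocalFlat.Fibre
import Mathlib.RingTheory.RingHom.FaithfullyFlat
import Mathlib.LinearAlgebra.TensorProduct.Tower
import Mathlib.RingTheory.IsTensorProduct

/-!
# The Noetherian step of the fibrewise criterion of flatness, with descent along a field extension
-/

set_option autoImplicit false

universe u v

namespace Groth.Agent.Lib.Flat55.FibreStep

open TensorProduct

/-- Flatness descends along a faithfully flat extension of the ring acting on the module. -/
theorem flat_descend (A S S₁ M : Type*) [CommRing A] [CommRing S] [CommRing S₁] [Algebra A S]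
    [Algebra S S₁] [Algebra A S₁] [IsScalarTower A S S₁] [Module.FaithfullyFlat S S₁]
    [AddCommGroup M] [Module A M] [Module S M] [IsScalarTower A S M]
    [Module.Flat A (S₁ ⊗[S] M)] : Module.Flat A M := by
  rw [Module.Flat.iff_lTensor_preserves_injective_linearMap]
  intro N N' _ _ _ _ φ hφ
  have h1 : Function.Injective (φ.lTensor (S₁ ⊗[S] M)) :=
    Module.Flat.lTensor_preserves_injective_linearMap φ hφ
  let g : M ⊗[A] N →ₗ[S] M ⊗[A] N' := AlgebraTensorModule.lTensor S M φ
  suffices Function.Injective g from this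
  rw [← Module.FaithfullyFlat.lTensor_injective_iff_injective S S₁ g]
  intro a b hab
  apply (AlgebraTensorModule.assoc A S S S₁ M N).symm.injective
  apply h1
  have key : ∀ z, φ.lTensor (S₁ ⊗[S] M) ((AlgebraTensorModule.assoc A S S S₁ M N).symm z) =
      (AlgebraTensorModule.assoc A S S S₁ M N').symm (g.lTensor S₁ z) := by
    intro z
    induction z using TensorProduct.induction_on with
    | zero => simp
    | tmul c w =>
      induction w using TensorProduct.induction_on with
      | zero => simp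
      | tmul b n => simp [g]
      | add _ _ h1 h2 => simp only [tmul_add, map_add, h1, h2]
    | add _ _ h1 h2 => simp only [map_add, h1, h2]
  rw [key, key, hab]

variable {R : Type u} [CommRing R] [IsLocalRing R]
  {B : Type u} [CommRing B] [Algebra R B]
  {S : Type u} [CommRing S] [IsLocalRing S] [Algebra R S] [Algebra B S] [IsScalarTower R B S]
  {X : Type v} [AddCommGroup X] [Module R X] [Module B X] [Module S X]
  [IsScalarTower R B X] [IsScalarTower B S X] [IsScalarTower R S X]

set_option maxHeartbeats 1000000 in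
/-- Noetherian step: `X` flat over `R`, and `X ⊗ S₁` flat over `B₁`, where `B₁`, `S₁` are
(faithfully) flat over `B ⧸ m B`, `S ⧸ m S`: then `X` is flat over `B`. -/
theorem flat_of_fibre [IsNoetherianRing B] [IsNoetherianRing S] [Module.Finite S X]
    [IsLocalHom (algebraMap R S)] [Module.Flat R X]
    {B₁ : Type*} [CommRing B₁] [Algebra B B₁]
    {S₁ : Type*} [CommRing S₁] [Algebra S S₁] [Algebra B S₁] [IsScalarTower B S S₁]
    [Algebra B₁ S₁] [IsScalarTower B B₁ S₁]
    (hB₁ : (IsLocalRing.maximalIdeal R).map (algebraMap R B) ≤ RingHom.ker (algebraMap B B₁))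
    (hB₁f : (Ideal.Quotient.lift _ (algebraMap B B₁) hB₁).Flat)
    (hS₁ : (IsLocalRing.maximalIdeal R).map (algebraMap R S) ≤ RingHom.ker (algebraMap S S₁))
    (hS₁f : (Ideal.Quotient.lift _ (algebraMap S S₁) hS₁).FaithfullyFlat)
    {Y : Type*} [AddCommGroup Y] [Module S Y] [Module S₁ Y] [IsScalarTower S S₁ Y]
    [Module B₁ Y] [IsScalarTower B₁ S₁ Y] (ψ : X →ₗ[S] Y) (hψ : IsBaseChange S₁ ψ)
    [Module.Flat B₁ Y] : Module.Flat B X := by
  set m := IsLocalRing.maximalIdeal R
  set I := m.map (algebraMap R B) with hI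
  set J := m.map (algebraMap R S) with hJ
  have hIJ : I.map (algebraMap B S) = J := by
    rw [hI, hJ, Ideal.map_map, ← IsScalarTower.algebraMap_eq]
  let := (Ideal.Quotient.lift _ (algebraMap B B₁) hB₁).toAlgebra
  let := (Ideal.Quotient.lift _ (algebraMap S S₁) hS₁).toAlgebra
  let := ((Ideal.Quotient.lift _ (algebraMap S S₁) hS₁).comp
    (Ideal.quotientMap J (algebraMap B S) (hIJ ▸ Ideal.le_comap_map))).toAlgebra
  let := (Ideal.quotientMap J (algebraMap B S) (hIJ ▸ Ideal.le_comap_map :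
    I ≤ J.comap (algebraMap B S))).toAlgebra
  have : IsScalarTower S (S ⧸ J) S₁ := .of_algebraMap_eq fun _ ↦ rfl
  have : IsScalarTower (B ⧸ I) (S ⧸ J) S₁ := .of_algebraMap_eq fun _ ↦ rfl
  have : IsScalarTower B (B ⧸ I) (S ⧸ J) := .of_algebraMap_eq fun b ↦
    IsScalarTower.algebraMap_apply B S (S ⧸ J) b
  have : IsScalarTower (B ⧸ I) B₁ S₁ := .of_algebraMap_eq fun b ↦ by
    obtain ⟨b, rfl⟩ := Ideal.Quotient.mk_surjective b
    exact ((IsScalarTower.algebraMap_apply B S S₁ b).symm.trans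
      (IsScalarTower.algebraMap_apply B B₁ S₁ b))
  have : Module.FaithfullyFlat (S ⧸ J) S₁ := hS₁f
  have : Module.Flat (B ⧸ I) B₁ := hB₁f
  let : Module (B ⧸ I) Y := Module.compHom Y (algebraMap (B ⧸ I) B₁)
  have : IsScalarTower (B ⧸ I) B₁ Y := ⟨fun a b y ↦ by
    rw [Algebra.smul_def, mul_smul]; rfl⟩
  have : Module.Flat (B ⧸ I) Y := Module.Flat.trans (B ⧸ I) B₁ Y
  let Z := (S ⧸ J) ⊗[S] X
  let e₁ : S₁ ⊗[S ⧸ J] Z ≃ₗ[S₁] Y :=
    (AlgebraTensorModule.cancelBaseChange S (S ⧸ J) S₁ S₁ X).trans hψ.equiv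
  let e₂ : S₁ ⊗[S ⧸ J] Z ≃ₗ[B ⧸ I] Y :=
    { e₁.toAddEquiv with
      map_smul' := fun r x ↦ by
        change e₁ (r • x) = algebraMap (B ⧸ I) B₁ r • e₁ x
        rw [← algebraMap_smul S₁ r x, map_smul,
          IsScalarTower.algebraMap_apply (B ⧸ I) B₁ S₁, algebraMap_smul] }
  have : Module.Flat (B ⧸ I) (S₁ ⊗[S ⧸ J] Z) := Module.Flat.of_linearEquiv e₂
  have hZ : Module.Flat (B ⧸ I) Z := flat_descend (B ⧸ I) (S ⧸ J) S₁ Z
  have hsmul : (J • (⊤ : Submodule S X)).restrictScalars B = I • (⊤ : Submodule B X) := by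
    rw [← hIJ]
    exact Ideal.smul_restrictScalars I (⊤ : Submodule S X)
  let g : (B ⧸ I) ⊗[B] X ≃ₗ[B] Z :=
    (quotTensorEquivQuotSMul X I) ≪≫ₗ
      (Submodule.quotEquivOfEq _ _ hsmul.symm) ≪≫ₗ
      (Submodule.Quotient.restrictScalarsEquiv B (J • (⊤ : Submodule S X))) ≪≫ₗ
      ((quotTensorEquivQuotSMul X J).symm.restrictScalars B)
  have : Module.Flat (B ⧸ I) ((B ⧸ I) ⊗[B] X) :=
    Module.Flat.of_linearEquiv (g.extendScalarsOfSurjective Ideal.Quotient.mk_surjective)
  refine LocalFlat.Criterion.flat_of_injective_of_flat_quotient S I ?_ ?_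
  · rw [hIJ]
    exact LocalFlat.Criterion.map_le_jacobson_bot_of_isLocalHom (S := S)
      (IsLocalRing.maximalIdeal.isMaximal R).ne_top
  · exact LocalFlat.Fibre.lTensor_map_subtype_injective B m

end Groth.Agent.Lib.Flat55.FibreStep
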