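import Groth.Agent.Lib.Flat55.FlatOverFibre
import Groth.Agent.Lib.Flat55.FlatDescend
import Groth.Agent.Lib.AlgSpThick.FlatAt
import Groth.Agent.Lib.AlgSpMor.LocP
import Groth.Agent.H19.FlatLocus.Scheme

/-!
# The flat locus of a relative morphism commutes with base change: schemes and algebraic spaces
-/

set_option autoImplicit false

universe u

open CategoryTheory CategoryTheory.Limits AlgebraicGeometry Opposite
open Groth.Agent.Lib

namespace Groth.Agent.Lib.Flat55.FlatLocusBC

set_option backward.isDefEq.respectTransparency false in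
/-- For `X` flat over `S`, flatness over `Y` at a point can be tested after any base change. -/
theorem flat_stalkMap_iff {X Y S : Scheme.{u}} (f : X ⟶ Y) (g : Y ⟶ S) [LocallyOfFinitePresentation (f ≫ g)]
    [Flat (f ≫ g)] [LocallyOfFiniteType g]
    {X' Y' S' : Scheme.{u}} (h : S' ⟶ S) (gY : Y' ⟶ Y) (g' : Y' ⟶ S') (hY : IsPullback gY g' g h)
    (gX : X' ⟶ X) (f' : X' ⟶ Y') (hc : IsPullback gX f' f gY) (x' : X') :
    (f'.stalkMap x').hom.Flat ↔ (f.stalkMap (gX x')).hom.Flat := by
  have base : ∀ {A B C D : Scheme.{u}} (p : A ⟶ B) (q : A ⟶ C) (u : B ⟶ D) (v : C ⟶ D),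
      IsPullback p q u v → ∀ a : A, (u.stalkMap (p a)).hom.Flat → (q.stalkMap a).hom.Flat := by
    intro A B C D p q u v hsq a ha
    have h0 : p a = pullback.fst u v (hsq.isoPullback.hom a) := by
      rw [← Scheme.Hom.comp_apply, hsq.isoPullback_hom_fst]
    exact FlatOverAt.flat_stalkMap_iso_comp hsq.isoPullback.hom (pullback.snd u v) _ hsq.isoPullback_hom_snd a
      (FlatOverAt.flat_stalkMap_snd u v _ (h0 ▸ ha))
  refine ⟨fun hx' ↦ ?_, base gX f' f gY hc x'⟩
  set s' := g' (f' x')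
  let κ := Spec.map (h.residueFieldMap s')
  have hκ : κ ≫ S.fromSpecResidueField (h s') = S'.fromSpecResidueField s' ≫ h :=
    Scheme.Hom.SpecMap_residueFieldMap_fromSpecResidueField h s'
  have : Flat κ := (HasRingHomProperty.Spec_iff (P := @Flat)).2 (by
    let := (h.residueFieldMap s').hom.toAlgebra
    exact (inferInstance : Module.Flat (S.residueField (h s')) (S'.residueField s')))
  have hout : IsPullback (g'.fiberι s' ≫ gY) (g'.fiberToSpecResidueField s') g
      (κ ≫ S.fromSpecResidueField (h s')) := by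
    rw [hκ]
    exact (IsPullback.of_hasPullback g' (S'.fromSpecResidueField s')).paste_horiz hY
  let πY : g'.fiber s' ⟶ g.fiber (h s') :=
    pullback.lift (g'.fiberι s' ≫ gY) (g'.fiberToSpecResidueField s' ≫ κ)
      (by rw [Category.assoc]; exact hout.w.trans (Category.assoc _ _ _).symm |>.trans (Category.assoc _ _ _))
  have hπY : πY ≫ g.fiberι (h s') = g'.fiberι s' ≫ gY := pullback.lift_fst _ _ _
  have hπYsq : IsPullback πY (g'.fiberToSpecResidueField s') (g.fiberToSpecResidueField (h s')) κ :=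
    IsPullback.of_right (by convert hout using 1; exact hπY) (pullback.lift_snd _ _ _)
      (IsPullback.of_hasPullback g (S.fromSpecResidueField (h s')))
  have : Flat πY := MorphismProperty.of_isPullback hπYsq.flip ‹Flat κ›
  let P := pullback f (g.fiberι (h s'))
  let P' := pullback f' (g'.fiberι s')
  have hbig : IsPullback (pullback.fst f' (g'.fiberι s') ≫ gX) (pullback.snd f' (g'.fiberι s')) f
      (πY ≫ g.fiberι (h s')) := by
    rw [hπY]
    exact (IsPullback.of_hasPullback f' (g'.fiberι s')).paste_horiz hc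
  let πX : P' ⟶ P := pullback.lift (pullback.fst f' (g'.fiberι s') ≫ gX)
    (pullback.snd f' (g'.fiberι s') ≫ πY) (by rw [Category.assoc]; exact hbig.w.trans (Category.assoc _ _ _).symm |>.trans (Category.assoc _ _ _))
  have hπX : πX ≫ pullback.fst f (g.fiberι (h s')) = pullback.fst f' (g'.fiberι s') ≫ gX :=
    pullback.lift_fst _ _ _
  have hπXsq : IsPullback πX (pullback.snd f' (g'.fiberι s')) (pullback.snd f (g.fiberι (h s'))) πY :=
    IsPullback.of_right (by rw [hπX]; exact hbig) (pullback.lift_snd _ _ _)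
      (IsPullback.of_hasPullback f (g.fiberι (h s')))
  obtain ⟨p', hp', -⟩ := Scheme.Pullback.exists_preimage_pullback (f := f') (g := g'.fiberι s') x'
    (g'.asFiber (f' x')) (g'.fiberι_asFiber (f' x')).symm
  have h1 := base _ _ _ _ (IsPullback.of_hasPullback f' (g'.fiberι s')) p' (hp'.symm ▸ hx')
  have h2 : ((pullback.snd f' (g'.fiberι s') ≫ πY).stalkMap p').hom.Flat :=
    AlgSpThick.FlatAt.flat_stalkMap_comp _ _ p' h1 (Flat.stalkMap πY _)
  have : Flat πX := MorphismProperty.of_isPullback hπXsq.flip ‹Flat πY›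
  rw [← hπXsq.w] at h2
  have h3 := FlatDescend.flat_stalkMap_of_comp πX (pullback.snd f (g.fiberι (h s'))) p' (Flat.stalkMap πX p') h2
  obtain ⟨e, he₁, he₂⟩ := FibreTransfer.exists_iso_fiberMap f g (h s')
  have hp : e.inv (e.hom (πX p')) = πX p' :=
    (Scheme.Hom.comp_apply _ _ _).symm.trans (congrArg (fun φ ↦ φ (πX p')) e.hom_inv_id)
  have h4 := FlatOverAt.flat_stalkMap_iso_comp e.inv (pullback.snd f (g.fiberι (h s')))
    (MoreMor.fiberMap f g (h s')) (by rw [← he₁, Iso.inv_hom_id_assoc]) (e.hom (πX p')) (hp.symm ▸ h3)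
  have hx : (f ≫ g).fiberι (h s') (e.hom (πX p')) = gX x' := by
    rw [← Scheme.Hom.comp_apply, he₂, ← Scheme.Hom.comp_apply, hπX, Scheme.Hom.comp_apply, hp']
  exact (FibrewiseStalk.flat_stalkMap_of_fiberMap f g (gX x') (h s') (e.hom (πX p')) hx
    (Flat.stalkMap (f ≫ g) _) h4).1

open AlgSp (Sp yon RepWith IsAlgSpace LocP Points IsFlatAtMor)
open Groth.Agent.Lib.AlgSpace Groth.Agent.Lib.AlgSpMor.LocP

variable {S : Scheme.{u}}

/-- The lift of a pullback of charts to the pullback of algebraic spaces is a chart. -/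
theorem repWith_lift {P : MorphismProperty Scheme.{u}} [P.IsStableUnderBaseChange] [P.IsStableUnderComposition]
    {X Y Y' X' : Sp S} {f : X ⟶ Y} {g : Y' ⟶ Y} {fst : X' ⟶ X} {f' : X' ⟶ Y'} (sq : IsPullback fst f' f g)
    {U W₀ Q : Over S} {a : (yon S).obj U ⟶ X} {c : (yon S).obj W₀ ⟶ Y'} {p : Q ⟶ U} {q : Q ⟶ W₀}
    (sqUW : IsPullback ((yon S).map p) ((yon S).map q) (a ≫ f) (c ≫ g))
    (ha : RepWith P a) (hc : RepWith P c) :
    RepWith P (sq.lift ((yon S).map p ≫ a) ((yon S).map q ≫ c)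
      (by rw [Category.assoc, Category.assoc]; exact sqUW.w)) := by
  have wQ : ((yon S).map p ≫ a) ≫ f = ((yon S).map q ≫ c) ≫ g := by
    rw [Category.assoc, Category.assoc]; exact sqUW.w
  let a' : (yon S).obj Q ⟶ X' := sq.lift _ _ wQ
  have key : IsPullback ((yon S).map (prod.lift p q)) a'
      ((yonProdIso U W₀).hom ≫ prod.map a c) (prod.lift fst f') := by
    refine isPullback_of_yon (prod.hom_ext ?_ ?_) (fun T x x' h1 _ ↦ sqUW.hom_ext ?_ ?_)
      (fun T x y e ↦ ?_)
    · simp only [Category.assoc, prod.lift_fst, prod.map_fst, yonProdIso_hom_fst_assoc]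
      rw [← (yon S).map_comp_assoc, prod.lift_fst]
      simp [a']
    · simp only [Category.assoc, prod.lift_snd, prod.map_snd, yonProdIso_hom_snd_assoc]
      rw [← (yon S).map_comp_assoc, prod.lift_snd]
      simp [a']
    · simpa only [Category.assoc, ← Functor.map_comp, prod.lift_fst] using
        congr($h1 ≫ (yon S).map prod.fst)
    · simpa only [Category.assoc, ← Functor.map_comp, prod.lift_snd] using
        congr($h1 ≫ (yon S).map prod.snd)
    · have e1 : (x ≫ (yon S).map prod.fst) ≫ a = y ≫ fst := by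
        simpa [yonProdIso_hom_fst_assoc, prod.lift_fst, prod.map_fst] using congr($e ≫ prod.fst)
      have e2 : (x ≫ (yon S).map prod.snd) ≫ c = y ≫ f' := by
        simpa [yonProdIso_hom_snd_assoc, prod.lift_snd, prod.map_snd] using congr($e ≫ prod.snd)
      refine ⟨sqUW.lift (x ≫ (yon S).map prod.fst) (x ≫ (yon S).map prod.snd)
        (by rw [← Category.assoc, e1, ← Category.assoc _ c g, e2, Category.assoc, Category.assoc, sq.w]), ?_, ?_⟩
      · apply (cancel_mono (yonProdIso U W₀).hom).1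
        refine prod.hom_ext ?_ ?_
        · simp only [Category.assoc, yonProdIso_hom_fst]
          rw [← Functor.map_comp, prod.lift_fst, sqUW.lift_fst]
        · simp only [Category.assoc, yonProdIso_hom_snd]
          rw [← Functor.map_comp, prod.lift_snd, sqUW.lift_snd]
      · refine sq.hom_ext ?_ ?_
        · simp [a', e1]
        · simp only [a', Category.assoc, sq.lift_snd, sqUW.lift_snd_assoc, e2]
  exact repWith_baseChange key ((repWith_iso_comp_iff _ _ _).2 (repWith_prodMap ha hc))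

/-- Charts for a base change of a pair of composable morphisms of algebraic spaces, together with
the comparison of flatness at a point. -/
theorem flatLocus {X Y Z : Sp S} (hX : IsAlgSpace X) (hY : IsAlgSpace Y) (hZ : IsAlgSpace Z)
    (f : X ⟶ Y) (h : Y ⟶ Z) (hfp : LocP @LocallyOfFinitePresentation (f ≫ h))
    (hfl : LocP @Flat (f ≫ h)) (hft : LocP @LocallyOfFiniteType h) :
    IsOpen {x : Points X | IsFlatAtMor f x} ∧
    ∀ {X' Y' Z' : Sp S} (_ : IsAlgSpace X') (_ : IsAlgSpace Y') (_ : IsAlgSpace Z') (g : Z' ⟶ Z)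
      (f' : X' ⟶ Y') (h' : Y' ⟶ Z') (pX : X' ⟶ X) (pY : Y' ⟶ Y),
      IsPullback pY h' h g → IsPullback pX f' f pY →
      {x' : Points X' | IsFlatAtMor f' x'} = Points.map pX ⁻¹' {x : Points X | IsFlatAtMor f x} := by
  obtain ⟨V, W, b, c, n, hb, hbs, hc, hcs, w₂⟩ := exists_chart hY hZ h
  obtain ⟨U, a, k, ha, has, w₁⟩ := exists_chart_over hX hY f hb hbs
  have w : a ≫ (f ≫ h) = (yon S).map (k ≫ n) ≫ c := by
    rw [reassoc_of% w₁, w₂, Functor.map_comp, Category.assoc]
  have : LocallyOfFinitePresentation (k.left ≫ n.left) := hfp a c (k ≫ n) ha hc w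
  have : Flat (k.left ≫ n.left) := hfl a c (k ≫ n) ha hc w
  have : LocallyOfFiniteType n.left := hft b c n hb hc w₂
  have chart : ∀ u : U.left, IsFlatAtMor f (Points.ofPt a u) ↔ (k.left.stalkMap u).hom.Flat :=
    fun u ↦ ⟨fun hu ↦ hu a b k u ha hb w₁ rfl,
      AlgSpThick.FlatAt.isFlatAtMor_of_chart hX.diag hY.diag ha hb w₁ u⟩
  refine ⟨?_, ?_⟩
  · rw [isOpen_iff_chart ha has]
    have : LocallyOfFinitePresentation k.left :=
      FibreTransfer.locallyOfFinitePresentation k.left n.left rfl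
    convert H19.FlatLocus.Scheme.isOpen_flat_stalkMap k.left using 1
    exact Set.ext chart
  intro X' Y' Z' hX' hY' hZ' g f' h' pX pY sqY sqX
  obtain ⟨W₀, c₀, hc₀, hc₀s⟩ := hZ'.atlas
  obtain ⟨W', r₁, r₂, sqW⟩ := exists_isPullback_yon hZ.diag c (c₀ ≫ g)
  let T := Limits.pullback n r₁
  let t₁ : T ⟶ V := pullback.fst n r₁
  let t₂ : T ⟶ W' := pullback.snd n r₁
  let Q := Limits.pullback k t₁
  let u₁ : Q ⟶ U := pullback.fst k t₁
  let u₂ : Q ⟶ T := pullback.snd k t₁
  have sqT := IsPullback.of_hasPullback n r₁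
  have sqQ := IsPullback.of_hasPullback k t₁
  have sqVW : IsPullback ((yon S).map t₁) ((yon S).map (t₂ ≫ r₂)) (b ≫ h) (c₀ ≫ g) := by
    rw [w₂, Functor.map_comp]
    exact (isPullback_yon sqT).paste_vert sqW
  have sqUW : IsPullback ((yon S).map u₁) ((yon S).map (u₂ ≫ t₂ ≫ r₂)) (a ≫ f ≫ h) (c₀ ≫ g) := by
    rw [w, Functor.map_comp, Functor.map_comp, Functor.map_comp, Category.assoc]
    exact (isPullback_yon sqQ).paste_vert ((by rw [w₂, Functor.map_comp] at sqVW; exact sqVW) :
      IsPullback ((yon S).map t₁) ((yon S).map t₂ ≫ (yon S).map r₂) ((yon S).map n ≫ c) (c₀ ≫ g))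
  have sqXZ : IsPullback pX (f' ≫ h') (f ≫ h) g := sqX.paste_vert sqY
  let b' := sqY.lift ((yon S).map t₁ ≫ b) ((yon S).map (t₂ ≫ r₂) ≫ c₀)
    (by rw [Category.assoc, Category.assoc]; exact sqVW.w)
  let a' := sqXZ.lift ((yon S).map u₁ ≫ a) ((yon S).map (u₂ ≫ t₂ ≫ r₂) ≫ c₀)
    (by rw [Category.assoc, Category.assoc]; exact sqUW.w)
  have hb' : RepWith @Etale b' := repWith_lift sqY sqVW hb hc₀
  have ha' : RepWith @Etale a' := repWith_lift sqXZ sqUW ha hc₀
  have has' : RepWith @Surjective a' := repWith_lift sqXZ sqUW has hc₀s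
  have hd : a' ≫ f' = (yon S).map u₂ ≫ b' := by
    refine sqY.hom_ext ?_ ?_
    · rw [Category.assoc, ← sqX.w, sqXZ.lift_fst_assoc, Category.assoc, Category.assoc, sqY.lift_fst,
        ← Functor.map_comp_assoc, ← sqQ.w, Functor.map_comp_assoc, w₁]
    · rw [Category.assoc, sqXZ.lift_snd, Category.assoc, sqY.lift_snd, Functor.map_comp, Category.assoc]
  ext x'
  obtain ⟨z, rfl⟩ := surjective_ofPt has' x'
  have hpt : Points.map pX (Points.ofPt a' z) = Points.ofPt a (u₁.left z) := by
    rw [Points.map_ofPt, sqXZ.lift_fst, ofPt_yon_map_comp]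
  rw [Set.mem_preimage, Set.mem_ofPred_eq, Set.mem_ofPred_eq, hpt, chart,
    ← flat_stalkMap_iff k.left n.left r₁.left t₁.left t₂.left (sqT.map (Over.forget S)) u₁.left u₂.left
      (sqQ.map (Over.forget S)) z]
  exact ⟨fun hz ↦ hz a' b' u₂ z ha' hb' hd rfl,
    AlgSpThick.FlatAt.isFlatAtMor_of_chart hX'.diag hY'.diag ha' hb' hd z⟩

end Groth.Agent.Lib.Flat55.FlatLocusBC
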