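import Groth.Agent.S1585
import Groth.Agent.S5949
import Groth.Agent.Lib.Cyc.SmoothReg
import Groth.Agent.Lib.Regular.UFD
import Groth.Agent.H75.RedSub
import Groth.Agent.Lib.TorsorSch.Ext
import Groth.Prelude.Def_Curv2
import Mathlib.AlgebraicGeometry.Morphisms.UniversallyOpen
import Mathlib.AlgebraicGeometry.Morphisms.ClosedImmersion

/-!
# Smooth normalizations of curves commute with extensions of the ground field
-/

set_option autoImplicit false

universe u

open CategoryTheory CategoryTheory.Limits AlgebraicGeometry TopologicalSpace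
open Groth.Agent.Lib

namespace Groth.Agent.Lib.Flat55.CurveNormalizationBC

theorem isNormalScheme_of_smooth {P : Scheme.{u}} {k : Type u} [Field k]
    (f : P ⟶ Spec (CommRingCat.of k)) [Smooth f] : Pi1.IsNormalScheme P := fun x => by
  have := Cyc.SmoothReg.isRegularLocalRing_stalk f x
  exact ⟨Regular.Quotient.isDomain _, Regular.UFD.isIntegrallyClosed _⟩

theorem isReduced_of_smooth {P : Scheme.{u}} {k : Type u} [Field k]
    (f : P ⟶ Spec (CommRingCat.of k)) [Smooth f] : AlgebraicGeometry.IsReduced P := by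
  have : ∀ x : P, _root_.IsReduced (P.presheaf.stalk x) := fun x => by
    have := (isNormalScheme_of_smooth f x).1
    infer_instance
  exact isReduced_of_isReduced_stalk P

variable {X Y S S' : Scheme.{u}} (f : X ⟶ S) (g : S' ⟶ S) (ν : Y ⟶ X)

/-- The base change of `ν`. -/
noncomputable abbrev bcMap : pullback (ν ≫ f) g ⟶ pullback f g :=
  pullback.map (ν ≫ f) g f g ν (𝟙 _) (𝟙 _) (Category.comp_id _) ((Category.comp_id _).trans (Category.id_comp _).symm)

theorem isPullback_bcMap : IsPullback (pullback.fst (ν ≫ f) g) (bcMap f g ν) ν (pullback.fst f g) := by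
  refine (IsPullback.of_right ?_ (pullback.lift_fst _ _ _) (IsPullback.of_hasPullback f g).flip).flip
  rw [pullback.lift_snd, Category.comp_id]
  exact (IsPullback.of_hasPullback (ν ≫ f) g).flip

theorem isIso_restrict (U : X.Opens) [IsIso (ν ∣_ U)] :
    IsIso (bcMap f g ν ∣_ (pullback.fst f g ⁻¹ᵁ U)) := by
  have h1 := (isPullback_morphismRestrict (bcMap f g ν) (pullback.fst f g ⁻¹ᵁ U)).flip.paste_horiz
    (isPullback_bcMap f g ν)
  rw [← morphismRestrict_ι (pullback.fst f g) U] at h1
  have h2 := IsPullback.of_right' h1 (isPullback_morphismRestrict ν U).flip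
  exact h2.isIso_snd_of_isIso

variable [IsIntegral X] [QuasiCompact (X.fromSpecStalk (genericPoint X))]
  [QuasiSeparated (X.fromSpecStalk (genericPoint X))]

/-- The base change of a smooth normalization is the normalization of the reduced base change. -/
theorem exists_iso (K Ω : Type u) [Field K] [Field Ω] [Algebra K Ω]
    (f : X ⟶ Spec (CommRingCat.of K)) [LocallyOfFiniteType f]
    [Smooth (Curv2.normalizationι X ≫ f)]
    [IsIntegral (pullback f (Spec.map (CommRingCat.ofHom (algebraMap K Ω)))).nilradical.subscheme]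
    [QuasiCompact ((pullback f (Spec.map (CommRingCat.ofHom (algebraMap K Ω)))).nilradical.subscheme.fromSpecStalk
      (genericPoint (pullback f (Spec.map (CommRingCat.ofHom (algebraMap K Ω)))).nilradical.subscheme))]
    [QuasiSeparated ((pullback f (Spec.map (CommRingCat.ofHom (algebraMap K Ω)))).nilradical.subscheme.fromSpecStalk
      (genericPoint (pullback f (Spec.map (CommRingCat.ofHom (algebraMap K Ω)))).nilradical.subscheme))] :
    ∃ e : pullback (Curv2.normalizationι X ≫ f) (Spec.map (CommRingCat.ofHom (algebraMap K Ω))) ≅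
        Curv2.normalization (pullback f (Spec.map (CommRingCat.ofHom (algebraMap K Ω)))).nilradical.subscheme,
      e.hom ≫ Curv2.normalizationι _ ≫ (pullback f (Spec.map (CommRingCat.ofHom (algebraMap K Ω)))).nilradical.subschemeι =
        bcMap f (Spec.map (CommRingCat.ofHom (algebraMap K Ω))) (Curv2.normalizationι X) := by
  let g := Spec.map (CommRingCat.ofHom (algebraMap K Ω))
  let ν := Curv2.normalizationι X
  let P := pullback (ν ≫ f) g
  let Q := pullback f g
  let q := bcMap f g ν
  let ι := Q.nilradical.subschemeι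
  let Z := Q.nilradical.subscheme
  let : X.Over (Spec (CommRingCat.of K)) := ⟨f⟩
  have : LocallyOfFiniteType (X ↘ Spec (CommRingCat.of K)) := ‹LocallyOfFiniteType f›
  obtain ⟨hfin, -, ⟨U, hU, hUiso⟩, hYint, -⟩ := Groth.Agent.S1585.result K X
  have : IsFinite ν := hfin
  have : IsFinite q := MorphismProperty.of_isPullback (isPullback_bcMap f g ν) ‹_›
  have hsm : Smooth (pullback.snd (ν ≫ f) g) := MorphismProperty.pullback_snd _ _ ‹_›
  have : AlgebraicGeometry.IsReduced P := isReduced_of_smooth (pullback.snd (ν ≫ f) g)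
  have hιsurj : Function.Surjective ι := Set.range_eq_univ.1 (by
    rw [Scheme.IdealSheafData.range_subschemeι, Scheme.support_nilradical]; rfl)
  obtain ⟨r, hr⟩ := H75.RedKer.exists_lift q ι (fun y _ => hιsurj y)
  have hrint : IsIntegralHom r := by
    have : IsIntegralHom (r ≫ ι) := by rw [hr]; infer_instance
    exact IsIntegralHom.of_comp r ι
  let V := pullback.fst f g ⁻¹ᵁ U
  have hqV : IsIso (q ∣_ V) := isIso_restrict f g ν U
  have hVred : AlgebraicGeometry.IsReduced V.toScheme :=
    isReduced_of_isOpenImmersion (inv (q ∣_ V))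
  have hιV : IsIso (ι ∣_ V) := by
    have : IsClosedImmersion (ι ∣_ V) := IsZariskiLocalAtTarget.restrict (P := @IsClosedImmersion) (inferInstance : IsClosedImmersion ι) V
    have : Surjective (ι ∣_ V) := ⟨fun y => by
      obtain ⟨z, hz⟩ := hιsurj y.1
      exact ⟨⟨z, show ι z ∈ V by rw [hz]; exact y.2⟩, Subtype.ext (by simpa using hz)⟩⟩
    exact isIso_of_isClosedImmersion_of_surjective _
  let W := ι ⁻¹ᵁ V
  have hrW : IsIso (r ∣_ W) := by
    have h : IsIso ((r ≫ ι) ∣_ V) := by rw [hr]; exact hqV
    rw [morphismRestrict_comp] at h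
    exact @IsIso.of_isIso_comp_right _ _ _ _ _ (r ∣_ W) (ι ∣_ V) hιV h
  have hWne : (W : Set Z).Nonempty := by
    obtain ⟨x, hx⟩ := hU
    have : Surjective g := ⟨fun y => ⟨(⊥ : PrimeSpectrum Ω),
      (inferInstance : Subsingleton (PrimeSpectrum K)).elim _ _⟩⟩
    have : Surjective (pullback.fst f g) := MorphismProperty.pullback_fst _ _ ‹_›
    obtain ⟨y, rfl⟩ := (pullback.fst f g).surjective x
    obtain ⟨z, rfl⟩ := hιsurj y
    exact ⟨z, hx⟩
  have : Nonempty W := hWne.to_subtype
  have hηW : genericPoint Z ∈ W := (genericPoint_spec Z).mem_open_set_iff W.2 |>.2 (by simpa using hWne)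
  let O := r ⁻¹ᵁ W
  let φ := r ∣_ W
  have hφhom : IsHomeomorph φ := φ.homeomorph.isHomeomorph
  have hOirr : IrreducibleSpace O.toScheme :=
    { toPreirreducibleSpace := hφhom.homeomorph.symm.surjective.preirreducibleSpace hφhom.homeomorph.symm.continuous
      toNonempty := hφhom.homeomorph.symm.toEquiv.nonempty_congr.1 inferInstance }
  have hOdense : Dense (O : Set P) := by
    have : IsIntegral (Curv2.normalization X) := hYint
    have : Flat g := inferInstance
    have hgm : GeneralizingMap (pullback.fst (ν ≫ f) g) := Flat.generalizingMap _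
    rw [dense_iff_inter_open]
    rintro G hG ⟨x, hx⟩
    obtain ⟨x', hx', hx'η⟩ := hgm ((genericPoint_spec (Curv2.normalization X)).specializes
      (y := pullback.fst (ν ≫ f) g x) trivial)
    refine ⟨x', hx'.mem_open hG hx, ?_⟩
    show r x' ∈ W
    show ι (r x') ∈ V
    rw [← Scheme.Hom.comp_apply, hr]
    show pullback.fst f g (q x') ∈ U
    rw [← Scheme.Hom.comp_apply, pullback.lift_fst, Scheme.Hom.comp_apply, hx'η]
    obtain ⟨y, hy⟩ : ((ν ⁻¹ᵁ U : (Curv2.normalization X).Opens) : Set (Curv2.normalization X)).Nonempty := by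
      obtain ⟨x, hx⟩ := hU
      exact ⟨((inv (ν ∣_ U)) ⟨x, hx⟩).1, ((inv (ν ∣_ U)) ⟨x, hx⟩).2⟩
    exact ((genericPoint_spec (Curv2.normalization X)).specializes trivial).mem_open (ν ⁻¹ᵁ U).2 hy
  have hPirr : IrreducibleSpace P := by
    rw [irreducibleSpace_def]
    show IsIrreducible (Set.univ : Set P)
    rw [← hOdense.closure_eq]
    refine IsIrreducible.closure ?_
    have h := (IrreducibleSpace.isIrreducible_univ O.toScheme).image O.ι O.ι.continuous.continuousOn
    rwa [Set.image_univ, Scheme.Opens.range_ι] at h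
  have : IsIntegral P := isIntegral_of_irreducibleSpace_of_isReduced P
  have hηO : genericPoint P ∈ O := by
    obtain ⟨⟨y, hy⟩⟩ := hOirr.toNonempty
    exact ((genericPoint_spec P).specializes trivial).mem_open O.2 hy
  have hrη : r (genericPoint P) = genericPoint Z := by
    obtain ⟨y, hy⟩ := φ.homeomorph.surjective ⟨genericPoint Z, hηW⟩
    have hy' : r y.1 = genericPoint Z :=
      (morphismRestrict_base_coe r W y).symm.trans (congrArg Subtype.val hy)
    have h1 : r (genericPoint P) ⤳ genericPoint Z :=
      hy' ▸ ((genericPoint_spec P).specializes (y := y.1) trivial).map r.continuous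
    exact (h1.antisymm ((genericPoint_spec Z).specializes trivial)).eq
  have hfib : r.base ⁻¹' {genericPoint Z} = {genericPoint P} := by
    refine Set.eq_singleton_iff_unique_mem.2 ⟨hrη, fun y hy => ?_⟩
    have hyO : y ∈ O := show r y ∈ W from (hy : r y = _) ▸ hηW
    exact congrArg Subtype.val (φ.homeomorph.injective (a₁ := ⟨y, hyO⟩) (a₂ := ⟨_, hηO⟩)
      (Subtype.ext (by simpa [φ] using (hy : r y = _).trans hrη.symm)))
  have hiso : IsIso (r.stalkMap (genericPoint P)) :=
    (MorphismProperty.arrow_mk_iso_iff (.isomorphisms CommRingCat)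
      (morphismRestrictStalkMap r W ⟨genericPoint P, hηO⟩)).1 (inferInstanceAs (IsIso _))
  obtain ⟨e, he⟩ := (Groth.Agent.S5949.result Z r).2
    ⟨isNormalScheme_of_smooth (pullback.snd (ν ≫ f) g), hrint, hPirr, hfib, hiso⟩
  exact ⟨e, by rw [← Category.assoc, he, hr]⟩

end Groth.Agent.Lib.Flat55.CurveNormalizationBC
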