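import Groth.Agent.Lib.NormalTensor.Basic
import Groth.Agent.Lib.NormalTensor.Field
import Groth.Agent.Lib.Excellent.NormalRing
import Groth.Prelude.Def_EGA4b
import Mathlib.RingTheory.Localization.BaseChange
import Mathlib.RingTheory.Flat.FaithfullyFlat.Basic
import Mathlib.LinearAlgebra.TensorProduct.Pi

/-!
# Normality of a flat base change of an intersection of normal domains
-/

set_option autoImplicit false

universe u

open TensorProduct Polynomial
open Groth.Agent.Lib

namespace Groth.Agent.Lib.Flat55.RegularAlterationAlg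

/-- Divisibility can be tested after a flat base change in a family detecting it before. -/
theorem dvd_of_forall_tensor {B R : Type u} [CommRing B] [CommRing R] [Algebra B R] [Module.Flat B R]
    {ι : Type u} [Finite ι] (D : ι → Type u) [∀ i, CommRing (D i)] [∀ i, Algebra B (D i)] (t : B)
    (hker : ∀ b : B, (∀ i, algebraMap B (D i) t ∣ algebraMap B (D i) b) → t ∣ b)
    (r : R) (h : ∀ i, (algebraMap B (D i) t ⊗ₜ[B] (1 : R)) ∣ ((1 : D i) ⊗ₜ[B] r)) :
    algebraMap B R t ∣ r := by
  classical
  have := Fintype.ofFinite ι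
  let Q : ι → Type u := fun i => D i ⧸ Ideal.span {algebraMap B (D i) t}
  let ψ : B →ₗ[B] (∀ i, Q i) := LinearMap.pi fun i => Algebra.linearMap B (Q i)
  have hex : Function.Exact (LinearMap.lsmul B B t) ψ := by
    intro b
    constructor
    · intro hb
      obtain ⟨c, rfl⟩ := hker b fun i => by
        have := congrFun hb i
        rw [← Ideal.mem_span_singleton, ← Ideal.Quotient.eq_zero_iff_mem]
        exact this
      exact ⟨c, rfl⟩
    · rintro ⟨c, rfl⟩
      ext i
      show Ideal.Quotient.mk _ (algebraMap B (D i) (t * c)) = 0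
      rw [Ideal.Quotient.eq_zero_iff_mem, map_mul, Ideal.mem_span_singleton]
      exact dvd_mul_right _ _
  have hex' := Module.Flat.lTensor_exact R hex
  have h0 : ψ.lTensor R (r ⊗ₜ[B] (1 : B)) = 0 := by
    apply (TensorProduct.piRight B B R Q).injective
    rw [map_zero]
    ext i
    show r ⊗ₜ[B] ψ 1 i = 0
    obtain ⟨e, he⟩ := h i
    let g : D i ⊗[B] R →ₗ[B] R ⊗[B] Q i :=
      (TensorProduct.comm B (Q i) R).toLinearMap ∘ₗ
        ((Ideal.Quotient.mkₐ B (Ideal.span {algebraMap B (D i) t})).toLinearMap.rTensor R)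
    have hg : ∀ e, g ((algebraMap B (D i) t ⊗ₜ[B] (1 : R)) * e) = 0 := by
      intro e
      induction e using TensorProduct.induction_on with
      | zero => rw [mul_zero, map_zero]
      | add a b ha hb => rw [mul_add, map_add, ha, hb, add_zero]
      | tmul d s =>
        rw [Algebra.TensorProduct.tmul_mul_tmul, one_mul]
        show s ⊗ₜ[B] Ideal.Quotient.mk _ (algebraMap B (D i) t * d) = 0
        rw [Ideal.Quotient.eq_zero_iff_mem.2 (Ideal.mem_span_singleton.2 (dvd_mul_right _ _)),
          TensorProduct.tmul_zero]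
    have := congrArg g he
    rw [hg] at this
    rw [show ψ 1 i = (1 : Q i) from map_one (algebraMap B (Q i))]
    simpa [g] using this
  obtain ⟨w, hw⟩ := (hex' _).1 h0
  refine ⟨TensorProduct.rid B R w, ?_⟩
  have key : ∀ w, TensorProduct.rid B R ((LinearMap.lsmul B B t).lTensor R w) =
      algebraMap B R t * TensorProduct.rid B R w := fun w => by
    induction w using TensorProduct.induction_on with
    | zero => simp
    | add a b ha hb => rw [map_add, map_add, map_add, mul_add, ha, hb]
    | tmul a b => simp [Algebra.smul_def, mul_assoc]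
  rw [← key w, hw]
  simp

/-- A flat base change of a domain which is cut out in a field extension of its fraction field by domains
with normal base changes is normal. -/
theorem isNormalRing_of_family {B R : Type u} [CommRing B] [IsDomain B] [CommRing R] [Algebra B R]
    [Module.Flat B R] [IsNoetherianRing R] (K : Type u) [Field K] [Algebra B K] [IsFractionRing B K]
    (L : Type u) [Field L] [Algebra B L] [Algebra K L] [IsScalarTower B K L]
    {ι : Type u} [Finite ι] [Nonempty ι] (D : ι → Type u) [∀ i, CommRing (D i)] [∀ i, IsDomain (D i)]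
    [∀ i, Algebra B (D i)] [∀ i, Algebra (D i) L] [∀ i, IsScalarTower B (D i) L]
    [∀ i, IsFractionRing (D i) L] (hnormal : ∀ i, EGA4.IsNormalRing (D i ⊗[B] R))
    (hker : ∀ t b : B, t ≠ 0 → (∀ i, algebraMap B (D i) t ∣ algebraMap B (D i) b) → t ∣ b) :
    EGA4.IsNormalRing R := by
  classical
  let M : Submonoid R := Algebra.algebraMapSubmonoid R (nonZeroDivisors B)
  let T := R ⊗[B] K
  have hloc : IsLocalization M T := inferInstance
  have hM : M ≤ nonZeroDivisors R := by
    rintro _ ⟨t, ht, rfl⟩
    have hreg : IsSMulRegular R t :=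
      Module.Flat.isSMulRegular_of_isRegular (IsRegular.of_ne_zero (nonZeroDivisors.ne_zero ht))
    refine mem_nonZeroDivisors_iff_right.2 fun x hx => hreg ?_
    simp only [smul_zero]
    rw [Algebra.smul_def, mul_comm, hx]
  have : IsNoetherianRing T := IsLocalization.isNoetherianRing M T inferInstance
  have hinj : ∀ i, Function.Injective (algebraMap B (D i)) := fun i a b hab =>
    IsFractionRing.injective B K ((algebraMap K L).injective (by
      rw [← IsScalarTower.algebraMap_apply, ← IsScalarTower.algebraMap_apply,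
        IsScalarTower.algebraMap_apply B (D i) L, hab, ← IsScalarTower.algebraMap_apply]))
  obtain ⟨i₀⟩ := (inferInstance : Nonempty ι)
  have hT : EGA4.IsNormalRing T := by
    let C := D i₀ ⊗[B] R
    have h1 : EGA4.IsNormalRing (C ⊗[D i₀] L) :=
      Excellent.NormalRing.isNormalRing_of_isLocalization (Algebra.algebraMapSubmonoid C (nonZeroDivisors (D i₀)))
        (hnormal i₀)
    have h2 : EGA4.IsNormalRing (L ⊗[B] R) :=
      NormalTensor.Basic.isNormalRing_congr ((Algebra.TensorProduct.comm (D i₀) C L).toRingEquiv.trans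
        (Algebra.TensorProduct.cancelBaseChange B (D i₀) (D i₀) L R).toRingEquiv) h1
    have h3 : EGA4.IsNormalRing ((K ⊗[B] R) ⊗[K] L) :=
      NormalTensor.Basic.isNormalRing_congr ((Algebra.TensorProduct.cancelBaseChange B K K L R).toRingEquiv.symm.trans
        (Algebra.TensorProduct.comm K L (K ⊗[B] R)).toRingEquiv) h2
    exact NormalTensor.Basic.isNormalRing_congr (Algebra.TensorProduct.comm B K R).toRingEquiv
      (NormalTensor.Field.isNormalRing_of_faithfullyFlat (S := (K ⊗[B] R) ⊗[K] L) h3)
  refine NormalTensor.Basic.isNormalRing_of_isIntegrallyClosedIn (algebraMap R T) (IsLocalization.injective T hM)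
    (fun z hz => ?_) fun s => ⟨T, inferInstance, RingHom.id T, inferInstance, hT, fun _ _ h => h, fun _ _ => ⟨_, rfl⟩⟩
  obtain ⟨a, ⟨_, t, ht, rfl⟩, rfl⟩ := IsLocalization.exists_mk'_eq M z
  obtain ⟨p, hp, hpz⟩ := hz
  have h : (p.scaleRoots (algebraMap B R t)).eval a = 0 := by
    apply IsLocalization.injective T hM
    rw [map_zero, ← Polynomial.eval₂_at_apply, ← IsLocalization.mk'_spec' T a ⟨algebraMap B R t, Algebra.mem_algebraMapSubmonoid_of_mem ⟨t, ht⟩⟩,
      scaleRoots_eval₂_mul, hpz, mul_zero]
  obtain ⟨c, hc⟩ : algebraMap B R t ∣ a := by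
    refine dvd_of_forall_tensor D t (hker t · (nonZeroDivisors.ne_zero ht)) a fun i => ?_
    let φ : R →+* D i ⊗[B] R := (Algebra.TensorProduct.includeRight (R := B) (A := D i) (B := R)).toRingHom
    have ht' : φ (algebraMap B R t) = algebraMap B (D i) t ⊗ₜ[B] (1 : R) :=
      (Algebra.TensorProduct.includeRight (R := B) (A := D i) (B := R)).commutes t
    rcases subsingleton_or_nontrivial (D i ⊗[B] R) with hs | hn
    · exact ⟨0, Subsingleton.elim _ _⟩
    rw [show (1 : D i) ⊗ₜ[B] a = φ a from rfl]
    refine NormalTensor.Basic.dvd_of_eval_scaleRoots (hnormal i) ?_ (hp.map φ) ?_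
    · have hreg : IsSMulRegular (D i ⊗[B] R) (algebraMap B (D i) t) :=
        Module.Flat.isSMulRegular_of_isRegular
          (IsRegular.of_ne_zero ((map_ne_zero_iff _ (hinj i)).2 (nonZeroDivisors.ne_zero ht)))
      refine mem_nonZeroDivisors_iff_right.2 fun x hx => hreg ?_
      simp only [smul_zero]
      rw [Algebra.smul_def, mul_comm]
      exact hx
    · rw [← ht', ← Polynomial.map_scaleRoots _ _ _ (by rw [hp.leadingCoeff, map_one]; exact one_ne_zero),
        Polynomial.eval_map, Polynomial.eval₂_at_apply, h, map_zero]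
  refine ⟨c, ?_⟩
  rw [IsLocalization.eq_mk'_iff_mul_eq, ← map_mul, hc, mul_comm]

end Groth.Agent.Lib.Flat55.RegularAlterationAlg
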