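import Groth.Agent.Lib.Flat55.AnalyticFiniteNormalization
import Groth.Agent.Lib.Flat55.RegularAlterationAlg
import Groth.Agent.Lib.Cyc.PP.Push
import Groth.Agent.Lib.TensorMod.QCohInv
import Groth.Agent.Lib.CohBasics.Closure
import Groth.Agent.Lib.Regular.Serre
import Groth.Agent.Lib.Regular.UFD
import Groth.Agent.Lib.Homog.Transitive
import Groth.Prelude.Def_EGA4b
import Mathlib.RingTheory.Flat.Stability

/-!
# Alterations by normal and by regular schemes
-/

set_option autoImplicit false

universe u

open CategoryTheory CategoryTheory.Limits AlgebraicGeometry TopologicalSpace TensorProduct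
open IsLocalRing Groth.Agent.Lib Groth.Agent.Lib.Flat55.CompletionFibreRegular
open Groth.Agent.Lib.Flat55.AnalyticFiniteNormalization

namespace Groth.Agent.Lib.Flat55.RegularAlteration

variable {A : Type u} [CommRing A] {X : Scheme.{u}}

/-- The structure map followed by restriction. -/
theorem sec_res (f : X ⟶ Spec (CommRingCat.of A)) {U V : X.Opens} (h : V ≤ U) (a : A) :
    X.presheaf.map (homOfLE h).op (sec f U a) = sec f V a := by
  show X.presheaf.map (homOfLE h).op (f.appLE ⊤ U _ _) = f.appLE ⊤ V _ _
  rw [← ConcreteCategory.comp_apply, Scheme.Hom.appLE_map]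

/-- Global sections of a proper scheme over a Noetherian ring are finite. -/
theorem finite_sec_top [IsNoetherianRing A] [IsLocallyNoetherian X] (f : X ⟶ Spec (CommRingCat.of A))
    [IsProper f] : (sec f ⊤).hom.Finite := by
  have : (Coh.structureModule X).IsQuasicoherent := TensorMod.QCohInv.isQCoh_structureModule X
  have hO : Coh.IsCoh (Coh.structureModule X) :=
    CohBasics.Closure.isCoh_of_finite_sections fun U _ => (inferInstance : Module.Finite Γ(X, U) Γ(X, U))
  have h := Cyc.PP.Push.finite_sections f hO (isAffineOpen_top (Spec (CommRingCat.of A)))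
  have h' : (f.app ⊤).hom.Finite := by
    let := (f.app ⊤).hom.toAlgebra
    exact Module.Finite.equiv (R := Γ(Spec (CommRingCat.of A), ⊤))
      (M := Γ((Coh.push f).obj (Coh.structureModule X), ⊤))
      ({ toFun := id, invFun := id, map_add' := fun _ _ => rfl, map_smul' := fun _ _ => rfl,
         left_inv := fun _ => rfl, right_inv := fun _ => rfl } :
        Γ((Coh.push f).obj (Coh.structureModule X), ⊤) ≃ₗ[Γ(Spec (CommRingCat.of A), ⊤)] Γ(X, f ⁻¹ᵁ ⊤))
  have : f.appLE ⊤ ⊤ (fun _ _ => trivial) = f.app ⊤ := Scheme.Hom.appLE_eq_app ..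
  show (f.appLE ⊤ ⊤ _).hom.comp (Scheme.ΓSpecIso (CommRingCat.of A)).inv.hom |>.Finite
  rw [this]
  exact h'.comp (RingHom.Finite.of_surjective _
    (Scheme.ΓSpecIso (CommRingCat.of A)).symm.commRingCatIsoToRingEquiv.surjective)

/-- A rational function lying in all local rings is a global section. -/
theorem exists_global [IsIntegral X] (b : X.functionField)
    (h : ∀ y : X, b ∈ (algebraMap (X.presheaf.stalk y) X.functionField).range) :
    ∃ s : Γ(X, ⊤), X.presheaf.germ ⊤ (genericPoint X) trivial s = b := by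
  choose t ht using h
  choose U hyU sU hsU using fun y => X.presheaf.exists_germ_eq (t y)
  have hη : ∀ y, genericPoint X ∈ U y := fun y => (genericPoint_specializes y).mem_open (U y).2 (hyU y)
  have hb : ∀ y, X.presheaf.germ (U y) (genericPoint X) (hη y) (sU y) = b := fun y => by
    rw [← ht y, ← hsU y]
    exact (congrArg (fun φ => φ.hom (sU y)) (X.presheaf.germ_stalkSpecializes (hyU y)
      (genericPoint_specializes y))).symm
  have hcov : ⊤ ≤ iSup U := fun y _ => Opens.mem_iSup.2 ⟨y, hyU y⟩
  have hcompat : X.presheaf.IsCompatible U sU := fun i j => by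
    have hij : genericPoint X ∈ U i ⊓ U j := ⟨hη i, hη j⟩
    apply germ_injective_of_isIntegral X (U := U i ⊓ U j) (genericPoint X) hij
    exact (X.presheaf.germ_res_apply _ _ hij _).trans ((hb i).trans
      ((hb j).symm.trans (X.presheaf.germ_res_apply _ _ hij _).symm))
  obtain ⟨s, hs, -⟩ := X.sheaf.existsUnique_gluing' U ⊤ (fun y => homOfLE le_top) hcov sU hcompat
  obtain ⟨y⟩ : Nonempty X := inferInstance
  refine ⟨s, ?_⟩
  rw [← hb y, ← hs y]
  exact (X.presheaf.germ_res_apply (homOfLE le_top) (genericPoint X) (hη y) s).symm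

/-- The germ of a scalar is a unit exactly off its zero set. -/
theorem isUnit_germ_sec (f : X ⟶ Spec (CommRingCat.of A)) {U : X.Opens} (x : X) (hx : x ∈ U) (a : A) :
    IsUnit (X.presheaf.germ U x hx (sec f U a)) ↔ a ∉ (f x : PrimeSpectrum A).asIdeal := by
  rw [← Scheme.mem_basicOpen X (sec f U a) x hx]
  show x ∈ X.basicOpen (f.appLE ⊤ U _ ((Scheme.ΓSpecIso (CommRingCat.of A)).inv a)) ↔ _
  rw [Scheme.Hom.appLE, CommRingCat.comp_apply, Scheme.basicOpen_res, ← Scheme.preimage_basicOpen,
    basicOpen_eq_of_affine', Iso.inv_hom_id_apply]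
  exact ⟨fun h => h.2, fun h => ⟨hx, h⟩⟩

/-- The base ring of a dominant morphism embeds in the function field. -/
theorem germ_sec_injective [IsDomain A] [IsIntegral X] (f : X ⟶ Spec (CommRingCat.of A)) [IsDominant f] :
    Function.Injective ((X.presheaf.germ ⊤ (genericPoint X) trivial).hom.comp (sec f ⊤).hom) := by
  rw [injective_iff_map_eq_zero]
  intro a ha
  by_contra ha0
  let D : (Spec (CommRingCat.of A)).Opens := PrimeSpectrum.basicOpen a
  have hDne : (D : Set (Spec (CommRingCat.of A))).Nonempty :=
    ⟨⟨⊥, Ideal.isPrime_bot⟩, fun h => ha0 (by simpa using h)⟩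
  obtain ⟨x, hx⟩ := f.denseRange.exists_mem_open D.2 hDne
  have hη : f (genericPoint X) ∈ D := ((genericPoint_specializes x).map f.continuous).mem_open D.2 hx
  have := (isUnit_germ_sec f (U := ⊤) (genericPoint X) trivial a).2 hη
  rw [show X.presheaf.germ ⊤ (genericPoint X) trivial (sec f ⊤ a) = 0 from ha] at this
  exact not_isUnit_zero this

/-- Elements of the function field integral over the base are global sections when the local rings are
integrally closed. -/
theorem exists_global_of_isIntegral [IsIntegral X] (f : X ⟶ Spec (CommRingCat.of A))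
    (hn : ∀ x : X, IsIntegrallyClosed (X.presheaf.stalk x)) (b : X.functionField)
    (hb : ((X.presheaf.germ ⊤ (genericPoint X) trivial).hom.comp (sec f ⊤).hom).IsIntegralElem b) :
    ∃ s : Γ(X, ⊤), X.presheaf.germ ⊤ (genericPoint X) trivial s = b := by
  refine exists_global b fun y => ?_
  let := ((X.presheaf.germ ⊤ (genericPoint X) trivial).hom.comp (sec f ⊤).hom).toAlgebra
  let := ((X.presheaf.germ ⊤ y trivial).hom.comp (sec f ⊤).hom).toAlgebra
  have : IsScalarTower A (X.presheaf.stalk y) X.functionField := .of_algebraMap_eq fun r =>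
    (congrArg (fun φ => φ.hom (sec f ⊤ r)) (X.presheaf.germ_stalkSpecializes (U := ⊤) trivial
      (genericPoint_specializes y))).symm
  have hint : IsIntegral (X.presheaf.stalk y) b := IsIntegral.tower_top (show IsIntegral A b from hb)
  have := hn y
  exact IsIntegrallyClosed.isIntegral_iff.1 hint

/-- The integral closure of the base of a proper dominant map from a normal integral scheme is finite. -/
theorem finite_integralClosure [IsDomain A] [IsNoetherianRing A] [IsIntegral X]
    (f : X ⟶ Spec (CommRingCat.of A)) [IsProper f] [IsDominant f]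
    (hn : ∀ x : X, IsIntegrallyClosed (X.presheaf.stalk x))
    (K : Type u) [Field K] [Algebra A K] [IsFractionRing A K] : Module.Finite A (integralClosure A K) := by
  have : IsLocallyNoetherian X := LocallyOfFiniteType.isLocallyNoetherian f
  let := (sec f ⊤).hom.toAlgebra
  have : Module.Finite A Γ(X, ⊤) := finite_sec_top f
  let g : Γ(X, ⊤) →+* X.functionField := (X.presheaf.germ ⊤ (genericPoint X) trivial).hom
  let := (g.comp (sec f ⊤).hom).toAlgebra
  let h : K →ₐ[A] X.functionField := IsFractionRing.liftAlgHom (g := Algebra.ofId A X.functionField)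
    (germ_sec_injective f)
  let gl : Γ(X, ⊤) →ₗ[A] X.functionField :=
    { toFun := g, map_add' := map_add g, map_smul' := fun a x => by
        rw [Algebra.smul_def, Algebra.smul_def, map_mul]; rfl }
  have hfg : (LinearMap.range gl).FG := by
    rw [← Submodule.map_top]; exact Module.Finite.fg_top.map gl
  have : Module.Finite A (LinearMap.range gl) := Module.Finite.iff_fg.2 hfg
  let ψ : integralClosure A K →ₗ[A] LinearMap.range gl :=
    (h.toLinearMap ∘ₗ (integralClosure A K).val.toLinearMap).codRestrict _ fun x =>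
      exists_global_of_isIntegral f hn _ (IsIntegral.map h x.2)
  refine Module.Finite.of_injective ψ fun a b hab => Subtype.ext (h.toRingHom.injective ?_)
  exact congrArg Subtype.val hab

/-- Generalizations of regular points are regular. -/
theorem isRegularLocalRing_of_specializes {Z : Scheme.{u}} {y y' : Z} (h : y ⤳ y')
    (hy' : IsRegularLocalRing (Z.presheaf.stalk y')) : IsRegularLocalRing (Z.presheaf.stalk y) := by
  obtain ⟨U, hU, hy'U, -⟩ := exists_isAffineOpen_mem_and_subset (x := y') (U := ⊤) trivial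
  have hyU : y ∈ U := h.mem_open U.2 hy'U
  let p := hU.primeIdealOf ⟨y, hyU⟩
  let q := hU.primeIdealOf ⟨y', hy'U⟩
  have hpq : p.asIdeal ≤ q.asIdeal := (PrimeSpectrum.le_iff_specializes p q).2
    (hU.fromSpec.isOpenEmbedding.isInducing.specializes_iff.1 (by
      rwa [hU.fromSpec_primeIdealOf, hU.fromSpec_primeIdealOf]))
  let := Z.presheaf.algebra_section_stalk (⟨y, hyU⟩ : U)
  let := Z.presheaf.algebra_section_stalk (⟨y', hy'U⟩ : U)
  have hlp : IsLocalization.AtPrime (Z.presheaf.stalk y) p.asIdeal := hU.isLocalization_stalk ⟨y, hyU⟩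
  have hlq : IsLocalization.AtPrime (Z.presheaf.stalk y') q.asIdeal := hU.isLocalization_stalk ⟨y', hy'U⟩
  let P : Ideal (Z.presheaf.stalk y') := p.asIdeal.map (algebraMap Γ(Z, U) _)
  have hd : Disjoint (q.asIdeal.primeCompl : Set Γ(Z, U)) p.asIdeal :=
    Set.disjoint_left.2 fun a ha hap => ha (hpq hap)
  have : P.IsPrime := IsLocalization.isPrime_of_isPrime_disjoint q.asIdeal.primeCompl _ _ p.2 hd
  have hcomap : P.comap (algebraMap Γ(Z, U) _) = p.asIdeal :=
    IsLocalization.under_map_of_isPrime_disjoint q.asIdeal.primeCompl _ p.2 hd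
  have hP : IsLocalization.AtPrime (Localization.AtPrime P) (P.comap (algebraMap Γ(Z, U) _)) :=
    IsLocalization.isLocalization_isLocalization_atPrime_isLocalization q.asIdeal.primeCompl
      (Localization.AtPrime P) P
  have : IsLocalization p.asIdeal.primeCompl (Localization.AtPrime P) := by
    convert hP using 3
    exact hcomap.symm
  have := Regular.Serre.isRegularLocalRing_localization P
  exact IsRegularLocalRing.of_ringEquiv
    (IsLocalization.algEquiv p.asIdeal.primeCompl (Localization.AtPrime P) (Z.presheaf.stalk y)).toRingEquiv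

/-- Some nonempty open of the target of an alteration by a regular scheme is regular. -/
theorem exists_regular_open {Y : Scheme.{u}} [IsIntegral Y] [IsNoetherian Y] (f : X ⟶ Y) [IsProper f]
    [IsDominant f] (hreg : ∀ x : X, IsRegularLocalRing (X.presheaf.stalk x)) :
    ∃ U : Y.Opens, (U : Set Y).Nonempty ∧ ∀ y ∈ U, IsRegularLocalRing (Y.presheaf.stalk y) := by
  obtain ⟨W, hW, hflat⟩ := Homog.exists_flat_restrict f
  refine ⟨W, hW, fun y hy => ?_⟩
  have hclosed : IsClosed (Set.range f) := f.isClosedMap.isClosed_range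
  obtain ⟨x, rfl⟩ : y ∈ Set.range f := by
    rw [← hclosed.closure_eq, f.denseRange.closure_range]; trivial
  let g := f ∣_ W
  let x' : ↥(f ⁻¹ᵁ W) := ⟨x, hy⟩
  let := (g.stalkMap x').hom.toAlgebra
  have : Module.Flat ((↑W : Scheme.{u}).presheaf.stalk (g x'))
      ((↑(f ⁻¹ᵁ W) : Scheme.{u}).presheaf.stalk x') := Flat.stalkMap g x'
  have : IsLocalHom (algebraMap ((↑W : Scheme.{u}).presheaf.stalk (g x'))
      ((↑(f ⁻¹ᵁ W) : Scheme.{u}).presheaf.stalk x')) := inferInstanceAs (IsLocalHom (g.stalkMap x').hom)
  have : IsRegularLocalRing ((↑(f ⁻¹ᵁ W) : Scheme.{u}).presheaf.stalk x') :=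
    have := hreg x
    IsRegularLocalRing.of_ringEquiv ((f ⁻¹ᵁ W).stalkIso x').symm.commRingCatIsoToRingEquiv
  have h := Regular.Descent.isRegularLocalRing_of_flat (R := (↑W : Scheme.{u}).presheaf.stalk (g x'))
    ((↑(f ⁻¹ᵁ W) : Scheme.{u}).presheaf.stalk x')
  have he : (⟨f x, hy⟩ : W) = g x' := Subtype.ext (by
    show f x = ((f ∣_ W) ≫ W.ι) x'
    rw [morphismRestrict_ι]; rfl)
  rw [← he] at h
  exact IsRegularLocalRing.of_ringEquiv (W.stalkIso ⟨f x, hy⟩).commRingCatIsoToRingEquiv

end Groth.Agent.Lib.Flat55.RegularAlteration
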