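import Groth.Agent.Lib.Flat55.FlatOverAt
import Groth.Agent.Lib.Flat55.FibrewiseStalk
import Groth.Agent.Lib.Flat55.FibreTransfer
import Groth.Agent.H19.FlatLocus.Scheme
import Groth.Prelude.Def_MoreMor
import Groth.Prelude.Def_FlatMod2
import Mathlib.RingTheory.Flat.Stability
import Mathlib.LinearAlgebra.TensorProduct.Quotient

/-!
# Relative flatness of a module, read on the fibres, and base change of the flat locus
-/

set_option autoImplicit false

universe u

open CategoryTheory CategoryTheory.Limits AlgebraicGeometry TensorProduct IsLocalRing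

namespace Groth.Agent.Lib.Flat55.FlatOverFibre

variable {X Y S : Scheme.{u}}

set_option backward.isDefEq.respectTransparency false in
set_option maxHeartbeats 1000000 in
open Groth.Agent.Lib.DerivedOX.PullbackStalk Groth.Agent.Lib.Modules in
/-- If the restriction of `M` to the fibres is flat over the fibre of `Y`, then `M / mM` is flat
over the local ring of the fibre. -/
theorem fibre_flat_quotient (f : X ⟶ Y) (g : Y ⟶ S) (M : X.Modules) (s : S) (a : (f ≫ g).fiber s) (x : X)
    (hx : (f ≫ g).fiberι s a = x)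
    (h : FlatMod.IsFlatOverAt (MoreMor.fiberMap f g s)
      ((Scheme.Modules.pullback ((f ≫ g).fiberι s)).obj M) a) :
    letI := FlatMod.moduleStalkOver f M x
    Module.Flat (↑(Y.presheaf.stalk (f x)) ⧸ Ideal.map (g.stalkMap (f x)).hom (maximalIdeal ↑(S.presheaf.stalk (g (f x)))))
      (↑(M.presheaf.stalk x) ⧸ (Ideal.map (g.stalkMap (f x)).hom (maximalIdeal ↑(S.presheaf.stalk (g (f x)))) •
        (⊤ : Submodule ↑(Y.presheaf.stalk (f x)) ↑(M.presheaf.stalk x)))) := by
  subst hx
  set i := (f ≫ g).fiberι s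
  set fm := MoreMor.fiberMap f g s
  have hb : g.fiberι s (fm a) = f (i a) := by
    rw [← Scheme.Hom.comp_apply, FibrewiseStalk.fiberMap_fiberι, Scheme.Hom.comp_apply]
  obtain ⟨hk₁, hs₁⟩ := FibrewiseStalk.ker_stalkMap_fiberι' g s (fm a) (f (i a)) hb
  have hk₂ := H46.FiberStalk.ker_stalkMap_fiberι (f ≫ g) s a
  have hs₂ := i.stalkMap_surjective a
  let A := X.presheaf.stalk (i a)
  let B := Y.presheaf.stalk (f (i a))
  let TX := ((f ≫ g).fiber s).presheaf.stalk a
  let TY := (g.fiber s).presheaf.stalk (fm a)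
  set q₁ : B →+* TY := ((Y.presheaf.stalkCongr (.of_eq hb.symm)).hom ≫ (g.fiberι s).stalkMap (fm a)).hom
  set q₂ : A →+* TX := (i.stalkMap a).hom
  have hsq : (fm.stalkMap a).hom.comp q₁ = q₂.comp (f.stalkMap (i a)).hom := by
    have h := Scheme.Hom.stalkMap_congr_hom _ _ (FibrewiseStalk.fiberMap_fiberι f g s).symm a
    rw [Scheme.Hom.stalkMap_comp, Scheme.Hom.stalkMap_comp] at h
    have h' := congrArg CommRingCat.Hom.hom h
    simp only [CommRingCat.hom_comp] at h'
    simp only [q₁, q₂, CommRingCat.hom_comp]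
    exact h'.symm
  set I := Ideal.map (g.stalkMap (f (i a))).hom (maximalIdeal ↑(S.presheaf.stalk (g (f (i a)))))
  let W := M.presheaf.stalk (i a)
  let V := ((Scheme.Modules.pullback i).obj M).presheaf.stalk a
  let : Algebra B A := (f.stalkMap (i a)).hom.toAlgebra
  let : Module B W := FlatMod.moduleStalkOver f M (i a)
  have : IsScalarTower B A W := IsScalarTower.of_algebraMap_smul fun _ _ ↦ rfl
  let : Algebra A TX := q₂.toAlgebra
  let eV : TX ⊗[A] W ≃ₗ[TX] V := ((pullbackStalkIso i a).app M).toLinearEquiv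
  let : Module TY V := FlatMod.moduleStalkOver fm ((Scheme.Modules.pullback i).obj M) a
  have : Module.Flat TY V := h
  let : Module B V := Module.compHom V q₁
  let e₁ : B ⧸ I ≃+* TY := (Ideal.quotEquivOfEq hk₁.symm).trans (RingHom.quotientKerEquivOfSurjective hs₁)
  let : Algebra (B ⧸ I) TY := e₁.toRingHom.toAlgebra
  let : Module (B ⧸ I) V := Module.compHom V e₁.toRingHom
  have : IsScalarTower (B ⧸ I) TY V := IsScalarTower.of_algebraMap_smul fun _ _ ↦ rfl
  have : IsScalarTower B (B ⧸ I) V := IsScalarTower.of_algebraMap_smul fun _ _ ↦ rfl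
  have : Module.Flat (B ⧸ I) TY := RingHom.Flat.of_bijective (f := e₁.toRingHom) e₁.bijective
  have hVflat : Module.Flat (B ⧸ I) V := Module.Flat.trans (B ⧸ I) TY V
  let Φ : W →ₗ[B] V :=
    { toFun := fun w ↦ eV (1 ⊗ₜ w)
      map_add' := fun w₁ w₂ ↦ by rw [TensorProduct.tmul_add, map_add]
      map_smul' := fun b w ↦ by
        change eV ((1 : TX) ⊗ₜ[A] ((f.stalkMap (i a)).hom b • w)) = (fm.stalkMap a).hom (q₁ b) • eV (1 ⊗ₜ w)
        rw [← map_smul, TensorProduct.smul_tmul', TensorProduct.tmul_smul, TensorProduct.smul_tmul',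
          ← RingHom.comp_apply, hsq, RingHom.comp_apply, Algebra.smul_def, smul_eq_mul]
        rfl }
  have hΦ : Function.Surjective Φ := by
    intro v
    obtain ⟨z, rfl⟩ := eV.surjective v
    induction z using TensorProduct.induction_on with
    | zero => exact ⟨0, by rw [map_zero, map_zero]⟩
    | tmul t w =>
      obtain ⟨c, rfl⟩ := hs₂ t
      refine ⟨c • w, congrArg eV ?_⟩
      rw [TensorProduct.tmul_smul, TensorProduct.smul_tmul', Algebra.smul_def, mul_one]
      rfl
    | add u v hu hv =>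
      obtain ⟨u', hu'⟩ := hu
      obtain ⟨v', hv'⟩ := hv
      exact ⟨u' + v', by rw [map_add, map_add, hu', hv']⟩
  have hker : LinearMap.ker Φ = I • (⊤ : Submodule B W) := by
    let J : Ideal A := I.map (f.stalkMap (i a)).hom
    have hJ : J = RingHom.ker q₂ := by
      rw [hk₂]
      exact FibrewiseStalk.map_mIdeal f g (i a)
    have hJW : ((J • (⊤ : Submodule A W)).restrictScalars B) = I • (⊤ : Submodule B W) := by
      rw [show J = I.map (algebraMap B A) from rfl, Ideal.smul_restrictScalars, Submodule.restrictScalars_top]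
    let eT : (A ⧸ J) ≃ₐ[A] TX :=
      (Ideal.quotientEquivAlgOfEq A (hJ.trans rfl)).trans
        (Ideal.quotientKerAlgEquivOfSurjective (f := Algebra.ofId A TX) hs₂)
    ext w
    rw [← hJW, LinearMap.mem_ker, Submodule.restrictScalars_mem, ← Submodule.Quotient.mk_eq_zero]
    change eV (1 ⊗ₜ w) = 0 ↔ _
    rw [LinearEquiv.map_eq_zero_iff]
    let E : TX ⊗[A] W ≃ₗ[A] W ⧸ J • (⊤ : Submodule A W) :=
      (TensorProduct.congr eT.symm.toLinearEquiv (LinearEquiv.refl A W)).trans
        (TensorProduct.quotTensorEquivQuotSMul W J)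
    have hE : E (1 ⊗ₜ w) = Submodule.Quotient.mk w := by
      simp only [E, LinearEquiv.trans_apply, TensorProduct.congr_tmul, LinearEquiv.refl_apply,
        AlgEquiv.toLinearEquiv_apply, map_one]
      rw [← map_one (Ideal.Quotient.mk J)]
      exact (TensorProduct.quotTensorEquivQuotSMul_mk_tmul J (1 : A) w).trans (by rw [one_smul])
    rw [← hE, LinearEquiv.map_eq_zero_iff]
  let ε : (W ⧸ I • (⊤ : Submodule B W)) ≃ₗ[B] V :=
    (Submodule.quotEquivOfEq _ _ hker.symm).trans (Φ.quotKerEquivOfSurjective hΦ)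
  exact Module.Flat.of_linearEquiv (ε.extendScalarsOfSurjective (S := B ⧸ I) Ideal.Quotient.mk_surjective)

/-- The same, with the base change of `f` to the fibre in place of the map of fibres. -/
theorem flat_at_of_pullback_fibre (f : X ⟶ Y) (g : Y ⟶ S) [LocallyOfFinitePresentation (f ≫ g)]
    [LocallyOfFiniteType g] (M : X.Modules) [M.IsQuasicoherent]
    [SheafOfModules.IsFinitePresentation (R := X.ringCatSheaf) M] (s : S)
    (p : ↥(pullback f (g.fiberι s)))
    (h1 : FlatMod.IsFlatOverAt (f ≫ g) M (pullback.fst f (g.fiberι s) p))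
    (h2 : FlatMod.IsFlatOverAt (pullback.snd f (g.fiberι s))
      ((Scheme.Modules.pullback (pullback.fst f (g.fiberι s))).obj M) p) :
    FlatMod.IsFlatOverAt f M (pullback.fst f (g.fiberι s) p) := by
  obtain ⟨e, he₁, he₂⟩ := FibreTransfer.exists_iso_fiberMap f g s
  have sq : IsPullback e.inv (MoreMor.fiberMap f g s) (pullback.snd f (g.fiberι s)) (𝟙 _) :=
    IsPullback.of_horiz_isIso ⟨by rw [Category.comp_id, ← he₁, Iso.inv_hom_id_assoc]⟩
  have hp : e.inv (e.hom p) = p := by rw [← Scheme.Hom.comp_apply, e.hom_inv_id]; rfl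
  have h3 := FlatOverAt.isFlatOverAt_baseChange _ _ e.inv (𝟙 _) sq
    ((Scheme.Modules.pullback (pullback.fst f (g.fiberι s))).obj M) (e.hom p) (hp.symm ▸ h2)
  have h4 := FlatOverAt.of_iso (MoreMor.fiberMap f g s)
    ((Scheme.Modules.pullbackComp e.inv (pullback.fst f (g.fiberι s))).app M ≪≫
      (Scheme.Modules.pullbackCongr (show e.inv ≫ pullback.fst f (g.fiberι s) = (f ≫ g).fiberι s by
        rw [← he₂, Iso.inv_hom_id_assoc])).app M) (e.hom p) h3
  have hx : (f ≫ g).fiberι s (e.hom p) = pullback.fst f (g.fiberι s) p := by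
    rw [← Scheme.Hom.comp_apply, he₂]
  exact (FibrewiseScheme.flat_at_of_fibre f g M _ h1 (fibre_flat_quotient f g M s (e.hom p) _ hx h4)).1

set_option backward.isDefEq.respectTransparency false in
/-- For a module flat over the base, flatness over an intermediate scheme can be tested after any
base change. -/
theorem isFlatOverAt_iff_baseChange (f : X ⟶ Y) (g : Y ⟶ S) [LocallyOfFinitePresentation (f ≫ g)]
    [LocallyOfFiniteType g] (M : X.Modules) [M.IsQuasicoherent]
    [SheafOfModules.IsFinitePresentation (R := X.ringCatSheaf) M] (hM : FlatMod.IsFlatOver (f ≫ g) M)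
    {X' Y' S' : Scheme.{u}} (h : S' ⟶ S) (gY : Y' ⟶ Y) (g' : Y' ⟶ S') (hY : IsPullback gY g' g h)
    (gX : X' ⟶ X) (f' : X' ⟶ Y') (hc : IsPullback gX f' f gY) (x' : X') :
    FlatMod.IsFlatOverAt f' ((Scheme.Modules.pullback gX).obj M) x' ↔ FlatMod.IsFlatOverAt f M (gX x') := by
  refine ⟨fun hx' ↦ ?_, FlatOverAt.isFlatOverAt_baseChange f f' gX gY hc M x'⟩
  set s' := g' (f' x')
  let κ := Spec.map (h.residueFieldMap s')
  have hκ : κ ≫ S.fromSpecResidueField (h s') = S'.fromSpecResidueField s' ≫ h :=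
    Scheme.Hom.SpecMap_residueFieldMap_fromSpecResidueField h s'
  have : Flat κ := (HasRingHomProperty.Spec_iff (P := @Flat)).2 (by
    let := (h.residueFieldMap s').hom.toAlgebra
    exact (inferInstance : Module.Flat (S.residueField (h s')) (S'.residueField s')))
  -- the fibres of `Y` and `Y'`
  have hout : IsPullback (g'.fiberι s' ≫ gY) (g'.fiberToSpecResidueField s') g
      (κ ≫ S.fromSpecResidueField (h s')) := by
    rw [hκ]
    exact (IsPullback.of_hasPullback g' (S'.fromSpecResidueField s')).paste_horiz hY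
  let πY : g'.fiber s' ⟶ g.fiber (h s') :=
    pullback.lift (g'.fiberι s' ≫ gY) (g'.fiberToSpecResidueField s' ≫ κ)
      (by rw [Category.assoc]; exact hout.w.trans (Category.assoc _ _ _).symm |>.trans (Category.assoc _ _ _))
  have hπY : πY ≫ g.fiberι (h s') = g'.fiberι s' ≫ gY := pullback.lift_fst _ _ _
  have hπYsq : IsPullback πY (g'.fiberToSpecResidueField s') (g.fiberToSpecResidueField (h s')) κ :=
    IsPullback.of_right (by convert hout using 1; exact hπY) (pullback.lift_snd _ _ _)
      (IsPullback.of_hasPullback g (S.fromSpecResidueField (h s')))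
  have : Flat πY := MorphismProperty.of_isPullback hπYsq.flip ‹Flat κ›
  -- the base changes of `f` to these fibres
  let P := pullback f (g.fiberι (h s'))
  let P' := pullback f' (g'.fiberι s')
  have hbig : IsPullback (pullback.fst f' (g'.fiberι s') ≫ gX) (pullback.snd f' (g'.fiberι s')) f
      (πY ≫ g.fiberι (h s')) := by
    rw [hπY]
    exact (IsPullback.of_hasPullback f' (g'.fiberι s')).paste_horiz hc
  let πX : P' ⟶ P := pullback.lift (pullback.fst f' (g'.fiberι s') ≫ gX)
    (pullback.snd f' (g'.fiberι s') ≫ πY) (by rw [Category.assoc]; exact hbig.w.trans (Category.assoc _ _ _).symm |>.trans (Category.assoc _ _ _))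
  have hπX : πX ≫ pullback.fst f (g.fiberι (h s')) = pullback.fst f' (g'.fiberι s') ≫ gX :=
    pullback.lift_fst _ _ _
  have hπXsq : IsPullback πX (pullback.snd f' (g'.fiberι s')) (pullback.snd f (g.fiberι (h s'))) πY :=
    IsPullback.of_right (by rw [hπX]; exact hbig) (pullback.lift_snd _ _ _)
      (IsPullback.of_hasPullback f (g.fiberι (h s')))
  obtain ⟨p', hp', -⟩ := Scheme.Pullback.exists_preimage_pullback (f := f') (g := g'.fiberι s') x'
    (g'.asFiber (f' x')) (g'.fiberι_asFiber (f' x')).symm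
  have h1 := FlatOverAt.isFlatOverAt_baseChange f' (pullback.snd f' (g'.fiberι s'))
    (pullback.fst f' (g'.fiberι s')) (g'.fiberι s') (IsPullback.of_hasPullback _ _)
    ((Scheme.Modules.pullback gX).obj M) p' (hp'.symm ▸ hx')
  let ι : (Scheme.Modules.pullback (pullback.fst f' (g'.fiberι s'))).obj ((Scheme.Modules.pullback gX).obj M) ≅
      (Scheme.Modules.pullback πX).obj ((Scheme.Modules.pullback (pullback.fst f (g.fiberι (h s')))).obj M) :=
    (Scheme.Modules.pullbackComp _ gX).app M ≪≫ (Scheme.Modules.pullbackCongr hπX.symm).app M ≪≫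
      ((Scheme.Modules.pullbackComp πX _).app M).symm
  have h2 := FlatOverAt.of_iso _ ι p' h1
  have h3 := FlatOverAt.isFlatOverAt_of_baseChange _ _ πX πY hπXsq _ p'
    ((Flat.iff_flat_stalkMap πY).1 inferInstance _) h2
  have hpt : pullback.fst f (g.fiberι (h s')) (πX p') = gX x' := by
    rw [← Scheme.Hom.comp_apply, hπX, Scheme.Hom.comp_apply, hp']
  rw [← hpt]
  exact flat_at_of_pullback_fibre f g M (h s') (πX p') (hM _) h3

end Groth.Agent.Lib.Flat55.FlatOverFibre
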