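import Groth.Prelude.Def_FlatCA
import Mathlib.LinearAlgebra.TensorProduct.DirectLimit
import Mathlib.RingTheory.Finiteness.Basic
import Mathlib.Algebra.Module.FinitePresentation

/-!
# Zero, surjectivity and bijectivity of a base change of a linear map hold at some stage
-/

set_option autoImplicit false

universe u

open TensorProduct

namespace Groth.Agent.Lib.Flat55.EventualTensor

variable {R : Type u} [CommRing R] {ι : Type u} [Preorder ι] {G : ι → Type u} [∀ i, CommRing (G i)]
  [∀ i, Algebra R (G i)] {g : ∀ i j, i ≤ j → G i →ₐ[R] G j}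
  {A : Type u} [CommRing A] [Algebra R A] [∀ i, Algebra (G i) A] [∀ i, IsScalarTower R (G i) A]
  (hcolim : FlatCA.IsDirectedColimitRing G (fun i j h => (g i j h).toRingHom) A)

/-- The map from a stage to the colimit. -/
abbrev toColim (G : ι → Type u) [∀ i, CommRing (G i)] [∀ i, Algebra R (G i)] (A : Type u)
    [CommRing A] [Algebra R A] [∀ i, Algebra (G i) A] [∀ i, IsScalarTower R (G i) A] (i : ι) :
    G i →ₗ[R] A :=
  (IsScalarTower.toAlgHom R (G i) A).toLinearMap

include hcolim

theorem exists_rTensor_eq (M : Type u) [AddCommGroup M] [Module R M] (z : A ⊗[R] M) :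
    ∃ i, ∃ y : G i ⊗[R] M, (toColim G A i).rTensor M y = z := by
  obtain ⟨hdir, hne, -, htrans, hcomp, hsurj, -⟩ := hcolim
  have : IsDirectedOrder ι := hdir
  induction z with
  | zero => exact ⟨hne.some, 0, map_zero _⟩
  | tmul a m =>
    obtain ⟨i, x, rfl⟩ := hsurj a
    exact ⟨i, x ⊗ₜ m, rfl⟩
  | add x y hx hy =>
    obtain ⟨i, a, rfl⟩ := hx
    obtain ⟨j, b, rfl⟩ := hy
    obtain ⟨k, hi, hj⟩ := exists_ge_ge i j
    have e : ∀ (i : ι) (h : i ≤ k) (a : G i ⊗[R] M), (toColim G A k).rTensor M
        ((g i k h).toLinearMap.rTensor M a) = (toColim G A i).rTensor M a := fun i h a => by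
      rw [← LinearMap.comp_apply, ← LinearMap.rTensor_comp]
      congr 2
      exact LinearMap.ext fun x => RingHom.congr_fun (hcomp i k h) x
    exact ⟨k, (g i k hi).toLinearMap.rTensor M a + (g j k hj).toLinearMap.rTensor M b,
      by rw [map_add, e, e]⟩

theorem exists_rTensor_eq_zero (M : Type u) [AddCommGroup M] [Module R M] {i : ι}
    (y : G i ⊗[R] M) (h : (toColim G A i).rTensor M y = 0) :
    ∃ j, ∃ hij : i ≤ j, (g i j hij).toLinearMap.rTensor M y = 0 := by
  classical
  obtain ⟨hdir, hne, hid, htrans, hcomp, hsurj, hker⟩ := hcolim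
  have : IsDirectedOrder ι := hdir
  let f : ∀ i j, i ≤ j → G i →ₗ[R] G j := fun i j h => (g i j h).toLinearMap
  have : DirectedSystem G (f · · ·) :=
    { map_self := fun i x => RingHom.congr_fun (hid i) x
      map_map := fun _ _ _ _ _ x => RingHom.congr_fun (htrans _ _ _ _ _) x }
  let e : Module.DirectLimit G f →ₗ[R] A :=
    Module.DirectLimit.lift R ι G f (toColim G A) fun i j h x => RingHom.congr_fun (hcomp i j h) x
  have he : Function.Bijective e := by
    refine ⟨(injective_iff_map_eq_zero e).2 fun z hz => ?_, fun a => ?_⟩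
    · obtain ⟨i, x, rfl⟩ := Module.DirectLimit.exists_of z
      rw [Module.DirectLimit.lift_of] at hz
      obtain ⟨j, hij, hx⟩ := hker i x hz
      rw [← Module.DirectLimit.of_f (hij := hij),
        show f i j hij x = 0 from hx, map_zero]
    · obtain ⟨i, x, rfl⟩ := hsurj a
      exact ⟨Module.DirectLimit.of R ι G f i x, Module.DirectLimit.lift_of _ _ x⟩
  have h1 : (Module.DirectLimit.of R ι G f i).rTensor M y = 0 := by
    apply ((LinearEquiv.ofBijective e he).rTensor M).injective
    rw [map_zero, ← h]
    show e.rTensor M _ = _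
    rw [← LinearMap.comp_apply, ← LinearMap.rTensor_comp]
    congr 2
    exact LinearMap.ext fun x => Module.DirectLimit.lift_of (f := f) _ (fun i j h x => RingHom.congr_fun (hcomp i j h) x) x
  have h2 := TensorProduct.directLimitLeft_rTensor_of f M y
  rw [h1, map_zero] at h2
  exact Module.DirectLimit.of.zero_exact h2.symm

omit hcolim in
/-- Compatibility of a base-changed map with the transition maps. -/
theorem lTensor_rTensor {M N : Type u} [AddCommGroup M] [Module R M] [AddCommGroup N] [Module R N]
    (u : M →ₗ[R] N) {P Q : Type u} [AddCommGroup P] [Module R P] [AddCommGroup Q] [Module R Q]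
    (φ : P →ₗ[R] Q) (z : P ⊗[R] M) :
    u.lTensor Q (φ.rTensor M z) = φ.rTensor N (u.lTensor P z) := by
  rw [← LinearMap.comp_apply, ← LinearMap.comp_apply, LinearMap.lTensor_comp_rTensor,
    LinearMap.rTensor_comp_lTensor]

theorem exists_forall_eq_zero {M : Type u} [AddCommGroup M] [Module R M] {i : ι}
    (s : Finset (G i ⊗[R] M)) (h : ∀ y ∈ s, (toColim G A i).rTensor M y = 0) :
    ∃ j, ∃ hij : i ≤ j, ∀ y ∈ s, (g i j hij).toLinearMap.rTensor M y = 0 := by
  classical
  have : IsDirectedOrder ι := hcolim.1
  induction s using Finset.induction with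
  | empty => exact ⟨i, le_rfl, by simp⟩
  | insert y s _ ih =>
    obtain ⟨j, hij, hj⟩ := ih fun z hz => h z (Finset.mem_insert_of_mem hz)
    obtain ⟨k, hik, hk⟩ := exists_rTensor_eq_zero hcolim M y (h y (Finset.mem_insert_self _ _))
    obtain ⟨l, hjl, hkl⟩ := exists_ge_ge j k
    refine ⟨l, hij.trans hjl, fun z hz => ?_⟩
    have e : ∀ (j : ι) (hij : i ≤ j) (hjl : j ≤ l) (z : G i ⊗[R] M),
        (g i j hij).toLinearMap.rTensor M z = 0 → (g i l (hij.trans hjl)).toLinearMap.rTensor M z = 0 :=
      fun j hij hjl z hz => by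
        rw [show (g i l (hij.trans hjl)).toLinearMap =
            (g j l hjl).toLinearMap ∘ₗ (g i j hij).toLinearMap from LinearMap.ext fun x =>
              (RingHom.congr_fun (hcolim.2.2.2.1 i j l hij hjl) x).symm,
          LinearMap.rTensor_comp, LinearMap.comp_apply, hz, map_zero]
    rcases Finset.mem_insert.1 hz with rfl | hz
    · exact e k hik hkl _ hk
    · exact e j hij hjl _ (hj z hz)

variable {B : Type u} [CommRing B] [Algebra R B]
  {M N : Type u} [AddCommGroup M] [AddCommGroup N] [Module B M] [Module B N] [Module R M] [Module R N]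
  [IsScalarTower R B M] [IsScalarTower R B N] (v : M →ₗ[B] N)

/-- A map out of a finite module which vanishes in the limit vanishes at some stage. -/
theorem exists_zero [Module.Finite B M] (h : (v.restrictScalars R).lTensor A = 0) :
    ∃ i, (v.restrictScalars R).lTensor (G i) = 0 := by
  classical
  obtain ⟨i₀⟩ := hcolim.2.1
  obtain ⟨s, hs⟩ := Module.Finite.fg_top (R := B) (M := M)
  obtain ⟨j, hij, hj⟩ := exists_forall_eq_zero hcolim (i := i₀)
    (s.image fun m => (1 : G i₀) ⊗ₜ[R] v m) fun y hy => by
      obtain ⟨m, -, rfl⟩ := Finset.mem_image.1 hy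
      have := LinearMap.congr_fun h ((1 : A) ⊗ₜ[R] m)
      simpa using this
  refine ⟨j, TensorProduct.ext' fun a m => ?_⟩
  have hm : ∀ m : M, ∀ b : B, (1 : G j) ⊗ₜ[R] v (b • m) = 0 := by
    intro m
    have hm : m ∈ Submodule.span B (s : Set M) := hs ▸ Submodule.mem_top
    induction hm using Submodule.span_induction with
    | mem x hx =>
      intro b
      have h0 := hj _ (Finset.mem_image_of_mem _ hx)
      rw [LinearMap.rTensor_tmul, AlgHom.toLinearMap_apply, map_one] at h0
      rw [map_smul]
      simpa using congrArg (((LinearMap.lsmul B N b).restrictScalars R).lTensor (G j)) h0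
    | zero => intro b; simp
    | add x y _ _ hx hy => intro b; rw [smul_add, map_add, tmul_add, hx, hy, add_zero]
    | smul c x _ hx => intro b; rw [← mul_smul]; exact hx _
  have := hm m 1
  rw [one_smul] at this
  rw [LinearMap.lTensor_tmul, LinearMap.restrictScalars_apply, LinearMap.zero_apply,
    show a ⊗ₜ[R] v m = a • ((1 : G j) ⊗ₜ[R] v m) by rw [smul_tmul', smul_eq_mul, mul_one], this,
    smul_zero]

/-- A map into a finite module which is surjective in the limit is surjective at some stage. -/
theorem exists_surjective [Module.Finite B N]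
    (h : Function.Surjective ((v.restrictScalars R).lTensor A)) :
    ∃ i, Function.Surjective ((v.restrictScalars R).lTensor (G i)) := by
  classical
  have : IsDirectedOrder ι := hcolim.1
  have : Nonempty ι := hcolim.2.1
  obtain ⟨s, hs⟩ := Module.Finite.fg_top (R := B) (M := N)
  have h1 : ∀ n : N, ∃ i, ∀ j, i ≤ j → (1 : G j) ⊗ₜ[R] n ∈
      LinearMap.range ((v.restrictScalars R).lTensor (G j)) := by
    intro n
    obtain ⟨z, hz⟩ := h ((1 : A) ⊗ₜ n)
    obtain ⟨i, y, rfl⟩ := exists_rTensor_eq hcolim M z
    rw [lTensor_rTensor] at hz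
    obtain ⟨k, hik, hk⟩ := exists_rTensor_eq_zero hcolim N
      ((v.restrictScalars R).lTensor (G i) y - (1 : G i) ⊗ₜ n) (by
        rw [map_sub, hz, LinearMap.rTensor_tmul]; simp)
    refine ⟨k, fun j hkj => ⟨(g i j (hik.trans hkj)).toLinearMap.rTensor M y, ?_⟩⟩
    rw [map_sub, sub_eq_zero] at hk
    rw [lTensor_rTensor, show (g i j (hik.trans hkj)).toLinearMap =
        (g k j hkj).toLinearMap ∘ₗ (g i k hik).toLinearMap from LinearMap.ext fun x =>
          (RingHom.congr_fun (hcolim.2.2.2.1 i k j hik hkj) x).symm,
      LinearMap.rTensor_comp, LinearMap.comp_apply, hk, ← LinearMap.comp_apply, ← LinearMap.rTensor_comp,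
      LinearMap.rTensor_tmul]
    simp
  choose k hk using h1
  obtain ⟨j, hj⟩ := (s.image k).exists_le
  refine ⟨j, fun z => ?_⟩
  show z ∈ LinearMap.range ((v.restrictScalars R).lTensor (G j))
  induction z with
  | zero => exact zero_mem _
  | add x y hx hy => exact add_mem hx hy
  | tmul a n =>
    have hn : ∀ b : B, (1 : G j) ⊗ₜ[R] (b • n) ∈
        LinearMap.range ((v.restrictScalars R).lTensor (G j)) := by
      have hn : n ∈ Submodule.span B (s : Set N) := hs ▸ Submodule.mem_top
      induction hn using Submodule.span_induction with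
      | mem x hx =>
        intro b
        obtain ⟨w, hw⟩ := hk x j (hj _ (Finset.mem_image_of_mem _ hx))
        refine ⟨((LinearMap.lsmul B M b).restrictScalars R).lTensor (G j) w, ?_⟩
        rw [← LinearMap.comp_apply, ← LinearMap.lTensor_comp,
          show v.restrictScalars R ∘ₗ (LinearMap.lsmul B M b).restrictScalars R =
            (LinearMap.lsmul B N b).restrictScalars R ∘ₗ v.restrictScalars R from
              LinearMap.ext fun m => map_smul v b m,
          LinearMap.lTensor_comp, LinearMap.comp_apply, hw]
        simp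
      | zero => intro b; simp
      | add x y _ _ hx hy => intro b; rw [smul_add, tmul_add]; exact add_mem (hx b) (hy b)
      | smul c x _ hx => intro b; rw [← mul_smul]; exact hx _
    obtain ⟨w, hw⟩ := hn 1
    refine ⟨a • w, ?_⟩
    rw [one_smul] at hw
    have : (v.restrictScalars R).lTensor (G j) (a • w) = a • (v.restrictScalars R).lTensor (G j) w := by
      clear hw
      induction w with
      | zero => simp
      | tmul c m => simp [smul_tmul']
      | add x y hx hy => simp [smul_add, map_add, hx, hy]
    rw [this, hw, smul_tmul', smul_eq_mul, mul_one]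

/-- A surjection between a finite and a finitely presented module which is injective in the limit
is injective at some stage. -/
theorem exists_injective [Module.Finite B M] [Module.FinitePresentation B N]
    (hsurj : Function.Surjective v) (h : Function.Injective ((v.restrictScalars R).lTensor A)) :
    ∃ i, Function.Injective ((v.restrictScalars R).lTensor (G i)) := by
  have : Module.Finite B (LinearMap.ker v) :=
    Module.Finite.iff_fg.2 (Module.FinitePresentation.fg_ker v hsurj)
  have hex : Function.Exact ((LinearMap.ker v).subtype.restrictScalars R) (v.restrictScalars R) :=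
    LinearMap.exact_subtype_ker_map v
  obtain ⟨i, hi⟩ := exists_zero hcolim (LinearMap.ker v).subtype (LinearMap.ext fun z => h (by
    rw [LinearMap.zero_apply, map_zero]
    exact (lTensor_exact A hex hsurj).apply_apply_eq_zero z))
  refine ⟨i, (injective_iff_map_eq_zero _).2 fun z hz => ?_⟩
  obtain ⟨w, rfl⟩ := (lTensor_exact (G i) hex hsurj z).1 hz
  rw [hi]
  rfl

end Groth.Agent.Lib.Flat55.EventualTensor
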