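import Groth.Agent.Lib.Flat55.StrataBC
import Mathlib.FieldTheory.PurelyInseparable.PerfectClosure
import Mathlib.FieldTheory.IsAlgClosed.AlgebraicClosure
import Mathlib.RingTheory.Localization.Integral
import Mathlib.RingTheory.Localization.Free
import Mathlib.RingTheory.Ideal.MinimalPrime.Noetherian
import Mathlib.RingTheory.Extension.Presentation.Core

/-!
# Stratifications with smooth strata over a finite purely inseparable cover of the base
-/

set_option autoImplicit false

universe u

open TensorProduct Groth.Agent.Lib.Flat55.StrataChain Groth.Agent.Lib.Flat55.StrataBC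

namespace Groth.Agent.Lib.Flat55.SmoothStrataRing

section Field

variable {R K P B : Type u} [CommRing R] [Field K] [Algebra R K] [Field P] [Algebra K P] [Algebra R P]
  [IsScalarTower R K P] [CommRing B] [Algebra R B]

/-- The inclusion of an intermediate field. -/
noncomputable abbrev incl {L L' : IntermediateField K P} (h : L ≤ L') : L →ₐ[R] L' :=
  (IntermediateField.inclusion h).restrictScalars R

/-- The inclusion into the big field. -/
noncomputable abbrev toP (L : IntermediateField K P) : L →ₐ[R] P := L.val.restrictScalars R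

theorem exists_mem_range [Algebra.IsAlgebraic K P] (z : P ⊗[R] B) :
    ∃ L : IntermediateField K P, FiniteDimensional K L ∧ ∃ w, nu B (toP L) w = z := by
  induction z with
  | zero => exact ⟨⊥, inferInstance, 0, map_zero _⟩
  | tmul a b =>
    refine ⟨IntermediateField.adjoin K {a}, IntermediateField.adjoin.finiteDimensional
      (Algebra.IsIntegral.isIntegral a), ⟨a, IntermediateField.subset_adjoin K _ rfl⟩ ⊗ₜ b, rfl⟩
  | add x y hx hy =>
    obtain ⟨L, hL, w, rfl⟩ := hx
    obtain ⟨L', hL', w', rfl⟩ := hy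
    refine ⟨L ⊔ L', inferInstance,
      nu B (incl (R := R) (le_sup_left : L ≤ L ⊔ L')) w + nu B (incl (R := R) (le_sup_right : L' ≤ L ⊔ L')) w', ?_⟩
    rw [map_add, nu_nu, nu_nu]
    rfl

theorem strat_descend [Algebra.IsAlgebraic K P] {I : Ideal (P ⊗[R] B)} (h : Strat P I) :
    ∀ (L₀ : IntermediateField K P) [FiniteDimensional K L₀] (J : Ideal (L₀ ⊗[R] B)),
      J.map (nu B (toP L₀)) = I → ∃ (L : IntermediateField K P) (hle : L₀ ≤ L),
        FiniteDimensional K L ∧ Strat L (J.map (nu B (incl (R := R) hle))) := by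
  induction h with
  | top =>
    intro L₀ hfd J hJ
    refine ⟨L₀, le_rfl, hfd, ?_⟩
    rw [eq_top_of_map (toP L₀) hJ, Ideal.map_top]
    exact .top
  | step I c hc _ ih =>
    intro L₀ _ J hJ
    obtain ⟨L', hL', w, rfl⟩ := exists_mem_range (K := K) c
    let L₁ := L₀ ⊔ L'
    have : FiniteDimensional K L₁ := inferInstance
    have h0 : L₀ ≤ L₁ := le_sup_left
    have h' : L' ≤ L₁ := le_sup_right
    let w₁ := nu B (incl (R := R) h') w
    let J₁ := J.map (nu B (incl (R := R) h0))
    have hw : nu B (toP L₁) w₁ = nu B (toP L') w := by rw [nu_nu]; rfl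
    have hJ₁ : J₁.map (nu B (toP L₁)) = I := by rw [map_nu_map]; exact hJ
    have hs : SmStep L₁ J₁ w₁ := smStep_of_map (toP L₁) (by rw [hJ₁, hw]; exact hc)
    obtain ⟨L, hle, hfd, hL⟩ := ih L₁ (J₁ ⊔ Ideal.span {w₁}) (by
      rw [← hw, ← hJ₁]; exact map_nu_sup_span (toP L₁) J₁ w₁)
    refine ⟨L, h0.trans hle, hfd, ?_⟩
    have hcomp : J.map (nu B (incl (R := R) (h0.trans hle))) = J₁.map (nu B (incl (R := R) hle)) := by
      rw [map_nu_map]; rfl
    rw [hcomp]
    refine Chain.step _ (nu B (incl (R := R) hle) w₁) (smStep_map _ hs) ?_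
    rw [← map_nu_sup_span]
    exact hL

/-- Finitely many algebras of finite type become stratified over a finite purely inseparable
extension. -/
theorem exists_field_strat [PerfectField P] [Algebra.IsAlgebraic K P] {ι : Type*} [Finite ι]
    (B : ι → Type u) [∀ i, CommRing (B i)] [∀ i, Algebra R (B i)] [∀ i, Algebra.FiniteType R (B i)] :
    ∃ L : IntermediateField K P, FiniteDimensional K L ∧
      ∀ i, Strat L (⊥ : Ideal (L ⊗[R] B i)) := by
  have h : ∀ i, ∃ L : IntermediateField K P, FiniteDimensional K L ∧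
      Strat L (⊥ : Ideal (L ⊗[R] B i)) := fun i => by
    obtain ⟨L, hle, hfd, hL⟩ := strat_descend (strat_of_perfectField (k := P) (⊥ : Ideal (P ⊗[R] B i)))
      (⊥ : IntermediateField K P) (⊥ : Ideal ((⊥ : IntermediateField K P) ⊗[R] B i)) Ideal.map_bot
    rw [Ideal.map_bot] at hL
    exact ⟨L, hfd, hL⟩
  choose L hfd hL using h
  exact ⟨⨆ i, L i, IntermediateField.finiteDimensional_iSup_of_finite,
    fun i => strat_map_bot (incl (R := R) (le_iSup L i)) (hL i)⟩

end Field

section Spread

variable {R A L B : Type u} [CommRing R] [CommRing A] [Algebra R A] [CommRing L] [Algebra A L]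
  [Algebra R L] [IsScalarTower R A L] [CommRing B] [Algebra R B] (Mm : Submonoid A)
  [IsLocalization Mm L]

/-- A localisation at one element. -/
noncomputable abbrev toAway (d : A) : A →ₐ[R] Localization.Away d :=
  IsScalarTower.toAlgHom R A (Localization.Away d)

/-- Between localisations. -/
noncomputable def awayHom {S : Type u} [CommRing S] [Algebra R S] [Algebra A S] [IsScalarTower R A S]
    (d : A) (h : IsUnit (algebraMap A S d)) : Localization.Away d →ₐ[R] S :=
  (IsLocalization.liftAlgHom (M := Submonoid.powers d) (f := Algebra.ofId A S) (by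
    rintro ⟨_, n, rfl⟩
    simp only [map_pow]
    exact h.pow n)).restrictScalars R

theorem awayHom_comp {S : Type u} [CommRing S] [Algebra R S] [Algebra A S] [IsScalarTower R A S]
    (d : A) (h : IsUnit (algebraMap A S d)) :
    (awayHom (R := R) d h).comp (toAway d) = IsScalarTower.toAlgHom R A S :=
  AlgHom.ext fun a => IsLocalization.lift_eq _ a

theorem strat_map_away {I : Ideal (A ⊗[R] B)} (d : A) {S : Type u} [CommRing S] [Algebra R S]
    [Algebra A S] [IsScalarTower R A S] (h : IsUnit (algebraMap A S d))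
    (hI : Strat (Localization.Away d) (I.map (nu B (toAway d)))) :
    Strat S (I.map (nu B (IsScalarTower.toAlgHom R A S))) := by
  have := strat_map (awayHom (R := R) d h) hI
  rwa [map_nu_map, awayHom_comp] at this

theorem exists_smul_mem_range (z : L ⊗[R] B) :
    ∃ d ∈ Mm, ∃ w, nu B (IsScalarTower.toAlgHom R A L) w = algebraMap L _ (algebraMap A L d) * z := by
  induction z with
  | zero => exact ⟨1, Mm.one_mem, 0, by rw [map_zero, mul_zero]⟩
  | tmul l b =>
    obtain ⟨⟨a, m⟩, hm⟩ := IsLocalization.surj Mm l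
    refine ⟨m, m.2, a ⊗ₜ b, ?_⟩
    show algebraMap A L a ⊗ₜ[R] b = (algebraMap A L (m : A) ⊗ₜ[R] (1 : B)) * (l ⊗ₜ b)
    rw [Algebra.TensorProduct.tmul_mul_tmul, one_mul, ← hm, mul_comm]
  | add x y hx hy =>
    obtain ⟨d, hd, w, hw⟩ := hx
    obtain ⟨d', hd', w', hw'⟩ := hy
    refine ⟨d * d', Mm.mul_mem hd hd', algebraMap A _ d' * w + algebraMap A _ d * w', ?_⟩
    rw [map_add, map_mul, map_mul, hw, hw', nu_algebraMap, nu_algebraMap, map_mul, map_mul]
    simp only [IsScalarTower.coe_toAlgHom']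
    ring

theorem smStep_tensor {A' : Type u} [CommRing A'] [Algebra R A'] [Algebra A A'] [IsScalarTower R A A']
    (I : Ideal (A ⊗[R] B)) (c : A ⊗[R] B) :
    SmStep A' (I.map (nu B (IsScalarTower.toAlgHom R A A'))) (nu B (IsScalarTower.toAlgHom R A A') c) ↔
      Algebra.Smooth A' (A' ⊗[A] QL I c) := by
  let f := IsScalarTower.toAlgHom R A A'
  let : Algebra (A ⊗[R] B) (A' ⊗[R] B) := (nu B f).toRingHom.toAlgebra
  have : IsScalarTower A (A ⊗[R] B) (A' ⊗[R] B) := IsScalarTower.of_algebraMap_eq fun a => rfl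
  have : Algebra.IsPushout A A' (A ⊗[R] B) (A' ⊗[R] B) :=
    Algebra.IsPushout.tensorProduct_tensorProduct R B A A' (RingHom.ext fun b => by
      show nu B f ((1 : A) ⊗ₜ b) = (1 : A') ⊗ₜ b
      rw [nu_tmul, map_one])
  exact SmStep.baseChange_iff A'

theorem strat_spread [IsNoetherianRing A] [Algebra.FiniteType R B] {I : Ideal (L ⊗[R] B)}
    (h : Strat L I) :
    ∀ J : Ideal (A ⊗[R] B), J.map (nu B (IsScalarTower.toAlgHom R A L)) = I →
      ∃ d ∈ Mm, Strat (Localization.Away d) (J.map (nu B (toAway d))) := by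
  induction h with
  | top =>
    intro J hJ
    let Q := (A ⊗[R] B) ⧸ J
    have hs : Subsingleton (L ⊗[A] Q) := subsingleton_of_map_eq_top _ J (fun _ => rfl) hJ
    let := (Algebra.TensorProduct.rightAlgebra : Algebra Q (L ⊗[A] Q))
    have : IsLocalization (Algebra.algebraMapSubmonoid Q Mm) (L ⊗[A] Q) := IsLocalization.tensorRight L Mm
    obtain ⟨d, hd, hd0⟩ := (IsLocalization.subsingleton_iff (M := Algebra.algebraMapSubmonoid Q Mm)
      (S := L ⊗[A] Q)).1 hs
    refine ⟨d, hd, ?_⟩
    have htop : J.map (nu B (toAway d)) = ⊤ := by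
      have hmem : algebraMap A (A ⊗[R] B) d ∈ J := Ideal.Quotient.eq_zero_iff_mem.1 hd0
      refine Ideal.eq_top_of_isUnit_mem _ (Ideal.mem_map_of_mem (nu B (toAway d)) hmem) ?_
      rw [nu_algebraMap]
      exact (IsLocalization.Away.algebraMap_isUnit d).map _
    rw [htop]
    exact .top
  | step I c hc _ ih =>
    intro J hJ
    obtain ⟨d₀, hd₀, w, hw⟩ := exists_smul_mem_range Mm c
    let f := IsScalarTower.toAlgHom R A L
    have hass : Associated c (nu B f w) := by
      rw [hw, mul_comm]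
      exact associated_mul_unit_right _ _ ((IsLocalization.map_units L ⟨d₀, hd₀⟩).map _)
    have hsm : SmStep L (J.map (nu B f)) (nu B f w) := SmStep.of_associated hass (hJ ▸ hc)
    have : Algebra.Smooth L (L ⊗[A] QL J w) := (smStep_tensor J w).1 hsm
    have : Algebra.FiniteType (A ⊗[R] B) (QL J w) := Algebra.FiniteType.trans (R := A ⊗[R] B)
      (S := (A ⊗[R] B) ⧸ J) inferInstance (IsLocalization.finiteType_of_monoid_fg (Submonoid.powers (Ideal.Quotient.mk J w)) _)
    have : Algebra.FiniteType A (QL J w) := Algebra.FiniteType.trans (R := A) (S := A ⊗[R] B) inferInstance this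
    have : Algebra.FinitePresentation A (QL J w) := (Algebra.FinitePresentation.of_finiteType).1 this
    obtain ⟨m, hm, hms⟩ := exists_smooth_away Mm L (QL J w)
    have hstep : SmStep (Localization.Away m) (J.map (nu B (toAway m))) (nu B (toAway m) w) :=
      (smStep_tensor J w).2 hms
    obtain ⟨d, hd, hst⟩ := ih (J ⊔ Ideal.span {w}) (by
      rw [map_nu_sup_span]
      obtain ⟨v, hv⟩ := hass
      rw [hJ, ← hv, Ideal.span_singleton_mul_right_unit v.isUnit])
    have hu : IsUnit (algebraMap A (Localization.Away (m * d)) (m * d)) :=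
      IsLocalization.Away.algebraMap_isUnit _
    rw [map_mul, IsUnit.mul_iff] at hu
    refine ⟨m * d, Mm.mul_mem hm hd, Chain.step _ (nu B (toAway (m * d)) w) ?_ ?_⟩
    · have := smStep_map (awayHom (R := R) m hu.1) hstep
      rwa [map_nu_map, nu_nu, awayHom_comp] at this
    · rw [← map_nu_sup_span]
      exact strat_map_away d hu.2 hst

end Spread

/-- `C → C'` is purely inseparable in a uniform sense. -/
def PI (C C' : Type u) [CommRing C] [CommRing C'] [Algebra C C'] : Prop :=
  ∃ q : ℕ, (q = 1 ∨ q.Prime ∧ (q : C) = 0) ∧ ∀ x : C', ∃ n, x ^ q ^ n ∈ (algebraMap C C').range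

/-- All algebras of the family are stratified over a finite free cover of `C`. -/
def Good {R : Type u} [CommRing R] {ι : Type*} (B : ι → Type u) [∀ i, CommRing (B i)]
    [∀ i, Algebra R (B i)] (C : Type u) [CommRing C] [Algebra R C] : Prop :=
  ∃ (C' : Type u) (_ : CommRing C') (_ : Algebra C C') (_ : Algebra R C') (_ : IsScalarTower R C C'),
    Module.Free C C' ∧ Module.Finite C C' ∧ Module.FaithfullyFlat C C' ∧ PI C C' ∧
      ∀ i, Strat C' (⊥ : Ideal (C' ⊗[R] B i))

theorem pi_tensor {R A C : Type u} [CommRing R] [CommRing A] [Algebra R A] [CommRing C] [Algebra R C]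
    (q : ℕ) (hq : q = 1 ∨ q.Prime ∧ (q : C) = 0) (T : Set A) (hT : Submodule.span R T = ⊤)
    (h : ∀ t ∈ T, ∃ n, ∃ r s : R, IsUnit (algebraMap R C s) ∧ s • t ^ q ^ n = algebraMap R A r) :
    PI C (C ⊗[R] A) := by
  refine ⟨q, hq, fun x => ?_⟩
  let Φ : C ⊗[R] A → Prop := fun x => ∃ n, x ^ q ^ n ∈ (algebraMap C (C ⊗[R] A)).range
  have hadd : ∀ x y, Φ x → Φ y → Φ (x + y) := by
    rintro x y ⟨n, hx⟩ ⟨n', hy⟩
    refine ⟨n + n', ?_⟩
    have hx' : x ^ q ^ (n + n') ∈ (algebraMap C (C ⊗[R] A)).range := by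
      rw [pow_add, pow_mul]; exact pow_mem hx _
    have hy' : y ^ q ^ (n + n') ∈ (algebraMap C (C ⊗[R] A)).range := by
      rw [add_comm, pow_add, pow_mul]; exact pow_mem hy _
    rcases hq with rfl | ⟨hp, h0⟩
    · rw [one_pow, pow_one] at hx' hy' ⊢; exact add_mem hx' hy'
    · obtain ⟨r, hr⟩ := exists_add_pow_prime_pow_eq hp x y (n + n')
      have hq0 : (q : C ⊗[R] A) = 0 := by
        rw [← map_natCast (algebraMap C (C ⊗[R] A)), h0, map_zero]
      rw [hr, hq0]
      simpa using add_mem hx' hy'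
  have hscal : ∀ c, Φ (algebraMap C _ c) := fun c => ⟨0, by rw [pow_zero, pow_one]; exact ⟨c, rfl⟩⟩
  have hmul : ∀ x y, Φ x → Φ y → Φ (x * y) := by
    rintro x y ⟨n, hx⟩ ⟨n', hy⟩
    refine ⟨n + n', ?_⟩
    rw [mul_pow]
    exact mul_mem (by rw [pow_add, pow_mul]; exact pow_mem hx _)
      (by rw [add_comm, pow_add, pow_mul]; exact pow_mem hy _)
  have hA : ∀ a : A, Φ ((1 : C) ⊗ₜ[R] a) := by
    intro a
    have ha : a ∈ Submodule.span R T := hT ▸ trivial
    induction ha using Submodule.span_induction with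
    | mem t ht =>
      obtain ⟨n, r, s, hs, hst⟩ := h t ht
      obtain ⟨v, hv⟩ : ∃ v : C, s • v = 1 :=
        ⟨↑hs.unit⁻¹, by rw [Algebra.smul_def]; exact hs.mul_val_inv⟩
      refine ⟨n, r • v, ?_⟩
      rw [Algebra.TensorProduct.tmul_pow, one_pow, Algebra.TensorProduct.algebraMap_apply,
        Algebra.algebraMap_self, RingHom.id_apply, TensorProduct.smul_tmul,
        ← Algebra.algebraMap_eq_smul_one r, ← hst, TensorProduct.tmul_smul, TensorProduct.smul_tmul',
        hv]
    | zero => rw [TensorProduct.tmul_zero, ← map_zero (algebraMap C (C ⊗[R] A))]; exact hscal 0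
    | add a b _ _ ha hb => rw [TensorProduct.tmul_add]; exact hadd _ _ ha hb
    | smul r a _ ha =>
      rw [TensorProduct.tmul_smul, ← IsScalarTower.algebraMap_smul C r, Algebra.smul_def]
      exact hmul _ _ (hscal _) ha
  induction x with
  | zero => rw [← map_zero (algebraMap C (C ⊗[R] A))]; exact hscal 0
  | add x y hx hy => exact hadd _ _ hx hy
  | tmul c a =>
    rw [show c ⊗ₜ[R] a = algebraMap C (C ⊗[R] A) c * ((1 : C) ⊗ₜ a) by
      rw [← Algebra.smul_def, TensorProduct.smul_tmul', smul_eq_mul, mul_one]]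
    exact hmul _ _ (hscal _) (hA a)

section Domain

variable {R : Type u} [CommRing R] [IsDomain R] [IsNoetherianRing R] {ι : Type*} [Finite ι]
  (B : ι → Type u) [∀ i, CommRing (B i)] [∀ i, Algebra R (B i)] [∀ i, Algebra.FiniteType R (B i)]

omit [IsNoetherianRing R] in
/-- A finite order in a finite extension of the fraction field. -/
theorem exists_order (K : Type u) [Field K] [Algebra R K] [IsFractionRing R K] (L : Type u) [Field L]
    [Algebra K L] [Algebra R L] [IsScalarTower R K L] [FiniteDimensional K L] :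
    ∃ A : Subalgebra R L, Module.Finite R A ∧
      IsLocalization (Algebra.algebraMapSubmonoid A (nonZeroDivisors R)) L := by
  let b := Module.finBasis K L
  have hint : ∀ i, ∃ m : nonZeroDivisors R, IsIntegral R (m • b i) := fun i =>
    IsIntegral.exists_multiple_integral_of_isLocalization (nonZeroDivisors R) (Rₘ := K) (b i)
      (Algebra.IsIntegral.isIntegral _)
  choose m hm using hint
  let A : Subalgebra R L := Algebra.adjoin R (Set.range fun i => m i • b i)
  have hAfg : A.toSubmodule.FG := fg_adjoin_of_finite (Set.finite_range _) (by rintro _ ⟨i, rfl⟩; exact hm i)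
  have : Module.Finite R A := Module.Finite.iff_fg.2 hAfg
  have hne : ∀ r : nonZeroDivisors R, algebraMap R L r ≠ 0 := fun r => by
    rw [IsScalarTower.algebraMap_apply R K L, map_ne_zero]
    exact (IsLocalization.map_units K r).ne_zero
  have hsurj : ∀ l : L, ∃ s : nonZeroDivisors R, (s : R) • l ∈ A := by
    intro l
    let T : Submodule R L :=
      { carrier := {l | ∃ s : nonZeroDivisors R, (s : R) • l ∈ A}
        add_mem' := fun {x y} ⟨s, hs⟩ ⟨t, ht⟩ => ⟨s * t, by
          rw [smul_add]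
          refine A.add_mem ?_ ?_
          · rw [Submonoid.coe_mul, mul_comm, mul_smul]; exact A.smul_mem hs _
          · rw [Submonoid.coe_mul, mul_smul]; exact A.smul_mem ht _⟩
        zero_mem' := ⟨1, by rw [smul_zero]; exact A.zero_mem⟩
        smul_mem' := fun r x ⟨s, hs⟩ => ⟨s, by rw [smul_comm]; exact A.smul_mem hs r⟩ }
    show l ∈ T
    rw [← b.sum_repr l]
    refine Submodule.sum_mem T fun i _ => ?_
    obtain ⟨⟨r, s⟩, hrs⟩ := IsLocalization.surj (nonZeroDivisors R) (b.repr l i)
    refine ⟨m i * s, ?_⟩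
    have : (((m i : R) * (s : R))) • (b.repr l i • b i) = r • ((m i : R) • b i) := by
      rw [mul_smul, ← IsScalarTower.algebraMap_smul K (s : R), smul_smul, mul_comm, hrs,
        IsScalarTower.algebraMap_smul, smul_comm]
    rw [Submonoid.coe_mul, this]
    exact A.smul_mem (Algebra.subset_adjoin ⟨i, rfl⟩) r
  have hloc : IsLocalization (Algebra.algebraMapSubmonoid A (nonZeroDivisors R)) L := by
    refine (isLocalization_iff _ _).2 ⟨?_, fun l => ?_, fun {x y} hxy => ⟨1, by rw [Subtype.ext (hxy : (x : L) = y)]⟩⟩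
    · rintro ⟨_, r, hr, rfl⟩
      exact (hne ⟨r, hr⟩).isUnit
    · obtain ⟨s, hs⟩ := hsurj l
      exact ⟨⟨⟨_, hs⟩, algebraMap R A s, s, s.2, rfl⟩, by
        show l * algebraMap R L s = (s : R) • l
        rw [Algebra.smul_def, mul_comm]⟩
  exact ⟨A, inferInstance, hloc⟩

theorem generic_of_order (K : Type u) [Field K] [Algebra R K] [IsFractionRing R K] (L : Type u) [Field L]
    [Algebra K L] [Algebra R L] [IsScalarTower R K L] [FiniteDimensional K L] [IsPurelyInseparable K L]
    (A : Type u) [CommRing A] [Algebra R A] [Algebra A L] [IsScalarTower R A L] [Module.Finite R A]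
    (hinj : Function.Injective (algebraMap A L))
    [hloc : IsLocalization (Algebra.algebraMapSubmonoid A (nonZeroDivisors R)) L]
    (hL : ∀ i, Strat L (⊥ : Ideal (L ⊗[R] B i))) :
    ∃ f : R, f ≠ 0 ∧ ∀ (C : Type u) [CommRing C] [Algebra R C], IsUnit (algebraMap R C f) → Good (R := R) B C := by
  classical
  have : IsNoetherianRing A := Algebra.FiniteType.isNoetherianRing R A
  -- stratifications spread out
  have hsp : ∀ i, ∃ d ∈ Algebra.algebraMapSubmonoid A (nonZeroDivisors R),
      Strat (Localization.Away d) (⊥ : Ideal (Localization.Away d ⊗[R] B i)) := fun i => by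
    obtain ⟨d, hd, hst⟩ := strat_spread (R := R) (A := A) (L := L) (Algebra.algebraMapSubmonoid A (nonZeroDivisors R))
      (hL i) ⊥ Ideal.map_bot
    rw [Ideal.map_bot] at hst
    exact ⟨d, hd, hst⟩
  choose d hd hst using hsp
  have : Fintype ι := Fintype.ofFinite ι
  choose r hr hrd using hd
  -- generic freeness
  have : Module.FinitePresentation R A := Module.finitePresentation_of_finite R A
  have hlm : IsLocalizedModule (nonZeroDivisors R) (IsScalarTower.toAlgHom R A L).toLinearMap :=
    isLocalizedModule_iff_isLocalization.2 hloc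
  obtain ⟨g, hg, hgfree, hgrank⟩ := Module.FinitePresentation.exists_free_localizedModule_powers
    (nonZeroDivisors R) (IsScalarTower.toAlgHom R A L).toLinearMap K
  let Rg := Localization.Away g
  have hRgK : (Submonoid.powers g) ≤ nonZeroDivisors R := Submonoid.powers_le.2 hg
  have : IsDomain Rg := IsLocalization.isDomain_localization hRgK
  have : Module.Free Rg (Rg ⊗[R] A) :=
    Module.Free.of_equiv (LocalizedModule.equivTensorProduct (Submonoid.powers g) A)
  have : Nontrivial (Rg ⊗[R] A) := by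
    refine Module.nontrivial_of_finrank_pos (R := Rg) ?_
    rw [← (LocalizedModule.equivTensorProduct (Submonoid.powers g) A).finrank_eq, hgrank]
    exact Module.finrank_pos
  -- pure inseparability
  obtain ⟨q, hq⟩ := ExpChar.exists K
  obtain ⟨T, hT⟩ := Module.Finite.fg_top (R := R) (M := A)
  have hpow : ∀ t : A, ∃ n, ∃ s : nonZeroDivisors R, ∃ r : R,
      (s : R) • t ^ q ^ n = algebraMap R A r := by
    intro t
    obtain ⟨n, k, hk⟩ := IsPurelyInseparable.pow_mem K q (algebraMap A L t)
    obtain ⟨⟨r, s⟩, hrs⟩ := IsLocalization.surj (nonZeroDivisors R) k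
    refine ⟨n, s, r, hinj ?_⟩
    rw [Algebra.smul_def, map_mul, map_pow, ← IsScalarTower.algebraMap_apply, ← IsScalarTower.algebraMap_apply, ← Algebra.smul_def]
    rw [← hk, IsScalarTower.algebraMap_apply R K L r, ← hrs, Algebra.smul_def, map_mul,
      ← IsScalarTower.algebraMap_apply, mul_comm]
  choose n S r' hS using hpow
  let f := g * (∏ i, r i) * ∏ t ∈ T, (S t : R)
  refine ⟨f, ?_, fun C _ _ hf => ?_⟩
  · refine mul_ne_zero (mul_ne_zero (nonZeroDivisors.ne_zero hg) ?_) ?_
    · exact Finset.prod_ne_zero_iff.2 fun i _ => nonZeroDivisors.ne_zero (hr i)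
    · exact Finset.prod_ne_zero_iff.2 fun t _ => nonZeroDivisors.ne_zero (S t).2
  rw [map_mul, map_mul, IsUnit.mul_iff, IsUnit.mul_iff, map_prod, map_prod,
    IsUnit.prod_univ_iff] at hf
  obtain ⟨⟨hgu, hru⟩, hSu⟩ := hf
  rw [IsUnit.prod_iff] at hSu
  let : Algebra Rg C := (IsLocalization.Away.lift g hgu).toAlgebra
  have : IsScalarTower R Rg C :=
    IsScalarTower.of_algebraMap_eq fun x => (IsLocalization.Away.lift_eq g hgu x).symm
  let e : C ⊗[Rg] (Rg ⊗[R] A) ≃ₗ[C] C ⊗[R] A :=
    AlgebraTensorModule.cancelBaseChange R Rg C C A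
  refine ⟨C ⊗[R] A, inferInstance, inferInstance, inferInstance, inferInstance, .of_equiv e,
    inferInstance, Module.FaithfullyFlat.of_linearEquiv _ _ e.symm, ?_, fun i => ?_⟩
  · refine pi_tensor q ?_ (T : Set A) hT fun t ht => ⟨n t, r' t, (S t : R), hSu t ht, hS t⟩
    cases hq with
    | zero => exact Or.inl rfl
    | prime hp =>
      refine Or.inr ⟨hp, ?_⟩
      have h0 : (q : R) = 0 := IsFractionRing.injective R K (by rw [map_natCast, CharP.cast_eq_zero, map_zero])
      rw [← map_natCast (algebraMap R C), h0, map_zero]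
  · let := (Algebra.TensorProduct.rightAlgebra : Algebra A (C ⊗[R] A))
    refine strat_map_bot (awayHom (R := R) (d i) ?_) (hst i)
    rw [← hrd i]
    show IsUnit ((1 : C) ⊗ₜ[R] algebraMap R A (r i))
    rw [← Algebra.TensorProduct.tmul_one_eq_one_tmul]
    show IsUnit (algebraMap C (C ⊗[R] A) (algebraMap R C (r i)))
    exact (hru i).map _

/-- The generic stratum of a Noetherian domain. -/
theorem exists_generic :
    ∃ f : R, f ≠ 0 ∧ ∀ (C : Type u) [CommRing C] [Algebra R C], IsUnit (algebraMap R C f) → Good (R := R) B C := by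
  let K := FractionRing R
  obtain ⟨L, hfd, hL⟩ := exists_field_strat (R := R) (K := K) (P := perfectClosure K (AlgebraicClosure K)) B
  obtain ⟨A, hA, hloc⟩ := exists_order (R := R) K L
  exact generic_of_order B K L A Subtype.val_injective hL

end Domain

section Global

variable {R : Type u} [CommRing R] {ι : Type*}

/-- The step of the stratification of the base. -/
def GoodStep (B : ι → Type u) [∀ i, CommRing (B i)] [∀ i, Algebra R (B i)] (I : Ideal R) (c : R) : Prop :=
  ∀ (C : Type u) [CommRing C] [Algebra R C],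
    I.map (algebraMap R C) = ⊥ → IsUnit (algebraMap R C c) → Good (R := R) B C

theorem Good.of_subsingleton (B : ι → Type u) [∀ i, CommRing (B i)] [∀ i, Algebra R (B i)]
    (C : Type u) [CommRing C] [Algebra R C] [Subsingleton C] : Good (R := R) B C := by
  refine ⟨C, inferInstance, inferInstance, inferInstance, inferInstance, inferInstance, inferInstance,
    inferInstance, ⟨1, Or.inl rfl, fun x => ⟨0, x, Subsingleton.elim _ _⟩⟩, fun i => ?_⟩
  have : Subsingleton (C ⊗[R] B i) := Module.subsingleton C _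
  rw [Subsingleton.elim (⊥ : Ideal (C ⊗[R] B i)) ⊤]
  exact .top

theorem Good.congr {B B' : ι → Type u} [∀ i, CommRing (B i)] [∀ i, Algebra R (B i)]
    [∀ i, CommRing (B' i)] [∀ i, Algebra R (B' i)] (e : ∀ i, B i ≃ₐ[R] B' i)
    {C : Type u} [CommRing C] [Algebra R C] (h : Good (R := R) B C) : Good (R := R) B' C := by
  obtain ⟨C', _, _, _, _, h1, h2, h3, h4, h5⟩ := h
  refine ⟨C', inferInstance, inferInstance, inferInstance, inferInstance, h1, h2, h3, h4, fun i => ?_⟩
  have h6 := Strat.congr (Algebra.TensorProduct.congr (AlgEquiv.refl (R := C') (A₁ := C')) (e i)).toAlgHom (Algebra.TensorProduct.congr (AlgEquiv.refl (R := C') (A₁ := C')) (e i)).bijective (h5 i)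
  rwa [Ideal.map_bot] at h6

theorem good_tensor_iff {R₀ : Type u} [CommRing R₀] [Algebra R₀ R] (B : ι → Type u)
    [∀ i, CommRing (B i)] [∀ i, Algebra R₀ (B i)] (C : Type u) [CommRing C] [Algebra R C]
    [Algebra R₀ C] [IsScalarTower R₀ R C] :
    Good (R := R) (fun i => R ⊗[R₀] B i) C ↔ Good (R := R₀) B C := by
  constructor
  · rintro ⟨C', _, _, _, _, h1, h2, h3, h4, h5⟩
    let : Algebra R₀ C' := ((algebraMap C C').comp (algebraMap R₀ C)).toAlgebra
    have : IsScalarTower R₀ C C' := IsScalarTower.of_algebraMap_eq fun _ => rfl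
    have : IsScalarTower R₀ R C' := IsScalarTower.of_algebraMap_eq fun r => by
      rw [IsScalarTower.algebraMap_apply R C C', ← IsScalarTower.algebraMap_apply R₀ R C]
      rfl
    refine ⟨C', inferInstance, inferInstance, inferInstance, inferInstance, h1, h2, h3, h4, fun i => ?_⟩
    have h6 := Strat.congr (Algebra.TensorProduct.cancelBaseChange R₀ R C' C' (B i)).toAlgHom (Algebra.TensorProduct.cancelBaseChange R₀ R C' C' (B i)).bijective (h5 i)
    rwa [Ideal.map_bot] at h6
  · rintro ⟨C', _, _, _, _, h1, h2, h3, h4, h5⟩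
    let : Algebra R C' := ((algebraMap C C').comp (algebraMap R C)).toAlgebra
    have : IsScalarTower R C C' := IsScalarTower.of_algebraMap_eq fun _ => rfl
    have : IsScalarTower R₀ R C' := IsScalarTower.of_algebraMap_eq fun r => by
      rw [IsScalarTower.algebraMap_apply R₀ C C', IsScalarTower.algebraMap_apply R₀ R C]
      rfl
    refine ⟨C', inferInstance, inferInstance, inferInstance, inferInstance, h1, h2, h3, h4, fun i => ?_⟩
    have h6 := Strat.congr (Algebra.TensorProduct.cancelBaseChange R₀ R C' C' (B i)).symm.toAlgHom (Algebra.TensorProduct.cancelBaseChange R₀ R C' C' (B i)).symm.bijective (h5 i)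
    rwa [Ideal.map_bot] at h6

variable [Finite ι]

/-- Near a prime of a Noetherian ring. -/
theorem exists_good_on_prime [IsNoetherianRing R] (B : ι → Type u) [∀ i, CommRing (B i)]
    [∀ i, Algebra R (B i)] [∀ i, Algebra.FiniteType R (B i)] (p : Ideal R) [p.IsPrime] :
    ∃ f : R, f ∉ p ∧ GoodStep B p f := by
  obtain ⟨fb, hfb, hgood⟩ := exists_generic (R := R ⧸ p) (fun i => (R ⧸ p) ⊗[R] B i)
  obtain ⟨f, rfl⟩ := Ideal.Quotient.mk_surjective fb
  refine ⟨f, fun hf => hfb (Ideal.Quotient.eq_zero_iff_mem.2 hf), fun C _ _ hp hu => ?_⟩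
  let : Algebra (R ⧸ p) C := (Ideal.Quotient.lift p (algebraMap R C) fun x hx =>
    (Submodule.mem_bot C).1 (hp ▸ Ideal.mem_map_of_mem _ hx)).toAlgebra
  have : IsScalarTower R (R ⧸ p) C := IsScalarTower.of_algebraMap_eq fun r => rfl
  exact (good_tensor_iff (R := R ⧸ p) B C).1 (hgood C hu)

theorem exists_chain_noetherian [IsNoetherianRing R] (B : ι → Type u) [∀ i, CommRing (B i)]
    [∀ i, Algebra R (B i)] [∀ i, Algebra.FiniteType R (B i)] (I : Ideal R) : Chain (GoodStep B) I := by
  refine Chain.of_noetherian (fun I c hc => ?_) (fun I hrad hI => ?_) I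
  · intro C _ _ h1 h2
    obtain ⟨n, hn⟩ := hc
    have h3 : algebraMap R C (c ^ n) = 0 := (Submodule.mem_bot C).1 (h1 ▸ Ideal.mem_map_of_mem _ hn)
    have : IsUnit (0 : C) := h3 ▸ by rw [map_pow]; exact h2.pow n
    have : Subsingleton C := subsingleton_of_zero_eq_one (isUnit_zero_iff.1 this)
    exact Good.of_subsingleton B C
  classical
  obtain ⟨⟨p, hp⟩⟩ := Ideal.nonempty_minimalPrimes hI
  have := hp.1.1
  have hfin := Ideal.finite_minimalPrimes_of_isNoetherianRing R I
  have hsep : ∀ q ∈ I.minimalPrimes, q ≠ p → ∃ g, g ∈ q ∧ g ∉ p := fun q hq hne => by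
    by_contra! hle
    exact hne (le_antisymm hle (hp.2 hq.1 hle))
  choose! g hgq hgp using hsep
  let G := ∏ q ∈ hfin.toFinset.erase p, g q
  have hGp : G ∉ p := fun hG => by
    obtain ⟨q, hq, hgq'⟩ := (Ideal.IsPrime.prod_mem_iff (p := p)).1 hG
    exact hgp q (hfin.mem_toFinset.1 (Finset.mem_of_mem_erase hq)) (Finset.ne_of_mem_erase hq) hgq'
  obtain ⟨f, hf, hgood⟩ := exists_good_on_prime B p
  refine ⟨G * f, fun h => (Ideal.IsPrime.mem_or_mem ‹_› (hp.1.2 h)).elim hGp hf, fun C _ _ h1 h2 => ?_⟩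
  rw [map_mul, IsUnit.mul_iff] at h2
  refine hgood C (eq_bot_iff.2 (Ideal.map_le_iff_le_comap.2 fun x hx => ?_)) h2.2
  rw [Ideal.mem_comap, Submodule.mem_bot]
  have hGx : G * x ∈ I := by
    rw [← hrad.radical, ← Ideal.sInf_minimalPrimes, Submodule.mem_sInf]
    intro q hq
    by_cases hqp : q = p
    · subst hqp; exact Ideal.mul_mem_left _ _ hx
    · exact Ideal.mul_mem_right _ _ (Ideal.prod_mem q (Finset.mem_erase.2
        ⟨hqp, hfin.mem_toFinset.2 hq⟩) (hgq q hq hqp))
  have h3 : algebraMap R C (G * x) = 0 := (Submodule.mem_bot C).1 (h1 ▸ Ideal.mem_map_of_mem _ hGx)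
  rw [map_mul] at h3
  exact (h2.1.mul_right_eq_zero).1 h3

/-- A common model over a Noetherian ring. -/
theorem exists_model (B : ι → Type u) [∀ i, CommRing (B i)] [∀ i, Algebra R (B i)]
    [∀ i, Algebra.FinitePresentation R (B i)] :
    ∃ (R₀ : Type u) (_ : CommRing R₀) (_ : Algebra R₀ R) (_ : IsNoetherianRing R₀)
      (B₀ : ι → Type u) (_ : ∀ i, CommRing (B₀ i)) (_ : ∀ i, Algebra R₀ (B₀ i)),
      (∀ i, Algebra.FiniteType R₀ (B₀ i)) ∧ Nonempty (∀ i, R ⊗[R₀] B₀ i ≃ₐ[R] B i) := by
  let P := fun i => Algebra.Presentation.ofFinitePresentation R (B i)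
  let R₀ : Subalgebra ℤ R := Algebra.adjoin ℤ (⋃ i, (P i).coeffs)
  have : Algebra.FiniteType ℤ R₀ :=
    Algebra.FiniteType.adjoin_of_finite (Set.finite_iUnion fun i => (P i).finite_coeffs)
  have : IsNoetherianRing R₀ := Algebra.FiniteType.isNoetherianRing ℤ R₀
  have : ∀ i, (P i).HasCoeffs R₀ := fun i => ⟨fun x hx =>
    ⟨⟨x, Algebra.subset_adjoin (Set.mem_iUnion.2 ⟨i, hx⟩)⟩, rfl⟩⟩
  exact ⟨R₀, inferInstance, inferInstance, inferInstance, fun i => (P i).ModelOfHasCoeffs R₀,
    fun i => inferInstance, fun i => inferInstance, fun i => inferInstance,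
    ⟨fun i => (P i).tensorModelOfHasCoeffsEquiv R₀⟩⟩

/-- Over any ring finitely many algebras of finite presentation have a stratification of the base
with good strata. -/
theorem exists_chain (B : ι → Type u) [∀ i, CommRing (B i)] [∀ i, Algebra R (B i)]
    [∀ i, Algebra.FinitePresentation R (B i)] (J₀ : Ideal R) : Chain (GoodStep B) J₀ := by
  obtain ⟨R₀, _, _, _, B₀, _, _, _, ⟨e⟩⟩ := exists_model (R := R) B
  have h := exists_chain_noetherian B₀ (⊥ : Ideal R₀)
  suffices ∀ I, Chain (GoodStep B₀) I → Chain (GoodStep B) (J₀ ⊔ I.map (algebraMap R₀ R)) by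
    have := this ⊥ h
    rwa [Ideal.map_bot, sup_bot_eq] at this
  intro I hI
  induction hI with
  | top => rw [Ideal.map_top, sup_top_eq]; exact .top
  | step I c hc _ ih =>
    refine Chain.step _ (algebraMap R₀ R c) (fun C _ _ h1 h2 => ?_) ?_
    · let : Algebra R₀ C := ((algebraMap R C).comp (algebraMap R₀ R)).toAlgebra
      have : IsScalarTower R₀ R C := IsScalarTower.of_algebraMap_eq fun r => rfl
      rw [Ideal.map_sup, sup_eq_bot_iff, Ideal.map_map] at h1
      exact ((good_tensor_iff B₀ C).2 (hc C h1.2 h2)).congr e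
    · rw [sup_assoc, ← map_sup_span]
      exact ih

/-- Near a minimal prime of a reduced ring. -/
theorem exists_good_minimal [IsReduced R] (B : ι → Type u) [∀ i, CommRing (B i)]
    [∀ i, Algebra R (B i)] [∀ i, Algebra.FinitePresentation R (B i)] (p : Ideal R) [p.IsPrime]
    (hp : p ∈ minimalPrimes R) : ∃ f : R, f ∉ p ∧ GoodStep B ⊥ f := by
  obtain ⟨R₀, _, _, _, B₀, _, _, _, ⟨e⟩⟩ := exists_model (R := R) B
  let p₀ := p.comap (algebraMap R₀ R)
  obtain ⟨f₀, hf₀, hgood⟩ := exists_good_on_prime B₀ p₀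
  have hfield : IsField (Localization.AtPrime p) := by
    have : Ring.KrullDimLE 0 (Localization.AtPrime p) := Ring.KrullDimLE.of_isLocalization p hp _
    have : IsReduced (Localization.AtPrime p) :=
      isReduced_localizationPreserves p.primeCompl _ inferInstance
    exact Ring.KrullDimLE.isField_of_isReduced
  have hkill : ∀ x ∈ p, ∃ s ∉ p, s * x = 0 := by
    intro x hx
    have hnu : ¬ IsUnit (algebraMap R (Localization.AtPrime p) x) := fun h =>
      (IsLocalization.AtPrime.isUnit_to_map_iff _ p x).1 h hx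
    let := hfield.toField
    rw [isUnit_iff_ne_zero, not_not] at hnu
    obtain ⟨⟨s, hs⟩, hsx⟩ := (IsLocalization.map_eq_zero_iff p.primeCompl _ x).1 hnu
    exact ⟨s, hs, hsx⟩
  choose! σ hσ hσx using hkill
  obtain ⟨T, hT⟩ := (IsNoetherian.noetherian p₀ : p₀.FG)
  have hTp : ∀ t ∈ T, algebraMap R₀ R t ∈ p := fun t ht => by
    show t ∈ p₀
    rw [← hT]
    exact Ideal.subset_span ht
  refine ⟨algebraMap R₀ R f₀ * ∏ t ∈ T, σ (algebraMap R₀ R t), ?_, fun C _ _ _ hu => ?_⟩
  · intro h
    rcases Ideal.IsPrime.mem_or_mem ‹p.IsPrime› h with h | h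
    · exact hf₀ h
    · obtain ⟨t, ht, ht'⟩ := (Ideal.IsPrime.prod_mem_iff (p := p)).1 h
      exact hσ _ (hTp t ht) ht'
  let : Algebra R₀ C := ((algebraMap R C).comp (algebraMap R₀ R)).toAlgebra
  have : IsScalarTower R₀ R C := IsScalarTower.of_algebraMap_eq fun r => rfl
  rw [map_mul, map_prod, IsUnit.mul_iff, IsUnit.prod_iff] at hu
  refine ((good_tensor_iff B₀ C).2 (hgood C ?_ hu.1)).congr e
  rw [← hT, Ideal.map_span, Ideal.span_eq_bot]
  rintro _ ⟨t, ht, rfl⟩
  have h1 : algebraMap R C (σ (algebraMap R₀ R t)) * algebraMap R C (algebraMap R₀ R t) = 0 := by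
    rw [← map_mul, hσx _ (hTp t ht), map_zero]
  exact ((hu.2 t ht).mul_right_eq_zero).1 h1

end Global

end Groth.Agent.Lib.Flat55.SmoothStrataRing
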