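import Groth.Agent.Lib.Flat55.SmoothStrataPieces
import Groth.Agent.Lib.Flat55.SmoothStrataRing
import Groth.Agent.H75.UH.Res
import Mathlib.AlgebraicGeometry.Morphisms.Finite
import Groth.Prelude.Def_Mor2

/-!
# The smoothness stratification
-/

set_option autoImplicit false

universe u

open CategoryTheory CategoryTheory.Limits AlgebraicGeometry TopologicalSpace Opposite TensorProduct
open Groth.Agent.Lib Groth.Agent.Lib.Flat55.StrataChain Groth.Agent.Lib.Flat55.SmoothStrataRing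
open Groth.Agent.Lib.Lim.IdealExt (IsFG isFG_bot isFG_sup exists_isFG_le)
open Groth.Agent.Lib.Flat55.GenericStrataScheme (isFG_mul support_sup exists_isFG_support exists_fin
  map_ideal_eq_zero isUnit_appLE)
open Groth.Agent.Lib.Flat55.SmoothStrataScheme Groth.Agent.Lib.Flat55.SmoothStrataPieces

namespace Groth.Agent.Lib.Flat55.SmoothStrataMain

theorem universallyInjective_of_pi {C C' : Type u} [CommRing C] [CommRing C'] [Algebra C C']
    (h : PI C C') : UniversallyInjective (Spec.map (CommRingCat.ofHom (algebraMap C C'))) := by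
  refine H75.UH.Radicial.universallyInjective fun p hp b => ?_
  obtain ⟨q, hq, hall⟩ := h
  obtain ⟨n, a, ha⟩ := hall b
  have key : ∀ x : C', x = algebraMap C C' a → H75.UH.URes (algebraMap C C') p x := fun x hx =>
    ⟨1, a, fun h1 => hp.ne_top ((Ideal.eq_top_iff_one p).2 h1), fun Q _ _ => by
      rw [hx, map_one, one_mul, sub_self]; exact Q.zero_mem⟩
  rcases hq with rfl | ⟨hl, h0⟩
  · exact Or.inl (key b (by rw [ha, one_pow, pow_one]))
  · exact Or.inr ⟨q, hl, h0 ▸ p.zero_mem, n, key _ ha.symm⟩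

variable {X S : Scheme.{u}} (f : X ⟶ S)

/-- `w` acquires a smooth stratification after a finite locally free radicial cover. -/
def Q {W : Scheme.{u}} (w : W ⟶ S) : Prop :=
  ∃ (T : Scheme.{u}) (v : T ⟶ W), Surjective v ∧ Mor2.IsFinLocFree v ∧ UniversallyInjective v ∧
    Relation.ReflTransGen (SStep (pullback.snd f (v ≫ w))) ⊥ ⊤

/-- The finite stratification of a chain. -/
theorem exists_fin_strata {Y T : Scheme.{u}} (h : Y ⟶ T) (hch : Relation.ReflTransGen (SStep h) ⊥ ⊤) :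
    ∃ (t : ℕ) (J : Fin (t + 1) → Y.IdealSheafData), Monotone J ∧ J (Fin.last t) = ⊤ ∧
      ((J 0).support : Set Y) = Set.univ ∧ (∀ i, ∀ O : Y.affineOpens, ((J i).ideal O).FG) ∧
      ∀ i : Fin t, Smooth (((J i.castSucc).subschemeι ⁻¹ᵁ (J i.succ).support.compl).ι ≫
        (J i.castSucc).subschemeι ≫ h) := by
  obtain ⟨t, J, h0, hl, hJ⟩ := exists_fin hch
  refine ⟨t, J, Fin.monotone_iff_le_succ.2 fun i => (hJ i).1, hl, ?_, fun i => ?_, fun i => (hJ i).2.2⟩
  · rw [h0, Scheme.IdealSheafData.support_bot]; rfl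
  · refine Fin.cases ?_ (fun j => (hJ j).2.1) i
    rw [h0]
    exact isFG_bot

/-- The map from the sections over the base open. -/
theorem appLE_lift {W : Scheme.{u}} (w : W ⟶ S) (U : S.Opens) (H : Set.range w ⊆ Set.range U.ι)
    (e : (⊤ : W.Opens) ≤ w ⁻¹ᵁ U) (e' : (⊤ : U.toScheme.Opens) ≤ U.ι ⁻¹ᵁ U) :
    U.ι.appLE U ⊤ e' ≫ (IsOpenImmersion.lift U.ι w H).appTop = w.appLE U ⊤ e := by
  have h := IsOpenImmersion.lift_fac U.ι w H
  generalize IsOpenImmersion.lift U.ι w H = u at h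
  subst h
  rw [show u.appTop = u.appLE ⊤ ⊤ le_rfl from (Scheme.Hom.appLE_eq_app u (U := ⊤)).symm,
    Scheme.Hom.appLE_comp_appLE]

variable [LocallyOfFinitePresentation f] [QuasiCompact f] [QuasiSeparated f]

/-- Algebras controlling the part of `f` over an affine open. -/
theorem exists_pieces_over (U : S.affineOpens) :
    ∃ (ι : Type) (_ : Finite ι) (B : ι → Type u) (_ : ∀ i, CommRing (B i))
      (_ : ∀ i, Algebra Γ(U.1.toScheme, ⊤) (B i)), (∀ i, Algebra.FinitePresentation Γ(U.1.toScheme, ⊤) (B i)) ∧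
      ∀ {W : Scheme.{u}} [IsAffine W] (w : W ⟶ S) (H : Set.range w ⊆ Set.range U.1.ι),
        (letI := (IsOpenImmersion.lift U.1.ι w H).appTop.hom.toAlgebra
         Good (R := Γ(U.1.toScheme, ⊤)) B Γ(W, ⊤)) → Q f w := by
  have : IsAffine U.1.toScheme := U.2
  have : CompactSpace (f ⁻¹ᵁ U.1).toScheme := QuasiCompact.compactSpace_of_compactSpace (f ∣_ U.1)
  have : QuasiSeparated (f ∣_ U.1) :=
    MorphismProperty.of_isPullback (isPullback_morphismRestrict f U.1).flip ‹_›
  have : QuasiSeparatedSpace (f ⁻¹ᵁ U.1).toScheme := quasiSeparatedSpace_of_quasiSeparated (f ∣_ U.1)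
  obtain ⟨ι, _, B, _, _, hB, hst⟩ := exists_pieces (f ∣_ U.1)
  refine ⟨ι, inferInstance, B, inferInstance, inferInstance, hB, fun {W} _ w H hgood => ?_⟩
  let u := IsOpenImmersion.lift U.1.ι w H
  let : Algebra Γ(U.1.toScheme, ⊤) Γ(W, ⊤) := u.appTop.hom.toAlgebra
  obtain ⟨C', _, _, _, _, hfree, hfin, hff, hpi, hstrat⟩ := hgood
  let φ : Γ(W, ⊤) ⟶ CommRingCat.of C' := CommRingCat.ofHom (algebraMap Γ(W, ⊤) C')
  let T := Spec (CommRingCat.of C')
  let v : T ⟶ W := Spec.map φ ≫ W.isoSpec.inv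
  have h1 : IsFinite (Spec.map φ) := (IsFinite.SpecMap_iff φ).2 (RingHom.finite_algebraMap.2 hfin)
  have h2 : Flat (Spec.map φ) := Flat.SpecMap_iff.2 (RingHom.flat_algebraMap_iff.2 inferInstance)
  have h3 : LocallyOfFinitePresentation (Spec.map φ) := by
    rw [HasRingHomProperty.Spec_iff (P := @LocallyOfFinitePresentation)]
    have : Module.FinitePresentation Γ(W, ⊤) C' := Module.finitePresentation_of_projective _ _
    have : Algebra.FinitePresentation Γ(W, ⊤) C' := Algebra.FinitePresentation.of_finitePresentation _ _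
    exact RingHom.finitePresentation_algebraMap.2 this
  have h4 : Surjective (Spec.map φ) :=
    ⟨fun x => PrimeSpectrum.comap_surjective_of_faithfullyFlat (A := Γ(W, ⊤)) (B := C') x⟩
  have h5 : UniversallyInjective (Spec.map φ) := universallyInjective_of_pi hpi
  refine ⟨T, v, inferInstance, ⟨inferInstance, inferInstance, inferInstance⟩,
    MorphismProperty.comp_mem @UniversallyInjective _ _ h5 inferInstance, ?_⟩
  let g : T ⟶ U.1.toScheme := v ≫ u
  have hg : g ≫ U.1.ι = v ≫ w := by simp [g, u]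
  have sqU := (isPullback_morphismRestrict f U.1).flip
  let P := pullback f (v ≫ w)
  let p : P ⟶ (f ⁻¹ᵁ U.1).toScheme := sqU.lift (pullback.fst f (v ≫ w)) (pullback.snd f (v ≫ w) ≫ g)
    (pullback.condition.trans ((congrArg (pullback.snd f (v ≫ w) ≫ ·) hg.symm).trans
      (Category.assoc _ _ _).symm))
  have sq : IsPullback p (pullback.snd f (v ≫ w)) (f ∣_ U.1) g := by
    refine IsPullback.of_right ?_ (sqU.lift_snd _ _ _) sqU
    rw [sqU.lift_fst, hg]
    exact IsPullback.of_hasPullback f (v ≫ w)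
  refine hst p _ g sq ?_
  let : Algebra Γ(U.1.toScheme, ⊤) Γ(T, ⊤) := g.appTop.hom.toAlgebra
  have hnat : g.appTop.hom = (Scheme.ΓSpecIso (CommRingCat.of C')).inv.hom.comp
      (algebraMap Γ(U.1.toScheme, ⊤) C') := by
    have e : g.appTop = u.appTop ≫ φ ≫ (Scheme.ΓSpecIso (CommRingCat.of C')).inv := by
      simp only [g, v, Scheme.Hom.comp_appTop]
      rw [Scheme.ΓSpecIso_inv_naturality]
      congr 1
      congr 1
      have h6 := congrArg Scheme.Hom.appTop W.isoSpec.hom_inv_id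
      rw [Scheme.Hom.comp_appTop, Scheme.isoSpec_hom, Scheme.toSpecΓ_appTop] at h6
      exact (Iso.comp_hom_eq_id _).1 (h6.trans (by simp))
    rw [e, IsScalarTower.algebraMap_eq Γ(U.1.toScheme, ⊤) Γ(W, ⊤) C']
    rfl
  let F : C' →ₐ[Γ(U.1.toScheme, ⊤)] Γ(T, ⊤) :=
    { (Scheme.ΓSpecIso (CommRingCat.of C')).inv.hom with
      commutes' := fun r => (RingHom.congr_fun hnat r).symm }
  exact fun i => StrataBC.strat_map_bot F (hstrat i)

/-- The strata of the base. -/
def BStep (K K' : S.IdealSheafData) : Prop :=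
  K ≤ K' ∧ IsFG K' ∧ Q f ((K.subschemeι ⁻¹ᵁ K'.support.compl).ι ≫ K.subschemeι)

variable [CompactSpace S] [QuasiSeparatedSpace S]

theorem base_chain_affine (U : S.affineOpens) {JU L : S.IdealSheafData} (hJU : IsFG JU)
    (hsupp : (JU.support : Set S) = (U.1 : Set S)ᶜ) (hL : IsFG L) :
    Relation.ReflTransGen (BStep f) L (L ⊔ JU) := by
  have : IsAffine U.1.toScheme := U.2
  obtain ⟨ι, _, B, _, _, hB, hQ⟩ := exists_pieces_over f U
  have hle : (⊤ : U.1.toScheme.Opens) ≤ U.1.ι ⁻¹ᵁ U.1 := by rw [U.1.ι_preimage_self]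
  let θ : Γ(S, U.1) ⟶ Γ(U.1.toScheme, ⊤) := U.1.ι.appLE U.1 ⊤ hle
  have hθ : Function.Bijective θ := by
    have : IsIso θ := by
      dsimp only [θ]
      rw [Scheme.Opens.ι_appLE]
      have key : ∀ {V W : S.Opens} (h : W ≤ V), V = W → IsIso (S.presheaf.map (homOfLE h).op) := by
        rintro V _ h rfl
        rw [show homOfLE h = 𝟙 V from rfl]
        infer_instance
      exact key _ U.1.ι_image_top.symm
    exact ConcreteCategory.bijective_of_isIso θ
  let e := RingEquiv.ofBijective θ.hom hθ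
  have hsymm : ∀ J : Ideal Γ(U.1.toScheme, ⊤), (J.map e.symm.toRingHom).map θ.hom = J := fun J => by
    rw [Ideal.map_map]
    convert Ideal.map_id J using 2
    exact RingHom.ext fun x => e.apply_symm_apply x
  let P : Ideal Γ(S, U.1) → Γ(S, U.1) → Prop := fun J c => GoodStep B (J.map θ.hom) (θ c)
  have hchain : Chain P (L.ideal U) := by
    have h := Chain.map (P' := P) e.symm.toRingHom (fun J c hJ => by
      show GoodStep B ((J.map e.symm.toRingHom).map θ.hom) (θ (e.symm c))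
      rw [hsymm, show θ (e.symm c) = c from e.apply_symm_apply c]
      exact hJ) (exists_chain B ((L.ideal U).map θ.hom))
    rwa [Ideal.map_map, show e.symm.toRingHom.comp θ.hom = RingHom.id _ from
      RingHom.ext fun x => e.symm_apply_apply x, Ideal.map_id] at h
  let I' := L ⊔ JU
  have hI'U : I'.ideal U = ⊤ := top_le_iff.1 (by
    rw [← ideal_eq_top_of_support JU U hsupp.subset]
    exact (le_sup_right : JU ≤ I') U)
  have hout : ∀ K K' : S.IdealSheafData, L ≤ K → K' ≤ I' → ∀ s ∈ (K.support : Set S), s ∉ U.1 →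
      s ∈ K'.support := fun K K' h1 h2 s hs hsV => Scheme.IdealSheafData.support_antitone h2 (by
    show s ∈ ((L ⊔ JU).support : Set S)
    rw [support_sup, hsupp]
    exact ⟨Scheme.IdealSheafData.support_antitone h1 hs, hsV⟩)
  suffices ∀ J : Ideal Γ(S, U.1), Chain P J → ∀ K, IsFG K → L ≤ K → K ≤ I' → K.ideal U = J →
      Relation.ReflTransGen (BStep f) K I' from this _ hchain L hL le_rfl le_sup_left rfl
  intro J hJ
  induction hJ with
  | top =>
    intro K _ h1 h2 h3
    refine Relation.ReflTransGen.single ⟨h2, isFG_sup hL hJU, ?_⟩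
    have : IsEmpty (K.subschemeι ⁻¹ᵁ I'.support.compl).toScheme := ⟨fun w => by
      have hs : K.subschemeι w.1 ∈ (K.support : Set S) := by
        rw [← K.range_subschemeι]; exact ⟨w.1, rfl⟩
      refine w.2 ?_
      by_cases hV : K.subschemeι w.1 ∈ U.1
      · exfalso
        rw [SetLike.mem_coe, Scheme.IdealSheafData.mem_support_iff_of_mem hV, h3, Scheme.mem_zeroLocus_iff] at hs
        exact hs 1 trivial (by rw [Scheme.basicOpen_of_isUnit _ isUnit_one]; exact hV)
      · exact hout K I' h1 le_rfl _ hs hV⟩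
    refine hQ _ (by rintro _ ⟨w, rfl⟩; exact isEmptyElim w) ?_
    let := (IsOpenImmersion.lift U.1.ι ((K.subschemeι ⁻¹ᵁ I'.support.compl).ι ≫ K.subschemeι)
      (by rintro _ ⟨w, rfl⟩; exact isEmptyElim w)).appTop.hom.toAlgebra
    exact Good.of_subsingleton B _
  | step J c hc _ ih =>
    intro K hK h1 h2 h3
    subst h3
    have hfg : (K.ideal U ⊔ Ideal.span {c}).FG := Submodule.FG.sup (hK U) ⟨{c}, by simp⟩
    obtain ⟨E, -, hE, hEV⟩ := exists_isFG_le (⊤ : S.IdealSheafData) U _ hfg (by simp)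
    let K' := K ⊔ I' * E
    have hK'V : K'.ideal U = K.ideal U ⊔ Ideal.span {c} := by
      simp only [K', Scheme.IdealSheafData.ideal_sup, Pi.sup_apply, Scheme.IdealSheafData.ideal_mul,
        Pi.mul_apply, hEV, hI'U, Ideal.top_mul]
      rw [← sup_assoc, sup_idem]
    have hK'le : K' ≤ I' := sup_le h2 fun V => by
      rw [Scheme.IdealSheafData.ideal_mul, Pi.mul_apply]; exact Ideal.mul_le_left
    have hK'fg : IsFG K' := isFG_sup hK (isFG_mul (isFG_sup hL hJU) hE)
    refine Relation.ReflTransGen.head ⟨le_sup_left, hK'fg, ?_⟩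
      (ih K' hK'fg (h1.trans le_sup_left) hK'le hK'V)
    rw [stratum_eq U c hK'V (fun s => hout K K' h1 hK'le s)]
    let W := K.subschemeι ⁻¹ᵁ S.basicOpen c
    have : IsAffine W.toScheme := (S.affineBasicOpen c).2.preimage K.subschemeι
    have hrange : ∀ z : W.toScheme, (W.ι ≫ K.subschemeι) z ∈ S.basicOpen c := fun z => z.2
    have H : Set.range (W.ι ≫ K.subschemeι) ⊆ Set.range U.1.ι := by
      rintro _ ⟨z, rfl⟩
      rw [Scheme.Opens.range_ι]
      exact S.basicOpen_le c (hrange z)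
    refine hQ (W.ι ≫ K.subschemeι) H ?_
    let := (IsOpenImmersion.lift U.1.ι (W.ι ≫ K.subschemeι) H).appTop.hom.toAlgebra
    have e0 : (⊤ : W.toScheme.Opens) ≤ (W.ι ≫ K.subschemeι) ⁻¹ᵁ U.1 :=
      fun z _ => S.basicOpen_le c (hrange z)
    have hmap : ∀ r, algebraMap Γ(U.1.toScheme, ⊤) Γ(W.toScheme, ⊤) (θ r) =
        (W.ι ≫ K.subschemeι).appLE U.1 ⊤ e0 r := fun r => by
      rw [← appLE_lift _ U.1 H e0 hle]; rfl
    refine hc Γ(W.toScheme, ⊤) ?_ ?_
    · rw [Ideal.map_map, eq_bot_iff, Ideal.map_le_iff_le_comap]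
      intro r hr
      rw [Ideal.mem_comap, RingHom.comp_apply, Submodule.mem_bot, hmap]
      exact map_ideal_eq_zero K W.ι U e0 hr
    · rw [hmap]
      exact isUnit_appLE (W.ι ≫ K.subschemeι) e0 c hrange

theorem smoothness_stratification :
    ∃ (t : ℕ) (I : Fin (t + 1) → S.IdealSheafData), I 0 = ⊥ ∧ I (Fin.last t) = ⊤ ∧
      (∀ i, IsFG (I i)) ∧ ∀ i : Fin t, BStep f (I i.castSucc) (I i.succ) := by
  classical
  obtain ⟨𝒮, h𝒮⟩ := isCompact_univ.elim_finite_subcover (fun U : S.affineOpens => (U.1 : Set S))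
    (fun U => U.1.2) (fun x _ => by
      obtain ⟨_, ⟨U, hU, rfl⟩, hxU, -⟩ :=
        S.isBasis_affineOpens.exists_subset_of_mem_open (Set.mem_univ x) isOpen_univ
      exact Set.mem_iUnion.mpr ⟨⟨U, hU⟩, hxU⟩)
  have key : ∀ (Us : List S.affineOpens) (K : S.IdealSheafData), IsFG K →
      (∀ s ∈ (K.support : Set S), ∃ U ∈ Us, s ∈ U.1) → Relation.ReflTransGen (BStep f) K ⊤ := by
    intro Us
    induction Us with
    | nil =>
      intro K _ h
      rw [(Scheme.IdealSheafData.support_eq_bot_iff _).1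
        (Closeds.ext (Set.eq_empty_of_forall_notMem fun s hs => by simpa using h s hs) : K.support = ⊥)]
    | cons U Us ih =>
      intro K hK h
      obtain ⟨JU, hJU, hsupp⟩ := exists_isFG_support U.1 U.2.isCompact
      refine (base_chain_affine f U hJU hsupp hK).trans (ih _ (isFG_sup hK hJU) fun s hs => ?_)
      rw [support_sup, hsupp] at hs
      obtain ⟨V, hV, hsV⟩ := h s hs.1
      rcases List.mem_cons.1 hV with rfl | hV
      · exact absurd hsV hs.2
      · exact ⟨V, hV, hsV⟩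
  obtain ⟨t, I, h0, hl, hI⟩ := exists_fin (key 𝒮.toList ⊥ isFG_bot fun s _ => by
    obtain ⟨U, hU, hs⟩ := Set.mem_iUnion₂.1 (h𝒮 (Set.mem_univ s))
    exact ⟨U, Finset.mem_toList.2 hU, hs⟩)
  exact ⟨t, I, h0, hl, Fin.cases (h0 ▸ isFG_bot) (fun j => (hI j).2.1), hI⟩

omit [CompactSpace S] [QuasiSeparatedSpace S] in
theorem smoothness_near_generic_point [IsReduced S] (η : S) (hη : ∀ z : S, z ⤳ η → z = η) :
    ∃ U : S.Opens, η ∈ U ∧ Q f U.ι := by
  obtain ⟨_, ⟨U₀, hU₀, rfl⟩, hηU, -⟩ :=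
    S.isBasis_affineOpens.exists_subset_of_mem_open (Set.mem_univ η) isOpen_univ
  have : IsAffine (Scheme.Opens.toScheme U₀) := hU₀
  obtain ⟨ι, _, B, _, _, hB, hQ⟩ := exists_pieces_over f ⟨U₀, hU₀⟩
  let η₀ : (Scheme.Opens.toScheme U₀) := ⟨η, hηU⟩
  let p := ((Scheme.Opens.toScheme U₀).isoSpec.hom η₀).asIdeal
  have hp : p ∈ minimalPrimes Γ((Scheme.Opens.toScheme U₀), ⊤) := by
    refine ⟨⟨((Scheme.Opens.toScheme U₀).isoSpec.hom η₀).2, bot_le⟩, fun q hq hqp => ?_⟩
    let x : Spec Γ((Scheme.Opens.toScheme U₀), ⊤) := ⟨q, hq.1⟩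
    have hs : x ⤳ (Scheme.Opens.toScheme U₀).isoSpec.hom η₀ := (PrimeSpectrum.le_iff_specializes x _).1 hqp
    have h2 := hs.map (Scheme.Opens.toScheme U₀).isoSpec.inv.continuous
    rw [← Scheme.Hom.comp_apply, Iso.hom_inv_id] at h2
    have h3 := hη _ (h2.map (Scheme.Opens.ι U₀).continuous)
    have h4 : (Scheme.Opens.toScheme U₀).isoSpec.inv x = η₀ := Subtype.ext h3
    show p ≤ q
    rw [show p = ((Scheme.Opens.toScheme U₀).isoSpec.hom η₀).asIdeal from rfl, ← h4, ← Scheme.Hom.comp_apply,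
      Iso.inv_hom_id]
    exact le_rfl
  have := hp.1.1
  obtain ⟨a, ha, hgood⟩ := exists_good_minimal B p hp
  let D := (Scheme.Opens.toScheme U₀).basicOpen a
  let U := (Scheme.Opens.ι U₀) ''ᵁ D
  have hηD : η₀ ∈ D := by
    show η₀ ∈ (Scheme.Opens.toScheme U₀).basicOpen a
    have h : (Scheme.Opens.toScheme U₀).isoSpec.hom η₀ ∈ PrimeSpectrum.basicOpen a := ha
    rwa [← (Scheme.Opens.toScheme U₀).toSpecΓ_preimage_basicOpen a]
  have hU : IsAffineOpen U := ((isAffineOpen_top _).basicOpen a).image_of_isOpenImmersion (Scheme.Opens.ι U₀)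
  have : IsAffine U.toScheme := hU
  have H : Set.range U.ι ⊆ Set.range (Scheme.Opens.ι U₀) := by
    rw [Scheme.Opens.range_ι, Scheme.Opens.range_ι]
    rintro _ ⟨z, -, rfl⟩
    exact z.2
  refine ⟨U, ⟨η₀, hηD, rfl⟩, hQ U.ι H ?_⟩
  let u := IsOpenImmersion.lift (Scheme.Opens.ι U₀) U.ι H
  let := u.appTop.hom.toAlgebra
  refine hgood Γ(U.toScheme, ⊤) Ideal.map_bot ?_
  show IsUnit (u.appTop a)
  rw [show u.appTop = u.appLE ⊤ ⊤ le_rfl from (Scheme.Hom.appLE_eq_app u (U := ⊤)).symm]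
  refine isUnit_appLE u le_rfl a fun z => ?_
  obtain ⟨d, hd, hdz⟩ := z.2
  have h1 : (Scheme.Opens.ι U₀) (u z) = (Scheme.Opens.ι U₀) d := by
    rw [← Scheme.Hom.comp_apply, IsOpenImmersion.lift_fac]; exact hdz.symm
  rw [(Scheme.Opens.ι U₀).isOpenEmbedding.injective h1]
  exact hd

end Groth.Agent.Lib.Flat55.SmoothStrataMain
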