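import Groth.Agent.Lib.Flat55.NormalizationPI
import Groth.Agent.Lib.Flat55.SmoothStrataMain
import Groth.Agent.Lib.Normalization.DimOne
import Groth.Agent.Lib.TorsorSch.Ext
import Groth.Agent.Lib.HilbD.Content
import Groth.Agent.H75.RedSub
import Groth.Prelude.Def_Curv2
import Mathlib.FieldTheory.PurelyInseparable.PerfectClosure
import Mathlib.FieldTheory.IsAlgClosed.AlgebraicClosure
import Mathlib.Algebra.Category.Ring.Constructions

/-!
# The normalization of an integral curve becomes smooth after a finite purely inseparable extension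
-/

set_option autoImplicit false

universe u

open CategoryTheory CategoryTheory.Limits AlgebraicGeometry TopologicalSpace TensorProduct
open Groth.Agent.Lib Groth.Agent.Lib.Flat55.SmoothStrataRing

namespace Groth.Agent.Lib.Flat55.NormalizationPIScheme

theorem pi_field (k L : Type u) [Field k] [Field L] [Algebra k L] [IsPurelyInseparable k L] : PI k L := by
  refine ⟨ringExpChar k, ?_, fun x => IsPurelyInseparable.pow_mem k (ringExpChar k) x⟩
  generalize hq : ringExpChar k = q
  have hexp : ExpChar k q := ringExpChar.of_eq hq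
  cases hexp with
  | zero => exact Or.inl rfl
  | prime h => exact Or.inr ⟨h, CharP.cast_eq_zero k _⟩

/-- The structure map of an open of a scheme over a field. -/
noncomputable def secMap {k : Type u} [Field k] {X : Scheme.{u}} (f : X ⟶ Spec (CommRingCat.of k))
    (U : X.Opens) : CommRingCat.of k ⟶ Γ(X, U) :=
  (Scheme.ΓSpecIso (CommRingCat.of k)).inv ≫ f.appLE ⊤ U (SmoothStrataScheme.le_pre f U)

variable {k : Type u} [Field k] {X : Scheme.{u}} (f : X ⟶ Spec (CommRingCat.of k))
  (L : Type u) [Field L] [Algebra k L]

/-- `Spec L ⟶ Spec k`. -/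
noncomputable abbrev specMap : Spec (CommRingCat.of L) ⟶ Spec (CommRingCat.of k) :=
  Spec.map (CommRingCat.ofHom (algebraMap k L))

theorem isPushout_sections [IsAffineHom (pullback.fst f (specMap (k := k) L))] (U : X.affineOpens) :
    IsPushout (secMap f U.1) (CommRingCat.ofHom (algebraMap k L))
      ((pullback.fst f (specMap (k := k) L)).app U.1)
      (secMap (pullback.snd f (specMap (k := k) L)) (pullback.fst f (specMap (k := k) L) ⁻¹ᵁ U.1)) := by
  have sq := (IsPullback.of_hasPullback f (specMap (k := k) L)).flip
  have h := HilbD.Content.isPushout_appLE sq ⟨⊤, isAffineOpen_top _⟩ U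
    (SmoothStrataScheme.le_pre f U.1)
    (SmoothStrataScheme.le_pre (pullback.snd f (specMap (k := k) L)) _)
  refine h.of_iso (Scheme.ΓSpecIso (CommRingCat.of k)) (Iso.refl _) (Scheme.ΓSpecIso (CommRingCat.of L))
    (Iso.refl _) ?_ ?_ ?_ ?_
  · simp [secMap]
  · exact Scheme.ΓSpecIso_naturality (CommRingCat.ofHom (algebraMap k L))
  · simp
  · simp [secMap]

theorem isHomeomorph_fst [FiniteDimensional k L] [IsPurelyInseparable k L] :
    IsFinite (pullback.fst f (specMap (k := k) L)) ∧
      IsHomeomorph (pullback.fst f (specMap (k := k) L)) := by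
  have : IsFinite (specMap (k := k) L) := by
    rw [IsFinite.SpecMap_iff, CommRingCat.hom_ofHom, RingHom.finite_algebraMap]
    infer_instance
  have : UniversallyInjective (specMap (k := k) L) := SmoothStrataMain.universallyInjective_of_pi (pi_field k L)
  have : Nonempty (Spec (CommRingCat.of k)) := ⟨(⊥ : PrimeSpectrum k)⟩
  have : Surjective (specMap (k := k) L) := ⟨fun y =>
    ⟨(⊥ : PrimeSpectrum L), (inferInstance : Subsingleton (PrimeSpectrum k)).elim _ _⟩⟩
  have : IsFinite (pullback.fst f (specMap (k := k) L)) := inferInstance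
  have : UniversallyInjective (pullback.fst f (specMap (k := k) L)) :=
    MorphismProperty.pullback_fst (P := @UniversallyInjective) _ _ ‹_›
  have : Surjective (pullback.fst f (specMap (k := k) L)) :=
    MorphismProperty.pullback_fst (P := @Surjective) _ _ ‹_›
  refine ⟨inferInstance, isHomeomorph_iff_continuous_isClosedMap_bijective.2
    ⟨(pullback.fst f (specMap (k := k) L)).continuous, (pullback.fst f (specMap (k := k) L)).isClosedMap,
      (pullback.fst f (specMap (k := k) L)).injective, (pullback.fst f (specMap (k := k) L)).surjective⟩⟩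

theorem isHomeomorph_nilradical (Y : Scheme.{u}) : IsHomeomorph Y.nilradical.subschemeι := by
  have h : Set.range Y.nilradical.subschemeι = Set.univ := by
    rw [Scheme.IdealSheafData.range_subschemeι, Scheme.support_nilradical]
    rfl
  exact isHomeomorph_iff_continuous_isClosedMap_bijective.2
    ⟨Y.nilradical.subschemeι.continuous, Y.nilradical.subschemeι.isClosedEmbedding.isClosedMap,
      Y.nilradical.subschemeι.isClosedEmbedding.injective, Set.range_eq_univ.1 h⟩

theorem isReduced_nilradical (Y : Scheme.{u}) : AlgebraicGeometry.IsReduced Y.nilradical.subscheme := by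
  rw [← Scheme.IdealSheafData.vanishingIdeal_top]
  exact H75.RedSub.isReduced_vanishingIdeal _

theorem isIntegral_reduced [IsIntegral X] [FiniteDimensional k L] [IsPurelyInseparable k L] :
    IsIntegral (pullback f (specMap (k := k) L)).nilradical.subscheme := by
  have h := (isHomeomorph_fst f L).2.comp (isHomeomorph_nilradical (pullback f (specMap (k := k) L)))
  have : IrreducibleSpace (pullback f (specMap (k := k) L)).nilradical.subscheme :=
    { toPreirreducibleSpace := h.homeomorph.symm.surjective.preirreducibleSpace h.homeomorph.symm.continuous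
      toNonempty := h.homeomorph.symm.toEquiv.nonempty_congr.1 inferInstance }
  have := isReduced_nilradical (pullback f (specMap (k := k) L))
  exact isIntegral_of_irreducibleSpace_of_isReduced _

section

variable {P : Type u} [Field P] [Algebra k P] [Algebra.IsAlgebraic k P] [IsPurelyInseparable k P]
  [PerfectField P]

/-- The smoothness of the normalization over one affine open, for large fields. -/
theorem exists_smooth_over [IsIntegral X] [LocallyOfFiniteType f] (hdim : topologicalKrullDim X ≤ 1)
    (U : X.affineOpens) [Nonempty U.1] :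
    ∃ L₀ : IntermediateField k P, FiniteDimensional k L₀ ∧ ∀ L : IntermediateField k P, L₀ ≤ L →
      ∀ [FiniteDimensional k L] [IsPurelyInseparable k L]
        [IsIntegral (pullback f (specMap (k := k) L)).nilradical.subscheme]
        [QuasiCompact ((pullback f (specMap (k := k) L)).nilradical.subscheme.fromSpecStalk
              (genericPoint (pullback f (specMap (k := k) L)).nilradical.subscheme))]
        [QuasiSeparated ((pullback f (specMap (k := k) L)).nilradical.subscheme.fromSpecStalk
              (genericPoint (pullback f (specMap (k := k) L)).nilradical.subscheme))],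
        Smooth ((Curv2.normalizationι (pullback f (specMap (k := k) L)).nilradical.subscheme ⁻¹ᵁ
            ((pullback f (specMap (k := k) L)).nilradical.subschemeι ⁻¹ᵁ
              (pullback.fst f (specMap (k := k) L) ⁻¹ᵁ U.1))).ι ≫
          Curv2.normalizationι (pullback f (specMap (k := k) L)).nilradical.subscheme ≫
          (pullback f (specMap (k := k) L)).nilradical.subschemeι ≫ pullback.snd f (specMap (k := k) L)) := by
  let B := Γ(X, U.1)
  let : Algebra k B := (secMap f U.1).hom.toAlgebra
  have : Algebra.FiniteType k B := by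
    have h := f.finiteType_appLE (isAffineOpen_top _) U.2 (SmoothStrataScheme.le_pre f U.1)
    rw [← RingHom.finiteType_algebraMap]
    exact h.comp (RingHom.FiniteType.of_surjective _
      (Scheme.ΓSpecIso (CommRingCat.of k)).symm.commRingCatIsoToRingEquiv.surjective)
  have : Ring.KrullDimLE 1 B := Normalization.DimOne.krullDimLE_sections hdim U.2
  obtain ⟨L₀, hfd, hL₀⟩ := NormalizationPI.exists_smooth_normalization (k := k) (P := P) (B := B)
  refine ⟨L₀, hfd, fun L hL => ?_⟩
  intro _ _ _ _ _
  let q := pullback.fst f (specMap (k := k) L)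
  let s := pullback.snd f (specMap (k := k) L)
  let Y := pullback f (specMap (k := k) L)
  let ι := Y.nilradical.subschemeι
  let Z := Y.nilradical.subscheme
  let ν := Curv2.normalizationι Z
  have : IsFinite q := (isHomeomorph_fst f L).1
  let W : Y.affineOpens := ⟨q ⁻¹ᵁ U.1, U.2.preimage q⟩
  let V := ι ⁻¹ᵁ W.1
  have hV : IsAffineOpen V := W.2.preimage ι
  have : Nonempty V := by
    obtain ⟨x, hx⟩ := ‹Nonempty U.1›
    obtain ⟨z, rfl⟩ := ((isHomeomorph_fst f L).2.comp (isHomeomorph_nilradical Y)).surjective x
    exact ⟨⟨z, hx⟩⟩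
  let M := Γ(Y, W.1)
  let : Algebra L M := (secMap s W.1).hom.toAlgebra
  let : Algebra B M := (q.app U.1).hom.toAlgebra
  let : Algebra k M := ((algebraMap L M).comp (algebraMap k L)).toAlgebra
  have : IsScalarTower k L M := IsScalarTower.of_algebraMap_eq fun _ => rfl
  have hpo := (isPushout_sections f L U).flip
  have : IsScalarTower k B M := IsScalarTower.of_algebraMap_eq' (congrArg CommRingCat.Hom.hom hpo.w)
  have hpo' : Algebra.IsPushout k L B M := CommRingCat.isPushout_iff_isPushout.1 hpo
  let e : L ⊗[k] B ≃ₐ[L] M := Algebra.IsPushout.equiv k L B M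
  let A := Γ(Z, V)
  let : Algebra L A := ((ι.app W.1).hom.comp (algebraMap L M)).toAlgebra
  let ρ : M →ₐ[L] A := AlgHom.mk (ι.app W.1).hom fun _ => rfl
  let π : L ⊗[k] B →ₐ[L] A := ρ.comp e.toAlgHom
  have hπ : Function.Surjective π := (Y.nilradical.subschemeι_app_surjective W).comp e.surjective
  have hker : RingHom.ker π = nilradical (L ⊗[k] B) := by
    ext x
    show ρ (e x) = 0 ↔ _
    rw [← RingHom.mem_ker (f := ρ), mem_nilradical, ← IsNilpotent.map_iff e.injective]
    rw [show RingHom.ker ρ = Y.nilradical.ideal W from Y.nilradical.ker_subschemeι_app W]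
    exact mem_nilradical
  let F := Z.functionField
  have : IsFractionRing A F := functionField_isFractionRing_of_isAffineOpen Z V hV
  let : Algebra L F := ((algebraMap A F).comp (algebraMap L A)).toAlgebra
  have : IsScalarTower L A F := IsScalarTower.of_algebraMap_eq fun _ => rfl
  have hsm := hL₀ L hL A π hπ hker F
  let C := integralClosure A F
  refine SmoothStrataScheme.smooth_of_appLE (ν ≫ ι ≫ s) (Normalization.Basic.isAffineOpen_preimage Z hV) ?_
  let σ := Normalization.Basic.sectionsEquiv Z hV
  have heq : ((ν ≫ ι ≫ s).appLE ⊤ (ν ⁻¹ᵁ V) (SmoothStrataScheme.le_pre _ _)).hom =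
      ((σ.symm : C →+* Γ(Curv2.normalization Z, ν ⁻¹ᵁ V)).comp (algebraMap L C)).comp
        (Scheme.ΓSpecIso (CommRingCat.of L)).commRingCatIsoToRingEquiv.toRingHom := by
    have h1 : (ν ≫ ι ≫ s).appLE ⊤ (ν ⁻¹ᵁ V) (SmoothStrataScheme.le_pre _ _) =
        s.appLE ⊤ W.1 (SmoothStrataScheme.le_pre _ _) ≫ ι.app W.1 ≫ ν.app V := by
      rw [Scheme.Hom.app_eq_appLE, Scheme.Hom.app_eq_appLE, Scheme.Hom.appLE_comp_appLE,
        Scheme.Hom.appLE_comp_appLE]
      simp only [Category.assoc]
    rw [h1]
    ext r
    apply σ.injective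
    show σ (ν.app V (ι.app W.1 (s.appLE ⊤ W.1 _ r))) = σ (σ.symm (algebraMap A C
      (ι.app W.1 (s.appLE ⊤ W.1 _ ((Scheme.ΓSpecIso (CommRingCat.of L)).inv
        ((Scheme.ΓSpecIso (CommRingCat.of L)).hom r))))))
    rw [RingEquiv.apply_symm_apply, Iso.hom_inv_id_apply]
    exact Normalization.Basic.sectionsEquiv_app Z hV _
  rw [heq]
  exact RingHom.Smooth.respectsIso.2 _ _ (RingHom.Smooth.respectsIso.1 _ σ.symm
    (RingHom.smooth_algebraMap.2 hsm))

end

theorem exists_purelyInseparable_normalization_smooth (k : Type u) [Field k] (X : Scheme.{u})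
    [X.Over (Spec (CommRingCat.of k))] [IsIntegral X]
    [LocallyOfFiniteType (X ↘ Spec (CommRingCat.of k))] [QuasiCompact (X ↘ Spec (CommRingCat.of k))]
    (hdim : topologicalKrullDim X ≤ 1) :
    ∃ (k' : Type u) (_ : Field k') (_ : Algebra k k'), FiniteDimensional k k' ∧ IsPurelyInseparable k k' ∧
      ∃ (_ : IsIntegral (Curv2.bc k X k').nilradical.subscheme)
        (_ : QuasiCompact ((Curv2.bc k X k').nilradical.subscheme.fromSpecStalk
              (genericPoint (Curv2.bc k X k').nilradical.subscheme)))
        (_ : QuasiSeparated ((Curv2.bc k X k').nilradical.subscheme.fromSpecStalk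
              (genericPoint (Curv2.bc k X k').nilradical.subscheme))),
        Smooth (Curv2.normalizationι (Curv2.bc k X k').nilradical.subscheme ≫
          (Curv2.bc k X k').nilradical.subschemeι ≫ Curv2.bcSnd k X k') := by
  let f := X ↘ Spec (CommRingCat.of k)
  let E := AlgebraicClosure k
  let P := perfectClosure k E
  have : CompactSpace X := QuasiCompact.compactSpace_of_compactSpace f
  have hU : ∀ x : X, ∃ U : X.affineOpens, x ∈ U.1 := fun x => by
    obtain ⟨U, hU, hx, -⟩ := exists_isAffineOpen_mem_and_subset (x := x) (U := ⊤) trivial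
    exact ⟨⟨U, hU⟩, hx⟩
  choose U hU using hU
  obtain ⟨t, ht⟩ := isCompact_univ.elim_finite_subcover (fun x => ((U x).1 : Set X))
    (fun x => (U x).1.isOpen) fun x _ => Set.mem_iUnion.2 ⟨x, hU x⟩
  have hne : ∀ x : t, Nonempty (U x).1 := fun x => ⟨⟨x, hU x⟩⟩
  have hex := fun x : t => exists_smooth_over (P := P) f hdim (U x)
  choose L₀ hfd hL₀ using hex
  let L := ⨆ x, L₀ x
  have : FiniteDimensional k L := IntermediateField.finiteDimensional_iSup_of_finite
  have hint : IsIntegral (pullback f (specMap (k := k) L)).nilradical.subscheme := isIntegral_reduced f L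
  refine ⟨L, inferInstance, inferInstance, inferInstance, inferInstance, hint, inferInstance, inferInstance, ?_⟩
  let V := fun x : t => Curv2.normalizationι (pullback f (specMap (k := k) L)).nilradical.subscheme ⁻¹ᵁ
    ((pullback f (specMap (k := k) L)).nilradical.subschemeι ⁻¹ᵁ
      (pullback.fst f (specMap (k := k) L) ⁻¹ᵁ (U x).1))
  have hcov : iSup V = ⊤ := by
    refine eq_top_iff.2 fun z _ => Opens.mem_iSup.2 ?_
    obtain ⟨x, hx, hz⟩ := Set.mem_iUnion₂.1 (ht (Set.mem_univ (pullback.fst f (specMap (k := k) L)
      ((pullback f (specMap (k := k) L)).nilradical.subschemeι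
        (Curv2.normalizationι (pullback f (specMap (k := k) L)).nilradical.subscheme z)))))
    exact ⟨⟨x, hx⟩, hz⟩
  exact IsZariskiLocalAtSource.of_iSup_eq_top V hcov fun x => hL₀ x L (le_iSup L₀ x)

end Groth.Agent.Lib.Flat55.NormalizationPIScheme
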