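import Groth.Agent.Lib.Flat55.SmoothStrataRing
import Mathlib.FieldTheory.PurelyInseparable.Basic
import Mathlib.RingTheory.Adjoin.FG
import Mathlib.RingTheory.IntegralClosure.IsIntegralClosure.Basic

/-!
# Finite purely inseparable models of finite purely inseparable extensions of fraction fields
-/

set_option autoImplicit false

universe u

namespace Groth.Agent.Lib.Flat55.PurelyInseparableModel

open Groth.Agent.Lib.Flat55.SmoothStrataRing

/-- A finite purely inseparable extension of the fraction field has a finite purely inseparable model. -/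
theorem exists_model (R K L : Type u) [CommRing R] [IsDomain R] [Field K] [Algebra R K] [IsFractionRing R K]
    [Field L] [Algebra K L] [Algebra R L] [IsScalarTower R K L] [FiniteDimensional K L]
    [IsPurelyInseparable K L] :
    ∃ R' : Subalgebra R L, Module.Finite R R' ∧ PI R R' ∧ IsFractionRing R' L := by
  classical
  obtain ⟨q, hexp⟩ := ExpChar.exists K
  have hinjRL : Function.Injective (algebraMap R L) := by
    rw [IsScalarTower.algebraMap_eq R K L]
    exact (algebraMap K L).injective.comp (IsFractionRing.injective R K)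
  have : ExpChar L q := expChar_of_injective_algebraMap (algebraMap K L).injective q
  let S : Subalgebra R L :=
    { carrier := {x | ∃ n, x ^ q ^ n ∈ (algebraMap R L).range}
      mul_mem' := by
        rintro x y ⟨m, a, ha⟩ ⟨n, b, hb⟩
        refine ⟨m + n, a ^ q ^ n * b ^ q ^ m, ?_⟩
        rw [map_mul, map_pow, map_pow, ha, hb, ← pow_mul, ← pow_mul, ← pow_add, ← pow_add, mul_pow, add_comm n m]
      add_mem' := by
        rintro x y ⟨m, a, ha⟩ ⟨n, b, hb⟩
        refine ⟨m + n, a ^ q ^ n + b ^ q ^ m, ?_⟩
        rw [map_add, map_pow, map_pow, ha, hb, ← pow_mul, ← pow_mul, ← pow_add, ← pow_add, add_comm n m,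
          add_pow_expChar_pow]
      algebraMap_mem' := fun r => ⟨0, r, by rw [pow_zero, pow_one]⟩ }
  let b := Module.finBasis K L
  have hscale : ∀ i, ∃ s : R, s ≠ 0 ∧ algebraMap R L s * b i ∈ S := fun i => by
    obtain ⟨n, c, hc⟩ := IsPurelyInseparable.pow_mem K q (b i)
    obtain ⟨r, s, hs, hrs⟩ := IsFractionRing.div_surjective (A := R) c
    have hs0 : s ≠ 0 := nonZeroDivisors.ne_zero hs
    obtain ⟨j, hj⟩ := Nat.exists_eq_succ_of_ne_zero (pow_ne_zero n (expChar_pos K q).ne')
    refine ⟨s, hs0, n, r * s ^ j, ?_⟩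
    rw [mul_pow, ← hc, map_mul, map_pow, hj, pow_succ, ← hrs, map_div₀, ← IsScalarTower.algebraMap_apply,
      ← IsScalarTower.algebraMap_apply]
    have : algebraMap R L s ≠ 0 := (map_ne_zero_iff _ hinjRL).2 hs0
    field_simp
  choose s hs0 hsS using hscale
  let T : Set L := Set.range fun i => algebraMap R L (s i) * b i
  let R' := Algebra.adjoin R T
  have hR'S : R' ≤ S := Algebra.adjoin_le (Set.range_subset_iff.2 hsS)
  have hint : ∀ x ∈ S, IsIntegral R x := by
    rintro x ⟨n, a, ha⟩
    exact IsIntegral.of_pow (pow_pos (expChar_pos K q) n) (ha ▸ isIntegral_algebraMap)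
  refine ⟨R', Module.Finite.iff_fg.2 (fg_adjoin_of_finite (Set.finite_range _) fun x hx =>
      hint x (hR'S (Algebra.subset_adjoin hx))), ⟨q, ?_, fun x => ?_⟩, ?_⟩
  · cases hexp with
    | zero => exact Or.inl rfl
    | prime hq =>
      refine Or.inr ⟨hq, IsFractionRing.injective R K ?_⟩
      rw [map_natCast, map_zero, CharP.cast_eq_zero]
  · obtain ⟨n, a, ha⟩ := hR'S x.2
    exact ⟨n, a, Subtype.ext ha⟩
  · refine IsFractionRing.of_field R' L fun z => ?_
    suffices h : ∃ y : R, y ≠ 0 ∧ algebraMap R L y * z ∈ R' by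
      obtain ⟨y, hy, hyz⟩ := h
      refine ⟨⟨_, hyz⟩, algebraMap R R' y, ?_⟩
      show z = algebraMap R L y * z / algebraMap R L y
      rw [mul_div_cancel_left₀ _ ((map_ne_zero_iff _ hinjRL).2 hy)]
    have hz : z ∈ Submodule.span K (Set.range b) := by rw [b.span_eq]; trivial
    induction hz using Submodule.span_induction with
    | mem x hx =>
      obtain ⟨i, rfl⟩ := hx
      exact ⟨s i, hs0 i, Algebra.subset_adjoin ⟨i, rfl⟩⟩
    | zero => exact ⟨1, one_ne_zero, by rw [mul_zero]; exact R'.zero_mem⟩
    | add x y _ _ hx hy =>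
      obtain ⟨a, ha, hax⟩ := hx
      obtain ⟨c, hc, hcy⟩ := hy
      refine ⟨a * c, mul_ne_zero ha hc, ?_⟩
      rw [map_mul, mul_add]
      refine R'.add_mem ?_ ?_
      · rw [mul_right_comm]; exact R'.mul_mem hax (R'.algebraMap_mem c)
      · rw [mul_assoc]; exact R'.mul_mem (R'.algebraMap_mem a) hcy
    | smul k x _ hx =>
      obtain ⟨a, ha, hax⟩ := hx
      obtain ⟨n, d, hd, rfl⟩ := IsFractionRing.div_surjective (A := R) k
      have hd0 := nonZeroDivisors.ne_zero hd
      refine ⟨d * a, mul_ne_zero hd0 ha, ?_⟩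
      have : algebraMap R L (d * a) * ((algebraMap R K n / algebraMap R K d) • x) =
          algebraMap R L n * (algebraMap R L a * x) := by
        rw [Algebra.smul_def, map_div₀, ← IsScalarTower.algebraMap_apply, ← IsScalarTower.algebraMap_apply, map_mul]
        have : algebraMap R L d ≠ 0 := (map_ne_zero_iff _ hinjRL).2 hd0
        field_simp
      rw [this]
      exact R'.mul_mem (R'.algebraMap_mem n) hax

end Groth.Agent.Lib.Flat55.PurelyInseparableModel
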