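import Groth.Agent.Lib.Flat55.GenericQS
import Groth.Agent.Lib.Flat55.PurelyInseparableModel
import Groth.Agent.Lib.Flat55.SmoothStrataMain
import Groth.Agent.Lib.Flat55.NormalizationPIScheme
import Groth.Agent.Lib.UnivHomeo.Basic
import Groth.Agent.Lib.WLocal.RetractLoc
import Groth.Agent.Lib.Unram.SepDegreeEq
import Groth.Agent.S1629
import Groth.Prelude.Def_CurvBase

/-!
# Geometrically reduced generic fibre after a finite universal homeomorphism
-/

set_option autoImplicit false

universe u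

open CategoryTheory CategoryTheory.Limits AlgebraicGeometry TopologicalSpace
open Groth.Agent.Lib

namespace Groth.Agent.Lib.Flat55.GeomReducedModel

/-- A reduced closed subscheme with full support has geometrically reduced structure map if the reduction does. -/
theorem geometricallyReduced_of_reduced {P Z T : Scheme.{u}} (z : Z ⟶ P) (p : P ⟶ T) [IsClosedImmersion z]
    [Surjective z] [IsReduced Z] (h : GeometricallyReduced (P.nilradical.subschemeι ≫ p)) :
    GeometricallyReduced (z ≫ p) := by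
  let ι := P.nilradical.subschemeι
  have hred : IsReduced P.nilradical.subscheme := NormalizationPIScheme.isReduced_nilradical P
  have : Surjective ι := ⟨(NormalizationPIScheme.isHomeomorph_nilradical P).surjective⟩
  have : IsClosedImmersion (pullback.fst ι z) := MorphismProperty.pullback_fst _ _ ‹_›
  have : Surjective (pullback.fst ι z) := MorphismProperty.pullback_fst _ _ ‹_›
  have : IsIso (pullback.fst ι z) := isIso_of_isClosedImmersion_of_surjective _
  let φ := inv (pullback.fst ι z) ≫ pullback.snd ι z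
  have hφ : φ ≫ z = ι := by simp [φ, ← pullback.condition]
  have : IsClosedImmersion (φ ≫ z) := by rw [hφ]; infer_instance
  have : IsClosedImmersion φ := IsClosedImmersion.of_comp φ z
  have : Surjective φ := ⟨fun x => by
    obtain ⟨w, hw⟩ := ι.surjective (z x)
    refine ⟨w, z.isClosedEmbedding.injective ?_⟩
    rw [← hw, ← hφ]; rfl⟩
  have : IsIso φ := isIso_of_isClosedImmersion_of_surjective _
  have : z ≫ p = inv φ ≫ ι ≫ p := by rw [← hφ]; simp
  rw [this]
  exact (MorphismProperty.cancel_left_of_respectsIso @GeometricallyReduced (inv φ) (ι ≫ p)).2 h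

/-- Finite universal homeomorphisms from purely inseparable finite extensions. -/
theorem isUnivHomeo_spec {R S : Type u} [CommRing R] [CommRing S] [Algebra R S] [Module.Finite R S]
    [IsDomain R] (hinj : Function.Injective (algebraMap R S)) (hpi : SmoothStrataRing.PI R S) :
    FlatMor.IsUnivHomeo (Spec.map (CommRingCat.ofHom (algebraMap R S))) := by
  refine (UnivHomeo.Basic.iff_integral_universallyInjective_surjective _).2
    ⟨IsIntegralHom.SpecMap_iff.2 (fun x => Algebra.IsIntegral.isIntegral x),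
      SmoothStrataMain.universallyInjective_of_pi hpi, ⟨fun p => ?_⟩⟩
  have : FaithfulSMul R S := (faithfulSMul_iff_algebraMap_injective R S).2 hinj
  obtain ⟨q, hq, hqp⟩ := Ideal.exists_ideal_over_prime_of_isIntegral (S := S) p.asIdeal (⊥ : Ideal S) (by
    intro a ha
    rw [Ideal.mem_comap, Ideal.mem_bot, map_eq_zero_iff _ hinj] at ha
    rw [ha]; exact p.asIdeal.zero_mem)
  exact ⟨⟨q, hqp.1⟩, PrimeSpectrum.ext hqp.2⟩

/-- A field valued point at the generic point factors through the fraction field. -/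
theorem exists_factor {A : Type u} [CommRing A] (L : Type u) [Field L] [Algebra A L] [IsFractionRing A L]
    {F : Type u} [Field F] (φ : A →+* F) (hφ : Function.Injective φ) :
    ∃ e : Spec (CommRingCat.of F) ⟶ Spec (CommRingCat.of L),
      e ≫ Spec.map (CommRingCat.ofHom (algebraMap A L)) = Spec.map (CommRingCat.ofHom φ) :=
  ⟨Spec.map (CommRingCat.ofHom (IsFractionRing.lift (K := L) hφ)), by
    rw [← Spec.map_comp, ← CommRingCat.ofHom_comp]
    congr 2
    exact RingHom.ext fun a => IsFractionRing.lift_algebraMap hφ a⟩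

/-- The generic fibre over an open from the fibre over the fraction field. -/
theorem geometricallyReduced_fibre {A : Type u} [CommRing A] [IsDomain A] {X : Scheme.{u}}
    (q : X ⟶ Spec (CommRingCat.of A)) (W : (Spec (CommRingCat.of A)).Opens) [IsIntegral (W : Scheme.{u})]
    (L : Type u) [Field L] [Algebra A L] [IsFractionRing A L]
    (h : GeometricallyReduced (pullback.snd q (Spec.map (CommRingCat.ofHom (algebraMap A L))))) :
    GeometricallyReduced ((q ∣_ W).fiberToSpecResidueField (genericPoint (W : Scheme.{u}))) := by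
  let η := genericPoint (W : Scheme.{u})
  obtain ⟨φ, hφ⟩ := Spec.map_surjective ((W : Scheme.{u}).fromSpecResidueField η ≫ W.ι)
  have hη : W.ι η = genericPoint (Spec (CommRingCat.of A)) := genericPoint_eq_of_isOpenImmersion W.ι
  have hbot : (W.ι η : PrimeSpectrum A).asIdeal = ⊥ :=
    congrArg PrimeSpectrum.asIdeal (hη.trans (genericPoint_eq_bot_of_affine (CommRingCat.of A)))
  have hφinj : Function.Injective φ.hom := by
    rw [RingHom.injective_iff_ker_eq_bot]
    let p₀ : PrimeSpectrum ((W : Scheme.{u}).residueField η) := ⟨⊥, Ideal.isPrime_bot⟩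
    have h := congrArg (fun m : Spec ((W : Scheme.{u}).residueField η) ⟶ Spec (CommRingCat.of A) => m p₀) hφ
    simp only [Scheme.Hom.comp_apply, Scheme.fromSpecResidueField_apply] at h
    exact (congrArg PrimeSpectrum.asIdeal h).trans hbot
  let gk := Spec.map (CommRingCat.ofHom (algebraMap A L))
  obtain ⟨e, he'⟩ : ∃ e : Spec ((W : Scheme.{u}).residueField η) ⟶ Spec (CommRingCat.of L),
      e ≫ gk = Spec.map φ := exists_factor L (F := (W : Scheme.{u}).residueField η) φ.hom hφinj
  have he : e ≫ gk = (W : Scheme.{u}).fromSpecResidueField η ≫ W.ι := he'.trans hφ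
  have sq1 : IsPullback (pullback.fst (q ∣_ W) ((W : Scheme.{u}).fromSpecResidueField η) ≫ (q ⁻¹ᵁ W).ι)
      (pullback.snd _ _) q ((W : Scheme.{u}).fromSpecResidueField η ≫ W.ι) :=
    (IsPullback.of_hasPullback _ _).paste_horiz (isPullback_morphismRestrict q W).flip
  rw [← he] at sq1
  let t : pullback (q ∣_ W) ((W : Scheme.{u}).fromSpecResidueField η) ⟶ pullback q gk :=
    pullback.lift _ (pullback.snd _ _ ≫ e) (sq1.w.trans (Category.assoc _ _ _).symm)
  have sq2 : IsPullback t (pullback.snd _ _) (pullback.snd q gk) e := by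
    refine IsPullback.of_right ?_ (pullback.lift_snd _ _ _) (IsPullback.of_hasPullback q gk)
    rw [pullback.lift_fst]
    exact sq1
  exact MorphismProperty.of_isPullback sq2 h

/-- The fibre over the fraction field from the reduction of the base change. -/
theorem geometricallyReduced_baseChange {Y T T' K' : Scheme.{u}} {X XK Pb P Xr : Scheme.{u}} (f : X ⟶ Y)
    (g₀ : T ⟶ Y) {pP : P ⟶ T} {fP : P ⟶ X} (sqP : IsPullback fP pP f g₀) (r₀ : Xr ⟶ P) [IsClosedImmersion r₀]
    [Surjective r₀] (ηK : K' ⟶ Y) {fK : XK ⟶ X} {pK : XK ⟶ K'} (sqK : IsPullback fK pK f ηK)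
    (κ : T' ⟶ K') (gk : T' ⟶ T) (hκ : gk ≫ g₀ = κ ≫ ηK) {bf : Pb ⟶ XK} {pb : Pb ⟶ T'}
    (sqA : IsPullback bf pb pK κ) [IsReduced (pullback (r₀ ≫ pP) gk)]
    (h : GeometricallyReduced (Pb.nilradical.subschemeι ≫ pb)) :
    GeometricallyReduced (pullback.snd (r₀ ≫ pP) gk) := by
  have sqB : IsPullback (bf ≫ fK) pb f (κ ≫ ηK) := sqA.paste_horiz sqK
  let c : Pb ⟶ P := sqP.lift (bf ≫ fK) (pb ≫ gk) (by rw [sqB.w, Category.assoc, hκ])
  have sqc : IsPullback c pb pP gk := by
    refine IsPullback.of_right ?_ (sqP.lift_snd _ _ _) sqP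
    rw [sqP.lift_fst, hκ]
    exact sqB
  let z : pullback (r₀ ≫ pP) gk ⟶ Pb := sqc.lift (pullback.fst _ _ ≫ r₀) (pullback.snd _ _) (by
    rw [Category.assoc]; exact pullback.condition)
  have sqz : IsPullback (pullback.fst (r₀ ≫ pP) gk) z r₀ c := by
    refine IsPullback.of_bot ?_ (sqc.lift_fst _ _ _).symm sqc
    rw [sqc.lift_snd]
    exact IsPullback.of_hasPullback _ gk
  have : IsClosedImmersion z := MorphismProperty.of_isPullback sqz (inferInstance : IsClosedImmersion r₀)
  have : Surjective z := MorphismProperty.of_isPullback sqz ‹Surjective r₀›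
  rw [← show z ≫ pb = pullback.snd (r₀ ≫ pP) gk from sqc.lift_snd _ _ _]
  exact geometricallyReduced_of_reduced z pb h

/-- The geometrically reduced model. -/
theorem exists_model {X Y : Scheme.{u}} (f : X ⟶ Y) [IrreducibleSpace Y] [LocallyOfFiniteType f] [QuasiCompact f] :
    ∃ (V : Y.Opens) (Y' : Scheme.{u}) (g : Y' ⟶ (V : Scheme.{u})) (X' : Scheme.{u})
      (r : X' ⟶ pullback f (g ≫ V.ι)) (_ : IsIntegral Y'),
      (V : Set Y).Nonempty ∧ IsAffine Y' ∧ IsFinite g ∧ FlatMor.IsUnivHomeo g ∧ IsClosedImmersion r ∧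
      Surjective r ∧ IsReduced X' ∧
      Flat (r ≫ pullback.snd f (g ≫ V.ι)) ∧ LocallyOfFinitePresentation (r ≫ pullback.snd f (g ≫ V.ι)) ∧
      QuasiCompact (r ≫ pullback.snd f (g ≫ V.ι)) ∧ QuasiSeparated (r ≫ pullback.snd f (g ≫ V.ι)) ∧
      GeometricallyReduced ((r ≫ pullback.snd f (g ≫ V.ι)).fiberToSpecResidueField (genericPoint Y')) := by
  classical
  obtain ⟨y₀⟩ := (inferInstance : Nonempty Y)
  obtain ⟨U, hU, hyU, -⟩ := exists_isAffineOpen_mem_and_subset (x := y₀) (U := ⊤) trivial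
  have : IsAffine (U : Scheme.{u}) := hU
  have : IrreducibleSpace (U : Scheme.{u}) := by
    have : Nonempty (U : Scheme.{u}) := ⟨⟨y₀, hyU⟩⟩
    have hpre : PreirreducibleSpace (U : Scheme.{u}) :=
      ⟨(PreirreducibleSpace.isPreirreducible_univ (X := Y)).preimage U.ι.isOpenEmbedding⟩
    exact { toPreirreducibleSpace := hpre, toNonempty := ‹_› }
  let Γ₀ := Γ(Y, U)
  have : IrreducibleSpace (PrimeSpectrum Γ₀) :=
    hU.isoSpec.hom.homeomorph.irreducibleSpace_iff.1 ‹_›
  have : (nilradical Γ₀).IsPrime := PrimeSpectrum.irreducibleSpace_iff_isPrime_nilradical.1 this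
  let R := Γ₀ ⧸ nilradical Γ₀
  let K := FractionRing R
  let u : Spec (CommRingCat.of R) ⟶ (U : Scheme.{u}) :=
    Spec.map (CommRingCat.ofHom (Ideal.Quotient.mk (nilradical Γ₀))) ≫ hU.isoSpec.inv
  have hu : FlatMor.IsUnivHomeo u ∧ IsFinite u := by
    have h1 : IsClosedImmersion (Spec.map (CommRingCat.ofHom (Ideal.Quotient.mk (nilradical Γ₀)))) :=
      IsClosedImmersion.spec_of_surjective _ Ideal.Quotient.mk_surjective
    have : Surjective (Spec.map (CommRingCat.ofHom (Ideal.Quotient.mk (nilradical Γ₀)))) := ⟨fun p => by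
      have hp : p ∈ PrimeSpectrum.zeroLocus (nilradical Γ₀ : Set Γ₀) :=
        fun a ha => (nilradical_le_prime p.asIdeal) ha
      rw [← Ideal.mk_ker (I := nilradical Γ₀), ← range_comap_of_surjective _ _ Ideal.Quotient.mk_surjective] at hp
      exact hp⟩
    exact ⟨(UnivHomeo.Basic.iff_integral_universallyInjective_surjective u).2
      ⟨inferInstance, inferInstance, inferInstance⟩, inferInstance⟩
  let ηK : Spec (CommRingCat.of K) ⟶ Y := Spec.map (CommRingCat.ofHom (algebraMap R K)) ≫ u ≫ U.ι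
  let XK := pullback f ηK
  let : XK.Over (Spec (CommRingCat.of K)) := ⟨pullback.snd f ηK⟩
  have : LocallyOfFiniteType (XK ↘ Spec (CommRingCat.of K)) :=
    inferInstanceAs (LocallyOfFiniteType (pullback.snd f ηK))
  have : IsLocallyNoetherian XK := LocallyOfFiniteType.isLocallyNoetherian (pullback.snd f ηK)
  have : CompactSpace XK := QuasiCompact.compactSpace_of_compactSpace (pullback.snd f ηK)
  have : IsNoetherian XK := { }
  obtain ⟨k', _, _, hfin, hpi, hgr⟩ := Groth.Agent.S1629.result K XK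
    NoetherianSpace.finite_irreducibleComponents
  let : Algebra R k' := ((algebraMap K k').comp (algebraMap R K)).toAlgebra
  have : IsScalarTower R K k' := IsScalarTower.of_algebraMap_eq fun _ => rfl
  obtain ⟨R', hR'fin, hR'pi, hR'frac⟩ := PurelyInseparableModel.exists_model R K k'
  have hRR' : Function.Injective (algebraMap R R') := fun a b h =>
    (IsFractionRing.injective R K) ((algebraMap K k').injective (congrArg Subtype.val h))
  let gU : Spec (CommRingCat.of R') ⟶ (U : Scheme.{u}) := Spec.map (CommRingCat.ofHom (algebraMap R R')) ≫ u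
  have hgU : FlatMor.IsUnivHomeo gU ∧ IsFinite gU := by
    obtain ⟨_, _, _⟩ := (UnivHomeo.Basic.iff_integral_universallyInjective_surjective _).1
      (isUnivHomeo_spec hRR' hR'pi)
    obtain ⟨_, _, _⟩ := (UnivHomeo.Basic.iff_integral_universallyInjective_surjective _).1 hu.1
    have := hu.2
    have : IsFinite (Spec.map (CommRingCat.ofHom (algebraMap R R'))) :=
      (IsFinite.SpecMap_iff _).2 (RingHom.finite_algebraMap.2 hR'fin)
    exact ⟨(UnivHomeo.Basic.iff_integral_universallyInjective_surjective gU).2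
      ⟨inferInstance, MorphismProperty.comp_mem @UniversallyInjective _ _ ‹_› ‹_›, inferInstance⟩, inferInstance⟩
  let g₀ := gU ≫ U.ι
  let P := pullback f g₀
  let Xr := P.nilradical.subscheme
  let r₀ : Xr ⟶ P := P.nilradical.subschemeι
  have : IsReduced Xr := NormalizationPIScheme.isReduced_nilradical P
  have : Surjective r₀ := ⟨(NormalizationPIScheme.isHomeomorph_nilradical P).surjective⟩
  let q : Xr ⟶ Spec (CommRingCat.of R') := r₀ ≫ pullback.snd f g₀
  have : LocallyOfFiniteType q := inferInstance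
  have : QuasiCompact q := inferInstance
  obtain ⟨W₁, hW₁, hflat, hlfp⟩ := Groth.Agent.S0414.result q
  obtain ⟨W₂, hW₂, hqs⟩ := GenericQS.exists_quasiSeparated q
  have hWne : ((W₁ : Set (Spec (CommRingCat.of R'))) ∩ W₂).Nonempty := hW₂.inter_open_nonempty _ W₁.2
    (hW₁.nonempty)
  -- descend the open to the base
  have hhom : IsHomeomorph gU :=
    isHomeomorph_iff_continuous_isClosedMap_bijective.2 (by
      obtain ⟨_, _, _⟩ := (UnivHomeo.Basic.iff_integral_universallyInjective_surjective gU).1 hgU.1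
      exact ⟨gU.continuous, gU.isClosedMap, gU.injective, gU.surjective⟩)
  let O : (U : Scheme.{u}).Opens := ⟨gU '' ((W₁ : Set _) ∩ W₂), hhom.isOpenMap _ (W₁.2.inter W₂.2)⟩
  obtain ⟨x₀, hx₀⟩ : (O : Set (U : Scheme.{u})).Nonempty := hWne.image _
  obtain ⟨V₀, hV₀, hxV₀, hV₀O⟩ := exists_isAffineOpen_mem_and_subset (x := x₀) (U := O) hx₀
  let W := gU ⁻¹ᵁ V₀
  have : IsFinite gU := hgU.2
  have hW : IsAffineOpen W := hV₀.preimage gU
  have hWle : W ≤ W₁ ⊓ W₂ := fun w hw => by
    obtain ⟨w', hw', he⟩ := hV₀O hw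
    rwa [hhom.injective he] at hw'
  have : IsAffine (W : Scheme.{u}) := hW
  have : Nonempty (W : Scheme.{u}) := by
    obtain ⟨w, hw⟩ := hhom.surjective x₀
    exact ⟨⟨w, show gU w ∈ V₀ from hw ▸ hxV₀⟩⟩
  have : IsIntegral (W : Scheme.{u}) := isIntegral_of_isOpenImmersion W.ι
  let V := U.ι ''ᵁ V₀
  let g : (W : Scheme.{u}) ⟶ (V : Scheme.{u}) := (gU ∣_ V₀) ≫ (U.ι.isoImage V₀).hom
  have hg : g ≫ V.ι = W.ι ≫ g₀ := by
    show ((gU ∣_ V₀) ≫ (U.ι.isoImage V₀).hom) ≫ (U.ι ''ᵁ V₀).ι = (gU ⁻¹ᵁ V₀).ι ≫ gU ≫ U.ι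
    rw [Category.assoc, Scheme.Hom.isoImage_hom_ι, morphismRestrict_ι_assoc]
  let Pg := pullback f (g ≫ V.ι)
  let j : Pg ⟶ P := pullback.lift (pullback.fst _ _) (pullback.snd _ _ ≫ W.ι) (by
    exact pullback.condition.trans ((congrArg (pullback.snd f (g ≫ V.ι) ≫ ·) hg).trans (Category.assoc _ _ _).symm))
  have sqj : IsPullback j (pullback.snd f (g ≫ V.ι)) (pullback.snd f g₀) W.ι := by
    refine IsPullback.of_right ?_ (pullback.lift_snd _ _ _) (IsPullback.of_hasPullback f g₀)
    rw [pullback.lift_fst]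
    refine (congrArg (fun m => IsPullback (pullback.fst f (g ≫ V.ι)) (pullback.snd f (g ≫ V.ι)) f m) hg).mp ?_
    exact IsPullback.of_hasPullback f (g ≫ V.ι)
  let X' := q ⁻¹ᵁ W
  let r : (X' : Scheme.{u}) ⟶ Pg := sqj.lift (X'.ι ≫ r₀) (q ∣_ W) (by
    rw [morphismRestrict_ι, Category.assoc])
  have hrs : r ≫ pullback.snd f (g ≫ V.ι) = q ∣_ W := sqj.lift_snd _ _ _
  have sqr : IsPullback X'.ι r r₀ j := by
    refine IsPullback.of_bot ?_ (sqj.lift_fst _ _ _).symm sqj
    rw [hrs]
    exact (isPullback_morphismRestrict q W).flip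
  have hr : IsClosedImmersion r := MorphismProperty.of_isPullback sqr (inferInstance : IsClosedImmersion r₀)
  have hrsurj : Surjective r := MorphismProperty.of_isPullback sqr ‹Surjective r₀›
  have hW₁le : W ≤ W₁ := hWle.trans inf_le_left
  have hflatW : Flat (q ∣_ W) := by
    obtain ⟨e⟩ : Nonempty (Arrow.mk ((q ∣_ W₁) ∣_ (W₁.ι ⁻¹ᵁ W)) ≅ Arrow.mk (q ∣_ W)) :=
      ⟨morphismRestrictRestrict q W₁ (W₁.ι ⁻¹ᵁ W) ≪≫ morphismRestrictEq q (by
        rw [Scheme.Hom.image_preimage_eq_opensRange_inf, Scheme.Opens.opensRange_ι]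
        exact inf_eq_right.2 hW₁le)⟩
    exact (MorphismProperty.arrow_mk_iso_iff @Flat e).1 (IsZariskiLocalAtTarget.restrict hflat _)
  have hlfpW : LocallyOfFinitePresentation (q ∣_ W) := by
    obtain ⟨e⟩ : Nonempty (Arrow.mk ((q ∣_ W₁) ∣_ (W₁.ι ⁻¹ᵁ W)) ≅ Arrow.mk (q ∣_ W)) :=
      ⟨morphismRestrictRestrict q W₁ (W₁.ι ⁻¹ᵁ W) ≪≫ morphismRestrictEq q (by
        rw [Scheme.Hom.image_preimage_eq_opensRange_inf, Scheme.Opens.opensRange_ι]
        exact inf_eq_right.2 hW₁le)⟩
    exact (MorphismProperty.arrow_mk_iso_iff @LocallyOfFinitePresentation e).1 (IsZariskiLocalAtTarget.restrict hlfp _)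
  refine ⟨V, W, g, X', r, ‹_›, ⟨U.ι x₀, x₀, hxV₀, rfl⟩, ‹_›, ?_, ?_, hr, hrsurj, inferInstance, ?_, ?_, ?_, ?_, ?_⟩
  · have : IsFinite (gU ∣_ V₀) := IsZariskiLocalAtTarget.restrict hgU.2 V₀
    exact inferInstanceAs (IsFinite ((gU ∣_ V₀) ≫ _))
  · obtain ⟨h1, h2, h3⟩ := (UnivHomeo.Basic.iff_integral_universallyInjective_surjective gU).1 hgU.1
    have : IsIntegralHom (gU ∣_ V₀) := IsZariskiLocalAtTarget.restrict h1 V₀
    have h2' : UniversallyInjective (gU ∣_ V₀) := IsZariskiLocalAtTarget.restrict h2 V₀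
    have : Surjective (gU ∣_ V₀) := IsZariskiLocalAtTarget.restrict h3 V₀
    exact (UnivHomeo.Basic.iff_integral_universallyInjective_surjective g).2
      ⟨inferInstanceAs (IsIntegralHom ((gU ∣_ V₀) ≫ _)), MorphismProperty.comp_mem @UniversallyInjective _ _ h2' inferInstance,
        inferInstanceAs (Surjective ((gU ∣_ V₀) ≫ _))⟩
  · rwa [hrs]
  · rwa [hrs]
  · rw [hrs]; exact IsZariskiLocalAtTarget.restrict ‹QuasiCompact q› W
  · rw [hrs]; exact hqs W hW (hWle.trans inf_le_right)
  -- the generic fibre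
  rw [hrs]
  let gk := Spec.map (CommRingCat.ofHom (algebraMap R' k'))
  let Z := pullback q gk
  have : Algebra.WeaklyEtale R' k' := WLocal.RetractLoc.weaklyEtale_of_isLocalization k' (nonZeroDivisors R')
  have : IsReduced Z := Unram.SepDegreeEq.isReduced_pullback_weaklyEtale R' k' q
  let κ := Spec.map (CommRingCat.ofHom (algebraMap K k'))
  have hκ : gk ≫ g₀ = κ ≫ ηK := by
    simp only [gk, g₀, gU, κ, ηK, Category.assoc]
    rw [← Spec.map_comp_assoc, ← Spec.map_comp_assoc]
    rfl
  have sqA : IsPullback (Curv2.bcFst K XK k') (Curv2.bcSnd K XK k') (pullback.snd f ηK) κ :=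
    IsPullback.of_hasPullback (pullback.snd f ηK) κ
  exact geometricallyReduced_fibre q W k' (geometricallyReduced_baseChange f g₀
    (IsPullback.of_hasPullback f g₀) r₀ ηK (IsPullback.of_hasPullback f ηK) κ gk hκ sqA hgr)

end Groth.Agent.Lib.Flat55.GeomReducedModel
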