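import Groth.Agent.Lib.Flat55.GeomIrredModel
import Groth.Agent.Lib.Flat55.GeomReducedModel
import Groth.Agent.Lib.Homog.Transitive
import Groth.Agent.H56.AbsFlat
import Groth.Agent.S0419
import Groth.Agent.S0434
import Groth.Agent.S1549
import Mathlib.AlgebraicGeometry.Geometrically.Integral

/-!
# Finite flat cover of an open making the components geometrically integral
-/

set_option autoImplicit false
set_option linter.style.haveILetI false
universe u

open CategoryTheory CategoryTheory.Limits AlgebraicGeometry TopologicalSpace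

namespace Groth.Agent.Lib.Flat55.ComponentModel

/-- A scheme étale over a reduced scheme is reduced. -/
theorem isReduced_of_etale {X' X : Scheme.{u}} (g : X' ⟶ X) [Etale g] [IsReduced X] : IsReduced X' := by
  have hloc : ∀ x' : X', _root_.IsReduced (X'.presheaf.stalk x') := fun x' => by
    obtain ⟨U, hU, hgU, -⟩ := exists_isAffineOpen_mem_and_subset (show g x' ∈ (⊤ : X.Opens) from trivial)
    obtain ⟨V, hV, hxV, hle⟩ := exists_isAffineOpen_mem_and_subset (show x' ∈ g ⁻¹ᵁ U from hgU)
    letI := (g.appLE U V hle).hom.toAlgebra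
    haveI : Algebra.Etale Γ(X, U) Γ(X', V) :=
      RingHom.etale_algebraMap.1 (HasRingHomProperty.appLE (P := @Etale) g inferInstance ⟨U, hU⟩ ⟨V, hV⟩ hle)
    haveI : _root_.IsReduced Γ(X', V) := H56.AbsFlat.isReduced_of_weaklyEtale Γ(X, U) Γ(X', V)
    let _ := TopCat.Presheaf.algebra_section_stalk X'.presheaf ⟨x', hxV⟩
    haveI := hV.isLocalization_stalk ⟨x', hxV⟩
    exact isReduced_localizationPreserves (hV.primeIdealOf ⟨x', hxV⟩).asIdeal.primeCompl
      (X'.presheaf.stalk x') inferInstance
  exact isReduced_of_isReduced_stalk X'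

/-- Two reduced closed subschemes with the same support agree. -/
theorem iso_of_same_range {Z Z' P : Scheme.{u}} (i : Z ⟶ P) (i' : Z' ⟶ P) [IsClosedImmersion i] [IsClosedImmersion i']
    [IsReduced Z] [IsReduced Z'] (h : Set.range i = Set.range i') : ∃ e : Z ≅ Z', e.hom ≫ i' = i := by
  haveI : IsClosedImmersion (pullback.fst i i') := MorphismProperty.pullback_fst _ _ ‹_›
  haveI : IsClosedImmersion (pullback.snd i i') := MorphismProperty.pullback_snd _ _ ‹_›
  haveI : Surjective (pullback.fst i i') := ⟨fun z => by
    obtain ⟨z', hz'⟩ := h.le ⟨z, rfl⟩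
    obtain ⟨p, hp, -⟩ := Scheme.Pullback.exists_preimage_pullback (f := i) (g := i') z z' hz'.symm
    exact ⟨p, hp⟩⟩
  haveI : Surjective (pullback.snd i i') := ⟨fun z' => by
    obtain ⟨z, hz⟩ := h.ge ⟨z', rfl⟩
    obtain ⟨p, -, hp⟩ := Scheme.Pullback.exists_preimage_pullback (f := i) (g := i') z z' hz
    exact ⟨p, hp⟩⟩
  haveI := isIso_of_isClosedImmersion_of_surjective (pullback.fst i i')
  haveI := isIso_of_isClosedImmersion_of_surjective (pullback.snd i i')
  exact ⟨asIso (inv (pullback.fst i i') ≫ pullback.snd i i'), by simp [← pullback.condition]⟩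

/-- Components of geometrically reduced schemes are geometrically reduced. -/
theorem geometricallyReduced_component {k : Type u} [Field k] {F Z : Scheme.{u}}
    (π : F ⟶ Spec (CommRingCat.of k)) [LocallyOfFiniteType π] [QuasiCompact π] [GeometricallyReduced π]
    (i : Z ⟶ F) [IsClosedImmersion i] [IsReduced Z] (hC : Set.range i ∈ irreducibleComponents F) :
    GeometricallyReduced (i ≫ π) := by
  classical
  letI : F.Over (Spec (CommRingCat.of k)) := ⟨π⟩
  haveI : LocallyOfFiniteType (F ↘ Spec (CommRingCat.of k)) := ‹LocallyOfFiniteType π›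
  haveI : IsReduced F := GeometricallyReduced.geometrically_isReduced (f := π) (Spec.map (𝟙 (CommRingCat.of k)))
    (𝟙 F) π (IsPullback.of_horiz_isIso ⟨by simp⟩)
  obtain ⟨U, hU, hUs⟩ := (S1549.result k F).1 ‹GeometricallyReduced π›
  haveI : IsLocallyNoetherian F := LocallyOfFiniteType.isLocallyNoetherian π
  haveI : CompactSpace F := QuasiCompact.compactSpace_of_compactSpace π
  haveI : IsNoetherian F := {}
  let O₁ : F.Opens := ⟨(⋃₀ (irreducibleComponents F \ {Set.range i}))ᶜ, by
    rw [Set.sUnion_eq_biUnion]
    exact (((NoetherianSpace.finite_irreducibleComponents (α := F)).sdiff).isClosed_biUnion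
      fun C hC => isClosed_of_mem_irreducibleComponents C hC.1).isOpen_compl⟩
  have hO₁ : (O₁ : Set F) ⊆ Set.range i := fun a ha => by
    by_contra h
    refine ha ⟨irreducibleComponent a, ⟨irreducibleComponent_mem_irreducibleComponents a, ?_⟩, mem_irreducibleComponent⟩
    intro he
    exact h (he ▸ mem_irreducibleComponent)
  have hO₁ne : (O₁ : Set F).Nonempty := by
    by_contra h
    have hsub : Set.range i ⊆ ⋃₀ (irreducibleComponents F \ {Set.range i}) := fun a _ => by
      by_contra ha
      exact h ⟨a, ha⟩
    obtain ⟨C, hCm, hCsub⟩ := isIrreducible_iff_sUnion_isClosed.1 hC.1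
      ((NoetherianSpace.finite_irreducibleComponents (α := F)).sdiff (t := {Set.range i})).toFinset
      (fun C hC' => isClosed_of_mem_irreducibleComponents C ((Set.Finite.mem_toFinset _).1 hC').1)
      (by simpa using hsub)
    rw [Set.Finite.mem_toFinset] at hCm
    exact hCm.2 (Set.Subset.antisymm (hC.2 hCm.1.1 hCsub) hCsub)
  let O : F.Opens := O₁ ⊓ U
  have hOne : (O : Set F).Nonempty := hU.inter_open_nonempty _ O₁.2 hO₁ne
  haveI : IsClosedImmersion (i ∣_ O) := IsZariskiLocalAtTarget.restrict ‹IsClosedImmersion i› O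
  haveI : Surjective (i ∣_ O) := ⟨fun a => by
    obtain ⟨z, hz⟩ := hO₁ a.2.1
    refine ⟨⟨z, show i z ∈ O from hz ▸ a.2⟩, ?_⟩
    apply O.ι.isOpenEmbedding.injective
    rw [← Scheme.Hom.comp_apply, morphismRestrict_ι, Scheme.Hom.comp_apply]
    exact hz⟩
  haveI : IsReduced (O : Scheme.{u}) := isReduced_of_isOpenImmersion O.ι
  haveI := isIso_of_isClosedImmersion_of_surjective (i ∣_ O)
  letI : Z.Over (Spec (CommRingCat.of k)) := ⟨i ≫ π⟩
  haveI : LocallyOfFiniteType (Z ↘ Spec (CommRingCat.of k)) := inferInstanceAs (LocallyOfFiniteType (i ≫ π))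
  refine (S1549.result k Z).2 ⟨i ⁻¹ᵁ O, ?_, ?_⟩
  · haveI := Subtype.irreducibleSpace hC.1
    let eh := i.isClosedEmbedding.isEmbedding.toHomeomorph
    haveI : IrreducibleSpace Z := eh.symm.surjective.irreducibleSpace eh.symm.continuous
    obtain ⟨a, ha⟩ := hOne
    obtain ⟨z, hz⟩ := hO₁ ha.1
    exact IsOpen.dense (i ⁻¹ᵁ O).2 ⟨z, show i z ∈ O from hz ▸ ha⟩
  · haveI : Smooth (U.ι ≫ π) := hUs
    show Smooth ((i ⁻¹ᵁ O).ι ≫ i ≫ π)
    rw [← morphismRestrict_ι_assoc, ← Scheme.homOfLE_ι F (inf_le_right : O ≤ U), Category.assoc]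
    infer_instance

/-- The fibre over the generic point of a reduced scheme is reduced. -/
theorem isReduced_genericFibre {Z T : Scheme.{u}} (q : Z ⟶ T) [IsReduced Z] [IsIntegral T] :
    IsReduced (q.fiber (genericPoint T)) := by
  let η := genericPoint T
  haveI : IsIso (T.residue η) := by
    have hf : IsField (T.presheaf.stalk η) := Field.toIsField T.functionField
    refine (ConcreteCategory.isIso_iff_bijective _).2 ⟨?_, T.residue_surjective η⟩
    letI := hf.toField
    exact (T.residue η).hom.injective
  haveI : Flat (T.fromSpecResidueField η) := by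
    haveI := Unram.BaseChangeNhd.flat_fromSpecStalk η
    rw [Scheme.fromSpecResidueField]
    infer_instance
  haveI : Flat (q.fiberι η) := MorphismProperty.pullback_fst _ _ inferInstance
  haveI : ∀ a : q.fiber η, _root_.IsReduced ((q.fiber η).presheaf.stalk a) := fun a => by
    let φ := ((q.fiberι η).stalkMap a).hom
    have hflat : φ.Flat := (Flat.iff_flat_stalkMap _).1 inferInstance a
    letI := φ.toAlgebra
    haveI : Module.Flat (Z.presheaf.stalk (q.fiberι η a)) ((q.fiber η).presheaf.stalk a) := hflat
    haveI : IsLocalHom (algebraMap (Z.presheaf.stalk (q.fiberι η a)) ((q.fiber η).presheaf.stalk a)) :=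
      inferInstanceAs (IsLocalHom ((q.fiberι η).stalkMap a).hom)
    haveI : Module.FaithfullyFlat (Z.presheaf.stalk (q.fiberι η a)) ((q.fiber η).presheaf.stalk a) :=
      Module.FaithfullyFlat.of_flat_of_isLocalHom
    have hinj : Function.Injective φ :=
      FaithfulSMul.algebraMap_injective (Z.presheaf.stalk (q.fiberι η a)) ((q.fiber η).presheaf.stalk a)
    have hsurj : Function.Surjective φ := (q.fiberι η).stalkMap_surjective a
    let e := RingEquiv.ofBijective φ ⟨hinj, hsurj⟩
    exact isReduced_of_injective e.symm.toRingHom e.symm.injective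
  exact isReduced_of_isReduced_stalk _

/-- A closed subscheme which is a component of a flat family with good generic fibre has geometrically
integral generic fibre. -/
theorem component_genericFibre {X T Z : Scheme.{u}} [IsIntegral T] (q : X ⟶ T) [Flat q] [LocallyOfFiniteType q]
    [QuasiCompact q] (hred : GeometricallyReduced (q.fiberToSpecResidueField (genericPoint T)))
    (hirr : ∀ (C : Set ↑(q.fiber (genericPoint T))) (hC : C ∈ irreducibleComponents ↑(q.fiber (genericPoint T))),
      GeometricallyIrreducible ((Scheme.IdealSheafData.vanishingIdeal (⟨C, isClosed_of_mem_irreducibleComponents C hC⟩ : Closeds _)).subschemeι ≫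
        q.fiberToSpecResidueField (genericPoint T)))
    (i : Z ⟶ X) [IsClosedImmersion i] [IsReduced Z] (hC : Set.range i ∈ irreducibleComponents X) :
    GeometricallyIntegral ((i ≫ q).fiberToSpecResidueField (genericPoint T)) := by
  set η := genericPoint T
  let π : q.fiber η ⟶ Spec (CommRingCat.of (T.residueField η)) := q.fiberToSpecResidueField η
  haveI : LocallyOfFiniteType π := MorphismProperty.pullback_snd _ _ inferInstance
  haveI : QuasiCompact π := MorphismProperty.pullback_snd _ _ inferInstance
  haveI : GeometricallyReduced π := hred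
  haveI := isReduced_genericFibre (i ≫ q)
  let l : (i ≫ q).fiber η ⟶ q.fiber η :=
    pullback.lift ((i ≫ q).fiberι η ≫ i) ((i ≫ q).fiberToSpecResidueField η) (by
      rw [Category.assoc]; exact pullback.condition)
  have hl : IsPullback ((i ≫ q).fiberι η) l i (q.fiberι η) :=
    IsPullback.of_bot ((congrArg (fun m => IsPullback ((i ≫ q).fiberι η) m (i ≫ q) (T.fromSpecResidueField η))
        (pullback.lift_snd _ _ _)).mpr (IsPullback.of_hasPullback (i ≫ q) _))
      (pullback.lift_fst _ _ _).symm (IsPullback.of_hasPullback _ _)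
  haveI : IsClosedImmersion l := MorphismProperty.of_isPullback hl inferInstance
  have hrange : Set.range l = q.fiberι η ⁻¹' Set.range i := by
    ext w
    constructor
    · rintro ⟨z, rfl⟩
      exact ⟨(i ≫ q).fiberι η z, congrArg (fun m => m z) hl.w⟩
    · rintro ⟨z, hz⟩
      obtain ⟨a, -, ha⟩ := Scheme.exists_preimage_of_isPullback hl z w hz
      exact ⟨a, ha⟩
  -- the generic point of the component lies over the generic point
  let c := hC.1.genericPoint
  have hc : IsGenericPoint c (Set.range i) := hC.1.isGenericPoint_genericPoint i.isClosedEmbedding.isClosed_range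
  obtain ⟨c', hc'c, hc'⟩ := (Flat.generalizingMap q) (genericPoint_specializes (q c))
  have hcc : c' = c := by
    have h1 : IsIrreducible (closure ({c'} : Set X)) := isIrreducible_singleton.closure
    have h2 : Set.range i ⊆ closure {c'} := by
      rw [← hc.def]
      exact closure_minimal (Set.singleton_subset_iff.2 (specializes_iff_mem_closure.1 hc'c)) isClosed_closure
    exact IsGenericPoint.eq (hC.2 h1 h2 |>.antisymm h2 : closure {c'} = Set.range i) hc
  obtain ⟨d, hd⟩ : c ∈ Set.range (q.fiberι η) := by
    rw [q.range_fiberι]; exact hcc ▸ hc'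
  have hD : q.fiberι η ⁻¹' Set.range i ∈ irreducibleComponents (q.fiber η) := by
    have he : q.fiberι η ⁻¹' Set.range i = closure {d} := by
      rw [(q.fiberι η).isEmbedding.isInducing.closure_eq_preimage_closure_image, Set.image_singleton, hd, hc.def]
    refine ⟨he ▸ isIrreducible_singleton.closure, fun D hD hle a ha => ?_⟩
    have h1 : Set.range i ⊆ closure (q.fiberι η '' D) := by
      rw [← hc.def]
      refine closure_mono (Set.singleton_subset_iff.2 ⟨d, hle ?_, hd⟩)
      rw [he]; exact subset_closure rfl
    exact hC.2 (hD.image _ (q.fiberι η).continuous.continuousOn).closure h1 (subset_closure ⟨a, ha, rfl⟩)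
  let J := Scheme.IdealSheafData.vanishingIdeal (⟨_, isClosed_of_mem_irreducibleComponents _ hD⟩ : Closeds (q.fiber η))
  haveI : IsReduced J.subscheme := by infer_instance
  obtain ⟨e, he⟩ := iso_of_same_range l J.subschemeι (by
    rw [hrange]
    simp [J, Scheme.IdealSheafData.range_subschemeι, Scheme.IdealSheafData.coe_support_vanishingIdeal])
  have hπ : l ≫ π = (i ≫ q).fiberToSpecResidueField η := pullback.lift_snd _ _ _
  rw [← hπ]
  haveI : GeometricallyReduced (l ≫ π) := geometricallyReduced_component π l (by rw [hrange]; exact hD)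
  haveI : GeometricallyIrreducible (l ≫ π) := by
    rw [← he, Category.assoc]
    exact (MorphismProperty.cancel_left_of_respectsIso @GeometricallyIrreducible e.hom _).2 (hirr _ hD)
  exact GeometricallyIntegral.of_geometricallyReduced_of_geometricallyIrreducible _

end Groth.Agent.Lib.Flat55.ComponentModel
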