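import Groth.Agent.Lib.Flat55.RegularAlteration
import Groth.Agent.Lib.Normalization.InField
import Groth.Agent.Lib.Normalization.Birational
import Groth.Agent.Lib.Normalization.DimOne
import Groth.Agent.S9800

/-!
# Resolutions of one-dimensional integral schemes
-/

set_option autoImplicit false

universe u

open CategoryTheory CategoryTheory.Limits AlgebraicGeometry TopologicalSpace
open Groth.Agent.Lib

namespace Groth.Agent.Lib.Flat55.CurveResolution

variable {Y : Scheme.{u}} [IsIntegral Y] [QuasiCompact (Y.fromSpecStalk (genericPoint Y))]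
  [QuasiSeparated (Y.fromSpecStalk (genericPoint Y))]

/-- An alteration by a scheme with normal local rings makes the normalization finite. -/
theorem isFinite_normalizationι [IsLocallyNoetherian Y] {X : Scheme.{u}} [IsIntegral X] (g : X ⟶ Y)
    [IsProper g] [IsDominant g] (hn : ∀ x : X, IsIntegrallyClosed (X.presheaf.stalk x)) :
    IsFinite (Curv2.normalizationι Y) := by
  refine Normalization.InField.isFinite (RingHom.id Y.functionField) (Y.fromSpecStalk (genericPoint Y)) (by
      show _ = Spec.map (𝟙 Y.functionField) ≫ Y.fromSpecStalk (genericPoint Y)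
      rw [Spec.map_id, Category.id_comp]) fun U _ hU => ?_
  have := functionField_isFractionRing_of_isAffineOpen Y U hU
  have : IsNoetherianRing Γ(Y, U) := IsLocallyNoetherian.component_noetherian ⟨U, hU⟩
  have : Surjective g := ⟨fun y => by
    have h : y ∈ closure (Set.range g) := by rw [g.denseRange.closure_range]; trivial
    rwa [g.isClosedMap.isClosed_range.closure_eq] at h⟩
  have : Surjective (g ∣_ U) := IsZariskiLocalAtTarget.restrict ‹_› U
  have : IsProper (g ∣_ U) := IsZariskiLocalAtTarget.restrict ‹_› U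
  obtain ⟨⟨y, hy⟩⟩ := ‹Nonempty U›
  obtain ⟨x, rfl⟩ := g.surjective y
  have : Nonempty (g ⁻¹ᵁ U) := ⟨⟨x, hy⟩⟩
  have : Nonempty ↥(↑(g ⁻¹ᵁ U) : Scheme.{u}) := ⟨⟨x, hy⟩⟩
  have : IsIntegral (↑(g ⁻¹ᵁ U) : Scheme.{u}) := isIntegral_of_isOpenImmersion (g ⁻¹ᵁ U).ι
  let f : (↑(g ⁻¹ᵁ U) : Scheme.{u}) ⟶ Spec (CommRingCat.of Γ(Y, U)) := (g ∣_ U) ≫ hU.isoSpec.hom
  have : IsProper f := MorphismProperty.comp_mem @IsProper _ _ inferInstance inferInstance
  have : Surjective f := MorphismProperty.comp_mem @Surjective _ _ inferInstance inferInstance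
  have : IsDominant f := inferInstance
  exact RegularAlteration.finite_integralClosure f (fun z =>
    have := hn ((g ⁻¹ᵁ U).ι z)
    IsIntegrallyClosed.of_equiv ((g ⁻¹ᵁ U).stalkIso z).commRingCatIsoToRingEquiv.symm) Y.functionField

/-- A finite normalization of a one-dimensional scheme is a resolution. -/
theorem resolution_of_isFinite [IsNoetherian Y] (hdim : topologicalKrullDim Y ≤ 1)
    (hfin : IsFinite (Curv2.normalizationι Y)) :
    IsProper (Curv2.normalizationι Y) ∧ IsIntegral (Curv2.normalization Y) ∧
      (∃ V : Y.Opens, (V : Set Y).Nonempty ∧ IsIso (Curv2.normalizationι Y ∣_ V)) ∧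
      ∀ x, IsRegularLocalRing ((Curv2.normalization Y).presheaf.stalk x) := by
  obtain ⟨V, -, hne, hiso⟩ := Normalization.Birational.exists_iso Y fun U hU hUa => by
    have h := hfin.finite_app U hUa
    have e : (algebraMap Γ(Y, U) (integralClosure Γ(Y, U) Y.functionField)) =
        (Normalization.Basic.sectionsEquiv Y hUa).toRingHom.comp
          ((Curv2.normalizationι Y).app U).hom := by
      ext a
      exact congrArg Subtype.val (Normalization.Basic.sectionsEquiv_app Y hUa a).symm
    rw [← RingHom.finite_algebraMap, e]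
    exact (RingHom.Finite.of_surjective _ (Normalization.Basic.sectionsEquiv Y hUa).surjective).comp h
  refine ⟨inferInstance, inferInstance, ⟨V, hne, hiso⟩, fun x => ?_⟩
  have := Normalization.DimOne.isLocallyNoetherian_normalization Y hdim
  have hd : topologicalKrullDim ↥(Curv2.normalization Y) ≤ 1 :=
    (SchTopo.Basic.topologicalKrullDim_le_of_specializes_eq (Curv2.normalizationι Y) fun a b h e =>
      SchTopo.Basic.isIntegralHom_eq_of_specializes _ h e).trans hdim
  exact Groth.Agent.S9800.result _ (fun y => ⟨inferInstance, Normalization.DimOne.isIntegrallyClosed_stalk Y hdim y⟩) hd x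

/-- A proper morphism from an integral scheme which is an isomorphism over a nonempty open is an alteration. -/
theorem isAlteration {X : Scheme.{u}} (g : X ⟶ Y) [IsProper g] [IsIntegral X] (V : Y.Opens)
    (hV : (V : Set Y).Nonempty) [IsIso (g ∣_ V)] : Curv2.IsAlteration g := by
  refine ⟨inferInstance, inferInstance, ‹IsIntegral Y›, ⟨?_⟩, V, hV, inferInstance⟩
  have hsub : (V : Set Y) ⊆ Set.range g := fun y hy => by
    obtain ⟨z, hz⟩ := (g ∣_ V).surjective ⟨y, hy⟩
    exact ⟨(g ⁻¹ᵁ V).ι z, by
      rw [← Scheme.Hom.comp_apply, ← morphismRestrict_ι, Scheme.Hom.comp_apply, hz]; rfl⟩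
  exact (V.2.dense hV).mono hsub

end Groth.Agent.Lib.Flat55.CurveResolution
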