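import Groth.Agent.Lib.Flat55.SliceSeqScheme
import Groth.Agent.Lib.Flat55.FibrewiseStalk
import Groth.Agent.Lib.Depth.CM
import Groth.Agent.Lib.Depth.Assoc
import Groth.Agent.S2886
import Groth.Prelude.Def_MoreMor
import Mathlib.AlgebraicGeometry.Morphisms.QuasiFinite
import Mathlib.AlgebraicGeometry.ZariskisMainTheorem
import Mathlib.RingTheory.KrullDimension.Regular

/-!
# Slicing a Cohen–Macaulay morphism down to a quasi-finite one
-/

set_option autoImplicit false

universe u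

open CategoryTheory CategoryTheory.Limits AlgebraicGeometry TopologicalSpace IsLocalRing
open RingTheory.Sequence LocCoh

namespace Groth.Agent.Lib.Flat55.CMSlice

/-- A Cohen–Macaulay local ring is cut down to dimension zero by a regular sequence. -/
theorem exists_regular_dim_zero (R : Type u) [CommRing R] [IsCohenMacaulayLocalRing R] :
    ∃ rs : List R, (∀ r ∈ rs, r ∈ maximalIdeal R) ∧ IsWeaklyRegular R rs ∧
      Ring.KrullDimLE 0 (R ⧸ Ideal.ofList rs) := by
  obtain ⟨d, hd⟩ : ∃ d : ℕ, depth R R = d :=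
    ⟨_, (ENat.natCast_toNat (Depth.Assoc.depth_ne_top R)).symm⟩
  obtain ⟨rs, hlen, hmem, hreg⟩ := (Depth.Basic.le_depth_iff (M := R) d).1 hd.ge
  refine ⟨rs, hmem, hreg.toIsWeaklyRegular, ?_⟩
  have h := ringKrullDim_add_length_eq_ringKrullDim_of_isRegular rs hreg
  rw [Depth.CM.ringKrullDim_eq_depth (R := R), hd, hlen] at h
  rw [Ring.krullDimLE_iff]
  generalize ringKrullDim (R ⧸ Ideal.ofList rs) = D at h
  induction D with
  | bot => exact bot_le
  | coe D =>
    induction D with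
    | top => exact absurd (WithBot.coe_inj.1 ((WithBot.coe_add (⊤ : ℕ∞) (d : ℕ∞)).trans h)) (by simp)
    | coe D =>
      norm_cast at h ⊢
      have : D + d = d := by exact_mod_cast h
      exact_mod_cast (show D ≤ 0 by omega)

/-- A closed point without generizations of a locally Noetherian scheme is open. -/
theorem isOpen_singleton {F : Scheme.{u}} [IsLocallyNoetherian F] (b : F)
    (hcl : IsClosed ({b} : Set F)) (hdim : Ring.KrullDimLE 0 (F.presheaf.stalk b)) :
    IsOpen ({b} : Set F) := by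
  obtain ⟨U, hU, hbU, -⟩ := exists_isAffineOpen_mem_and_subset (X := F) (x := b) (U := ⊤) trivial
  have : IsNoetherianRing Γ(F, U) := IsLocallyNoetherian.component_noetherian ⟨U, hU⟩
  set q := hU.primeIdealOf ⟨b, hbU⟩ with hq
  let _ := TopCat.Presheaf.algebra_section_stalk F.presheaf (⟨b, hbU⟩ : U)
  have := hU.isLocalization_stalk ⟨b, hbU⟩
  have hh : q.asIdeal.height = 0 := by
    have h0 := (Ring.krullDimLE_iff).1 hdim
    rw [IsLocalization.AtPrime.ringKrullDim_eq_height q.asIdeal (F.presheaf.stalk b)] at h0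
    exact nonpos_iff_eq_zero.1 (WithBot.coe_le_coe.1 h0)
  have hmin : q.asIdeal ∈ minimalPrimes Γ(F, U) := Ideal.height_eq_zero_iff.1 hh
  have hqb : hU.fromSpec q = b := hU.fromSpec_primeIdealOf ⟨b, hbU⟩
  have hmax : q.asIdeal.IsMaximal := by
    rw [← PrimeSpectrum.isClosed_singleton_iff_isMaximal]
    have e : ({q} : Set (PrimeSpectrum Γ(F, U))) = hU.fromSpec ⁻¹' {b} := Set.ext fun r ↦
      ⟨fun h ↦ (congrArg hU.fromSpec h).trans hqb,
        fun h ↦ hU.fromSpec.isOpenEmbedding.injective ((h : hU.fromSpec r = b).trans hqb.symm)⟩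
    rw [e]
    exact hcl.preimage hU.fromSpec.continuous
  have hopen : IsOpen ({q} : Set (PrimeSpectrum Γ(F, U))) := by
    have he : ({q} : Set (PrimeSpectrum Γ(F, U))) =
        (⋃ p ∈ minimalPrimes Γ(F, U) \ {q.asIdeal}, PrimeSpectrum.zeroLocus (p : Set Γ(F, U)))ᶜ := by
      ext r
      simp only [Set.mem_singleton_iff, Set.mem_compl_iff, Set.mem_iUnion, PrimeSpectrum.mem_zeroLocus,
        SetLike.coe_subset_coe, not_exists]
      constructor
      · rintro rfl p ⟨hp, hne⟩ hle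
        exact hne (le_antisymm hle (hmin.2 hp.1 hle))
      · intro h
        obtain ⟨p, hp, hle⟩ := Ideal.exists_minimalPrimes_le (show ⊥ ≤ r.asIdeal from bot_le)
        have hpq : p = q.asIdeal := by
          by_contra hne
          exact h p ⟨hp, hne⟩ hle
        exact PrimeSpectrum.ext (hmax.eq_of_le r.2.ne_top (hpq ▸ hle)).symm
    rw [he]
    exact (Set.Finite.isClosed_biUnion (((minimalPrimes.finite_of_isNoetherianRing Γ(F, U))).sdiff)
      fun p _ ↦ PrimeSpectrum.isClosed_zeroLocus _).isOpen_compl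
  convert hU.fromSpec.isOpenEmbedding.isOpenMap _ hopen using 1
  ext c
  exact ⟨fun h ↦ ⟨q, rfl, hqb.trans (h : c = b).symm⟩,
    fun ⟨_, h1, h2⟩ ↦ h2.symm.trans ((congrArg hU.fromSpec h1).trans hqb)⟩

set_option backward.isDefEq.respectTransparency false in
set_option maxHeartbeats 1000000 in
/-- Through a point where a morphism is Cohen–Macaulay and which is closed in its fibre passes a
regular closed immersion which is flat and quasi-finite over the base. -/
theorem exists_slice {X S : Scheme.{u}} (f : X ⟶ S) [LocallyOfFinitePresentation f] (x : X)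
    (hcm : MoreMor.IsCMAt f x) (hcl : IsClosed ({f.asFiber x} : Set ↑(f.fiber (f x)))) :
    ∃ (V : X.Opens) (Z : Scheme.{u}) (i : Z ⟶ (V : Scheme.{u})), Mor2.IsRegularClosedImmersion i ∧ x ∈ Set.range ⇑(i ≫ V.ι) ∧
      Flat (i ≫ V.ι ≫ f) ∧ LocallyOfFinitePresentation (i ≫ V.ι ≫ f) ∧ LocallyQuasiFinite (i ≫ V.ι ≫ f) ∧
      ∀ z : Z, f (V.ι (i z)) = f x → V.ι (i z) = x := by
  obtain ⟨hflat, hT⟩ := hcm
  let T := (f.fiber (f x)).presheaf.stalk (f.asFiber x)
  obtain ⟨hk, hsurj⟩ := FibrewiseStalk.ker_stalkMap_fiberι' f (f x) (f.asFiber x) x (f.fiberι_asFiber x)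
  set q : X.presheaf.stalk x →+* T :=
    ((X.presheaf.stalkCongr (.of_eq (f.fiberι_asFiber x).symm)).hom ≫
      (f.fiberι (f x)).stalkMap (f.asFiber x)).hom
  obtain ⟨rs, hmem, hreg, hdim⟩ := exists_regular_dim_zero T
  obtain ⟨hs, hhs⟩ : ∃ hs : List (X.presheaf.stalk x), hs.map q = rs := by
    refine ⟨rs.map (Function.surjInv hsurj), ?_⟩
    rw [List.map_map]
    exact (List.map_congr_left fun z _ ↦ Function.surjInv_eq hsurj z).trans (List.map_id rs)
  have hsm : ∀ h ∈ hs, h ∈ maximalIdeal (X.presheaf.stalk x) := fun h hh hu ↦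
    hmem (q h) (hhs ▸ List.mem_map_of_mem hh) (hu.map q)
  let J := Ideal.map (f.stalkMap x).hom (maximalIdeal (S.presheaf.stalk (f x)))
  let e : X.presheaf.stalk x ⧸ J ≃+* T :=
    (Ideal.quotEquivOfEq hk.symm).trans (RingHom.quotientKerEquivOfSurjective hsurj)
  have he : ∀ y, e (Ideal.Quotient.mk J y) = q y := fun y ↦ rfl
  have hregF : IsWeaklyRegular (X.presheaf.stalk x ⧸ J) (hs.map (Ideal.Quotient.mk J)) := by
    refine (AddEquiv.isWeaklyRegular_congr (e := e.toAddEquiv) (bs := rs) ?_).2 hreg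
    rw [← hhs, List.forall₂_map_left_iff, List.forall₂_map_right_iff, List.forall₂_same]
    intro r _ y
    change e (Ideal.Quotient.mk J r * y) = q r * e y
    rw [map_mul, he]
  obtain ⟨U, hU, hxU, hs', hgerm, hri, hrange, hgflat, hglfp, -⟩ :=
    SliceSeqScheme.exists_slices f x hflat hs hsm hregF
  let I := Ideal.ofList hs'
  let Z := Spec (CommRingCat.of (Γ(X, U) ⧸ I))
  let mk : Z ⟶ Spec Γ(X, U) := Spec.map (CommRingCat.ofHom (Ideal.Quotient.mk I))
  let i₀ : Z ⟶ (U : Scheme.{u}) := mk ≫ hU.isoSpec.inv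
  let j : Z ⟶ X := mk ≫ hU.fromSpec
  have hji : i₀ ≫ U.ι = j := by rw [Category.assoc, IsAffineOpen.isoSpec_inv_ι]
  have : IsClosedImmersion mk := IsClosedImmersion.spec_of_surjective _ Ideal.Quotient.mk_surjective
  have : IsPreimmersion j := inferInstanceAs (IsPreimmersion (mk ≫ hU.fromSpec))
  let g : Z ⟶ S := j ≫ f
  have hg : g = mk ≫ hU.fromSpec ≫ f := Category.assoc _ _ _
  have : Flat g := hg ▸ hgflat
  have : LocallyOfFinitePresentation g := hg ▸ hglfp
  obtain ⟨z₀, hz₀⟩ := hrange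
  change j z₀ = x at hz₀
  subst hz₀
  -- the fibre of the slice has a zero dimensional local ring at `z₀`
  let T₂ := (g.fiber (g z₀)).presheaf.stalk (g.asFiber z₀)
  obtain ⟨hk₂, hsurj₂⟩ := FibrewiseStalk.ker_stalkMap_fiberι' g (g z₀) (g.asFiber z₀) z₀ (g.fiberι_asFiber z₀)
  set q₂ : Z.presheaf.stalk z₀ →+* T₂ :=
    ((Z.presheaf.stalkCongr (.of_eq (g.fiberι_asFiber z₀).symm)).hom ≫
      (g.fiberι (g z₀)).stalkMap (g.asFiber z₀)).hom
  let π : X.presheaf.stalk (j z₀) →+* T₂ := q₂.comp (j.stalkMap z₀).hom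
  have hπ : Function.Surjective π := hsurj₂.comp (j.stalkMap_surjective z₀)
  have hπ0 : RingHom.ker q ≤ RingHom.ker π := by
    rw [hk, ← RingHom.comap_ker, hk₂]
    exact (FibrewiseStalk.mIdeal_comp_le j f z₀)
  have hπI : ∀ h ∈ hs, π h = 0 := by
    intro h hh
    obtain ⟨s, hs₁, rfl⟩ := List.mem_map.1 (hgerm.symm ▸ hh : h ∈ hs'.map (X.presheaf.germ U (j z₀) hxU))
    have h0 : j.app U s = 0 := by
      change (hU.fromSpec.app U ≫ mk.app _) s = 0
      rw [hU.fromSpec_app_self, Category.assoc, Scheme.Hom.naturality]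
      simp only [ConcreteCategory.comp_apply]
      have hz : mk.appTop ((Scheme.ΓSpecIso Γ(X, U)).inv s) = 0 := by
        have hn := congr($(Scheme.ΓSpecIso_inv_naturality (CommRingCat.ofHom (Ideal.Quotient.mk I))) s)
        simp only [ConcreteCategory.comp_apply] at hn
        refine hn.symm.trans ?_
        rw [show CommRingCat.ofHom (Ideal.Quotient.mk I) s = 0 from
          Ideal.Quotient.eq_zero_iff_mem.2 (Ideal.subset_span hs₁), map_zero]
      change (Z.presheaf.map _) (mk.appTop ((Scheme.ΓSpecIso Γ(X, U)).inv s)) = 0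
      rw [hz, map_zero]
    change q₂ (j.stalkMap z₀ (X.presheaf.germ U (j z₀) hxU s)) = 0
    rw [Scheme.Hom.germ_stalkMap_apply, h0, map_zero, map_zero]
  let π' : T →+* T₂ := RingHom.liftOfSurjective q hsurj ⟨π, hπ0⟩
  have hπ'q : ∀ y, π' (q y) = π y := fun y ↦ RingHom.liftOfSurjective_comp_apply q hsurj _ y
  have hdim₂ : Ring.KrullDimLE 0 T₂ := by
    have hle : Ideal.ofList rs ≤ RingHom.ker π' := Ideal.span_le.2 fun r hr ↦ by
      obtain ⟨h, hh, rfl⟩ := List.mem_map.1 (hhs.symm ▸ hr : r ∈ hs.map q)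
      exact (hπ'q h).trans (hπI h hh)
    rw [Ring.krullDimLE_iff] at hdim ⊢
    refine le_trans (ringKrullDim_le_of_surjective (Ideal.Quotient.lift (Ideal.ofList rs) π' hle) ?_) hdim
    intro y
    obtain ⟨w, rfl⟩ := hπ y
    exact ⟨Ideal.Quotient.mk _ (q w), hπ'q w⟩
  -- it is closed, hence open, in that fibre
  have hclf : IsClosed ({g.asFiber z₀} : Set (g.fiber (g z₀))) := by
    rw [← (g.fiberHomeo (g z₀)).isClosed_image, Set.image_singleton, Scheme.Hom.asFiber,
      Homeomorph.apply_symm_apply]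
    have h1 : IsClosed ({⟨j z₀, rfl⟩} : Set (f ⁻¹' {f (j z₀)})) := by
      have := (f.fiberHomeo (f (j z₀))).isClosed_image.2 hcl
      rwa [Set.image_singleton, Scheme.Hom.asFiber, Homeomorph.apply_symm_apply] at this
    let r : g ⁻¹' {g z₀} → f ⁻¹' {f (j z₀)} := fun z ↦ ⟨j z.1, z.2⟩
    have hr : Continuous r := Continuous.subtype_mk (j.continuous.comp continuous_subtype_val) _
    convert h1.preimage hr using 1
    ext z
    simp only [Set.mem_singleton_iff, Set.mem_preimage, r, Subtype.ext_iff]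
    exact ⟨fun h ↦ by rw [h], fun h ↦ j.isEmbedding.injective h⟩
  have : IsLocallyNoetherian (g.fiber (g z₀)) :=
    have : LocallyOfFiniteType (g.fiberToSpecResidueField (g z₀)) :=
      MorphismProperty.pullback_snd _ _ inferInstance
    LocallyOfFiniteType.isLocallyNoetherian (g.fiberToSpecResidueField (g z₀))
  have hopf := isOpen_singleton (g.asFiber z₀) hclf hdim₂
  have hqf : g.QuasiFiniteAt z₀ := Scheme.Hom.quasiFiniteAt_iff_isOpen_singleton_asFiber.2 hopf
  rw [← (g.fiberHomeo (g z₀)).isOpen_image, Set.image_singleton, Scheme.Hom.asFiber,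
    Homeomorph.apply_symm_apply, isOpen_induced_iff] at hopf
  obtain ⟨W₁, hW₁o, hW₁⟩ := hopf
  have hW : IsOpen ({z | g.QuasiFiniteAt z} ∩ W₁) := g.isOpen_quasiFiniteAt.inter hW₁o
  obtain ⟨O, hO, hOW⟩ := j.isEmbedding.isInducing.isOpen_iff.1 hW
  let V : X.Opens := U ⊓ ⟨O, hO⟩
  let k : (V : Scheme.{u}) ⟶ (U : Scheme.{u}) := X.homOfLE inf_le_left
  have hkι : k ≫ U.ι = V.ι := X.homOfLE_ι _
  have hfstj : pullback.snd i₀ k ≫ V.ι = pullback.fst i₀ k ≫ j := by
    rw [← hkι, ← Category.assoc, ← pullback.condition, Category.assoc, hji]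
  have hcomp : pullback.snd i₀ k ≫ V.ι ≫ f = pullback.fst i₀ k ≫ g := by
    rw [← Category.assoc, hfstj, Category.assoc]
  have hmemW : ∀ w, pullback.fst i₀ k w ∈ {z | g.QuasiFiniteAt z} ∩ W₁ := by
    intro w
    rw [← hOW, Set.mem_preimage, ← Scheme.Hom.comp_apply, ← hfstj, Scheme.Hom.comp_apply]
    exact (V.ι_apply _ ▸ (pullback.snd i₀ k w).2.2 : _)
  have hW₁' : ∀ z ∈ W₁, g z = g z₀ → z = z₀ := fun z hz hgz ↦ by
    have h : (⟨z, hgz⟩ : g ⁻¹' {g z₀}) ∈ Subtype.val ⁻¹' W₁ := hz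
    rw [hW₁] at h
    exact congrArg Subtype.val (Set.mem_singleton_iff.1 h)
  refine ⟨V, pullback i₀ k, pullback.snd i₀ k, Groth.Agent.S2886.result i₀ k hri, ?_, ?_, ?_, ?_, ?_⟩
  · have hzW : z₀ ∈ {z | g.QuasiFiniteAt z} ∩ W₁ := ⟨hqf, by
      have h : (⟨z₀, rfl⟩ : g ⁻¹' {g z₀}) ∈ Subtype.val ⁻¹' W₁ := by rw [hW₁]; rfl
      exact h⟩
    rw [← hOW] at hzW
    obtain ⟨w, hw, -⟩ := Scheme.Pullback.exists_preimage_pullback (f := i₀) (g := k) z₀ ⟨j z₀, hxU, hzW⟩
      (U.ι.isOpenEmbedding.injective (by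
        rw [← Scheme.Hom.comp_apply, hji, ← Scheme.Hom.comp_apply, hkι]; rfl))
    exact ⟨w, by rw [hfstj, Scheme.Hom.comp_apply, hw]⟩
  · rw [hcomp]; infer_instance
  · rw [hcomp]; infer_instance
  · rw [hcomp, locallyQuasiFinite_iff_isDiscrete_preimage_singleton]
    intro s
    rw [isDiscrete_iff_discreteTopology, discreteTopology_iff_isOpen_singleton]
    intro w
    have h1 : (pullback.fst i₀ k ≫ g).QuasiFiniteAt w.1 :=
      Scheme.Hom.quasiFiniteAt_comp_iff_of_isOpenImmersion.2 (hmemW w.1).1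
    have h2 := Scheme.Hom.quasiFiniteAt_iff_isOpen_singleton_asFiber.1 h1
    rw [← ((pullback.fst i₀ k ≫ g).fiberHomeo _).isOpen_image, Set.image_singleton, Scheme.Hom.asFiber,
      Homeomorph.apply_symm_apply] at h2
    obtain ⟨w, hw⟩ := w
    obtain rfl : (pullback.fst i₀ k ≫ g) w = s := hw
    exact h2
  · intro w hw
    have h5 : V.ι (pullback.snd i₀ k w) = j (pullback.fst i₀ k w) := by
      rw [← Scheme.Hom.comp_apply, hfstj, Scheme.Hom.comp_apply]
    rw [h5] at hw ⊢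
    rw [hW₁' _ (hmemW w).2 hw]

end Groth.Agent.Lib.Flat55.CMSlice
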