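import Groth.Agent.Lib.Flat55.Slicing
import Groth.Agent.Lib.JacCrit.SmoothLocal
import Groth.Agent.Lib.Regular.Quotient
import Mathlib.RingTheory.Smooth.Flat
import Mathlib.RingTheory.Smooth.Basic

/-!
# Smooth algebras: localizing inside a fibre is injective
-/

set_option autoImplicit false

universe u

open IsLocalRing

namespace Groth.Agent.Lib.Flat55.SmoothFibreInj

open Groth.Agent.Lib

/-- In a smooth algebra, an element killed by something outside a prime `Q` is killed by something
outside every prime `P ⊇ Q` over the same prime of the base. -/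
theorem exists_notMem_mul_eq_zero {R B : Type u} [CommRing R] [CommRing B] [Algebra R B]
    [Algebra.Smooth R B] (P : Ideal B) [P.IsPrime] (Q : Ideal B) [Q.IsPrime] (hQP : Q ≤ P)
    (hover : Q.comap (algebraMap R B) = P.comap (algebraMap R B)) (s : B) (hs : s ∉ Q) (b : B)
    (hb : s * b = 0) : ∃ v ∉ P, v * b = 0 := by
  by_cases hsP : s ∈ P
  swap
  · exact ⟨s, hsP, hb⟩
  let p := P.comap (algebraMap R B)
  let R' := Localization.AtPrime p
  let C' := Localization.AtPrime P
  let φ : R' →+* C' := Localization.localRingHom p P (algebraMap R B) rfl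
  let : Algebra R' C' := φ.toAlgebra
  have : IsScalarTower R R' C' := IsScalarTower.of_algebraMap_eq fun r => by
    show _ = φ (algebraMap R R' r)
    rw [Localization.localRingHom_to_map, ← IsScalarTower.algebraMap_apply]
  have : IsLocalHom (algebraMap R' C') := Localization.isLocalHom_localRingHom _ _ _ _
  have : IsLocalHom φ := Localization.isLocalHom_localRingHom _ _ _ _
  have : Module.Flat R C' := Module.Flat.trans R B C'
  have : Module.Flat R' C' := (Module.flat_iff_of_isLocalization R' p.primeCompl C').2 inferInstance
  have : Algebra.FormallySmooth B C' := Algebra.FormallySmooth.of_isLocalization P.primeCompl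
  have : Algebra.FormallySmooth R C' := Algebra.FormallySmooth.comp R B C'
  have hfs : φ.FormallySmooth :=
    show Algebra.FormallySmooth R' C' from Algebra.FormallySmooth.localization_base p.primeCompl
  have : Algebra.EssFiniteType B C' := Algebra.EssFiniteType.of_isLocalization C' P.primeCompl
  have : Algebra.EssFiniteType R C' := Algebra.EssFiniteType.comp R B C'
  have hess : φ.EssFiniteType := show Algebra.EssFiniteType R' C' from Algebra.EssFiniteType.of_comp R R' C'
  have := JacCrit.SmoothLocal.isRegularLocalRing_fibre φ hess hfs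
  have := Regular.Quotient.isDomain (C' ⧸ (maximalIdeal R').map φ)
  have hle : (maximalIdeal R').map φ ≤ Q.map (algebraMap B C') := by
    rw [← IsLocalization.AtPrime.map_eq_maximalIdeal p R', Ideal.map_map, Ideal.map_le_iff_le_comap]
    intro r hr
    show φ (algebraMap R R' r) ∈ Q.map (algebraMap B C')
    rw [Localization.localRingHom_to_map]
    exact Ideal.mem_map_of_mem _ (show r ∈ Q.comap (algebraMap R B) from hover ▸ hr)
  have hreg : Ideal.Quotient.mk ((maximalIdeal R').map (algebraMap R' C')) (algebraMap B C' s) ∈
      nonZeroDivisors (C' ⧸ (maximalIdeal R').map (algebraMap R' C')) := by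
    show Ideal.Quotient.mk ((maximalIdeal R').map φ) (algebraMap B C' s) ∈
      nonZeroDivisors (C' ⧸ (maximalIdeal R').map φ)
    refine mem_nonZeroDivisors_of_ne_zero fun h => hs ?_
    have h1 := hle (Ideal.Quotient.eq_zero_iff_mem.1 h)
    rw [← IsLocalization.comap_map_of_isPrime_disjoint P.primeCompl C' (I := Q) inferInstance
      (Set.disjoint_left.2 fun _ hx hxQ => hx (hQP hxQ))]
    exact h1
  obtain ⟨a, ha, hslice⟩ := Slicing.exists_slice (R := R) (C := B) (R' := R') (C' := C') p P
    (fun r => Localization.localRingHom_to_map p P (algebraMap R B) rfl r) s hsP hreg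
  obtain ⟨hnzd, -⟩ := hslice (Localization.Away a)
  have hb' : algebraMap B (Localization.Away a) b = 0 :=
    (mem_nonZeroDivisors_iff.1 hnzd).1 _ (by rw [← map_mul, hb, map_zero])
  obtain ⟨⟨_, k, rfl⟩, hm⟩ := (IsLocalization.map_eq_zero_iff (Submonoid.powers a) _ b).1 hb'
  exact ⟨a ^ k, fun h => ha (Ideal.IsPrime.mem_of_pow_mem inferInstance k h), hm⟩

end Groth.Agent.Lib.Flat55.SmoothFibreInj
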