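import Groth.Agent.Lib.Flat55.FreeLocus
import Groth.Agent.Lib.Flat55.JetContent
import Groth.Agent.Lib.Flat55.SmoothFibreInj
import Mathlib.AlgebraicGeometry.Morphisms.UniversallyOpen

/-!
# Local equations for the functor `H_p`
-/

set_option autoImplicit false
set_option linter.style.haveILetI false

universe u

open CategoryTheory CategoryTheory.Limits AlgebraicGeometry Opposite TopologicalSpace
open scoped TensorProduct
open Groth.Agent.Lib Groth.Agent.Lib.QCoh Groth.Agent.Lib.QCoh.Tilde Groth.Agent.Lib.QCoh.Localizing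
open Groth.Agent.Lib.Flat55.GenericPtFibre

namespace Groth.Agent.Lib.Flat55.FreeLocusLocal

variable {X S : Scheme.{u}} (f : X ⟶ S) {F : X.Modules} [F.IsQuasicoherent] {p : ℕ}

/-- Around a point where `p` sections generate there are charts as needed. -/
theorem exists_nhd [Smooth f] {x : X} (h : FreeLocus.GenLE F p x) :
    ∃ (V : S.Opens) (_ : IsAffineOpen V) (W : X.Opens) (_ : IsAffineOpen W) (e : W ≤ f ⁻¹ᵁ V),
      f x ∈ V ∧ (∀ y ∈ V, ∃ w ∈ W, f w = y) ∧ (f.appLE V W e).hom.IsStandardSmooth ∧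
      ∃ v : Fin p → Γ(F, W), Submodule.span Γ(X, W) (Set.range v) = ⊤ := by
  obtain ⟨W₀, hW₀, hx₀, v₀, hv₀⟩ := h
  obtain ⟨U, hU, V₀, hV₀, hxV₀, e₀, hss₀⟩ := Smooth.exists_isStandardSmooth f x
  obtain ⟨a, b, hab, hxa⟩ := exists_basicOpen_le_affine_inter hV₀ hW₀ x ⟨hxV₀, hx₀⟩
  let W₁ := X.basicOpen b
  have hW₁ : IsAffineOpen W₁ := hW₀.basicOpen b
  have hle : W₁ ≤ V₀ := hab.symm.trans_le (X.basicOpen_le a)
  have hv₁ := FreeLocus.span_basicOpen (F := F) hW₀ b v₀ (fun n => hv₀.symm ▸ Submodule.mem_top)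
  have hss₁ : (f.appLE U W₁ (hle.trans e₀)).hom.IsStandardSmooth := by
    rw [← Scheme.Hom.appLE_map f e₀ (homOfLE hle).op, CommRingCat.hom_comp]
    refine RingHom.IsStandardSmooth.comp ?_ hss₀
    let : Algebra Γ(X, V₀) Γ(X, W₁) := (X.presheaf.map (homOfLE hle).op).hom.toAlgebra
    have := hV₀.isLocalization_of_eq_basicOpen a (homOfLE hle) hab.symm
    exact RingHom.isStandardSmooth_holdsForLocalizationAway Γ(X, W₁) a
  obtain ⟨r, hr, hxr⟩ := hU.exists_basicOpen_le
    (V := ⟨f '' W₁, f.isOpenMap _ W₁.2⟩) ⟨f x, ⟨x, hab.le hxa, rfl⟩⟩ (e₀ hxV₀)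
  let r' := f.appLE U W₁ (hle.trans e₀) r
  let W₂ := X.basicOpen r'
  have hW₂ : W₂ = W₁ ⊓ f ⁻¹ᵁ S.basicOpen r := by
    simp [W₂, r', Scheme.Hom.appLE, Scheme.basicOpen_res, Scheme.preimage_basicOpen]
  refine ⟨S.basicOpen r, hU.basicOpen r, W₂, hW₁.basicOpen r', hW₂.trans_le inf_le_right, hxr,
    fun y hy => ?_, ?_, _, FreeLocus.span_basicOpen (F := F) hW₁ r' _ fun n => by rw [hv₁]; trivial⟩
  · obtain ⟨w, hw, rfl⟩ := hr hy
    exact ⟨w, hW₂.ge ⟨hw, hy⟩, rfl⟩
  · let := hU.isLocalization_basicOpen r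
    let := hW₁.isLocalization_basicOpen r'
    rw [IsAffineOpen.appLE_eq_away_map f hU hW₁ (hle.trans e₀) r, CommRingCat.hom_ofHom]
    exact RingHom.isStandardSmooth_localizationPreserves.away _ r _ _ hss₁

variable {V : S.Opens} (hV : IsAffineOpen V) {W : X.Opens} (hW : IsAffineOpen W) (e : W ≤ f ⁻¹ᵁ V)

include hW in
/-- The local equations: on a chart, the functor is cut out by an ideal, of finite type when the
module is finitely presented. -/
theorem exists_ideal [Smooth f] [GeometricallyIrreducible f]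
    (hsurj : ∀ y ∈ V, ∃ w ∈ W, f w = y) (hss : (f.appLE V W e).hom.IsStandardSmooth)
    (v : Fin p → Γ(F, W)) (hv : Submodule.span Γ(X, W) (Set.range v) = ⊤) :
    ∃ J : Ideal Γ(S, V), (CohB1.IsFP F → J.FG) ∧ ∀ (A : Type u) [CommRing A] [Algebra Γ(S, V) A],
      Cond f F p (FreeLocus.affTest hV A) ↔ J.map (algebraMap Γ(S, V) A) = ⊥ := by
  classical
  let R := Γ(S, V)
  let B := Γ(X, W)
  let : Algebra R B := (f.appLE V W e).hom.toAlgebra
  have : Algebra.IsStandardSmooth R B := hss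
  obtain ⟨ι, σ, hσ, hι, ⟨P⟩⟩ := ‹Algebra.IsStandardSmooth R B›.out
  have : Algebra.IsStandardSmoothOfRelativeDimension P.dimension R B :=
    P.isStandardSmoothOfRelativeDimension rfl
  have : Algebra.Smooth R B := inferInstance
  have : Module.FaithfullyFlat R B := by
    refine Module.FaithfullyFlat.of_comap_surjective fun q => ?_
    obtain ⟨w, hw, hfw⟩ := hsurj (hV.fromSpec q) (hV.range_fromSpec.le ⟨q, rfl⟩)
    obtain ⟨q', rfl⟩ := hW.range_fromSpec.ge hw
    refine ⟨q', hV.fromSpec.isOpenEmbedding.injective ?_⟩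
    show hV.fromSpec (Spec.map (f.appLE V W e) q') = _
    rw [← hfw, ← Scheme.Hom.comp_apply, IsAffineOpen.SpecMap_appLE_fromSpec f hV hW e,
      Scheme.Hom.comp_apply]
  -- the generic points of the fibres, on the chart
  have hgen : ∀ (A : Type u) [CommRing A] [Algebra R A], ∃ j : Spec (.of (A ⊗[R] B)) ⟶
      PicF.XT f (FreeLocus.affTest hV A), IsOpenImmersion j ∧
      j ≫ pullback.fst f (FreeLocus.affTest hV A).hom = Spec.map (CommRingCat.ofHom
        (Algebra.TensorProduct.includeRight : B →ₐ[R] A ⊗[R] B).toRingHom) ≫ hW.fromSpec ∧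
      ∀ t : PrimeSpectrum A, ∃ η : PrimeSpectrum (A ⊗[R] B),
        FlatFun.IsGenericPtOfFibre (PicF.XTproj f (FreeLocus.affTest hV A)) (j η) ∧
        PicF.XTproj f (FreeLocus.affTest hV A) (j η) = t ∧
        η.asIdeal.comap (algebraMap A (A ⊗[R] B)) = t.asIdeal ∧
        ∀ Q : PrimeSpectrum (A ⊗[R] B), Q.asIdeal.comap (algebraMap A (A ⊗[R] B)) = t.asIdeal →
          η.asIdeal ≤ Q.asIdeal := by
    intro A _ _
    obtain ⟨j, hj, hj₁, hj₂, hj₃⟩ := FreeLocus.exists_chart f hV hW A e (halg := rfl)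
    refine ⟨j, hj, hj₁, fun t => ?_⟩
    have hproj : ∀ Q, PicF.XTproj f (FreeLocus.affTest hV A) (j Q) =
        PrimeSpectrum.comap (algebraMap A (A ⊗[R] B)) Q := fun Q => by
      rw [← Scheme.Hom.comp_apply, hj₂]; rfl
    obtain ⟨Q₀, hQ₀⟩ := PrimeSpectrum.comap_surjective_of_faithfullyFlat (B := A ⊗[R] B) t
    obtain ⟨η', hη't, hη'⟩ := exists_genericPt (PicF.XTproj f (FreeLocus.affTest hV A)) t
    obtain ⟨η, rfl⟩ : η' ∈ Set.range j :=
      genericPt_mem hη' (x := j Q₀) (by rw [hproj, hη't, hQ₀]) (U := j.opensRange) ⟨Q₀, rfl⟩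
    refine ⟨η, hη', hη't, congrArg PrimeSpectrum.asIdeal ((hproj η).symm.trans hη't),
      fun Q hQ => ?_⟩
    have h1 := hη' (j Q) ((hproj Q).trans ((PrimeSpectrum.ext hQ).trans hη't.symm))
    exact (PrimeSpectrum.le_iff_specializes _ _).2
      (j.isOpenEmbedding.isInducing.specializes_iff.1 h1)
  have hzero : ∀ (A : Type u) [CommRing A] [Algebra R A] (c : A ⊗[R] B),
      (∀ η : PrimeSpectrum (A ⊗[R] B), (∀ Q : PrimeSpectrum (A ⊗[R] B),
        Q.asIdeal.comap (algebraMap A (A ⊗[R] B)) = η.asIdeal.comap (algebraMap A (A ⊗[R] B)) →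
          η.asIdeal ≤ Q.asIdeal) → ∃ s ∉ η.asIdeal, s * c = 0) → c = 0 := by
    intro A _ _ c hc
    obtain ⟨j, -, -, hj⟩ := hgen A
    let I : Ideal (A ⊗[R] B) := (Submodule.span (A ⊗[R] B) {c}).annihilator
    by_contra hne
    have hI : I ≠ ⊤ := fun h => hne (by
      have h1 := Submodule.mem_annihilator_span_singleton c (1 : A ⊗[R] B)
      simpa using h1.1 (show (1 : A ⊗[R] B) ∈ I by rw [h]; trivial))
    obtain ⟨M, hM, hIM⟩ := Ideal.exists_le_maximal I hI
    obtain ⟨η, -, -, hη, hmin⟩ := hj ⟨M.comap (algebraMap A (A ⊗[R] B)), inferInstance⟩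
    obtain ⟨s, hs, hsc⟩ := hc η fun Q hQ => hmin Q (hQ.trans hη)
    obtain ⟨w, hwM, hwc⟩ := SmoothFibreInj.exists_notMem_mul_eq_zero (R := A) M η.asIdeal
      (hmin ⟨M, inferInstance⟩ rfl) hη s hs c hsc
    exact hwM (hIM ((Submodule.mem_annihilator_span_singleton c w).2 hwc))
  have H : ∀ (A : Type u) [CommRing A] [Algebra R A] (σ : A ⊗[R] B →ₐ[A] A) (c u : A ⊗[R] B),
      σ u = 1 → u * c = 0 → c = 0 := by
    intro A _ _ σ c u hu huc
    refine hzero A c fun η hη => ⟨u, fun hmem => ?_, huc⟩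
    let t := η.asIdeal.comap (algebraMap A (A ⊗[R] B))
    have : t.IsPrime := inferInstance
    have hQ := hη ⟨t.comap σ, inferInstance⟩ (by
      show (t.comap σ).comap (algebraMap A (A ⊗[R] B)) = t
      ext a
      show σ (algebraMap A (A ⊗[R] B) a) ∈ t ↔ a ∈ t
      rw [σ.commutes]
      rfl)
    have : σ u ∈ t := hQ hmem
    rw [hu] at this
    exact (Ideal.IsPrime.ne_top ‹_›) ((Ideal.eq_top_iff_one _).2 this)
  choose Jc hJcfg hJc using JetContent.exists_content P.dimension H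
  let π₀ := Fintype.linearCombination B v
  have hπ₀ : Function.Surjective π₀ := by
    rw [← LinearMap.range_eq_top, Fintype.range_linearCombination, hv]
  obtain ⟨G, hG, hGfin⟩ : ∃ G : Set (Fin p → B), Submodule.span B G = LinearMap.ker π₀ ∧
      (CohB1.IsFP F → G.Finite) := by
    by_cases hFP : CohB1.IsFP F
    · have : Module.FinitePresentation B Γ(F, W) :=
        DescAlg.FPPush.finitePresentation_sections hW F hFP
      obtain ⟨G, hG⟩ := Module.FinitePresentation.fg_ker π₀ hπ₀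
      exact ⟨G, hG, fun _ => G.finite_toSet⟩
    · exact ⟨LinearMap.ker π₀, Submodule.span_eq _, fun h => absurd h hFP⟩
  refine ⟨⨆ a : G, ⨆ i : Fin p, Jc (a.1 i), fun hFP => ?_, fun A _ _ => ?_⟩
  · have := (hGfin hFP).to_subtype
    exact Submodule.fg_iSup _ fun a => Submodule.fg_iSup _ fun i => hJcfg _
  have hJ : (⨆ a : G, ⨆ i : Fin p, Jc (a.1 i)).map (algebraMap R A) = ⊥ ↔
      ∀ a ∈ LinearMap.ker π₀, ∀ i, ((1 : A) ⊗ₜ[R] a i) = 0 := by
    simp only [Ideal.map_iSup, iSup_eq_bot, Subtype.forall, ← hJc]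
    refine ⟨fun h a ha i => ?_, fun h a ha i => h a (hG.le (Submodule.subset_span ha)) i⟩
    rw [← hG] at ha
    induction ha using Submodule.span_induction generalizing i with
    | mem a ha => exact h a ha i
    | zero => simp
    | add a b _ _ h1 h2 => simp [TensorProduct.tmul_add, h1, h2]
    | smul r a _ h1 =>
      rw [Pi.smul_apply, smul_eq_mul, show (1 : A) ⊗ₜ[R] (r * a i) = ((1 : A) ⊗ₜ[R] r) * (1 ⊗ₜ[R] a i) by
        simp, h1, mul_zero]
  rw [hJ]
  obtain ⟨j, hj, hj₁, hjt⟩ := hgen A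
  let φ : B ⟶ CommRingCat.of (A ⊗[R] B) := CommRingCat.ofHom
    (Algebra.TensorProduct.includeRight : B →ₐ[R] A ⊗[R] B).toRingHom
  constructor
  · intro hcond a ha i
    refine hzero A _ fun η hη => ?_
    let t : PrimeSpectrum A := ⟨η.asIdeal.comap (algebraMap A (A ⊗[R] B)), inferInstance⟩
    obtain ⟨η', hη'gen, hη't, hη'c, hη'min⟩ := hjt t
    obtain rfl : η' = η :=
      PrimeSpectrum.ext (le_antisymm (hη'min η rfl) (hη η' hη'c))
    obtain ⟨x, hx, hxgen, hfree⟩ := hcond t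
    obtain rfl : x = j η' := genericPt_unique hxgen hη'gen (hx.trans hη't.symm)
    let L := Localization.AtPrime η'.asIdeal
    let κ : CommRingCat.of (A ⊗[R] B) ⟶ CommRingCat.of L := CommRingCat.ofHom (algebraMap _ L)
    have hpt : (Spec.map κ ≫ j) (IsLocalRing.closedPoint L) = j η' := by
      rw [Scheme.Hom.comp_apply]
      exact congrArg j (PrimeSpectrum.ext (Localization.AtPrime.under_maximalIdeal (I := η'.asIdeal)))
    have : IsLocalRing (CommRingCat.of L) := inferInstanceAs (IsLocalRing L)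
    have hiso := FreeLocus.exists_equiv_of_free (pullback.fst f (FreeLocus.affTest hV A).hom) hW
      (φ ≫ κ) (Spec.map κ ≫ j) (by rw [Category.assoc, hj₁, Spec.map_comp, Category.assoc])
      (by rw [hpt]; exact hfree)
    letI := (φ ≫ κ).hom.toAlgebra
    have h0 := FreeLocusAlg.coord_zero (L := (CommRingCat.of L : Type u)) hiso hv a
      (by simpa [π₀, Fintype.linearCombination_apply] using ha) i
    obtain ⟨s, hs⟩ := (IsLocalization.map_eq_zero_iff η'.asIdeal.primeCompl L _).1 h0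
    exact ⟨s, s.2, hs⟩
  · intro h t
    obtain ⟨η, hη, hηt, -⟩ := hjt t
    refine ⟨j η, hηt, hη, ?_⟩
    letI := φ.hom.toAlgebra
    obtain ⟨q⟩ := FreeLocusAlg.exists_equiv_of_rel (CommRingCat.of (A ⊗[R] B) : Type u) hv
      fun a ha i => h a (by simpa [π₀, Fintype.linearCombination_apply] using ha) i
    obtain ⟨e₁⟩ := FreeLocus.exists_pullbackChartIso (F := F) hW φ
    let M₀ := ModuleCat.of (CommRingCat.of (A ⊗[R] B)) (Fin p → CommRingCat.of (A ⊗[R] B))
    let eM : (ModuleCat.extendScalars φ.hom).obj (ModuleCat.of B Γ(F, W)) ≅ M₀ :=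
      ((FlatCx.BaseChange.extEquiv (CommRingCat.of (A ⊗[R] B)) (ModuleCat.of B Γ(F, W))).trans q).toModuleIso
    exact ⟨j.opensRange, ⟨η, rfl⟩, Kaehler.LocFree.free_nhd_of_chart j
      ((Scheme.Modules.restrictFunctorIsoPullback j).app _ ≪≫
        (Scheme.Modules.pullbackComp j (pullback.fst f (FreeLocus.affTest hV A).hom)).app F ≪≫
        (Scheme.Modules.pullbackCongr hj₁).app F ≪≫ e₁ ≪≫ (tilde.functor _).mapIso eM ≪≫
        Kaehler.LocFree.tildeFreeIso (M := M₀) (Pi.basisFun _ (Fin p)))⟩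

end Groth.Agent.Lib.Flat55.FreeLocusLocal
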