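import Mathlib.AlgebraicGeometry.IdealSheaf.Subscheme
import Mathlib.AlgebraicGeometry.Morphisms.ClosedImmersion
import Mathlib.AlgebraicGeometry.Morphisms.FinitePresentation
import Mathlib.RingTheory.Localization.Ideal

/-!
# Gluing a closed subscheme from a local predicate on schemes over a scheme
-/

set_option autoImplicit false
set_option linter.style.haveILetI false

universe u

open CategoryTheory CategoryTheory.Limits AlgebraicGeometry Opposite TopologicalSpace

namespace Groth.Agent.Lib.Flat55.ClosedRep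

variable {U : Scheme.{u}} (P : Over U → Prop)

/-- The predicate is cut out by the ideal `J` on the affine scheme `Spec R` over `U`. -/
def Rep {R : CommRingCat.{u}} (i : Spec R ⟶ U) (J : Ideal R) : Prop :=
  ∀ (A : CommRingCat.{u}) (ψ : R ⟶ A), P (Over.mk (Spec.map ψ ≫ i)) ↔ J.map ψ.hom = ⊥

variable {P}

theorem Rep.comp {R R' : CommRingCat.{u}} {i : Spec R ⟶ U} {J : Ideal R} (h : Rep P i J)
    (φ : R ⟶ R') : Rep P (Spec.map φ ≫ i) (J.map φ.hom) := by
  intro A ψ
  rw [← Category.assoc, ← Spec.map_comp, Ideal.map_map, h A (φ ≫ ψ), CommRingCat.hom_comp]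

theorem Rep.unique {R : CommRingCat.{u}} {i : Spec R ⟶ U} {J J' : Ideal R} (h : Rep P i J)
    (h' : Rep P i J') : J = J' := by
  have key : ∀ {J J' : Ideal R}, Rep P i J → Rep P i J' → J' ≤ J := fun {J J'} h h' => by
    have h1 := (h' (CommRingCat.of (R ⧸ J)) (CommRingCat.ofHom (Ideal.Quotient.mk J))).1
      ((h _ _).2 (Ideal.map_quotient_self J))
    exact fun x hx => Ideal.Quotient.eq_zero_iff_mem.1
      ((Ideal.mem_bot).1 (h1 ▸ Ideal.mem_map_of_mem _ hx))
  exact le_antisymm (key h' h) (key h h')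

variable (hP : ∀ ⦃T T₀ : Over U⦄ (_ : T ⟶ T₀), P T₀ → P T)
  (hloc : ∀ T : Over U, (∀ t : T.left, ∃ (T' : Over U) (g : T' ⟶ T),
    IsOpenImmersion g.left ∧ t ∈ Set.range g.left ∧ P T') → P T)

theorem awayMap_comp {R A : Type u} [CommRing R] [CommRing A] (f : R →+* A) (g : R) :
    (Localization.awayMap f g).comp (algebraMap R (Localization.Away g)) =
      (algebraMap A (Localization.Away (f g))).comp f :=
  IsLocalization.map_comp _

/-- The localization map. -/
abbrev loc {R : CommRingCat.{u}} (g : R) : R ⟶ CommRingCat.of (Localization.Away g) :=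
  CommRingCat.ofHom (algebraMap R (Localization.Away g))

include hP hloc in
theorem rep_of_map {R : CommRingCat.{u}} (i : Spec R ⟶ U) {s : Set R} (hs : Ideal.span s = ⊤)
    (Jk : ∀ g : s, Ideal (Localization.Away g.1)) (hJk : ∀ g : s, Rep P (Spec.map (loc g.1) ≫ i) (Jk g))
    (J : Ideal R) (hJ : ∀ g : s, J.map (algebraMap R (Localization.Away g.1)) = Jk g) : Rep P i J := by
  intro A ψ
  have hfac : ∀ g : s, loc g.1 ≫ CommRingCat.ofHom (Localization.awayMap ψ.hom g.1) =
      ψ ≫ loc (ψ.hom g.1) := fun g => by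
    ext : 1
    exact awayMap_comp ψ.hom g.1
  have hiff : ∀ g : s, P (Over.mk (Spec.map (loc (ψ.hom g.1)) ≫ Spec.map ψ ≫ i)) ↔
      (J.map ψ.hom).map (algebraMap A (Localization.Away (ψ.hom g.1))) = ⊥ := fun g => by
    rw [← Category.assoc, ← Spec.map_comp, ← hfac, Spec.map_comp, Category.assoc, hJk g, ← hJ g,
      Ideal.map_map, Ideal.map_map]
    rw [show (CommRingCat.ofHom (Localization.awayMap ψ.hom g.1)).hom.comp
      (algebraMap R (Localization.Away g.1)) = (algebraMap A (Localization.Away (ψ.hom g.1))).comp ψ.hom from awayMap_comp ψ.hom g.1]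
  have hcov : ∀ q : PrimeSpectrum A, ∃ g : s, ψ.hom g.1 ∉ q.asIdeal := by
    intro q
    by_contra hall
    simp only [not_exists, not_not] at hall
    refine (q.asIdeal.comap ψ.hom).ne_top_iff_one.1 (Ideal.IsPrime.ne_top inferInstance) ?_
    exact (show Ideal.span s ≤ q.asIdeal.comap ψ.hom from Ideal.span_le.2 fun g hg => hall ⟨g, hg⟩)
      (hs ▸ Submodule.mem_top)
  constructor
  · intro h
    refine (Submodule.eq_bot_iff _).2 fun y hy => ?_
    by_contra hne
    obtain ⟨q, hq, hle⟩ := Ideal.exists_le_maximal (Submodule.span A {y}).annihilator (fun htop => hne (by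
      simpa using (Submodule.mem_annihilator_span_singleton y (1 : A)).1 (by rw [htop]; trivial)))
    obtain ⟨g, hg⟩ := hcov ⟨q, hq.isPrime⟩
    have h0 := (hiff g).1 (hP (Over.homMk (Spec.map (loc (ψ.hom g.1))) :
      Over.mk (Spec.map (loc (ψ.hom g.1)) ≫ Spec.map ψ ≫ i) ⟶ Over.mk (Spec.map ψ ≫ i)) h)
    have h1 : algebraMap A (Localization.Away (ψ.hom g.1)) y = 0 :=
      (Ideal.mem_bot).1 (h0 ▸ Ideal.mem_map_of_mem _ hy)
    obtain ⟨⟨_, n, rfl⟩, hn⟩ := (IsLocalization.map_eq_zero_iff (Submonoid.powers (ψ.hom g.1)) _ y).1 h1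
    exact hg (Ideal.IsPrime.mem_of_pow_mem hq.isPrime n
      (hle ((Submodule.mem_annihilator_span_singleton y _).2 hn)))
  · intro h
    refine hloc _ fun t => ?_
    obtain ⟨g, hg⟩ := hcov t
    refine ⟨Over.mk (Spec.map (loc (ψ.hom g.1)) ≫ Spec.map ψ ≫ i), Over.homMk (Spec.map (loc _)),
      (inferInstance : IsOpenImmersion (Spec.map (loc (ψ.hom g.1)))), ?_,
      (hiff g).2 (by rw [h, Ideal.map_bot])⟩
    show t ∈ Set.range (PrimeSpectrum.comap (algebraMap A (Localization.Away (ψ.hom g.1))))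
    rw [PrimeSpectrum.localization_away_comap_range (Localization.Away (ψ.hom g.1)) (ψ.hom g.1)]
    exact hg

include hP hloc in
theorem exists_rep {R : CommRingCat.{u}} (i : Spec R ⟶ U) (s : Finset R)
    (hs : Ideal.span (s : Set R) = ⊤)
    (Jk : ∀ g : (s : Set R), Ideal (Localization.Away g.1))
    (hJk : ∀ g : (s : Set R), Rep P (Spec.map (loc g.1) ≫ i) (Jk g)) :
    ∃ J : Ideal R, Rep P i J ∧ ((∀ g, (Jk g).FG) → J.FG) := by
  classical
  let J : Ideal R := ⨅ g : (s : Set R), (Jk g).comap (algebraMap R (Localization.Away g.1))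
  have hJ : ∀ g : (s : Set R), J.map (algebraMap R (Localization.Away g.1)) = Jk g := by
    intro k
    refine le_antisymm (Ideal.map_le_iff_le_comap.2 (iInf_le _ k)) fun z hz => ?_
    obtain ⟨x, ⟨_, m, rfl⟩, rfl⟩ := IsLocalization.exists_mk'_eq (Submonoid.powers k.1) z
    have hx : algebraMap R (Localization.Away k.1) x ∈ Jk k := by
      rw [← IsLocalization.mk'_spec' (M := Submonoid.powers k.1) (Localization.Away k.1) x ⟨k.1 ^ m, m, rfl⟩]
      exact Ideal.mul_mem_left _ _ hz
    suffices hn : ∀ l : (s : Set R), ∃ n : ℕ, k.1 ^ n * x ∈ (Jk l).comap (algebraMap R (Localization.Away l.1)) by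
      choose n hn using hn
      let N := Finset.univ.sup n
      refine (IsLocalization.mk'_mem_map_algebraMap_iff (Submonoid.powers k.1) _ J x _).2
        ⟨k.1 ^ N, ⟨N, rfl⟩, (Submodule.mem_iInf _).2 fun l => ?_⟩
      obtain ⟨c, hc⟩ := Nat.exists_eq_add_of_le (Finset.le_sup (f := n) (Finset.mem_univ l))
      rw [show N = Finset.univ.sup n from rfl, hc, pow_add, mul_comm (k.1 ^ n l), mul_assoc]
      exact Ideal.mul_mem_left _ _ (hn l)
    intro l
    let al := algebraMap R (Localization.Away l.1) k.1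
    let L := Localization.Away al
    let τ := (algebraMap (Localization.Away l.1) L).comp (algebraMap R (Localization.Away l.1))
    have hu : IsUnit (τ k.1) := IsLocalization.Away.algebraMap_isUnit al
    let ν : Localization.Away k.1 →+* L := IsLocalization.Away.lift k.1 hu
    have hν : ν.comp (algebraMap R (Localization.Away k.1)) = τ := IsLocalization.Away.lift_comp k.1 hu
    have h1 := (hJk k).comp (CommRingCat.ofHom ν)
    have h2 := (hJk l).comp (CommRingCat.ofHom (algebraMap (Localization.Away l.1) L))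
    rw [← Category.assoc, ← Spec.map_comp] at h1 h2
    rw [show loc k.1 ≫ CommRingCat.ofHom ν = loc l.1 ≫ CommRingCat.ofHom
      (algebraMap (Localization.Away l.1) L) from CommRingCat.hom_ext hν] at h1
    have h3 : τ x ∈ (Jk l).map (algebraMap (Localization.Away l.1) L) := by
      have h4 : τ x ∈ (Jk k).map ν := hν ▸ Ideal.mem_map_of_mem ν hx
      have h5 : (Jk k).map ν = (Jk l).map (algebraMap (Localization.Away l.1) L) := h1.unique h2
      rwa [h5] at h4
    obtain ⟨_, ⟨n, rfl⟩, hn⟩ := (IsLocalization.algebraMap_mem_map_algebraMap_iff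
      (Submonoid.powers al) _ (Jk l) _).1 h3
    exact ⟨n, show algebraMap R (Localization.Away l.1) (k.1 ^ n * x) ∈ Jk l by rw [map_mul, map_pow]; exact hn⟩
  refine ⟨J, rep_of_map hP hloc i hs Jk hJk J hJ, fun hfg => ?_⟩
  have hT : ∀ g : (s : Set R), ∃ T : Finset R, ↑T ⊆ (J : Set R) ∧
      Jk g ≤ (Ideal.span (T : Set R)).map (algebraMap R (Localization.Away g.1)) := by
    intro g
    obtain ⟨G, hG⟩ := hfg g
    have : ∀ b ∈ G, ∃ T : Finset R, ↑T ⊆ (J : Set R) ∧
        b ∈ (Ideal.span (T : Set R)).map (algebraMap R (Localization.Away g.1)) := by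
      intro b hb
      have hbJ : b ∈ J.map (algebraMap R (Localization.Away g.1)) :=
        hJ g ▸ (hG ▸ Submodule.subset_span hb)
      obtain ⟨T, hT, hbT⟩ := Submodule.mem_span_finite_of_mem_span
        (show b ∈ Submodule.span (Localization.Away g.1) (algebraMap R _ '' J) from hbJ)
      obtain ⟨T', hT', rfl⟩ := Finset.subset_set_image_iff.1 hT
      refine ⟨T', hT', ?_⟩
      rw [Ideal.map_span, ← Finset.coe_image]
      exact hbT
    choose T hTJ hTb using this
    refine ⟨G.attach.biUnion fun b => T b.1 b.2, fun r hr => ?_, ?_⟩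
    · obtain ⟨b, -, hb⟩ := Finset.mem_biUnion.1 hr
      exact hTJ _ _ hb
    · rw [← hG, Submodule.span_le]
      intro b hb
      refine Ideal.map_mono (Ideal.span_mono ?_) (hTb b hb)
      exact Finset.coe_subset.2 (Finset.subset_biUnion_of_mem (fun b : {x // x ∈ G} => T b.1 b.2)
        (Finset.mem_attach _ ⟨b, hb⟩))
  choose T hTJ hT using hT
  let T₀ : Finset R := Finset.univ.biUnion T
  have hT₀ : (T₀ : Set R) ⊆ J := fun r hr => by
    obtain ⟨g, -, hg⟩ := Finset.mem_biUnion.1 hr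
    exact hTJ g hg
  refine ⟨T₀, (rep_of_map hP hloc i hs Jk hJk _ fun g => le_antisymm ?_ ?_).unique
    (rep_of_map hP hloc i hs Jk hJk J hJ)⟩
  · rw [← hJ g]
    exact Ideal.map_mono (Ideal.span_le.2 hT₀)
  · exact (hT g).trans (Ideal.map_mono (Ideal.span_mono
      (Finset.coe_subset.2 (Finset.subset_biUnion_of_mem T (Finset.mem_univ g)))))

/-- Covering data on an affine open. -/
theorem exists_cover_ideals (Q : ∀ (R : CommRingCat.{u}), Ideal R → Prop)
    (hQ : ∀ (R R' : CommRingCat.{u}) (φ : R ⟶ R') (J : Ideal R), Q R J → Q R' (J.map φ.hom))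
    (h : ∀ x : U, ∃ (R : CommRingCat.{u}) (i : Spec R ⟶ U) (_ : IsOpenImmersion i),
      x ∈ Set.range i ∧ ∃ J : Ideal R, Q R J ∧ Rep P i J) (V : U.affineOpens) :
    ∃ (s : Finset Γ(U, V)) (_ : Ideal.span (s : Set Γ(U, V)) = ⊤)
      (Jk : ∀ g : (s : Set Γ(U, V)), Ideal (Localization.Away g.1)),
      (∀ g : (s : Set Γ(U, V)), Q (CommRingCat.of (Localization.Away g.1)) (Jk g)) ∧
      ∀ g : (s : Set Γ(U, V)), Rep P (Spec.map (loc g.1) ≫ V.2.fromSpec) (Jk g) := by
  classical
  let s₀ : Set Γ(U, V) := {g | ∃ J : Ideal (Localization.Away g),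
    Q (CommRingCat.of (Localization.Away g)) J ∧ Rep P (Spec.map (loc g) ≫ V.2.fromSpec) J}
  have hs₀ : Ideal.span s₀ = ⊤ := by
    rw [← V.2.self_le_iSup_basicOpen_iff]
    intro x hx
    obtain ⟨R, i, hi, hxi, J, hQJ, hJ⟩ := h x
    obtain ⟨g, hg, hxg⟩ := V.2.exists_basicOpen_le (V := i.opensRange) ⟨x, hxi⟩ hx
    have hr : Set.range (Spec.map (loc g) ≫ V.2.fromSpec) ⊆ Set.range i := by
      rintro _ ⟨y, rfl⟩
      refine hg ?_
      rw [Scheme.Hom.comp_apply]
      show Spec.map (loc g) y ∈ V.2.fromSpec ⁻¹ᵁ U.basicOpen g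
      rw [V.2.fromSpec_preimage_basicOpen]
      exact (PrimeSpectrum.localization_away_comap_range (Localization.Away g) g).le ⟨y, rfl⟩
    let φ := Spec.preimage (IsOpenImmersion.lift i _ hr)
    have hJ' := hJ.comp φ
    rw [Spec.map_preimage, IsOpenImmersion.lift_fac] at hJ'
    exact Opens.mem_iSup.2 ⟨⟨g, _, hQ _ _ φ J hQJ, hJ'⟩, hxg⟩
  obtain ⟨s, hss, hs⟩ := (Ideal.span_eq_top_iff_finite _).1 hs₀
  choose Jk hQk hJk using fun g : (s : Set Γ(U, V)) => hss g.2
  exact ⟨s, hs, Jk, hQk, hJk⟩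

include hP hloc in
/-- A predicate which is Zariski local and locally cut out by ideals is represented by a closed
subscheme. -/
theorem exists_closedSubscheme
    (h : ∀ x : U, ∃ (R : CommRingCat.{u}) (i : Spec R ⟶ U) (_ : IsOpenImmersion i),
      x ∈ Set.range i ∧ ∃ J : Ideal R, Rep P i J) :
    ∃ I : U.IdealSheafData, (∀ T : Over U, P T ↔ Nonempty (T ⟶ Over.mk I.subschemeι)) ∧
      ((∀ x : U, ∃ (R : CommRingCat.{u}) (i : Spec R ⟶ U) (_ : IsOpenImmersion i),
        x ∈ Set.range i ∧ ∃ J : Ideal R, J.FG ∧ Rep P i J) → LocallyOfFinitePresentation I.subschemeι) := by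
  classical
  have hex : ∀ V : U.affineOpens, ∃ J, Rep P V.2.fromSpec J := fun V => by
    obtain ⟨s, hs, Jk, -, hJk⟩ := exists_cover_ideals (fun _ _ => True) (fun _ _ _ _ _ => trivial)
      (fun x => by obtain ⟨R, i, hi, hxi, J, hJ⟩ := h x; exact ⟨R, i, hi, hxi, J, trivial, hJ⟩) V
    obtain ⟨J, hJ, -⟩ := exists_rep hP hloc _ s hs Jk hJk
    exact ⟨J, hJ⟩
  choose J hJ using hex
  let I : U.IdealSheafData :=
    { ideal := J
      map_ideal_basicOpen := fun V g => by
        have := (hJ V).comp (U.presheaf.map (homOfLE (U.basicOpen_le g)).op)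
        rw [V.2.map_fromSpec (V.2.basicOpen g)] at this
        exact this.unique (hJ (U.affineBasicOpen g)) }
  refine ⟨I, fun T => ⟨fun hT => ?_, fun ⟨g⟩ => hP g ?_⟩, fun hfg => ?_⟩
  · refine ⟨Over.homMk (IsClosedImmersion.lift I.subschemeι T.hom ?_) (IsClosedImmersion.lift_fac _ _ _)⟩
    rw [Scheme.IdealSheafData.ker_subschemeι]
    refine Scheme.IdealSheafData.le_ofIdeals_iff.2 fun V s hs => ?_
    refine (RingHom.mem_ker).2 ?_
    let O := T.hom ⁻¹ᵁ V
    refine TopCat.Sheaf.eq_of_locally_eq' T.left.sheaf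
      (fun W : {W : T.left.affineOpens // W.1 ≤ O} => W.1.1) O (fun W => homOfLE W.2) ?_ _ _ fun W => ?_
    · intro x hx
      obtain ⟨W, hW, hxW, hWO⟩ := exists_isAffineOpen_mem_and_subset (U := O) (x := x) hx
      exact Opens.mem_iSup.2 ⟨⟨⟨W, hW⟩, hWO⟩, hxW⟩
    · refine Eq.trans ?_ (map_zero _).symm
      have hPW := hP (Over.homMk W.1.2.fromSpec : Over.mk (W.1.2.fromSpec ≫ T.hom) ⟶ T) hT
      rw [← IsAffineOpen.SpecMap_appLE_fromSpec T.hom V.2 W.1.2 W.2] at hPW
      exact (Ideal.mem_bot).1 (((hJ V _ _).1 hPW) ▸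
        Ideal.mem_map_of_mem (T.hom.appLE V W.1 W.2).hom hs)
  · refine hloc _ fun t => ?_
    obtain ⟨y, hy⟩ := I.subschemeCover.covers t
    refine ⟨Over.mk (I.subschemeCover.f (I.subschemeCover.idx t) ≫ I.subschemeι),
      Over.homMk (I.subschemeCover.f (I.subschemeCover.idx t)),
      (inferInstance : IsOpenImmersion (I.subschemeCover.f (I.subschemeCover.idx t))), ⟨y, hy⟩, ?_⟩
    let V : U.affineOpens := I.subschemeCover.idx t
    have e : I.subschemeCover.f V ≫ I.subschemeι =
        Spec.map (CommRingCat.ofHom (Ideal.Quotient.mk (I.ideal V))) ≫ V.2.fromSpec := by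
      rw [Scheme.IdealSheafData.subschemeCover_map_subschemeι, Scheme.IdealSheafData.glueDataObjι,
        Category.assoc, IsAffineOpen.isoSpec_inv_ι]
      rfl
    show P (Over.mk (I.subschemeCover.f V ≫ I.subschemeι))
    rw [e]
    exact (hJ V _ _).2 (Ideal.map_quotient_self _)
  · rw [HasRingHomProperty.iff_exists_appLE (P := @LocallyOfFinitePresentation)
      (RingHom.finitePresentation_stableUnderComposition.stableUnderCompositionWithLocalizationAway
        RingHom.finitePresentation_holdsForLocalizationAway).1]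
    intro x
    obtain ⟨V, hV', hxV, -⟩ := exists_isAffineOpen_mem_and_subset (U := ⊤) (x := I.subschemeι x) trivial
    refine ⟨⟨V, hV'⟩, ⟨I.subschemeι ⁻¹ᵁ V, hV'.preimage _⟩, hxV, le_rfl, ?_⟩
    rw [Scheme.Hom.appLE_eq_app]
    refine RingHom.FinitePresentation.of_surjective _
      (I.subschemeι_app_surjective ⟨V, hV'⟩) ?_
    rw [I.ker_subschemeι_app ⟨V, hV'⟩]
    obtain ⟨s, hs, Jk, hQk, hJk⟩ := exists_cover_ideals (fun R J => J.FG) (fun _ _ φ _ hJ => hJ.map φ.hom) hfg ⟨V, hV'⟩
    obtain ⟨J', hJ', hJ'fg⟩ := exists_rep hP hloc _ s hs Jk hJk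
    rw [show I.ideal ⟨V, hV'⟩ = J' from (hJ _).unique hJ']
    exact hJ'fg hQk

end Groth.Agent.Lib.Flat55.ClosedRep
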