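import Groth.Agent.Lib.Flat55.ContractionPush
import Groth.Agent.Lib.PointBlow85.Main

/-!
# The fibre of the blow-up of a regular point of dimension two
-/

set_option autoImplicit false
universe u

open CategoryTheory CategoryTheory.Limits AlgebraicGeometry TopologicalSpace MvPolynomial

namespace Groth.Agent.Lib.Flat55.ContractionFibre

theorem chain_false {R : Type u} [CommRing R] (P : Ideal R) (hd : ringKrullDim (R ⧸ P) ≤ 1)
    (p q r : PrimeSpectrum R) (hP : P ≤ p.asIdeal) (hpq : p.asIdeal < q.asIdeal)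
    (hqr : q.asIdeal < r.asIdeal) : False := by
  have hlt : ∀ (a b : PrimeSpectrum R) (ha : P ≤ a.asIdeal), a.asIdeal < b.asIdeal →
      a.asIdeal.map (Ideal.Quotient.mk P) < b.asIdeal.map (Ideal.Quotient.mk P) := by
    intro a b ha hab
    refine lt_of_le_of_ne (Ideal.map_mono hab.le) fun h => hab.ne ?_
    have h1 := congrArg (Ideal.comap (Ideal.Quotient.mk P)) h
    rwa [Ideal.comap_map_of_surjective _ Ideal.Quotient.mk_surjective,
      Ideal.comap_map_of_surjective _ Ideal.Quotient.mk_surjective, ← RingHom.ker_eq_comap_bot,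
      Ideal.mk_ker, sup_of_le_left ha, sup_of_le_left (ha.trans hab.le)] at h1
  have hp : ∀ (a : PrimeSpectrum R), P ≤ a.asIdeal → (a.asIdeal.map (Ideal.Quotient.mk P)).IsPrime :=
    fun a ha => Ideal.map_isPrime_of_surjective Ideal.Quotient.mk_surjective (by rwa [Ideal.mk_ker])
  have hq' := hP.trans hpq.le
  let l : LTSeries (PrimeSpectrum (R ⧸ P)) :=
    ((RelSeries.singleton _ ⟨_, hp p hP⟩).snoc ⟨_, hp q hq'⟩ (hlt p q hP hpq)).snoc
      ⟨_, hp r (hq'.trans hqr.le)⟩ (by rw [RelSeries.last_snoc]; exact hlt q r hq' hqr)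
  have h2 : ((l.length : ℕ) : WithBot ℕ∞) ≤ 1 := (Order.LTSeries.length_le_krullDim l).trans hd
  have hl : l.length = 2 := rfl
  rw [hl] at h2
  exact absurd h2 (by decide)

/-- The exceptional part of a chart is an affine line over the residue field of the centre. -/
theorem chart_props {A : Type u} [CommRing A] {a : Fin 2 → A} (hq : CAlgX.IsQuasiRegular a)
    [hmax : (Ideal.span (Set.range a)).IsMaximal] (j : Fin 2) :
    (Ideal.span {algebraMap A (BlowUp.affineAlgebra A (Ideal.span (Set.range a)) (a j)) (a j)}).IsPrime ∧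
      ringKrullDim (BlowUp.affineAlgebra A (Ideal.span (Set.range a)) (a j) ⧸
        Ideal.span {algebraMap A (BlowUp.affineAlgebra A (Ideal.span (Set.range a)) (a j)) (a j)}) ≤ 1 := by
  set P := Ideal.span
    {algebraMap A (BlowUp.affineAlgebra A (Ideal.span (Set.range a)) (a j)) (a j)} with hP
  letI := Ideal.Quotient.field (Ideal.span (Set.range a))
  let q := Ideal.Quotient.mk (Ideal.span (Set.range a))
  let θ : MvPolynomial {i : Fin 2 // i ≠ j} A →+* _ :=
    (Ideal.Quotient.mk P).comp (H26.BlowChart.evalChart a j).toRingHom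
  have hθs : Function.Surjective θ :=
    Ideal.Quotient.mk_surjective.comp (H26.BlowChart.evalChart_surjective a j)
  let m : MvPolynomial {i : Fin 2 // i ≠ j} A →+* MvPolynomial {i : Fin 2 // i ≠ j} (A ⧸ Ideal.span (Set.range a)) :=
    MvPolynomial.map q
  have hms : Function.Surjective m := MvPolynomial.map_surjective q Ideal.Quotient.mk_surjective
  have hker : RingHom.ker θ = RingHom.ker m := by
    refine le_antisymm (fun f hf => RingHom.mem_ker.mpr ?_) ?_
    · exact H26.BlowChart.map_eq_zero_of_mem hq q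
        (fun x hx => Ideal.Quotient.eq_zero_iff_mem.mpr hx) f (Ideal.Quotient.eq_zero_iff_mem.mp hf)
    · rw [MvPolynomial.ker_map, Ideal.mk_ker, Ideal.map_le_iff_le_comap]
      intro x hx
      rw [Ideal.mem_comap, RingHom.mem_ker]
      show Ideal.Quotient.mk P (H26.BlowChart.evalChart a j (C x)) = 0
      rw [Ideal.Quotient.eq_zero_iff_mem, MvPolynomial.algHom_C, hP,
        ← BlowUpExists.map_ideal_eq_span _ _ (Ideal.subset_span (Set.mem_range_self j))]
      exact Ideal.mem_map_of_mem _ hx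
  let e := ((RingHom.quotientKerEquivOfSurjective hθs).symm.trans (Ideal.quotEquivOfEq hker)).trans
    (RingHom.quotientKerEquivOfSurjective hms)
  refine ⟨(Ideal.Quotient.isDomain_iff_prime P).mp
    (MulEquiv.isDomain _ e.toMulEquiv), ?_⟩
  rw [ringKrullDim_eq_of_ringEquiv e, MvPolynomial.ringKrullDim_of_isNoetherianRing,
    ringKrullDim_eq_zero_of_field, zero_add]
  have : Nat.card {i : Fin 2 // i ≠ j} = 1 := by
    rw [Nat.card_eq_fintype_card]
    fin_cases j <;> rfl
  rw [this]
  exact le_rfl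

variable {A : Type u} [CommRing A] [IsRegularLocalRing A] {X : Scheme.{u}}
  {b : X ⟶ Spec (CommRingCat.of A)}

local notation "𝓜" => Curv2.idealSheaf A (IsLocalRing.maximalIdeal A)

theorem support_eq : ((𝓜).support : Set (Spec (CommRingCat.of A))) = {IsLocalRing.closedPoint A} := by
  haveI := PointBlow85.isRegularLocalRing_top A
  let T : (Spec (CommRingCat.of A)).affineOpens := ⟨⊤, isAffineOpen_top _⟩
  have h := (𝓜).coe_support_inter T
  rw [← T.2.fromSpec_image_zeroLocus, PointBlow85.idealSheaf_maximal_top A] at h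
  have hz : PrimeSpectrum.zeroLocus
      (↑(IsLocalRing.maximalIdeal Γ(Spec (CommRingCat.of A), ⊤)) : Set Γ(Spec (CommRingCat.of A), ⊤)) =
      {IsLocalRing.closedPoint _} := by
    ext p
    simp only [PrimeSpectrum.mem_zeroLocus, SetLike.coe_subset_coe, Set.mem_singleton_iff]
    exact ⟨fun h => PrimeSpectrum.ext ((IsLocalRing.le_maximalIdeal p.isPrime.ne_top).antisymm h),
      fun h => h ▸ le_rfl⟩
  rw [hz] at h
  replace h := h.trans Set.image_singleton
  have hu : ((T.1 : (Spec (CommRingCat.of A)).Opens) : Set (Spec (CommRingCat.of A))) = Set.univ := rfl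
  rw [hu, Set.inter_univ] at h
  have hcl : IsClosed ((𝓜).support : Set (Spec (CommRingCat.of A))) := (𝓜).support.isClosed
  have hmem := (IsLocalRing.specializes_closedPoint (R := A) _).mem_closed hcl (h.ge rfl)
  rw [h] at hmem ⊢
  rw [show IsLocalRing.closedPoint A = _ from hmem]
  rfl

theorem fibre_eq : (((𝓜).comap b).support : Set X) = b ⁻¹' {IsLocalRing.closedPoint A} := by
  rw [Scheme.IdealSheafData.support_comap, Closeds.coe_preimage, support_eq]

theorem isClosed_closedPoint : IsClosed ({IsLocalRing.closedPoint A} : Set (Spec (CommRingCat.of A))) :=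
  support_eq (A := A) ▸ (𝓜).support.isClosed

/-- A chart around a point of the fibre. -/
theorem exists_nhd (hA : ringKrullDim A = 2) (hb : BlowUp.IsBlowUp b 𝓜) (x : X)
    (hx : b x = IsLocalRing.closedPoint A) :
    ∃ D : X.Opens, x ∈ D ∧ IsIrreducible (b ⁻¹' {IsLocalRing.closedPoint A} ∩ (D : Set X)) ∧
      ∀ p q r : X, p ∈ b ⁻¹' {IsLocalRing.closedPoint A} ∩ (D : Set X) → q ∈ (D : Set X) → r ∈ (D : Set X) →
        p ⤳ q → q ⤳ r → p = q ∨ q = r := by
  haveI := PointBlow85.isRegularLocalRing_top A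
  obtain ⟨a, hq, hI⟩ := PointBlow85.exists_top_params hA
  haveI : (Ideal.span (Set.range a)).IsMaximal := by
    rw [← hI, PointBlow85.idealSheaf_maximal_top]; infer_instance
  let T : (Spec (CommRingCat.of A)).affineOpens := ⟨⊤, isAffineOpen_top _⟩
  obtain ⟨j, D, hD, hDU, e, hxD, he⟩ := H26.BlowSmooth.exists_chart hb x (U := T) trivial a hI
  let Dv : X.affineOpens := ⟨D, hD⟩
  set d := e (algebraMap _ _ (a j)) with hd
  set E := (𝓜).comap b with hEdef
  have hED : E.ideal Dv = Ideal.span {d} := by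
    rw [hEdef, Ideal.Comap.ideal_comap b _ T Dv hDU, hI,
      show (b.appLE T.1 D hDU).hom = e.toRingHom.comp (algebraMap _ _) from RingHom.ext fun r => (he r).symm,
      ← Ideal.map_map, BlowUpExists.map_ideal_eq_span _ _ (Ideal.subset_span (Set.mem_range_self j)),
      Ideal.map_span, Set.image_singleton]
    rfl
  obtain ⟨hprime, hdim⟩ := chart_props hq j
  have hmap : Ideal.span {d} = Ideal.map e.toRingHom
      (Ideal.span {algebraMap _ _ (a j)}) := by
    rw [Ideal.map_span, Set.image_singleton]; rfl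
  haveI hprime' : (Ideal.span {d}).IsPrime := hmap ▸ Ideal.map_isPrime_of_equiv e
  have hdim' : ringKrullDim (Γ(X, D) ⧸ Ideal.span {d}) ≤ 1 := by
    refine le_of_eq_of_le (ringKrullDim_eq_of_ringEquiv (?_ : _ ≃+* _)).symm hdim
    exact Ideal.quotientEquiv _ _ e hmap
  have hset : b ⁻¹' {IsLocalRing.closedPoint A} ∩ (D : Set X) =
      hD.fromSpec '' PrimeSpectrum.zeroLocus ((Ideal.span {d} : Ideal Γ(X, D)) : Set _) := by
    rw [← fibre_eq, show ((E.support : Set X) ∩ (D : Set X)) = _ from E.coe_support_inter Dv,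
      ← hD.fromSpec_image_zeroLocus, hED]
  refine ⟨D, hxD, ?_, ?_⟩
  · rw [hset]
    exact ((PrimeSpectrum.isIrreducible_zeroLocus_iff _).mpr
      (by rw [Ideal.IsPrime.radical hprime']; exact hprime')).image _ hD.fromSpec.continuous.continuousOn
  · intro p q r hp hq' hr hpq hqr
    rw [hset] at hp
    obtain ⟨p', hp', rfl⟩ := hp
    obtain ⟨q', rfl⟩ : q ∈ Set.range hD.fromSpec := hD.range_fromSpec.ge hq'
    obtain ⟨r', rfl⟩ : r ∈ Set.range hD.fromSpec := hD.range_fromSpec.ge hr
    have hi := hD.fromSpec.isOpenEmbedding.isInducing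
    have h1 : p'.asIdeal ≤ q'.asIdeal := (PrimeSpectrum.le_iff_specializes p' q').mpr (hi.specializes_iff.mp hpq)
    have h2 : q'.asIdeal ≤ r'.asIdeal := (PrimeSpectrum.le_iff_specializes q' r').mpr (hi.specializes_iff.mp hqr)
    rcases h1.eq_or_lt with h | h
    · exact Or.inl (congrArg _ (PrimeSpectrum.ext h))
    rcases h2.eq_or_lt with h' | h'
    · exact Or.inr (congrArg _ (PrimeSpectrum.ext h'))
    exact (chain_false _ hdim' p' q' r' hp' h h').elim

/-- The fibre is irreducible and contains no chain of three points. -/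
theorem fibre_spec (hA : ringKrullDim A = 2) (hb : BlowUp.IsBlowUp b 𝓜) :
    IsIrreducible (b ⁻¹' {IsLocalRing.closedPoint A}) ∧
      ∀ p q r : X, p ∈ b ⁻¹' {IsLocalRing.closedPoint A} → r ∈ b ⁻¹' {IsLocalRing.closedPoint A} →
        p ⤳ q → q ⤳ r → p = q ∨ q = r := by
  haveI := PointBlow85.isIntegral hA hb
  haveI : IsDomain A := Regular.Quotient.isDomain A
  haveI : IsProper b := BlowUpExists.isProper_of_isBlowUp hb fun U => by
    haveI : IsNoetherianRing Γ(Spec (CommRingCat.of A), U.1) :=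
      IsLocallyNoetherian.component_noetherian U
    exact IsNoetherian.noetherian _
  set s : (Spec (CommRingCat.of A) : Scheme.{u}) := IsLocalRing.closedPoint A with hs
  haveI : IsIso (b ∣_ (⟨{s}ᶜ, isClosed_closedPoint.isOpen_compl⟩ : (Spec (CommRingCat.of A)).Opens)) := by
    have h := Ideal.BlowUp.isIso_off_center hb
    have e : (𝓜).support.compl = (⟨{s}ᶜ, isClosed_closedPoint.isOpen_compl⟩ : (Spec (CommRingCat.of A)).Opens) :=
      Opens.ext (congrArg compl support_eq)
    rwa [e] at h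
  haveI := PointBlow85.isRegularLocalRing_stalk_spec (A := A) s
  have hdim : ringKrullDim ((Spec (CommRingCat.of A)).presheaf.stalk s) = 2 := by
    rw [← hA]
    exact ringKrullDim_eq_of_ringEquiv (stalkClosedPointIso (CommRingCat.of A)).commRingCatIsoToRingEquiv
  have hg := ContractionPush.isIso_app b s isClosed_closedPoint hdim
  haveI hconn : ConnectedSpace ↥(pullback b ((Spec (CommRingCat.of A)).fromSpecResidueField s)) :=
    H34.Stein.connectedSpace_pullback_of_compact b hg _ _
  have hF : _root_.IsConnected (b ⁻¹' {s}) := by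
    have hr : Set.range (pullback.fst b ((Spec (CommRingCat.of A)).fromSpecResidueField s)) = b ⁻¹' {s} := by
      rw [Scheme.Pullback.range_fst, Scheme.range_fromSpecResidueField]
    rw [← hr]
    exact isConnected_range (pullback.fst b _).continuous
  obtain ⟨x₀, hx₀⟩ := hF.nonempty
  haveI : ConnectedSpace (b ⁻¹' {s}) := isConnected_iff_connectedSpace.mp hF
  have hloc : ∀ x : (b ⁻¹' {s} : Set X), ∃ D : Set (b ⁻¹' {s} : Set X), IsOpen D ∧ x ∈ D ∧ IsIrreducible D := by
    intro x
    obtain ⟨D, hxD, hirr, -⟩ := exists_nhd hA hb x.1 x.2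
    refine ⟨Subtype.val ⁻¹' (D : Set X), D.isOpen.preimage continuous_subtype_val, hxD, ⟨x, hxD⟩, ?_⟩
    intro u v hu hv hu' hv'
    obtain ⟨u₀, hu₀, rfl⟩ := isOpen_induced_iff.mp hu
    obtain ⟨v₀, hv₀, rfl⟩ := isOpen_induced_iff.mp hv
    obtain ⟨a, ha, hau⟩ := hu'
    obtain ⟨c, hc, hcv⟩ := hv'
    obtain ⟨w, hw, hwu, hwv⟩ := hirr.2 u₀ v₀ hu₀ hv₀ ⟨a.1, ⟨a.2, ha⟩, hau⟩ ⟨c.1, ⟨c.2, hc⟩, hcv⟩
    exact ⟨⟨w, hw.1⟩, hw.2, hwu, hwv⟩
  let Z := irreducibleComponent (⟨x₀, hx₀⟩ : (b ⁻¹' {s} : Set X))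
  have hZc : IsClosed Z := isClosed_irreducibleComponent
  have hZi : IsIrreducible Z := isIrreducible_irreducibleComponent
  have hZo : IsOpen Z := by
    refine isOpen_iff_forall_mem_open.mpr fun x hx => ?_
    obtain ⟨D, hDo, hxD, hDi⟩ := hloc x
    have h1 : Z ⊆ closure D :=
      (subset_closure_inter_of_isPreirreducible_of_isOpen hZi.2 hDo ⟨x, hx, hxD⟩).trans
        (closure_mono Set.inter_subset_right)
    exact ⟨D, subset_closure.trans (eq_irreducibleComponent hDi.closure.2 h1).le, hDo, hxD⟩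
  have hZu : Z = Set.univ := IsClopen.eq_univ ⟨hZc, hZo⟩ ⟨_, mem_irreducibleComponent⟩
  refine ⟨?_, fun p q r hp hr hpq hqr => ?_⟩
  · have h := hZi.image Subtype.val continuous_subtype_val.continuousOn
    rwa [hZu, Set.image_univ, Subtype.range_coe] at h
  · obtain ⟨D, hrD, -, hch⟩ := exists_nhd hA hb r hr
    exact hch p q r ⟨hp, (hpq.trans hqr).mem_open D.isOpen hrD⟩ (hqr.mem_open D.isOpen hrD) hrD hpq hqr

end Groth.Agent.Lib.Flat55.ContractionFibre
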