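import Groth.Agent.Lib.Flat55.ContractionFibre
import Groth.Agent.Lib.ProjSpace.Dim
import Groth.Agent.Lib.ProjSpace.Basic
import Groth.Agent.H26.SectionExtend
import Groth.Prelude.Def_ModelsG
import Groth.Agent.Lib.Unram.BaseChangeNhd

/-!
# The universal property of a contraction
-/

set_option autoImplicit false
universe u

open CategoryTheory CategoryTheory.Limits AlgebraicGeometry TopologicalSpace

namespace Groth.Agent.Lib.Flat55.ContractionUniversal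

variable {X S : Scheme.{u}}

theorem comap_vanishingIdeal_stalk (y : S) (hy : IsClosed ({y} : Set S))
    [IsRegularLocalRing (S.presheaf.stalk y)] :
    (Scheme.IdealSheafData.vanishingIdeal ⟨{y}, hy⟩).comap (S.fromSpecStalk y) =
      Curv2.idealSheaf (S.presheaf.stalk y) (IsLocalRing.maximalIdeal _) := by
  obtain ⟨U, hU, hyU, -⟩ :=
    exists_isAffineOpen_mem_and_subset (show y ∈ (⊤ : S.Opens) from trivial)
  refine Scheme.IdealSheafData.ext_of_isAffine ?_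
  have hle : (⊤ : (Spec (S.presheaf.stalk y)).Opens) ≤ S.fromSpecStalk y ⁻¹ᵁ U := fun t _ =>
    ((Scheme.range_fromSpecStalk (x := y)).le ⟨t, rfl⟩ : S.fromSpecStalk y t ∈ {z | z ⤳ y}).mem_open U.isOpen hyU
  rw [Ideal.Comap.ideal_comap (S.fromSpecStalk y) _ ⟨U, hU⟩ ⟨⊤, isAffineOpen_top _⟩ hle,
    PointBlow85.idealSheaf_top, Scheme.IdealSheafData.vanishingIdeal_ideal]
  have hpre : hU.fromSpec ⁻¹' ({y} : Set S) = {hU.primeIdealOf ⟨y, hyU⟩} := by
    ext q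
    simp only [Set.mem_preimage, Set.mem_singleton_iff]
    exact ⟨fun h => hU.fromSpec.isOpenEmbedding.injective (by rw [h, hU.fromSpec_primeIdealOf]),
      fun h => by rw [h, hU.fromSpec_primeIdealOf]⟩
  have happ : (S.fromSpecStalk y).appLE U ⊤ hle =
      S.presheaf.germ U y hyU ≫ (Scheme.ΓSpecIso (S.presheaf.stalk y)).inv := by
    rw [Scheme.Hom.appLE, Scheme.fromSpecStalk_app hyU]
    simp only [Category.assoc, ← Functor.map_comp]
    convert! Category.comp_id (S.presheaf.germ U y hyU ≫ (Scheme.ΓSpecIso (S.presheaf.stalk y)).inv) using 1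
  rw [happ, CommRingCat.hom_comp, ← Ideal.map_map]
  congr 1
  change Ideal.map _ (PrimeSpectrum.vanishingIdeal (hU.fromSpec ⁻¹' ({y} : Set S))) = _
  erw [hpre]
  erw [PrimeSpectrum.vanishingIdeal_singleton]
  letI := S.presheaf.algebra_section_stalk (U := U) ⟨y, hyU⟩
  haveI : IsLocalization.AtPrime (S.presheaf.stalk y) (hU.primeIdealOf ⟨y, hyU⟩).asIdeal :=
    hU.isLocalization_stalk ⟨y, hyU⟩
  exact IsLocalization.AtPrime.map_eq_maximalIdeal _ (S.presheaf.stalk y)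

theorem support_vanishingIdeal_point (y : S) (hy : IsClosed ({y} : Set S)) :
    ((Scheme.IdealSheafData.vanishingIdeal ⟨{y}, hy⟩).support : Set S) = {y} := by
  rw [Scheme.IdealSheafData.coe_support_vanishingIdeal]; rfl

theorem isBlowUp_iso_comp {X' X'' : Scheme.{u}} {b : X' ⟶ X} {I : X.IdealSheafData}
    (hb : BlowUp.IsBlowUp b I) (k : X'' ⟶ X') [IsIso k] : BlowUp.IsBlowUp (k ≫ b) I := by
  refine ⟨?_, fun Y g hg => ?_⟩
  · rw [Scheme.IdealSheafData.comap_comp]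
    exact Ideal.EffCartier.isEffCartier_comap_of_flat _ hb.1
  · obtain ⟨l, hl, hlu⟩ := hb.2 Y g hg
    refine ⟨l ≫ inv k, ?_, fun l' hl' => ?_⟩
    · show (l ≫ inv k) ≫ k ≫ b = g
      rw [Category.assoc, IsIso.inv_hom_id_assoc, hl]
    · rw [IsIso.eq_comp_inv]
      refine hlu _ ?_
      show (l' ≫ k) ≫ b = g
      rw [Category.assoc]; exact hl'

theorem fibre_irreducible [IsLocallyNoetherian S] (b : X ⟶ S) (y : S) (hy : IsClosed ({y} : Set S))
    [IsRegularLocalRing (S.presheaf.stalk y)] (hdim : ringKrullDim (S.presheaf.stalk y) = 2)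
    (hb : BlowUp.IsBlowUp b (Scheme.IdealSheafData.vanishingIdeal ⟨{y}, hy⟩)) :
    IsIrreducible (b ⁻¹' {y}) ∧
      ∀ p q r : X, p ∈ b ⁻¹' {y} → r ∈ b ⁻¹' {y} → p ⤳ q → q ⤳ r → p = q ∨ q = r := by
  set g := S.fromSpecStalk y
  haveI : Flat g := Unram.BaseChangeNhd.flat_fromSpecStalk y
  have hb' := Ideal.BlowUp.isBlowUp_flat_baseChange g hb
  rw [comap_vanishingIdeal_stalk] at hb'
  obtain ⟨hirr, hch⟩ := ContractionFibre.fibre_spec hdim hb'
  set P := pullback.fst g b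
  set Q := pullback.snd g b
  have hgy : g (IsLocalRing.closedPoint (S.presheaf.stalk y)) = y := Scheme.fromSpecStalk_closedPoint
  have hQ : ∀ w, b (Q w) = g (P w) := fun w => by
    rw [← Scheme.Hom.comp_apply, ← Scheme.Hom.comp_apply, pullback.condition]
  have hpre : ∀ w, b (Q w) = y ↔ P w = IsLocalRing.closedPoint (S.presheaf.stalk y) := fun w => by
    rw [hQ]
    exact ⟨fun h => g.isEmbedding.injective (h.trans hgy.symm), fun h => by rw [h, hgy]⟩
  have hlift : ∀ x, b x = y → x ∈ Set.range Q := fun x hx => by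
    rw [Scheme.Pullback.range_snd]
    exact ⟨_, hgy.trans hx.symm⟩
  have himg : b ⁻¹' {y} = Q '' (P ⁻¹' {IsLocalRing.closedPoint (S.presheaf.stalk y)}) := by
    ext x
    constructor
    · intro hx
      obtain ⟨w, rfl⟩ := hlift x hx
      exact ⟨w, (hpre w).1 hx, rfl⟩
    · rintro ⟨w, hw, rfl⟩
      exact (hpre w).2 hw
  refine ⟨himg ▸ hirr.image _ Q.continuous.continuousOn, fun p q r hp hr hpq hqr => ?_⟩
  have hp' : b p = y := hp
  have hr' : b r = y := hr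
  have hq : b q = y := (hpq.map b.continuous).mem_closed hy hp'
  obtain ⟨p', rfl⟩ := hlift p hp'
  obtain ⟨q', rfl⟩ := hlift q hq
  obtain ⟨r', rfl⟩ := hlift r hr'
  have hi := Q.isEmbedding.isInducing
  exact (hch p' q' r' ((hpre p').1 hp') ((hpre r').1 hr') (hi.specializes_iff.mp hpq)
    (hi.specializes_iff.mp hqr)).imp (congrArg _) (congrArg _)

theorem exists_specializes_ne (k : Type u) [Field k] :
    ∃ a c : ↥(CohB1.ProjSpace 1 k), a ⤳ c ∧ a ≠ c := by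
  refine ⟨genericPoint ↥(CohB1.ProjSpace 1 k), ?_⟩
  by_contra h
  push Not at h
  have hs : Subsingleton ↥(CohB1.ProjSpace 1 k) :=
    ⟨fun x z => (h x (genericPoint_specializes x)).symm.trans (h z (genericPoint_specializes z))⟩
  have h1 := ProjSpace.Dim.topologicalKrullDim_projSpace_of_field 1 k
  haveI : Subsingleton (IrreducibleCloseds ↥(CohB1.ProjSpace 1 k)) := ⟨fun s t => IrreducibleCloseds.ext
    ((s.isIrreducible.nonempty.eq_univ).trans (t.isIrreducible.nonempty.eq_univ).symm)⟩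
  have h0 : topologicalKrullDim ↥(CohB1.ProjSpace 1 k) ≤ 0 := Order.krullDim_nonpos_of_subsingleton
  rw [h1] at h0
  exact absurd h0 (by decide)

theorem fibre_eq_range {E : Scheme.{u}} (ι : E ⟶ X) [IsClosedImmersion ι] (hE : Models.IsExcCurve ι)
    [IsLocallyNoetherian S] (b : X ⟶ S) (y : S) (hy : IsClosed ({y} : Set S))
    [IsRegularLocalRing (S.presheaf.stalk y)] (hdim : ringKrullDim (S.presheaf.stalk y) = 2)
    (hb : BlowUp.IsBlowUp b (Scheme.IdealSheafData.vanishingIdeal ⟨{y}, hy⟩))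
    (hr : Set.range ((ι ≫ b).base : E → S) = {y}) : b ⁻¹' {y} = Set.range ι := by
  obtain ⟨hirr, hch⟩ := fibre_irreducible b y hy hdim hb
  obtain ⟨-, k, _, e, -⟩ := hE
  obtain ⟨a, c, hac, hne⟩ := exists_specializes_ne k
  have hsub : ∀ t : E, b (ι t) = y := fun t => by
    rw [← Scheme.Hom.comp_apply]
    exact hr.le ⟨t, rfl⟩
  have hF : IsClosed (b ⁻¹' {y}) := hy.preimage b.continuous
  obtain ⟨ζ, hζ⟩ := QuasiSober.sober hirr hF
  have hζ' : b ζ = y := hζ.mem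
  refine Set.Subset.antisymm (fun x hx => ?_) (by rintro _ ⟨t, rfl⟩; exact hsub t)
  by_cases hζE : ζ ∈ Set.range ι
  · exact (hζ.specializes hx).mem_closed ι.isClosedEmbedding.isClosed_range hζE
  exfalso
  have h1 : ι (e.hom a) ⤳ ι (e.hom c) := (hac.map e.hom.continuous).map ι.continuous
  rcases hch ζ (ι (e.hom a)) (ι (e.hom c)) hζ' (hsub _) (hζ.specializes (hsub _)) h1 with h | h
  · exact hζE ⟨_, h.symm⟩
  · exact hne (e.hom.homeomorph.injective (ι.isClosedEmbedding.injective h))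

/-- An affine neighbourhood of the point over which the functions do not change. -/
theorem exists_good_nhd [IsLocallyNoetherian S] (b : X ⟶ S) [IsProper b] (y : S)
    (hy : IsClosed ({y} : Set S)) [IsRegularLocalRing (S.presheaf.stalk y)]
    (hdim : ringKrullDim (S.presheaf.stalk y) = 2)
    (hb : BlowUp.IsBlowUp b (Scheme.IdealSheafData.vanishingIdeal ⟨{y}, hy⟩))
    (O : S.Opens) (hO : y ∈ O) :
    ∃ U : S.Opens, IsAffineOpen U ∧ y ∈ U ∧ U ≤ O ∧ IsIso (b ∣_ U).appTop := by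
  haveI := Regular.Quotient.isDomain (S.presheaf.stalk y)
  obtain ⟨W, hyW, hW⟩ := H26.SectionExtend.exists_integral_nhd y
  obtain ⟨U, hU, hyU, hUW⟩ :=
    exists_isAffineOpen_mem_and_subset (show y ∈ (O ⊓ W : S.Opens) from ⟨hO, hyW⟩)
  refine ⟨U, hU, hyU, fun z hz => (hUW hz).1, ?_⟩
  haveI : Nonempty U := ⟨⟨y, hyU⟩⟩
  haveI : Nonempty ↥(U : Scheme.{u}) := ⟨⟨y, hyU⟩⟩
  haveI : IsIntegral (U : Scheme.{u}) :=
    isIntegral_of_isOpenImmersion (S.homOfLE (fun z hz => (hUW hz).2 : U ≤ W))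
  haveI : IsLocallyNoetherian (U : Scheme.{u}) := isLocallyNoetherian_of_isOpenImmersion U.ι
  set y' : (U : Scheme.{u}) := ⟨y, hyU⟩
  set I := (Scheme.IdealSheafData.vanishingIdeal ⟨{y}, hy⟩).comap U.ι with hI
  have hbU : BlowUp.IsBlowUp (b ∣_ U) I := by
    have h := Ideal.BlowUp.isBlowUp_flat_baseChange U.ι hb
    have e := (isPullback_morphismRestrict b U).isoPullback_hom_fst
    rw [← e]
    exact isBlowUp_iso_comp h _
  have hsupp : (I.support : Set (U : Scheme.{u})) = {y'} := by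
    rw [hI, Scheme.IdealSheafData.support_comap, Closeds.coe_preimage, support_vanishingIdeal_point]
    ext z
    simp only [Set.mem_preimage, Set.mem_singleton_iff]
    exact ⟨fun h => Subtype.ext h, fun h => h ▸ rfl⟩
  haveI hreg : IsRegularLocalRing ((U : Scheme.{u}).presheaf.stalk y') :=
    IsRegularLocalRing.of_ringEquiv (U.stalkIso y').commRingCatIsoToRingEquiv.symm
  have hdim' : ringKrullDim ((U : Scheme.{u}).presheaf.stalk y') = 2 :=
    (ringKrullDim_eq_of_ringEquiv (U.stalkIso y').commRingCatIsoToRingEquiv).trans hdim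
  have hy' : IsClosed ({y'} : Set (U : Scheme.{u})) := hsupp ▸ I.support.isClosed
  have hne : I ≠ ⊥ := by
    intro h
    have huniv : ({y'} : Set (U : Scheme.{u})) = Set.univ := by
      rw [← hsupp, h, Scheme.IdealSheafData.support_bot]; rfl
    have hη : genericPoint (U : Scheme.{u}) = y' := huniv.ge trivial
    have hF : IsField ((U : Scheme.{u}).presheaf.stalk y') := hη ▸ Field.toIsField (U : Scheme.{u}).functionField
    rw [ringKrullDim_eq_zero_of_isField hF] at hdim'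
    exact absurd hdim' (by decide)
  haveI : IsIntegral ↑(b ⁻¹ᵁ U) := (S2348.result I hne _ hbU).1
  haveI : IsProper (b ∣_ U) := IsZariskiLocalAtTarget.restrict ‹_› U
  haveI : IsIso ((b ∣_ U) ∣_ (⟨{y'}ᶜ, hy'.isOpen_compl⟩ : (U : Scheme.{u}).Opens)) := by
    have h := Ideal.BlowUp.isIso_off_center hbU
    have e : I.support.compl = (⟨{y'}ᶜ, hy'.isOpen_compl⟩ : (U : Scheme.{u}).Opens) :=
      Opens.ext (congrArg compl hsupp)
    rwa [e] at h
  exact ContractionPush.isIso_app (b ∣_ U) y' hy' hdim' ⊤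

theorem exists_hom_of_appTop (W V : Scheme.{u}) [IsAffine V] (α : Γ(V, ⊤) ⟶ Γ(W, ⊤)) :
    ∃ ψ : W ⟶ V, ψ.appTop = α := by
  refine ⟨W.toSpecΓ ≫ Spec.map α ≫ V.isoSpec.inv, ?_⟩
  set ψ := W.toSpecΓ ≫ Spec.map α ≫ V.isoSpec.inv
  have h : ψ ≫ V.toSpecΓ = W.toSpecΓ ≫ Spec.map α := by
    simp [ψ, Scheme.isoSpec_inv_toSpecΓ]
  clear_value ψ
  rw [show ψ ≫ V.toSpecΓ = W.toSpecΓ ≫ Spec.map ψ.appTop from Scheme.toSpecΓ_naturality ψ] at h
  have h' := congrArg Scheme.Hom.appTop h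
  rw [Scheme.Hom.comp_appTop, Scheme.Hom.comp_appTop, Scheme.toSpecΓ_appTop] at h'
  rw [Scheme.ΓSpecIso_naturality, Scheme.ΓSpecIso_naturality] at h'
  exact (cancel_epi _).1 h'

/-- The universal property. -/
theorem existsUnique_desc {E X' : Scheme.{u}} [IsNoetherian X] (ι : E ⟶ X) [IsClosedImmersion ι]
    (hE : Models.IsExcCurve ι) (b : X ⟶ X') (hb : Models.IsContractionOf ι b)
    {Y : Scheme.{u}} (φ : X ⟶ Y) (y₀ : Y) (hφ : Set.range ((ι ≫ φ).base : E → Y) = {y₀}) :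
    ∃! ψ : X' ⟶ Y, b ≫ ψ = φ := by
  obtain ⟨hN, hP, y, hy, hr, hreg, hdim, hbl⟩ := hb
  haveI := hN; haveI := hP; haveI := hreg
  have hF := fibre_eq_range ι hE b y hy hdim hbl hr
  have hφF : ∀ x : X, b x = y → φ x = y₀ := fun x hx => by
    obtain ⟨t, rfl⟩ := hF.le hx
    rw [← Scheme.Hom.comp_apply]
    exact hφ.le ⟨t, rfl⟩
  obtain ⟨x₀, hx₀⟩ : ∃ x, b x = y := by
    obtain ⟨t, ht⟩ := hr.ge (rfl : y = y)
    exact ⟨ι t, by rw [← Scheme.Hom.comp_apply]; exact ht⟩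
  set W₀ : X'.Opens := ⟨{y}ᶜ, hy.isOpen_compl⟩ with hW₀
  haveI : IsIso (b ∣_ W₀) := by
    have h := Ideal.BlowUp.isIso_off_center hbl
    have e : (Scheme.IdealSheafData.vanishingIdeal ⟨{y}, hy⟩).support.compl = W₀ :=
      Opens.ext (congrArg compl (support_vanishingIdeal_point y hy))
    rwa [e] at h
  have hsurj : ∀ q : X', ∃ x, b x = q := fun q => by
    by_cases hq : q = y
    · exact ⟨x₀, hx₀.trans hq.symm⟩
    · obtain ⟨w, hw⟩ := (b ∣_ W₀).homeomorph.surjective ⟨q, hq⟩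
      refine ⟨(b ⁻¹ᵁ W₀).ι w, ?_⟩
      rw [← Scheme.Hom.comp_apply, ← morphismRestrict_ι, Scheme.Hom.comp_apply]
      exact congrArg Subtype.val hw
  obtain ⟨V, hV, hy₀V, -⟩ :=
    exists_isAffineOpen_mem_and_subset (show y₀ ∈ (⊤ : Y.Opens) from trivial)
  haveI : IsAffine (V : Scheme.{u}) := hV
  have hcl : IsClosed (b '' ((φ ⁻¹ᵁ V : X.Opens) : Set X)ᶜ) :=
    b.isClosedMap _ (φ ⁻¹ᵁ V).isOpen.isClosed_compl
  obtain ⟨U, hU, hyU, hUO, hUiso⟩ := exists_good_nhd b y hy hdim hbl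
    ⟨(b '' ((φ ⁻¹ᵁ V : X.Opens) : Set X)ᶜ)ᶜ, hcl.isOpen_compl⟩ (by
      rintro ⟨x, hx, hxy⟩
      exact hx (show φ x ∈ V by rw [hφF x hxy]; exact hy₀V))
  have hUV : ∀ x : X, b x ∈ U → φ x ∈ V := fun x hx => by
    by_contra h
    exact hUO hx ⟨x, h, rfl⟩
  -- uniqueness
  have huniq : ∀ ψ ψ' : X' ⟶ Y, b ≫ ψ = φ → b ≫ ψ' = φ → ψ = ψ' := by
    intro ψ ψ' h h'
    have hsup : W₀ ⊔ U = ⊤ := eq_top_iff.mpr fun q _ => by
      by_cases hq : q = y
      · exact Or.inr (hq ▸ hyU)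
      · exact Or.inl hq
    refine (X'.openCoverOfIsOpenCover (fun i : Bool => if i then W₀ else U)
      (by rw [IsOpenCover, iSup_bool_eq]; simpa using hsup)).hom_ext ψ ψ' fun i => ?_
    rcases i with _ | _
    · show U.ι ≫ ψ = U.ι ≫ ψ'
      have hm : ∀ (χ : X' ⟶ Y), b ≫ χ = φ → Set.range (U.ι ≫ χ) ⊆ Set.range V.ι := by
        rintro χ hχ _ ⟨w, rfl⟩
        rw [Scheme.Opens.range_ι]
        obtain ⟨x, hx⟩ := hsurj (U.ι w)
        rw [Scheme.Hom.comp_apply, ← hx, ← Scheme.Hom.comp_apply, hχ]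
        exact hUV x (hx ▸ w.2)
      rw [← IsOpenImmersion.lift_fac V.ι _ (hm ψ h), ← IsOpenImmersion.lift_fac V.ι _ (hm ψ' h')]
      congr 1
      refine ext_of_isAffine ?_
      haveI := hUiso
      rw [← cancel_mono (b ∣_ U).appTop, ← Scheme.Hom.comp_appTop, ← Scheme.Hom.comp_appTop]
      congr 1
      rw [← cancel_mono V.ι, Category.assoc, Category.assoc, IsOpenImmersion.lift_fac,
        IsOpenImmersion.lift_fac, morphismRestrict_ι_assoc, morphismRestrict_ι_assoc, h, h']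
    · show W₀.ι ≫ ψ = W₀.ι ≫ ψ'
      rw [← cancel_epi (b ∣_ W₀), morphismRestrict_ι_assoc, morphismRestrict_ι_assoc, h, h']
  -- existence
  haveI := hUiso
  let ξ : ↑(b ⁻¹ᵁ U) ⟶ (V : Scheme.{u}) := IsOpenImmersion.lift V.ι ((b ⁻¹ᵁ U).ι ≫ φ) (by
    rintro _ ⟨w, rfl⟩
    rw [Scheme.Opens.range_ι, Scheme.Hom.comp_apply]
    exact hUV _ w.2)
  obtain ⟨ψU, hψU⟩ := exists_hom_of_appTop (U : Scheme.{u}) (V : Scheme.{u})
    (ξ.appTop ≫ inv (b ∣_ U).appTop)
  have hξ : (b ∣_ U) ≫ ψU = ξ := ext_of_isAffine (by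
    rw [Scheme.Hom.comp_appTop, hψU, Category.assoc, IsIso.inv_hom_id, Category.comp_id])
  have hU' : (b ∣_ U) ≫ ψU ≫ V.ι = (b ⁻¹ᵁ U).ι ≫ φ := by
    rw [reassoc_of% hξ, IsOpenImmersion.lift_fac]
  have hW' : (b ∣_ W₀) ≫ inv (b ∣_ W₀) ≫ (b ⁻¹ᵁ W₀).ι ≫ φ = (b ⁻¹ᵁ W₀).ι ≫ φ :=
    IsIso.hom_inv_id_assoc _ _
  let T : ULift.{u} Bool → X'.Opens := fun i => if i.down then W₀ else U
  have hmem : ∀ q : X', ∃ i, q ∈ T i := fun q => by
    by_cases hq : q = y
    · exact ⟨⟨false⟩, hq ▸ hyU⟩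
    · exact ⟨⟨true⟩, hq⟩
  let f : ∀ i, (T i : Scheme.{u}) ⟶ Y := fun
    | ⟨true⟩ => inv (b ∣_ W₀) ≫ (b ⁻¹ᵁ W₀).ι ≫ φ
    | ⟨false⟩ => ψU ≫ V.ι
  have hf : ∀ i, (b ∣_ T i) ≫ f i = (b ⁻¹ᵁ T i).ι ≫ φ := fun
    | ⟨true⟩ => hW'
    | ⟨false⟩ => hU'
  have hff : ∀ i j, X'.homOfLE (inf_le_left : T i ⊓ T j ≤ T i) ≫ f i =
      X'.homOfLE (inf_le_right : T i ⊓ T j ≤ T j) ≫ f j := by
    intro i j
    by_cases hij : i = j
    · subst hij; rfl
    have hle : T i ⊓ T j ≤ W₀ := by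
      rcases i with ⟨_ | _⟩ <;> rcases j with ⟨_ | _⟩
      · exact absurd rfl hij
      · exact inf_le_right
      · exact inf_le_left
      · exact absurd rfl hij
    haveI : IsIso (b ∣_ (T i ⊓ T j)) := by
      have h1 : IsIso ((b ∣_ W₀) ∣_ (W₀.ι ⁻¹ᵁ (T i ⊓ T j))) := inferInstance
      have h2 := ((MorphismProperty.isomorphisms Scheme.{u}).arrow_mk_iso_iff
        (morphismRestrictRestrict b W₀ (W₀.ι ⁻¹ᵁ (T i ⊓ T j)))).mp h1
      have e : W₀.ι ''ᵁ (W₀.ι ⁻¹ᵁ (T i ⊓ T j)) = T i ⊓ T j := by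
        rw [Scheme.Hom.image_preimage_eq_opensRange_inf, Scheme.Opens.opensRange_ι]
        exact inf_eq_right.mpr hle
      rw [← e]; exact h2
    rw [← cancel_epi (b ∣_ (T i ⊓ T j))]
    have key : ∀ l (hl : T i ⊓ T j ≤ T l), (b ∣_ (T i ⊓ T j)) ≫ X'.homOfLE hl ≫ f l =
        (b ⁻¹ᵁ (T i ⊓ T j)).ι ≫ φ := fun l hl => by
      rw [← Category.assoc, morphismRestrict_homOfLE b _ _ hl, Category.assoc, hf, Scheme.homOfLE_ι_assoc]
    rw [key i inf_le_left, key j inf_le_right]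
  obtain ⟨g, hg⟩ := H26.SectionExtend.exists_glue T f hff
  have htop : (⨆ i, T i : X'.Opens) = ⊤ := eq_top_iff.mpr fun q _ => Opens.mem_iSup.mpr (hmem q)
  haveI : IsIso (⨆ i, T i : X'.Opens).ι := by rw [htop]; exact inferInstanceAs (IsIso X'.topIso.hom)
  let ψ : X' ⟶ Y := inv (⨆ i, T i : X'.Opens).ι ≫ g
  have hψ : ∀ i, (T i).ι ≫ ψ = f i := fun i => by
    rw [← hg i, ← Category.assoc]
    congr 1
    rw [IsIso.comp_inv_eq, Scheme.homOfLE_ι]
  have hbψ : b ≫ ψ = φ := by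
    refine (X.openCoverOfIsOpenCover (fun i => b ⁻¹ᵁ T i) ?_).hom_ext _ _ fun i => ?_
    · rw [IsOpenCover, eq_top_iff]
      exact fun x _ => Opens.mem_iSup.mpr (hmem (b x))
    · show (b ⁻¹ᵁ T i).ι ≫ b ≫ ψ = (b ⁻¹ᵁ T i).ι ≫ φ
      rw [← morphismRestrict_ι_assoc, hψ, hf]
  exact ⟨ψ, hbψ, fun ψ' h => huniq _ _ h hbψ⟩

end Groth.Agent.Lib.Flat55.ContractionUniversal
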