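import Groth.Agent.Lib.Flat55.CurveNormalizationBC
import Groth.Agent.Lib.Flat55.NormalizationPIScheme
import Groth.Agent.Lib.Normalization.InFieldVariety
import Groth.Agent.Lib.RefHull.Generic
import Groth.Agent.Lib.JacCrit.FieldGeom
import Groth.Agent.Lib.JacCrit.Regular
import Groth.Agent.Lib.Cyc.SmoothReg
import Groth.Agent.S2351
import Groth.Prelude.Def_Curv2
import Mathlib.RingTheory.LocalProperties.Reduced
import Mathlib.AlgebraicGeometry.Geometrically.Reduced

/-!
# Separable residue fields in codimension one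
-/

set_option autoImplicit false

universe u

open CategoryTheory CategoryTheory.Limits AlgebraicGeometry TopologicalSpace TensorProduct
open Groth.Agent.Lib Groth.Agent.Lib.Flat55.NormalizationPIScheme

namespace Groth.Agent.Lib.Flat55.NormalizationCodimOne

theorem isReduced_of_smooth_alg (K : Type u) [Field K] (A : Type u) [CommRing A] [Algebra K A]
    [Algebra.Smooth K A] : _root_.IsReduced A := by
  have : Smooth (Spec.map (CommRingCat.ofHom (algebraMap K A))) := by
    rw [HasRingHomProperty.Spec_iff (P := @Smooth), CommRingCat.hom_ofHom]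
    exact RingHom.smooth_algebraMap.2 ‹_›
  have := CurveNormalizationBC.isReduced_of_smooth (Spec.map (CommRingCat.ofHom (algebraMap K A)))
  exact isReduced_of_injective _ (Scheme.ΓSpecIso (CommRingCat.of A)).commRingCatIsoToRingEquiv.symm.injective

theorem isGeometricallyReduced_of_scheme (k L : Type u) [Field k] [Field L] [Algebra k L]
    [GeometricallyReduced (Spec.map (CommRingCat.ofHom (algebraMap k L)))] :
    Algebra.IsGeometricallyReduced k L := by
  rw [Algebra.isGeometricallyReduced_field_iff]
  let g := Spec.map (CommRingCat.ofHom (algebraMap k (AlgebraicClosure k)))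
  have h : AlgebraicGeometry.IsReduced (pullback (Spec.map (CommRingCat.ofHom (algebraMap k L))) g) :=
    GeometricallyReduced.geometrically_isReduced g _ _ (IsPullback.of_hasPullback _ _)
  have : AlgebraicGeometry.IsReduced (Spec (CommRingCat.of (L ⊗[k] AlgebraicClosure k))) :=
    isReduced_of_isOpenImmersion (pullbackSpecIso k L (AlgebraicClosure k)).inv
  have : _root_.IsReduced (L ⊗[k] AlgebraicClosure k) :=
    isReduced_of_injective _
      (Scheme.ΓSpecIso (CommRingCat.of (L ⊗[k] AlgebraicClosure k))).commRingCatIsoToRingEquiv.symm.injective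
  exact isReduced_of_injective _ (Algebra.TensorProduct.comm k (AlgebraicClosure k) L).injective

variable {k : Type u} [Field k] {X : Scheme.{u}} (f : X ⟶ Spec (CommRingCat.of k))

theorem smooth_secMap {O : X.Opens} (hO : IsAffineOpen O) [Smooth (O.ι ≫ f)] :
    (secMap f O).hom.Smooth := by
  have : IsAffine O.toScheme := hO
  have h : (O.ι ≫ f).appTop.hom.Smooth := (HasRingHomProperty.iff_of_isAffine (P := @Smooth)).1 ‹_›
  have e : (O.ι ≫ f).appTop = f.appLE ⊤ O (SmoothStrataScheme.le_pre f O) ≫ O.topIso.inv := by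
    rw [show (O.ι ≫ f).appTop = (O.ι ≫ f).appLE ⊤ ⊤ (SmoothStrataScheme.le_pre _ _) from
        (Scheme.Hom.appLE_eq_app (O.ι ≫ f) (U := ⊤)).symm,
      ← Scheme.Hom.appLE_comp_appLE O.ι f ⊤ O ⊤ (SmoothStrataScheme.le_pre f O) (by simp),
      Scheme.Opens.ι_appLE]
    rfl
  have h2 : secMap f O = ((Scheme.ΓSpecIso (CommRingCat.of k)).inv ≫ (O.ι ≫ f).appTop) ≫ O.topIso.hom := by
    rw [e, Category.assoc, Category.assoc, Iso.inv_hom_id, Category.comp_id]
    rfl
  rw [h2]
  exact RingHom.Smooth.respectsIso.1 _ O.topIso.commRingCatIsoToRingEquiv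
    (RingHom.Smooth.respectsIso.2 _ (Scheme.ΓSpecIso (CommRingCat.of k)).symm.commRingCatIsoToRingEquiv h)

/-- A regular point with geometrically reduced residue field has a smooth neighbourhood. -/
theorem exists_smooth_nhd [LocallyOfFiniteType f] (x : X) (hreg : IsRegularLocalRing (X.presheaf.stalk x))
    (hsep : letI : X.Over (Spec (CommRingCat.of k)) := ⟨f⟩
      GeometricallyReduced (Spec.map (CommRingCat.ofHom (Curv2.resMap k X x)))) :
    ∃ O : X.Opens, x ∈ O ∧ Smooth (O.ι ≫ f) := by
  obtain ⟨U, hU, hxU, -⟩ := exists_isAffineOpen_mem_and_subset (x := x) (U := ⊤) trivial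
  let : X.Over (Spec (CommRingCat.of k)) := ⟨f⟩
  let A := Γ(X, U)
  let : Algebra k A := (secMap f U).hom.toAlgebra
  have : Algebra.FiniteType k A := by
    have h := f.finiteType_appLE (isAffineOpen_top _) hU (SmoothStrataScheme.le_pre f U)
    rw [← RingHom.finiteType_algebraMap]
    exact h.comp (RingHom.FiniteType.of_surjective _
      (Scheme.ΓSpecIso (CommRingCat.of k)).symm.commRingCatIsoToRingEquiv.surjective)
  let P := (hU.primeIdealOf ⟨x, hxU⟩).asIdeal
  let : Algebra A (X.presheaf.stalk x) := X.presheaf.algebra_section_stalk ⟨x, hxU⟩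
  have : IsLocalization.AtPrime (X.presheaf.stalk x) P := hU.isLocalization_stalk ⟨x, hxU⟩
  let e : X.presheaf.stalk x ≃ₐ[A] Localization.AtPrime P := IsLocalization.algEquiv P.primeCompl _ _
  have : IsRegularLocalRing (X.presheaf.stalk x) := hreg
  have : IsRegularLocalRing (Localization.AtPrime P) := IsRegularLocalRing.of_ringEquiv e.toRingEquiv
  let : Algebra k (X.residueField x) := (Curv2.resMap k X x).toAlgebra
  have : GeometricallyReduced (Spec.map (CommRingCat.ofHom (algebraMap k (X.residueField x)))) := hsep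
  have : Algebra.IsGeometricallyReduced k (X.residueField x) := isGeometricallyReduced_of_scheme k _
  let r : P.ResidueField ≃+* X.residueField x := IsLocalRing.ResidueField.mapEquiv e.symm.toRingEquiv
  let φ : P.ResidueField →ₐ[k] X.residueField x := AlgHom.mk r.toRingHom fun c => by
    show IsLocalRing.ResidueField.map (e.symm.toRingEquiv : Localization.AtPrime P →+* X.presheaf.stalk x)
      (algebraMap k P.ResidueField c) = X.residue x (X.presheaf.germ ⊤ x trivial
        (f.appTop ((Scheme.ΓSpecIso (CommRingCat.of k)).inv c)))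
    rw [IsScalarTower.algebraMap_apply k A P.ResidueField,
      IsScalarTower.algebraMap_apply A (Localization.AtPrime P) P.ResidueField,
      show algebraMap (Localization.AtPrime P) P.ResidueField = IsLocalRing.residue _ from rfl,
      IsLocalRing.ResidueField.map_residue]
    show X.residue x (e.symm (algebraMap A (Localization.AtPrime P) (algebraMap k A c))) = _
    rw [e.symm.commutes]
    show X.residue x (X.presheaf.germ U x hxU (f.appLE ⊤ U _ ((Scheme.ΓSpecIso (CommRingCat.of k)).inv c))) = _
    congr 1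
    exact X.presheaf.germ_res_apply (homOfLE le_top) x hxU _
  have : Algebra.IsGeometricallyReduced k P.ResidueField :=
    Algebra.IsGeometricallyReduced.of_injective φ r.injective
  have : Algebra.EssFiniteType k P.ResidueField := by
    have : Algebra.EssFiniteType A (Localization.AtPrime P) := .of_isLocalization _ P.primeCompl
    have : Algebra.EssFiniteType k (Localization.AtPrime P) := .comp k A _
    have : Algebra.EssFiniteType (Localization.AtPrime P) P.ResidueField := .of_surjective
      (IsScalarTower.toAlgHom (Localization.AtPrime P) (Localization.AtPrime P) P.ResidueField)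
      IsLocalRing.residue_surjective
    exact .comp k (Localization.AtPrime P) _
  have : Algebra.FormallySmooth k P.ResidueField := JacCrit.FieldGeom.formallySmooth k _
  have : Algebra.IsSmoothAt k P := JacCrit.Regular.isSmoothAt k P
  have : Algebra.FinitePresentation k A := (Algebra.FinitePresentation.of_finiteType).1 ‹_›
  obtain ⟨c, hc, hsm⟩ := Algebra.IsSmoothAt.exists_notMem_smooth k P
  refine ⟨X.basicOpen c, ?_, SmoothStrataScheme.smooth_of_appLE f (hU.basicOpen c) ?_⟩
  · rw [Scheme.mem_basicOpen _ _ _ hxU]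
    exact IsLocalization.AtPrime.isUnit_to_map_iff (X.presheaf.stalk x) P c |>.2 hc
  · have : IsLocalization.Away c Γ(X, X.basicOpen c) := hU.isLocalization_basicOpen c
    let : Algebra k Γ(X, X.basicOpen c) := (secMap f (X.basicOpen c)).hom.toAlgebra
    have : IsScalarTower k A Γ(X, X.basicOpen c) := IsScalarTower.of_algebraMap_eq' (by
      show (secMap f (X.basicOpen c)).hom =
        (X.presheaf.map (homOfLE (X.basicOpen_le c)).op).hom.comp (secMap f U).hom
      rw [← CommRingCat.hom_comp]
      simp [secMap, Scheme.Hom.appLE_map])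
    have : Algebra.Smooth k Γ(X, X.basicOpen c) :=
      Algebra.Smooth.of_equiv ((IsLocalization.algEquiv (Submonoid.powers c) (Localization.Away c)
        Γ(X, X.basicOpen c)).restrictScalars k)
    have h := RingHom.Smooth.respectsIso.2 _ (Scheme.ΓSpecIso (CommRingCat.of k)).commRingCatIsoToRingEquiv
      (RingHom.smooth_algebraMap.2 this)
    convert! h using 1
    show _ = (secMap f (X.basicOpen c)).hom.comp (Scheme.ΓSpecIso (CommRingCat.of k)).hom.hom
    rw [← CommRingCat.hom_comp]
    simp [secMap]

/-- Points over a smooth open stay regular after extending the field. -/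
theorem isRegularLocalRing_bc [X.Over (Spec (CommRingCat.of k))] (O : X.Opens)
    [Smooth (O.ι ≫ X ↘ Spec (CommRingCat.of k))] (K : Type u) [Field K] [Algebra k K]
    (y : Curv2.bc k X K) (hy : Curv2.bcFst k X K y ∈ O) :
    IsRegularLocalRing ((Curv2.bc k X K).presheaf.stalk y) := by
  let s := X ↘ Spec (CommRingCat.of k)
  let g := Spec.map (CommRingCat.ofHom (algebraMap k K))
  let j : pullback (O.ι ≫ s) g ⟶ pullback s g :=
    pullback.map (O.ι ≫ s) g s g O.ι (𝟙 _) (𝟙 _) (Category.comp_id _)
      ((Category.comp_id _).trans (Category.id_comp _).symm)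
  have sq : IsPullback (pullback.fst (O.ι ≫ s) g) j O.ι (pullback.fst s g) :=
    CurveNormalizationBC.isPullback_bcMap s g O.ι
  have : IsOpenImmersion j := MorphismProperty.of_isPullback sq (inferInstance : IsOpenImmersion O.ι)
  obtain ⟨z, rfl⟩ : y ∈ Set.range j := by
    obtain ⟨z, -, hz⟩ := Scheme.exists_preimage_of_isPullback sq ⟨_, hy⟩ y rfl
    exact ⟨z, hz⟩
  have : Smooth (pullback.snd (O.ι ≫ s) g) := MorphismProperty.pullback_snd _ _ ‹_›
  have := Cyc.SmoothReg.isRegularLocalRing_stalk (pullback.snd (O.ι ≫ s) g) z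
  exact IsRegularLocalRing.of_ringEquiv (asIso (j.stalkMap z)).commRingCatIsoToRingEquiv.symm

theorem secMap_comp {k : Type u} [Field k] {X N : Scheme.{u}} (s : X ⟶ Spec (CommRingCat.of k)) (ν : N ⟶ X)
    (U : X.Opens) : secMap s U ≫ ν.app U = secMap (ν ≫ s) (ν ⁻¹ᵁ U) := by
  simp only [secMap, Category.assoc]
  rw [ν.app_eq_appLE, Scheme.Hom.appLE_comp_appLE]

theorem app_injective (X : Scheme.{u}) [IsIntegral X]
    [QuasiCompact (X.fromSpecStalk (genericPoint X))] [QuasiSeparated (X.fromSpecStalk (genericPoint X))]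
    {U : X.Opens} (hU : IsAffineOpen U) [Nonempty U] :
    Function.Injective ((Curv2.normalizationι X).app U) := by
  intro a b hab
  have := functionField_isFractionRing_of_isAffineOpen X U hU
  apply IsFractionRing.injective Γ(X, U) X.functionField
  have hab' := congrArg (Normalization.Basic.sectionsEquiv X hU) hab
  rw [Normalization.Basic.sectionsEquiv_app, Normalization.Basic.sectionsEquiv_app] at hab'
  exact congrArg Subtype.val hab'

/-- An affine open whose sections embed into a smooth algebra stays reduced after extending the field. -/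
theorem isReduced_stalk_bc (k : Type u) [Field k] (X : Scheme.{u}) [X.Over (Spec (CommRingCat.of k))]
    (U : X.Opens) (hU : IsAffineOpen U) {x : X} (hxU : x ∈ U) {N : Scheme.{u}} {g : N ⟶ Spec (CommRingCat.of k)}
    {O : N.Opens} (hO : IsAffineOpen O) [Smooth (O.ι ≫ g)] (ν : Γ(X, U) ⟶ Γ(N, O)) (hν : Function.Injective ν)
    (hcomm : secMap (X ↘ Spec (CommRingCat.of k)) U ≫ ν = secMap g O)
    (K : Type u) [Field K] [Algebra k K] (y : Curv2.bc k X K) (hy : Curv2.bcFst k X K y = x) :
    _root_.IsReduced ((Curv2.bc k X K).presheaf.stalk y) := by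
  let s := X ↘ Spec (CommRingCat.of k)
  let B := Γ(X, U)
  let C := Γ(N, O)
  let : Algebra k B := (secMap s U).hom.toAlgebra
  let : Algebra k C := (secMap g O).hom.toAlgebra
  have : Algebra.Smooth k C := RingHom.smooth_algebraMap.1 (smooth_secMap g hO)
  let φ : B →ₐ[k] C := AlgHom.mk ν.hom fun c => DFunLike.congr_fun (congrArg CommRingCat.Hom.hom hcomm) c
  have hφ : Function.Injective φ := hν
  have : _root_.IsReduced (K ⊗[k] B) := by
    have : _root_.IsReduced (K ⊗[k] C) := isReduced_of_smooth_alg K _
    exact isReduced_of_injective (Algebra.TensorProduct.map (AlgHom.id K K) φ)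
      (Module.Flat.lTensor_preserves_injective_linearMap (M := K) φ.toLinearMap hφ)
  let q := pullback.fst s (specMap (k := k) K)
  let Q := q ⁻¹ᵁ U
  let M := Γ(pullback s (specMap (k := k) K), Q)
  let : Algebra K M := (secMap (pullback.snd s (specMap (k := k) K)) Q).hom.toAlgebra
  let : Algebra B M := (q.app U).hom.toAlgebra
  let : Algebra k M := ((algebraMap K M).comp (algebraMap k K)).toAlgebra
  have : IsScalarTower k K M := IsScalarTower.of_algebraMap_eq fun _ => rfl
  have : IsAffineHom (specMap (k := k) K) := isAffineHom_of_isAffine _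
  have : IsAffineHom q := MorphismProperty.pullback_fst _ _ this
  have hpo := (isPushout_sections s K ⟨U, hU⟩).flip
  have : IsScalarTower k B M := IsScalarTower.of_algebraMap_eq' (congrArg CommRingCat.Hom.hom hpo.w)
  have hpo' : Algebra.IsPushout k K B M := CommRingCat.isPushout_iff_isPushout.1 hpo
  have : _root_.IsReduced M :=
    isReduced_of_injective _ (Algebra.IsPushout.equiv k K B M).symm.injective
  have hQ : IsAffineOpen Q := hU.preimage q
  have hyQ : y ∈ Q := show q y ∈ U from (show q y = x from hy) ▸ hxU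
  let : Algebra M ((Curv2.bc k X K).presheaf.stalk y) :=
    (Curv2.bc k X K).presheaf.algebra_section_stalk ⟨y, hyQ⟩
  have : IsLocalization.AtPrime ((Curv2.bc k X K).presheaf.stalk y) (hQ.primeIdealOf ⟨y, hyQ⟩).asIdeal :=
    hQ.isLocalization_stalk ⟨y, hyQ⟩
  exact isReduced_of_injective _ (IsLocalization.algEquiv (hQ.primeIdealOf ⟨y, hyQ⟩).asIdeal.primeCompl
    ((Curv2.bc k X K).presheaf.stalk y) (Localization.AtPrime (hQ.primeIdealOf ⟨y, hyQ⟩).asIdeal)).injective

theorem isGeomReducedAt_and_regular (k : Type u) [Field k] (X : Scheme.{u})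
    [X.Over (Spec (CommRingCat.of k))] [IsIntegral X] [LocallyOfFiniteType (X ↘ (Spec (CommRingCat.of k)))]
    [QuasiCompact (X.fromSpecStalk (genericPoint X))] [QuasiSeparated (X.fromSpecStalk (genericPoint X))]
    (x : ↥X) (hdim : ringKrullDim ↥(X.presheaf.stalk x) = 1)
    (hsep : letI : (Curv2.normalization X).Over (Spec (CommRingCat.of k)) :=
        ⟨Curv2.normalizationι X ≫ (X ↘ (Spec (CommRingCat.of k)))⟩
      ∀ x' : ↥(Curv2.normalization X), Curv2.normalizationι X x' = x →
        GeometricallyReduced (Spec.map (CommRingCat.ofHom (Curv2.resMap k (Curv2.normalization X) x')))) :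
    Curv2.IsGeomReducedAt k X x ∧
      letI : (Curv2.normalization X).Over (Spec (CommRingCat.of k)) :=
        ⟨Curv2.normalizationι X ≫ (X ↘ (Spec (CommRingCat.of k)))⟩
      ∀ x' : ↥(Curv2.normalization X), Curv2.normalizationι X x' = x →
        Curv2.IsGeomRegularAt k (Curv2.normalization X) x' := by
  let s := X ↘ Spec (CommRingCat.of k)
  let ν := Curv2.normalizationι X
  let N := Curv2.normalization X
  let : N.Over (Spec (CommRingCat.of k)) := ⟨ν ≫ s⟩
  have : IsFinite ν := Normalization.InFieldVariety.isFinite_normalizationι k X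
  obtain ⟨hNint, hNn, -⟩ := Groth.Agent.S2351.result X
  have : LocallyOfFiniteType (ν ≫ s) := inferInstance
  have : IsLocallyNoetherian N := LocallyOfFiniteType.isLocallyNoetherian (ν ≫ s)
  have key : ∀ x' : N, ν x' = x → ∃ O : N.Opens, x' ∈ O ∧ Smooth (O.ι ≫ ν ≫ s) := fun x' hx' => by
    refine exists_smooth_nhd (ν ≫ s) x' ?_ (hsep x' hx')
    have hd : ringKrullDim (N.presheaf.stalk x') = 1 :=
      Normalization.InField.ringKrullDim_stalk_eq_one (RingHom.id X.functionField)
        (X.fromSpecStalk (genericPoint X)) (by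
          show _ = Spec.map (𝟙 X.functionField) ≫ X.fromSpecStalk (genericPoint X)
          rw [Spec.map_id, Category.id_comp]) x' (hx' ▸ hdim)
    have := (hNn x').1
    have := RefHull.Generic.isPrincipalIdealRing_of_dim_le_one hNn x' hd.le
    infer_instance
  let W : N.Opens := ⨆ O : {O : N.Opens // Smooth (O.ι ≫ ν ≫ s)}, O.1
  have hW : ∀ x' : N, ν x' = x → x' ∈ W := fun x' hx' => by
    obtain ⟨O, h1, h2⟩ := key x' hx'
    exact Opens.mem_iSup.2 ⟨⟨O, h2⟩, h1⟩
  have hWsm : Smooth (W.ι ≫ ν ≫ s) := by
    refine IsZariskiLocalAtSource.of_iSup_eq_top (fun O : {O : N.Opens // Smooth (O.ι ≫ ν ≫ s)} => W.ι ⁻¹ᵁ O.1) ?_ ?_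
    · refine eq_top_iff.2 fun z _ => Opens.mem_iSup.2 ?_
      obtain ⟨O, hO⟩ := Opens.mem_iSup.1 z.2
      exact ⟨O, hO⟩
    · intro O
      have hle : O.1 ≤ W := le_iSup (fun O : {O : N.Opens // Smooth (O.ι ≫ ν ≫ s)} => O.1) O
      have e : (W.ι ⁻¹ᵁ O.1).ι ≫ W.ι = (W.ι ∣_ O.1) ≫ O.1.ι := (morphismRestrict_ι W.ι O.1).symm
      rw [← Category.assoc, e, Category.assoc]
      have := O.2
      infer_instance
  refine ⟨fun K _ _ y hy => ?_, fun x' hx' K _ _ _ y hy => ?_⟩
  · let V : X.Opens := ⟨(ν '' (W : Set N)ᶜ)ᶜ, (ν.isClosedMap _ W.2.isClosed_compl).isOpen_compl⟩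
    have hxV : x ∈ V := by
      rintro ⟨z, hz, hzx⟩
      exact hz (hW z hzx)
    obtain ⟨U, hU, hxU, hUV⟩ := exists_isAffineOpen_mem_and_subset (x := x) (U := V) hxV
    have : Nonempty U := ⟨⟨x, hxU⟩⟩
    let O := ν ⁻¹ᵁ U
    have hO : IsAffineOpen O := hU.preimage ν
    have hOW : O ≤ W := fun z hz => by
      by_contra h
      exact hUV hz ⟨z, h, rfl⟩
    have : Smooth (O.ι ≫ ν ≫ s) := by
      rw [← N.homOfLE_ι hOW, Category.assoc]
      infer_instance
    exact isReduced_stalk_bc k X U hU hxU hO (ν.app U) (app_injective X hU) (secMap_comp s ν U) K y hy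
  · have : Smooth (W.ι ≫ (N ↘ Spec (CommRingCat.of k))) := hWsm
    exact isRegularLocalRing_bc (k := k) (X := N) W K y (hy ▸ hW x' hx')

end Groth.Agent.Lib.Flat55.NormalizationCodimOne
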