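import Groth.Agent.Lib.Flat55.SpreadConnected
import Groth.Agent.H52.FBase.ComponentsSep
import Groth.Agent.H56.SepExt
import Groth.Agent.S1654

/-!
# Étale covers with geometrically connected fibres
-/

set_option autoImplicit false
set_option linter.style.haveILetI false
universe u

open CategoryTheory CategoryTheory.Limits AlgebraicGeometry TopologicalSpace

namespace Groth.Agent.Lib.Flat55.EtaleCoverConnected

attribute [local instance] Curv2.resAlgebra

theorem finite_connectedComponents (X : Type u) [TopologicalSpace X] [NoetherianSpace X] :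
    Finite (_root_.ConnectedComponents X) := by
  haveI : Finite (irreducibleComponents X) := NoetherianSpace.finite_irreducibleComponents.to_subtype
  refine Finite.of_surjective
    (fun Z : irreducibleComponents X => _root_.ConnectedComponents.mk Z.2.1.nonempty.some) fun c => ?_
  obtain ⟨x, rfl⟩ := _root_.ConnectedComponents.surjective_coe c
  refine ⟨⟨irreducibleComponent x, irreducibleComponent_mem_irreducibleComponents x⟩, ?_⟩
  exact _root_.ConnectedComponents.coe_eq_coe'.2
    (irreducibleComponent_subset_connectedComponent (Set.Nonempty.some_mem _))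

/-- After a finite separable extension every point has a geometrically connected open neighbourhood. -/
theorem exists_separable_connected (k : Type u) [Field k] (X : Scheme.{u}) [X.Over (Spec (CommRingCat.of k))]
    [LocallyOfFiniteType (X ↘ Spec (CommRingCat.of k))] [CompactSpace X] :
    ∃ E : IntermediateField k (SeparableClosure k), FiniteDimensional k E ∧
      ∀ x' : Curv2.bc k X E, ∃ T : (Curv2.bc k X E).Opens,
        x' ∈ T ∧ GeometricallyConnected (T.ι ≫ Curv2.bcSnd k X E) := by
  haveI : IsLocallyNoetherian X := LocallyOfFiniteType.isLocallyNoetherian (X ↘ Spec (CommRingCat.of k))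
  haveI : IsNoetherian X := {}
  haveI := finite_connectedComponents X
  obtain ⟨E, hE, hconn⟩ := H52.FBase.ComponentsSep.exists_finite_separable k X fun c => by
    obtain ⟨x, rfl⟩ := _root_.ConnectedComponents.surjective_coe c
    exact ⟨x, rfl, S1654.finiteDimensional_separableClosure k X x⟩
  refine ⟨E, hE, fun x' => ?_⟩
  haveI : LocallyOfFiniteType (Curv2.bcSnd k X E) := MorphismProperty.pullback_snd _ _ inferInstance
  haveI : QuasiCompact (X ↘ Spec (CommRingCat.of k)) := (quasiCompact_iff_compactSpace _).2 inferInstance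
  haveI : QuasiCompact (Curv2.bcSnd k X E) := MorphismProperty.pullback_snd _ _ inferInstance
  haveI : IsLocallyNoetherian (Curv2.bc k X E) := LocallyOfFiniteType.isLocallyNoetherian (Curv2.bcSnd k X E)
  haveI : CompactSpace (Curv2.bc k X E) := QuasiCompact.compactSpace_of_compactSpace (Curv2.bcSnd k X E)
  haveI : IsNoetherian (Curv2.bc k X E) := {}
  haveI := finite_connectedComponents (Curv2.bc k X E)
  let T : (Curv2.bc k X E).Opens :=
    ⟨connectedComponent x', H52.FBase.ComponentsSep.isOpen_connectedComponent_of_finite x'⟩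
  refine ⟨T, mem_connectedComponent, ⟨fun K _ t P a b H => ?_⟩⟩
  haveI : Algebra.IsSeparable E (SeparableClosure k) :=
    Algebra.isSeparable_tower_top_of_isSeparable k E (SeparableClosure k)
  obtain ⟨φ, rfl⟩ := Spec.map_surjective t
  letI : Algebra E K := φ.hom.toAlgebra
  have hK := H52.FBase.ComponentsSep.isConnected_preimage_bc k X E (SeparableClosure k)
    isClosed_connectedComponent (hconn x') K
  let g := Spec.map φ
  have hm : IsPullback a (pullback.lift (f := Curv2.bcSnd k X E) (g := g) (a ≫ T.ι) b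
      (by rw [Category.assoc]; exact H.w)) T.ι (pullback.fst (Curv2.bcSnd k X E) g) :=
    IsPullback.of_bot (by rw [pullback.lift_snd]; exact H) (pullback.lift_fst _ _ _).symm
      (IsPullback.of_hasPullback _ _)
  set m := pullback.lift (f := Curv2.bcSnd k X E) (g := g) (a ≫ T.ι) b
    (by rw [Category.assoc]; exact H.w) with hmdef
  haveI : IsOpenImmersion m := MorphismProperty.of_isPullback hm inferInstance
  have hrange : Set.range m = pullback.fst (Curv2.bcSnd k X E) g ⁻¹' connectedComponent x' := by
    ext w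
    constructor
    · rintro ⟨z, rfl⟩
      show pullback.fst (Curv2.bcSnd k X E) g (m z) ∈ connectedComponent x'
      rw [← Scheme.Hom.comp_apply, hmdef, pullback.lift_fst, Scheme.Hom.comp_apply]
      exact (a z).2
    · intro hw
      obtain ⟨z, -, hz⟩ := Scheme.exists_preimage_of_isPullback hm ⟨_, hw⟩ w rfl
      exact ⟨z, hz⟩
  haveI : ConnectedSpace ↥(Set.range m) := isConnected_iff_connectedSpace.mp (hrange ▸ hK)
  exact m.isOpenEmbedding.isEmbedding.toHomeomorph.connectedSpace_iff.mpr inferInstance

/-- Étale neighbourhood of the base over which a point of the fibre has a geometrically connected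
open neighbourhood. -/
theorem exists_nbhd_connected {X S : Scheme.{u}} (f : X ⟶ S) [LocallyOfFiniteType f] [QuasiCompact f]
    (x : X) (s : S) (hs : f x = s) :
    ∃ (U : Scheme.{u}) (g : U ⟶ S) (u : U), Etale g ∧ ∃ T : ((pullback.snd f g).fiber u).Opens,
      GeometricallyConnected (T.ι ≫ (pullback.snd f g).fiberToSpecResidueField u) ∧
      ∃ w ∈ T, pullback.fst f g ((pullback.snd f g).fiberι u w) = x := by
  subst hs
  let π := f.fiberToSpecResidueField (f x)
  haveI : LocallyOfFiniteType π := MorphismProperty.pullback_snd _ _ inferInstance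
  haveI : QuasiCompact π := MorphismProperty.pullback_snd _ _ inferInstance
  let k := S.residueField (f x)
  letI : (f.fiber (f x)).Over (Spec (CommRingCat.of k)) := ⟨π⟩
  haveI : LocallyOfFiniteType (f.fiber (f x) ↘ Spec (CommRingCat.of k)) := ‹LocallyOfFiniteType π›
  haveI : CompactSpace (f.fiber (f x)) := QuasiCompact.compactSpace_of_compactSpace π
  obtain ⟨E, hE, hT⟩ := exists_separable_connected k (f.fiber (f x))
  haveI : Algebra.IsSeparable k E := Algebra.isSeparable_tower_bot_of_isSeparable k E (SeparableClosure k)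
  obtain ⟨U, g, u, hu, hg, e, he, hcomp⟩ := H56.SepExt.exists_etale_nbhd_residueField S (f x) E
  refine ⟨U, g, u, hg, ?_⟩
  haveI : IsIso e := (ConcreteCategory.isIso_iff_bijective e).2 he
  let h := pullback.snd f g
  let ε := Spec.map e
  have hε : ε ≫ U.fromSpecResidueField u ≫ g =
      Spec.map (CommRingCat.ofHom (algebraMap k E)) ≫ S.fromSpecResidueField (f x) := by
    rw [← hcomp]
    simp only [ε, Spec.map_comp, Category.assoc, Scheme.residueFieldCongr_inv,
      Scheme.residueFieldCongr_fromSpecResidueField,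
      Scheme.Hom.SpecMap_residueFieldMap_fromSpecResidueField]
  let B := Curv2.bc k (f.fiber (f x)) E
  let bf : B ⟶ f.fiber (f x) := Curv2.bcFst k (f.fiber (f x)) E
  let bs : B ⟶ Spec (CommRingCat.of E) := Curv2.bcSnd k (f.fiber (f x)) E
  have hB : IsPullback (bf ≫ f.fiberι (f x)) bs f
      (Spec.map (CommRingCat.ofHom (algebraMap k E)) ≫ S.fromSpecResidueField (f x)) :=
    (IsPullback.of_hasPullback π _).paste_horiz (IsPullback.of_hasPullback f (S.fromSpecResidueField (f x)))
  have hF : IsPullback (h.fiberι u ≫ pullback.fst f g) (h.fiberToSpecResidueField u) f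
      (U.fromSpecResidueField u ≫ g) :=
    (IsPullback.of_hasPullback h (U.fromSpecResidueField u)).paste_horiz (IsPullback.of_hasPullback f g)
  let m : B ⟶ h.fiber u := hF.lift (bf ≫ f.fiberι (f x)) (bs ≫ ε) (by rw [hB.w, Category.assoc, hε])
  have hm : IsPullback m bs (h.fiberToSpecResidueField u) ε := by
    refine IsPullback.of_right ?_ (hF.lift_snd _ _ _) hF
    rw [hε, hF.lift_fst]
    exact hB
  haveI : IsIso m := hm.isIso_fst_of_isIso
  obtain ⟨x', hx', -⟩ := Scheme.Pullback.exists_preimage_pullback (f := π)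
    (g := Spec.map (CommRingCat.ofHom (algebraMap k E))) (f.asFiber x) (IsLocalRing.closedPoint _)
    (Subsingleton.elim (α := PrimeSpectrum k) _ _)
  obtain ⟨T, hxT, hTc⟩ := hT x'
  refine ⟨inv m ⁻¹ᵁ T, ?_, m x', ?_, ?_⟩
  · haveI : IsIso ε := by dsimp [ε]; infer_instance
    have := (isPullback_morphismRestrict (inv m) T).paste_vert
      (IsPullback.of_horiz_isIso (fst := inv m) (snd := h.fiberToSpecResidueField u) (f := bs) (g := inv ε)
        ⟨by rw [← cancel_epi m, IsIso.hom_inv_id_assoc, ← Category.assoc, hm.w, Category.assoc,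
          IsIso.hom_inv_id, Category.comp_id]⟩)
    exact MorphismProperty.of_isPullback this hTc
  · show inv m (m x') ∈ T
    rw [← Scheme.Hom.comp_apply, IsIso.hom_inv_id]
    exact hxT
  · rw [← Scheme.Hom.comp_apply, ← Scheme.Hom.comp_apply, hF.lift_fst, Scheme.Hom.comp_apply]
    exact (congrArg (f.fiberι (f x)) hx').trans (f.fiberι_asFiber x)

theorem etale_cover {X S : Scheme.{u}} (f : X ⟶ S) [Flat f] [LocallyOfFinitePresentation f]
    [GeometricallyReduced f] (x : X) :
    ∃ (X' S' : Scheme.{u}) (a : X' ⟶ X) (b : X' ⟶ S') (c : S' ⟶ S), Etale a ∧ x ∈ Set.range ⇑a ∧ Etale c ∧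
      a ≫ f = b ≫ c ∧ Flat b ∧ LocallyOfFinitePresentation b ∧ QuasiCompact b ∧ QuasiSeparated b ∧
      GeometricallyConnected b ∧ GeometricallyReduced b := by
  obtain ⟨S₀, hS₀, hs₀, -⟩ := exists_isAffineOpen_mem_and_subset (show f x ∈ (⊤ : S.Opens) from trivial)
  obtain ⟨X₀, hX₀, hx₀, hle⟩ := exists_isAffineOpen_mem_and_subset (show x ∈ f ⁻¹ᵁ S₀ from hs₀)
  haveI : IsAffine (S₀ : Scheme.{u}) := hS₀
  haveI : IsAffine (X₀ : Scheme.{u}) := hX₀
  let f₀ := f.resLE S₀ X₀ hle
  haveI : Flat f₀ := by dsimp [f₀, Scheme.Hom.resLE]; infer_instance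
  haveI : LocallyOfFinitePresentation f₀ := by dsimp [f₀, Scheme.Hom.resLE]; infer_instance
  haveI : GeometricallyReduced (f ∣_ S₀) :=
    MorphismProperty.of_isPullback (isPullback_morphismRestrict f S₀).flip ‹GeometricallyReduced f›
  haveI : GeometricallyReduced f₀ := SpreadConnected.geometricallyReduced_comp _ _
  obtain ⟨U, g, u, hg, T, hTc, w, hwT, hwx⟩ := exists_nbhd_connected f₀ ⟨x, hx₀⟩ _ rfl
  haveI := hg
  let h := pullback.snd f₀ g
  obtain ⟨S', g', s', hS', hg', V, hVc, hVconn, hV⟩ := SpreadConnected.spread h u T hTc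
  haveI := hg'.etale
  haveI := hVconn
  obtain ⟨y, hy₁, hy₂⟩ := Scheme.Pullback.exists_preimage_pullback (f := h) (g := g') (h.fiberι u w) s'
    ((SpreadConnected.fiberι_apply h u w).trans hg'.base_eq.symm)
  have hyV : y ∈ V := (hV y hy₂).2 ⟨w, hwT, hy₁.symm⟩
  refine ⟨V, S', V.ι ≫ pullback.fst h g' ≫ pullback.fst f₀ g ≫ X₀.ι, V.ι ≫ pullback.snd h g',
    g' ≫ g ≫ S₀.ι, inferInstance, ⟨⟨y, hyV⟩, ?_⟩, inferInstance, ?_, inferInstance, inferInstance, ?_,
    inferInstance, hVconn, SpreadConnected.geometricallyReduced_comp _ _⟩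
  · show X₀.ι (pullback.fst f₀ g (pullback.fst h g' y)) = x
    rw [hy₁, hwx]
    rfl
  · simp only [Category.assoc]
    rw [show X₀.ι ≫ f = f₀ ≫ S₀.ι from (Scheme.Hom.resLE_comp_ι f hle).symm, pullback.condition_assoc]
    rw [show pullback.snd f₀ g = h from rfl, pullback.condition_assoc]
  · haveI := hS'
    haveI : CompactSpace (V : Scheme.{u}) := isCompact_iff_compactSpace.1 hVc
    exact (quasiCompact_iff_compactSpace _).2 inferInstance

end Groth.Agent.Lib.Flat55.EtaleCoverConnected
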