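import Groth.Agent.Lib.Flat55.SliceSeqScheme
import Groth.Agent.Lib.Flat55.FibrewiseStalk
import Groth.Agent.Lib.Cyc.SmoothReg
import Groth.Agent.Lib.Cyc.Residue
import Groth.Agent.Lib.Regular.Quotient
import Groth.Agent.Lib.Unram.StalkTower
import Groth.Agent.Lib.Unram.AtPrime
import Mathlib.AlgebraicGeometry.Morphisms.QuasiFinite
import Mathlib.AlgebraicGeometry.Morphisms.Etale
import Mathlib.RingTheory.Unramified.LocalStructure

/-!
# Étale slices of smooth morphisms
-/

set_option autoImplicit false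

universe u

open CategoryTheory CategoryTheory.Limits AlgebraicGeometry TopologicalSpace IsLocalRing
open RingTheory.Sequence

namespace Groth.Agent.Lib.Flat55.EtaleSlice

theorem finite_of_separable {K L : Type u} [Field K] [Field L] [Algebra K L] [Algebra.EssFiniteType K L]
    [Algebra.IsSeparable K L] : Module.Finite K L :=
  Algebra.finite_of_essFiniteType_of_isAlgebraic

set_option backward.isDefEq.respectTransparency false in
set_option maxHeartbeats 1000000 in
theorem exists_slice {X S : Scheme.{u}} (f : X ⟶ S) [Smooth f] (x : X)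
    (hsep : @Algebra.IsSeparable (S.residueField (f x)) (X.residueField x) _ _ (f.residueFieldMap x).hom.toAlgebra) :
    ∃ (Z : Scheme.{u}) (i : Z ⟶ X) (z : Z), IsImmersion i ∧ Etale (i ≫ f) ∧ i z = x ∧
      ∀ z' : ↑Z, f (i z') = f x → z' = z := by
  let T := (f.fiber (f x)).presheaf.stalk (f.asFiber x)
  have : Smooth (f.fiberToSpecResidueField (f x)) := MorphismProperty.pullback_snd _ _ inferInstance
  have hT : IsRegularLocalRing T :=
    Cyc.SmoothReg.isRegularLocalRing_stalk (k := S.residueField (f x)) (f.fiberToSpecResidueField (f x)) _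
  obtain ⟨hk, hsurj⟩ := FibrewiseStalk.ker_stalkMap_fiberι' f (f x) (f.asFiber x) x (f.fiberι_asFiber x)
  set q : X.presheaf.stalk x →+* T :=
    ((X.presheaf.stalkCongr (.of_eq (f.fiberι_asFiber x).symm)).hom ≫
      (f.fiberι (f x)).stalkMap (f.asFiber x)).hom
  have hfg : (maximalIdeal T).FG := IsNoetherian.noetherian _
  obtain ⟨t, htcard, htfin, htspan⟩ : ∃ t : Set T, t.ncard = (maximalIdeal T).spanFinrank ∧ t.Finite ∧
      Ideal.span t = maximalIdeal T := by
    obtain ⟨t, h1, h2⟩ := Submodule.FG.exists_span_set_encard_eq_spanFinrank hfg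
    have hfin : t.Finite := Set.finite_of_encard_eq_coe h1
    exact ⟨t, by rw [Set.ncard_def, h1, ENat.toNat_natCast], hfin, h2⟩
  let rs := htfin.toFinset.toList
  have hspan : Ideal.ofList rs = maximalIdeal T := by
    rw [← htspan, Ideal.ofList]
    congr 1
    ext z
    simp [rs]
  have hreg : RingTheory.Sequence.IsRegular T rs := Regular.Quotient.isRegular_of_span_eq_maximalIdeal rs hspan
    (by rw [Finset.length_toList, ← Set.ncard_eq_toFinset_card t htfin, htcard])
  obtain ⟨hs, hhs⟩ : ∃ hs : List (X.presheaf.stalk x), hs.map q = rs := by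
    refine ⟨rs.map (Function.surjInv hsurj), ?_⟩
    rw [List.map_map]
    exact (List.map_congr_left fun z _ ↦ Function.surjInv_eq hsurj z).trans (List.map_id rs)
  have hsm : ∀ h ∈ hs, h ∈ maximalIdeal (X.presheaf.stalk x) := fun h hh hu ↦
    (hspan ▸ Ideal.subset_span (hhs ▸ List.mem_map_of_mem hh) : q h ∈ maximalIdeal T) (hu.map q)
  have hmax : maximalIdeal (X.presheaf.stalk x) ≤ Ideal.ofList hs ⊔ RingHom.ker q := by
    intro y hy
    have : IsLocalHom q := Function.Surjective.isLocalHom q hsurj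
    have h1 : q y ∈ maximalIdeal T := fun hu ↦ hy (isUnit_of_map_unit q y hu)
    rw [← hspan, ← hhs, ← Ideal.map_ofList] at h1
    rwa [← Ideal.mem_comap, Ideal.comap_map_of_surjective q hsurj, ← RingHom.ker_eq_comap_bot] at h1
  let J := Ideal.map (f.stalkMap x).hom (maximalIdeal (S.presheaf.stalk (f x)))
  let e : X.presheaf.stalk x ⧸ J ≃+* T :=
    (Ideal.quotEquivOfEq hk.symm).trans (RingHom.quotientKerEquivOfSurjective hsurj)
  have he : ∀ y, e (Ideal.Quotient.mk J y) = q y := fun y ↦ rfl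
  have hregF : IsWeaklyRegular (X.presheaf.stalk x ⧸ J) (hs.map (Ideal.Quotient.mk J)) := by
    refine (AddEquiv.isWeaklyRegular_congr (e := e.toAddEquiv) (bs := rs) ?_).2 hreg.toIsWeaklyRegular
    rw [← hhs, List.forall₂_map_left_iff, List.forall₂_map_right_iff, List.forall₂_same]
    intro r _ y
    change e (Ideal.Quotient.mk J r * y) = q r * e y
    rw [map_mul, he]
  obtain ⟨U, hU, hxU, hs', hgerm, -, hrange, hgflat, hglfp, -⟩ :=
    SliceSeqScheme.exists_slices f x ((Flat.iff_flat_stalkMap f).1 inferInstance x) hs hsm hregF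
  let I := Ideal.ofList hs'
  let Z := Spec (CommRingCat.of (Γ(X, U) ⧸ I))
  let mk : Z ⟶ Spec Γ(X, U) := Spec.map (CommRingCat.ofHom (Ideal.Quotient.mk I))
  let j : Z ⟶ X := mk ≫ hU.fromSpec
  have : IsClosedImmersion mk := IsClosedImmersion.spec_of_surjective _ Ideal.Quotient.mk_surjective
  have : IsImmersion j := inferInstanceAs (IsImmersion (mk ≫ hU.fromSpec))
  let g : Z ⟶ S := j ≫ f
  have hg : g = mk ≫ hU.fromSpec ≫ f := Category.assoc _ _ _
  have : Flat g := hg ▸ hgflat
  have : LocallyOfFinitePresentation g := hg ▸ hglfp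
  obtain ⟨z₀, hz₀⟩ := hrange
  change j z₀ = x at hz₀
  subst hz₀
  let σ := (j.stalkMap z₀).hom
  have hσ : Function.Surjective σ := j.stalkMap_surjective z₀
  have hσI : ∀ h ∈ hs, σ h = 0 := by
    intro h hh
    obtain ⟨s, hs₁, rfl⟩ := List.mem_map.1 (hgerm.symm ▸ hh : h ∈ hs'.map (X.presheaf.germ U (j z₀) hxU))
    have h0 : j.app U s = 0 := by
      change (hU.fromSpec.app U ≫ mk.app _) s = 0
      rw [hU.fromSpec_app_self, Category.assoc, Scheme.Hom.naturality]
      simp only [ConcreteCategory.comp_apply]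
      have hz : mk.appTop ((Scheme.ΓSpecIso Γ(X, U)).inv s) = 0 := by
        have hn := congr($(Scheme.ΓSpecIso_inv_naturality (CommRingCat.ofHom (Ideal.Quotient.mk I))) s)
        simp only [ConcreteCategory.comp_apply] at hn
        refine hn.symm.trans ?_
        rw [show CommRingCat.ofHom (Ideal.Quotient.mk I) s = 0 from
          Ideal.Quotient.eq_zero_iff_mem.2 (Ideal.subset_span hs₁), map_zero]
      change (Z.presheaf.map _) (mk.appTop ((Scheme.ΓSpecIso Γ(X, U)).inv s)) = 0
      rw [hz, map_zero]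
    change j.stalkMap z₀ (X.presheaf.germ U (j z₀) hxU s) = 0
    rw [Scheme.Hom.germ_stalkMap_apply, h0, map_zero]
  have hm : (maximalIdeal (S.presheaf.stalk (g z₀))).map (g.stalkMap z₀).hom = maximalIdeal (Z.presheaf.stalk z₀) := by
    refine le_antisymm (Ideal.map_le_iff_le_comap.2 fun y hy hu ↦ hy (isUnit_of_map_unit (g.stalkMap z₀).hom y hu)) ?_
    rw [← IsLocalRing.map_maximalIdeal_of_surjective (f := σ) hσ, show (g.stalkMap z₀).hom =
      σ.comp (f.stalkMap (j z₀)).hom by rw [Scheme.Hom.stalkMap_comp]; rfl, ← Ideal.map_map]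
    refine (Ideal.map_mono hmax).trans ?_
    rw [Ideal.map_sup, hk]
    refine sup_le (Ideal.map_le_iff_le_comap.2 (Ideal.span_le.2 fun y hy ↦ ?_)) le_rfl
    rw [SetLike.mem_coe, Ideal.mem_comap, hσI y hy]
    exact zero_mem _
  have hu : (g.stalkMap z₀).hom.FormallyUnramified := by
    rw [Unram.StalkTower.formallyUnramified_stalkMap_iff]
    refine ⟨hm, ?_⟩
    let : Algebra (S.residueField (f (j z₀))) (X.residueField (j z₀)) := (f.residueFieldMap (j z₀)).hom.toAlgebra
    have : Algebra.EssFiniteType (S.residueField (f (j z₀))) (X.residueField (j z₀)) :=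
      RingHom.essFiniteType_algebraMap.1 (Cyc.Residue.residueFieldMap_essFiniteType (f := f) (j z₀))
    have : Module.Finite (S.residueField (f (j z₀))) (X.residueField (j z₀)) := finite_of_separable
    let : Algebra (S.residueField (g z₀)) (X.residueField (j z₀)) := (f.residueFieldMap (j z₀)).hom.toAlgebra
    let : Algebra (S.residueField (g z₀)) (Z.residueField z₀) := (g.residueFieldMap z₀).hom.toAlgebra
    let : Algebra (S.residueField (f (j z₀))) (Z.residueField z₀) := (g.residueFieldMap z₀).hom.toAlgebra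
    have hcomp : (g.residueFieldMap z₀).hom = (j.residueFieldMap z₀).hom.comp (f.residueFieldMap (j z₀)).hom := by
      rw [Scheme.residueFieldMap_comp]; rfl
    have hb : Function.Bijective (j.residueFieldMap z₀).hom := by
      refine ⟨(j.residueFieldMap z₀).hom.injective, fun y ↦ ?_⟩
      obtain ⟨y, rfl⟩ := Z.residue_surjective z₀ y
      obtain ⟨w, rfl⟩ := j.stalkMap_surjective z₀ y
      refine ⟨X.residue (j z₀) w, ?_⟩
      exact (congrArg (fun φ ↦ φ.hom w) (Scheme.residue_residueFieldMap j z₀) :)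
    let ε : X.residueField (j z₀) ≃ₐ[S.residueField (f (j z₀))] Z.residueField z₀ :=
      AlgEquiv.ofBijective
        { (j.residueFieldMap z₀).hom with commutes' := fun r ↦ (DFunLike.congr_fun hcomp r).symm } hb
    have : Module.Finite (S.residueField (g z₀)) (X.residueField (j z₀)) :=
      ‹Module.Finite (S.residueField (f (j z₀))) (X.residueField (j z₀))›
    have : Algebra.IsSeparable (S.residueField (g z₀)) (X.residueField (j z₀)) := hsep
    exact ⟨Module.Finite.equiv ε.toLinearEquiv, Algebra.IsSeparable.of_equiv_equiv (.refl _) ε.toRingEquiv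
      (RingHom.ext fun r ↦ (ε.commutes r).symm)⟩
  obtain ⟨W, hW, hWet⟩ := (Unram.AtPrime.exists_etale_nhd_iff g z₀).2 ⟨(Flat.iff_flat_stalkMap g).1 inferInstance z₀, hu⟩
  have hqf : g.QuasiFiniteAt z₀ := by
    let : Algebra (S.presheaf.stalk (g z₀)) (Z.presheaf.stalk z₀) := (g.stalkMap z₀).hom.toAlgebra
    have : Algebra.EssFiniteType (S.presheaf.stalk (g z₀)) (Z.presheaf.stalk z₀) :=
      RingHom.essFiniteType_algebraMap.1 (LocallyOfFiniteType.stalkMap g z₀)
    have : Algebra.FormallyUnramified (S.presheaf.stalk (g z₀)) (Z.presheaf.stalk z₀) :=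
      RingHom.formallyUnramified_algebraMap.1 hu
    exact RingHom.quasiFinite_algebraMap.2 inferInstance
  have hopf := Scheme.Hom.quasiFiniteAt_iff_isOpen_singleton_asFiber.1 hqf
  rw [← (g.fiberHomeo (g z₀)).isOpen_image, Set.image_singleton, Scheme.Hom.asFiber,
    Homeomorph.apply_symm_apply, isOpen_induced_iff] at hopf
  obtain ⟨W₁, hW₁o, hW₁⟩ := hopf
  have hz : z₀ ∈ W₁ := by
    have h : (⟨z₀, rfl⟩ : g ⁻¹' {g z₀}) ∈ Subtype.val ⁻¹' W₁ := by rw [hW₁]; rfl
    exact h
  let W' : Z.Opens := W ⊓ ⟨W₁, hW₁o⟩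
  refine ⟨W', W'.ι ≫ j, ⟨z₀, hW, hz⟩, inferInstance, ?_, rfl, fun z' h ↦ ?_⟩
  · have : Etale (Z.homOfLE (inf_le_left : W' ≤ W) ≫ W.ι ≫ g) :=
      MorphismProperty.comp_mem @Etale _ _ inferInstance hWet
    rw [Scheme.homOfLE_ι_assoc] at this
    rwa [Category.assoc]
  · have h' : (⟨z'.1, h⟩ : g ⁻¹' {g z₀}) ∈ Subtype.val ⁻¹' W₁ := z'.2.2
    rw [hW₁] at h'
    exact Subtype.ext (congrArg Subtype.val (Set.mem_singleton_iff.1 h') :)

end Groth.Agent.Lib.Flat55.EtaleSlice
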