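import Groth.Agent.Lib.Regular.Descent
import Groth.Agent.Lib.HilbD.Content
import Groth.Agent.Lib.Excellent.CompletionNoetherian
import Mathlib.RingTheory.AdicCompletion.AsTensorProduct
import Mathlib.RingTheory.AdicCompletion.LocalRing
import Mathlib.AlgebraicGeometry.Morphisms.Flat
import Mathlib.Algebra.Category.Ring.Constructions

/-!
# Regularity on the closed fibre is unchanged by completing the base
-/

set_option autoImplicit false

universe u

open CategoryTheory CategoryTheory.Limits AlgebraicGeometry TopologicalSpace TensorProduct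
open IsLocalRing Groth.Agent.Lib

namespace Groth.Agent.Lib.Flat55.CompletionFibreRegular

variable {A A' : Type u} [CommRing A] [CommRing A'] [Algebra A A'] [IsLocalRing A] [IsLocalRing A']
  {X : Scheme.{u}} (f : X ⟶ Spec (CommRingCat.of A))

/-- The structure map on sections. -/
noncomputable def sec {A : Type u} [CommRing A] {X : Scheme.{u}} (f : X ⟶ Spec (CommRingCat.of A))
    (U : X.Opens) : CommRingCat.of A ⟶ Γ(X, U) :=
  (Scheme.ΓSpecIso (CommRingCat.of A)).inv ≫ f.appLE ⊤ U fun _ _ => trivial

theorem isUnit_germ_sec_iff {U : X.Opens} (x : X) (hx : x ∈ U) (a : A) :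
    IsUnit (X.presheaf.germ U x hx (sec f U a)) ↔ a ∉ (f x : PrimeSpectrum A).asIdeal := by
  rw [← Scheme.mem_basicOpen X (sec f U a) x hx]
  show x ∈ X.basicOpen (f.appLE ⊤ U _ ((Scheme.ΓSpecIso (CommRingCat.of A)).inv a)) ↔ _
  rw [Scheme.Hom.appLE, CommRingCat.comp_apply, Scheme.basicOpen_res, ← Scheme.preimage_basicOpen,
    basicOpen_eq_of_affine', Iso.inv_hom_id_apply]
  exact ⟨fun h => h.2, fun h => ⟨hx, h⟩⟩

variable (hres : ∀ a : A', ∃ a₀ : A, a - algebraMap A A' a₀ ∈ (maximalIdeal A).map (algebraMap A A'))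
  [IsLocalHom (algebraMap A A')]

include hres in
theorem maximalIdeal_map_eq
    (y : ↥(pullback f (Spec.map (CommRingCat.ofHom (algebraMap A A')))))
    (hy : (pullback.snd f (Spec.map (CommRingCat.ofHom (algebraMap A A')))) y = closedPoint A') :
    (maximalIdeal _).map ((pullback.fst f (Spec.map (CommRingCat.ofHom (algebraMap A A')))).stalkMap y).hom =
      maximalIdeal _ := by
  let g := Spec.map (CommRingCat.ofHom (algebraMap A A'))
  let q := pullback.fst f g
  let s := pullback.snd f g
  let φ := q.stalkMap y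
  have : IsLocalHom φ.hom := inferInstance
  refine le_antisymm (Ideal.map_le_iff_le_comap.2 fun a ha => map_nonunit φ.hom a ha) ?_
  obtain ⟨U, hU, hxU, -⟩ := exists_isAffineOpen_mem_and_subset (x := q y) (U := ⊤) trivial
  have : IsAffineHom g := isAffineHom_of_isAffine _
  have : IsAffineHom q := MorphismProperty.pullback_fst _ _ this
  let W := q ⁻¹ᵁ U
  have hW : IsAffineOpen W := hU.preimage q
  let M := Γ(pullback f g, W)
  let B := Γ(X, U)
  let : Algebra A B := (sec f U).hom.toAlgebra
  let : Algebra A' M := (sec s W).hom.toAlgebra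
  let : Algebra B M := (q.app U).hom.toAlgebra
  let : Algebra A M := ((algebraMap A' M).comp (algebraMap A A')).toAlgebra
  have : IsScalarTower A A' M := IsScalarTower.of_algebraMap_eq fun _ => rfl
  have hpo : IsPushout (sec f U) (CommRingCat.ofHom (algebraMap A A')) (q.app U) (sec s W) := by
    have h := HilbD.Content.isPushout_appLE (IsPullback.of_hasPullback f g).flip ⟨⊤, isAffineOpen_top _⟩
      ⟨U, hU⟩ (fun _ _ => trivial) (fun _ _ => trivial)
    refine h.of_iso (Scheme.ΓSpecIso (CommRingCat.of A)) (Iso.refl _) (Scheme.ΓSpecIso (CommRingCat.of A'))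
      (Iso.refl _) ?_ ?_ ?_ ?_
    · simp [sec]
    · exact Scheme.ΓSpecIso_naturality (CommRingCat.ofHom (algebraMap A A'))
    · simp [q]
    · simp [sec, s, W, q]
  have : IsScalarTower A B M := IsScalarTower.of_algebraMap_eq' (congrArg CommRingCat.Hom.hom hpo.w.symm)
  have hp : Algebra.IsPushout A A' B M := CommRingCat.isPushout_iff_isPushout.1 hpo.flip
  let I := (maximalIdeal (X.presheaf.stalk (q y))).map φ.hom
  let germM := (pullback f g).presheaf.germ W y hxU
  let germB := X.presheaf.germ U (q y) hxU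
  have hgerm : ∀ b : B, φ (germB b) = germM (algebraMap B M b) := fun b =>
    congr(($(q.germ_stalkMap U y hxU)).hom b)
  have hm : ∀ a ∈ maximalIdeal A, germM (algebraMap A' M (algebraMap A A' a)) ∈ I := by
    intro a ha
    have h1 : algebraMap A' M (algebraMap A A' a) = algebraMap B M (algebraMap A B a) :=
      congr(($(hpo.w.symm)).hom a)
    rw [h1, ← hgerm]
    refine Ideal.mem_map_of_mem _ ?_
    show ¬ IsUnit (germB (algebraMap A B a))
    rw [show algebraMap A B a = sec f U a from rfl, isUnit_germ_sec_iff f (q y) hxU a, not_not]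
    have hfx : f (q y) = g (s y) := by
      rw [← Scheme.Hom.comp_apply, ← Scheme.Hom.comp_apply, pullback.condition]
    rw [hfx, show s y = closedPoint A' from hy]
    exact map_nonunit (algebraMap A A') a ha
  have hA' : ∀ r ∈ (maximalIdeal A).map (algebraMap A A'), germM (algebraMap A' M r) ∈ I := by
    intro r hr
    have h : (maximalIdeal A).map (algebraMap A A') ≤ I.comap (germM.hom.comp (algebraMap A' M)) :=
      Ideal.map_le_iff_le_comap.2 fun a ha => hm a ha
    exact h hr
  have key : ∀ z : M, ∃ b : B, germM z - φ (germB b) ∈ I := by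
    intro z
    obtain ⟨t, rfl⟩ := (Algebra.IsPushout.equiv A A' B M).surjective z
    induction t with
    | zero => exact ⟨0, by simp⟩
    | add t u ht hu =>
      obtain ⟨b, hb⟩ := ht
      obtain ⟨c, hc⟩ := hu
      refine ⟨b + c, ?_⟩
      rw [map_add, map_add, map_add, map_add, add_sub_add_comm]
      exact I.add_mem hb hc
    | tmul a b =>
      obtain ⟨a₀, ha₀⟩ := hres a
      refine ⟨algebraMap A B a₀ * b, ?_⟩
      rw [Algebra.IsPushout.equiv_tmul, hgerm, map_mul (algebraMap B M), ← IsScalarTower.algebraMap_apply A B M,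
        IsScalarTower.algebraMap_apply A A' M, map_mul, map_mul, ← sub_mul, ← map_sub germM.hom,
        ← map_sub (algebraMap A' M)]
      exact I.mul_mem_right _ (hA' _ ha₀)
  intro w hw
  let : Algebra M ((pullback f g).presheaf.stalk y) := (pullback f g).presheaf.algebra_section_stalk ⟨y, hxU⟩
  have : IsLocalization.AtPrime ((pullback f g).presheaf.stalk y) (hW.primeIdealOf ⟨y, hxU⟩).asIdeal :=
    hW.isLocalization_stalk ⟨y, hxU⟩
  obtain ⟨⟨z, c⟩, hzc⟩ := IsLocalization.surj (hW.primeIdealOf ⟨y, hxU⟩).asIdeal.primeCompl w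
  have hu : IsUnit (algebraMap M ((pullback f g).presheaf.stalk y) c) := IsLocalization.map_units _ c
  have hz : germM z ∈ maximalIdeal _ := by
    show algebraMap M _ z ∈ _
    rw [← hzc]
    exact Ideal.mul_mem_right _ _ hw
  obtain ⟨b, hb⟩ := key z
  have hle : I ≤ maximalIdeal _ := Ideal.map_le_iff_le_comap.2 fun a ha => map_nonunit φ.hom a ha
  have hbn : φ (germB b) ∈ maximalIdeal _ := by
    have h := Ideal.sub_mem _ hz (hle hb)
    rwa [sub_sub_cancel] at h
  have hbx : germB b ∈ maximalIdeal _ := fun h => hbn (h.map φ.hom)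
  have hzI : germM z ∈ I := by
    have h := I.add_mem hb (Ideal.mem_map_of_mem φ.hom hbx)
    rwa [sub_add_cancel] at h
  refine (Ideal.mul_unit_mem_iff_mem _ hu).1 ?_
  rw [hzc]
  exact hzI

end Groth.Agent.Lib.Flat55.CompletionFibreRegular
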