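import Groth.Agent.Lib.Cohen.Unramified
import Groth.Agent.Lib.Flat55.CompletionFibreRegular
import Groth.Agent.Lib.Normalization.InField
import Groth.Agent.S0566
import Groth.Prelude.Def_Curv2
import Mathlib.RingTheory.Localization.BaseChange
import Mathlib.RingTheory.LocalProperties.Reduced

/-!
# Finite normalization from reducedness after completion
-/

set_option autoImplicit false

universe u

open CategoryTheory CategoryTheory.Limits AlgebraicGeometry TopologicalSpace TensorProduct
open IsLocalRing Groth.Agent.Lib Groth.Agent.Lib.Flat55.CompletionFibreRegular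

namespace Groth.Agent.Lib.Flat55.AnalyticFiniteNormalization

theorem isReduced_tensor_fractionRing {B C K : Type u} [CommRing B] [IsDomain B] [CommRing C] [Algebra B C]
    [Field K] [Algebra B K] [IsFractionRing B K] [_root_.IsReduced C] : _root_.IsReduced (C ⊗[B] K) :=
  isReduced_of_injective _ (IsLocalization.algEquiv (Algebra.algebraMapSubmonoid C (nonZeroDivisors B))
    (C ⊗[B] K) (Localization (Algebra.algebraMapSubmonoid C (nonZeroDivisors B)))).injective

/-- Finiteness of the integral closure of a domain of finite type from reducedness of its completed base change. -/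
theorem finite_integralClosure {A : Type u} [CommRing A] [IsLocalRing A] [IsNoetherianRing A]
    {B : Type u} [CommRing B] [IsDomain B] [Algebra A B] [Algebra.FiniteType A B]
    [_root_.IsReduced (B ⊗[A] AdicCompletion (maximalIdeal A) A)] (K : Type u) [Field K] [Algebra B K]
    [IsFractionRing B K] : Module.Finite B (integralClosure B K) := by
  let Ah := AdicCompletion (maximalIdeal A) A
  have : Module.FaithfullyFlat A Ah := Module.FaithfullyFlat.of_flat_of_isLocalHom
  have hN : CAlg.IsNagata (B ⊗[A] Ah) :=
    Cohen.Unramified.isNagata_of_surjective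
      (Groth.Agent.S0566.result Ah (Cohen.Unramified.isNagata_completion A) (Ah ⊗[A] B))
      (Algebra.TensorProduct.comm A Ah B).toRingEquiv.toRingHom
      (Algebra.TensorProduct.comm A Ah B).surjective
  exact Cohen.Unramified.finite_of_isReduced_tensor (B ⊗[A] Ah) hN K K isReduced_tensor_fractionRing

/-- Reducedness can be checked away from a non-zero-divisor. -/
theorem isReduced_of_away {M : Type u} [CommRing M] (s : M) (hs : ∀ z, s * z = 0 → z = 0)
    (h : ∀ q : PrimeSpectrum M, s ∉ q.asIdeal → _root_.IsReduced (Localization.AtPrime q.asIdeal)) :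
    _root_.IsReduced M := by
  refine ⟨fun z hz => ?_⟩
  let I : Ideal M := (Ideal.span {z}).annihilator
  have hs' : s ∈ I.radical := by
    rw [Ideal.radical_eq_sInf, Ideal.mem_sInf]
    rintro q ⟨hIq, hq⟩
    by_contra hsq
    have := h ⟨q, hq⟩ hsq
    have h0 : algebraMap M (Localization.AtPrime q) z = 0 := (hz.map _).eq_zero
    obtain ⟨c, hc⟩ := (IsLocalization.map_eq_zero_iff q.primeCompl _ z).1 h0
    refine c.2 (hIq ?_)
    rw [Submodule.mem_annihilator_span_singleton]
    exact hc
  obtain ⟨n, hn⟩ := hs'
  rw [Submodule.mem_annihilator_span_singleton] at hn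
  clear hz
  induction n with
  | zero => simpa using hn
  | succ n ih => exact ih (hs _ (by rw [smul_eq_mul, pow_succ'] at hn; rw [smul_eq_mul, ← hn, mul_assoc]))

variable {A : Type u} [CommRing A] [IsLocalRing A] [IsNoetherianRing A] {X : Scheme.{u}} [IsIntegral X]
  (f : X ⟶ Spec (CommRingCat.of A)) [LocallyOfFiniteType f]

/-- The map to the spectrum of the base from the completion. -/
noncomputable abbrev cplMap (A : Type u) [CommRing A] [IsLocalRing A] :
    Spec (CommRingCat.of (Curv2.cpl A)) ⟶ Spec (CommRingCat.of A) :=
  Spec.map (CommRingCat.ofHom (algebraMap A (Curv2.cpl A)))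

/-- The completed base change is reduced over an affine open if it is so over a nonempty basic open. -/
theorem isReduced_tensor (U : X.Opens) (hU : IsAffineOpen U) [Nonempty U] (c : Γ(X, U)) (hc : c ≠ 0)
    (h : ∀ y : ↥(Curv2.bcCpl A f), Curv2.bcCplFst A f y ∈ X.basicOpen c →
      _root_.IsReduced ((Curv2.bcCpl A f).presheaf.stalk y)) :
    letI := (sec f U).hom.toAlgebra
    _root_.IsReduced (Γ(X, U) ⊗[A] AdicCompletion (maximalIdeal A) A) := by
  let : Algebra A Γ(X, U) := (sec f U).hom.toAlgebra
  let q := pullback.fst f (cplMap A)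
  let s := pullback.snd f (cplMap A)
  have : IsAffineHom (cplMap A) := isAffineHom_of_isAffine _
  have : IsAffineHom q := MorphismProperty.pullback_fst _ _ this
  let W := q ⁻¹ᵁ U
  have hW : IsAffineOpen W := hU.preimage q
  let M := Γ(pullback f (cplMap A), W)
  let B := Γ(X, U)
  let : Algebra (Curv2.cpl A) M := (sec s W).hom.toAlgebra
  let : Algebra B M := (q.app U).hom.toAlgebra
  let : Algebra A M := ((algebraMap (Curv2.cpl A) M).comp (algebraMap A (Curv2.cpl A))).toAlgebra
  have : IsScalarTower A (Curv2.cpl A) M := IsScalarTower.of_algebraMap_eq fun _ => rfl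
  have hpo : IsPushout (sec f U) (CommRingCat.ofHom (algebraMap A (Curv2.cpl A))) (q.app U) (sec s W) := by
    have h := HilbD.Content.isPushout_appLE (IsPullback.of_hasPullback f (cplMap A)).flip ⟨⊤, isAffineOpen_top _⟩
      ⟨U, hU⟩ (fun _ _ => trivial) (fun _ _ => trivial)
    refine h.of_iso (Scheme.ΓSpecIso (CommRingCat.of A)) (Iso.refl _) (Scheme.ΓSpecIso (CommRingCat.of (Curv2.cpl A)))
      (Iso.refl _) ?_ ?_ ?_ ?_
    · simp [sec]
    · exact Scheme.ΓSpecIso_naturality (CommRingCat.ofHom (algebraMap A (Curv2.cpl A)))
    · simp [q]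
    · simp [sec, s, W, q]
  have : IsScalarTower A B M := IsScalarTower.of_algebraMap_eq' (congrArg CommRingCat.Hom.hom hpo.w.symm)
  have hp : Algebra.IsPushout A B (Curv2.cpl A) M := CommRingCat.isPushout_iff_isPushout.1 hpo
  let e : B ⊗[A] Curv2.cpl A ≃ₐ[B] M := Algebra.IsPushout.equiv A B (Curv2.cpl A) M
  suffices _root_.IsReduced M from isReduced_of_injective e e.injective
  refine isReduced_of_away (algebraMap B M c) (fun z hz => ?_) fun p hp => ?_
  · obtain ⟨w, rfl⟩ := e.surjective z
    rw [← Algebra.smul_def, ← map_smul, map_eq_zero_iff _ e.injective] at hz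
    have hinj : Function.Injective (LinearMap.lsmul B (B ⊗[A] Curv2.cpl A) c) := by
      have : Module.Flat B (B ⊗[A] Curv2.cpl A) := inferInstance
      exact Module.Flat.isSMulRegular_of_isRegular (isRegular_of_ne_zero hc)
    rw [hinj (hz.trans (smul_zero c).symm : _), map_zero]
  · let y := hW.fromSpec p
    have hy : y ∈ W := by
      rw [← SetLike.mem_coe, ← hW.range_fromSpec]
      exact ⟨p, rfl⟩
    let : Algebra M ((pullback f (cplMap A)).presheaf.stalk y) :=
      (pullback f (cplMap A)).presheaf.algebra_section_stalk ⟨y, hy⟩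
    have hloc : IsLocalization.AtPrime ((pullback f (cplMap A)).presheaf.stalk y) p.asIdeal :=
      hW.isLocalization_stalk' p hy
    have hyc : q y ∈ X.basicOpen c := by
      show y ∈ q ⁻¹ᵁ X.basicOpen c
      rw [Scheme.preimage_basicOpen, Scheme.mem_basicOpen _ _ _ hy]
      exact (IsLocalization.AtPrime.isUnit_to_map_iff ((pullback f (cplMap A)).presheaf.stalk y) p.asIdeal _).2 hp
    have := h y hyc
    exact isReduced_of_injective _ (IsLocalization.algEquiv p.asIdeal.primeCompl
      (Localization.AtPrime p.asIdeal) ((pullback f (cplMap A)).presheaf.stalk y)).injective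

/-- The normalization is finite when every affine open has reduced completed base change. -/
theorem isFinite_normalizationι [QuasiCompact (X.fromSpecStalk (genericPoint X))]
    [QuasiSeparated (X.fromSpecStalk (genericPoint X))]
    (h : ∀ (U : X.Opens) (_ : Nonempty U), IsAffineOpen U →
      letI := (sec f U).hom.toAlgebra
      _root_.IsReduced (Γ(X, U) ⊗[A] AdicCompletion (maximalIdeal A) A)) :
    IsFinite (Curv2.normalizationι X) := by
  refine Normalization.InField.isFinite (RingHom.id X.functionField) (X.fromSpecStalk (genericPoint X)) (by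
      show _ = Spec.map (𝟙 X.functionField) ≫ X.fromSpecStalk (genericPoint X)
      rw [Spec.map_id, Category.id_comp]) fun U _ hU => ?_
  let : Algebra A Γ(X, U) := (sec f U).hom.toAlgebra
  have : Algebra.FiniteType A Γ(X, U) := by
    have h := f.finiteType_appLE (isAffineOpen_top _) hU (fun _ _ => trivial)
    rw [← RingHom.finiteType_algebraMap]
    exact h.comp (RingHom.FiniteType.of_surjective _
      (Scheme.ΓSpecIso (CommRingCat.of A)).symm.commRingCatIsoToRingEquiv.surjective)
  have := h U ‹_› hU
  have := functionField_isFractionRing_of_isAffineOpen X U hU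
  exact finite_integralClosure (A := A) X.functionField

end Groth.Agent.Lib.Flat55.AnalyticFiniteNormalization
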