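import Groth.Agent.Lib.Spectral.Basic
import Mathlib.AlgebraicGeometry.Morphisms.FinitePresentation
import Mathlib.AlgebraicGeometry.Morphisms.Immersion
import Mathlib.AlgebraicGeometry.ResidueField
import Mathlib.RingTheory.Localization.Away.Basic

/-!
# Stratifications with sections for completely decomposed morphisms
-/

set_option autoImplicit false

universe u

open CategoryTheory CategoryTheory.Limits AlgebraicGeometry TopologicalSpace Topology
open scoped TensorProduct

namespace Groth.Agent.Lib.Flat55.CdStrata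

/-- A point of a finitely presented algebra with values in the residue field of a prime extends
to a finitely presented locally closed neighbourhood of the prime. -/
theorem exists_stratum {A B K : Type u} [CommRing A] [CommRing B] [Algebra A B]
    [Algebra.FinitePresentation A B] [Field K] [Algebra A K]
    (hK : ∀ x : K, ∃ a g : A, algebraMap A K g ≠ 0 ∧ x * algebraMap A K g = algebraMap A K a)
    (φ : B →ₐ[A] K) :
    ∃ (C : Type u) (_ : CommRing C) (_ : Algebra A C), Algebra.FinitePresentation A C ∧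
      IsImmersion (Spec.map (CommRingCat.ofHom (algebraMap A C))) ∧
      Nonempty (B →ₐ[A] C) ∧ Nonempty (C →ₐ[A] K) := by
  classical
  obtain ⟨n, π, hπ, hker⟩ := Algebra.FinitePresentation.out (R := A) (A := B)
  choose a g hg hv using fun i : Fin n => hK (φ (π (MvPolynomial.X i)))
  let g₀ := ∏ i, g i
  have hg₀ : IsUnit (Algebra.ofId A K g₀) := by
    simp only [g₀, Algebra.ofId_apply, map_prod]
    exact (Finset.prod_ne_zero_iff.2 fun i _ => hg i).isUnit
  let L := Localization.Away g₀
  let χ : L →ₐ[A] K := IsLocalization.Away.liftAlgHom g₀ (f := Algebra.ofId A K) hg₀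
  let w : Fin n → L := fun i =>
    algebraMap A L (a i * ∏ j ∈ Finset.univ.erase i, g j) * IsLocalization.Away.invSelf g₀
  have hχg : χ (IsLocalization.Away.invSelf g₀) * algebraMap A K g₀ = 1 := by
    rw [← χ.commutes g₀, ← map_mul, mul_comm, IsLocalization.Away.mul_invSelf, map_one]
  have hw : ∀ i, χ (w i) = φ (π (MvPolynomial.X i)) := fun i => by
    have h0 : g₀ = g i * ∏ j ∈ Finset.univ.erase i, g j :=
      (Finset.mul_prod_erase _ _ (Finset.mem_univ i)).symm
    calc χ (w i) = algebraMap A K (a i * ∏ j ∈ Finset.univ.erase i, g j) *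
          χ (IsLocalization.Away.invSelf g₀) := by rw [map_mul, χ.commutes]
      _ = φ (π (MvPolynomial.X i)) * (χ (IsLocalization.Away.invSelf g₀) * algebraMap A K g₀) := by
          rw [map_mul, ← hv i, show algebraMap A K g₀ = algebraMap A K (g i) * _ from
            (congrArg _ h0).trans (map_mul _ _ _)]; ring
      _ = φ (π (MvPolynomial.X i)) := by rw [hχg, mul_one]
  let ψ : MvPolynomial (Fin n) A →ₐ[A] L := MvPolynomial.aeval w
  have hψ : χ.comp ψ = φ.comp π := MvPolynomial.algHom_ext fun i => by simp [ψ, hw]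
  let J : Ideal L := (RingHom.ker π).map ψ
  have hJ : J ≤ RingHom.ker χ := Ideal.map_le_iff_le_comap.2 fun p hp => by
    show χ (ψ p) = 0
    rw [← AlgHom.comp_apply, hψ, AlgHom.comp_apply, (RingHom.mem_ker).1 hp, map_zero]
  refine ⟨L ⧸ J, inferInstance, inferInstance, ?_, ?_, ⟨AlgHom.liftOfSurjective π hπ
    ((Ideal.Quotient.mkₐ A J).comp ψ) fun p hp => ?_⟩, ⟨Ideal.Quotient.liftₐ J χ hJ⟩⟩
  · have : Algebra.FinitePresentation A L := IsLocalization.Away.finitePresentation g₀
    exact .quotient (hker.map _)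
  · have h1 : IsOpenImmersion (Spec.map (CommRingCat.ofHom (algebraMap A L))) :=
      IsOpenImmersion.of_isLocalization g₀
    have h2 : IsClosedImmersion (Spec.map (CommRingCat.ofHom (Ideal.Quotient.mk J))) :=
      IsClosedImmersion.spec_of_surjective _ Ideal.Quotient.mk_surjective
    have h3 : CommRingCat.ofHom (algebraMap A (L ⧸ J)) =
        CommRingCat.ofHom (algebraMap A L) ≫ CommRingCat.ofHom (Ideal.Quotient.mk J) := rfl
    rw [h3, Spec.map_comp]
    infer_instance
  · show Ideal.Quotient.mk J (ψ p) = 0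
    rw [Ideal.Quotient.eq_zero_iff_mem]
    exact Ideal.mem_map_of_mem ψ hp

variable {X Y : Scheme.{u}}

/-- A point with a rational lift lies in a finitely presented stratum over which there is a lift. -/
theorem exists_nhd_section (f : X ⟶ Y) [LocallyOfFinitePresentation f] [QuasiSeparatedSpace Y]
    (x : X) (hx : Function.Bijective (f.residueFieldMap x)) :
    ∃ (Z : Scheme.{u}) (z : Z ⟶ Y) (s : Z ⟶ X), f x ∈ Set.range z ∧ IsImmersion z ∧
      LocallyOfFinitePresentation z ∧ QuasiCompact z ∧ QuasiSeparated z ∧ s ≫ f = z := by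
  obtain ⟨_, ⟨U, hU, rfl⟩, hy, -⟩ :=
    Y.isBasis_affineOpens.exists_subset_of_mem_open (Set.mem_univ (f x)) isOpen_univ
  obtain ⟨V, hV, hxV, hVU⟩ := exists_isAffineOpen_mem_and_subset (x := x) (U := f ⁻¹ᵁ U) hy
  let A := Γ(Y, U)
  let B := Γ(X, V)
  let K := X.residueField x
  let : Algebra A B := (f.appLE U V hVU).hom.toAlgebra
  have : Algebra.FinitePresentation A B := f.finitePresentation_appLE hU hV hVU
  let : Algebra A K := ((f.appLE U V hVU) ≫ X.evaluation V x hxV).hom.toAlgebra
  let φ : B →ₐ[A] K := AlgHom.mk' (X.evaluation V x hxV).hom fun c b => by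
    rw [Algebra.smul_def, Algebra.smul_def, map_mul]; rfl
  have hιeq : ∀ a : A, algebraMap A K a = f.residueFieldMap x (Y.evaluation U (f x) hy a) := by
    intro a
    show (f.appLE U V hVU ≫ X.evaluation V x hxV) a = _
    rw [← CommRingCat.comp_apply]
    congr 2
    simp only [Scheme.evaluation, Category.assoc, Scheme.residue_residueFieldMap]
    rw [Scheme.Hom.germ_stalkMap_assoc, Scheme.Hom.appLE, Category.assoc,
      TopCat.Presheaf.germ_res_assoc]
  have hne : ∀ a : A, algebraMap A K a ≠ 0 ↔ f x ∈ Y.basicOpen a := fun a => by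
    rw [hιeq, map_ne_zero_iff _ hx.1, Scheme.evaluation_ne_zero_iff_mem_basicOpen]
  have hK : ∀ t : K, ∃ a g : A, algebraMap A K g ≠ 0 ∧ t * algebraMap A K g = algebraMap A K a := by
    intro t
    obtain ⟨t, rfl⟩ := hx.2 t
    obtain ⟨t, rfl⟩ := Y.residue_surjective (f x) t
    let := TopCat.Presheaf.algebra_section_stalk Y.presheaf ⟨f x, hy⟩
    have := hU.isLocalization_stalk ⟨f x, hy⟩
    obtain ⟨⟨a, g⟩, h⟩ := IsLocalization.surj (hU.primeIdealOf ⟨f x, hy⟩).asIdeal.primeCompl t
    have hg : f x ∈ Y.basicOpen g.1 := by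
      rw [Scheme.mem_basicOpen _ _ _ hy]
      exact IsLocalization.map_units _ g
    refine ⟨a, g, (hne _).2 hg, ?_⟩
    rw [hιeq, hιeq, ← map_mul]
    congr 1
    show Y.residue (f x) t * Y.residue (f x) (Y.presheaf.germ U (f x) hy g) =
      Y.residue (f x) (Y.presheaf.germ U (f x) hy a)
    rw [← map_mul]
    exact congrArg _ h
  obtain ⟨C, _, _, hfp, himm, ⟨σ⟩, ⟨τ⟩⟩ := exists_stratum hK φ
  let z₀ := Spec.map (CommRingCat.ofHom (algebraMap A C))
  let z : Spec (CommRingCat.of C) ⟶ Y := z₀ ≫ hU.fromSpec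
  let s : Spec (CommRingCat.of C) ⟶ X := Spec.map (CommRingCat.ofHom σ.toRingHom) ≫ hV.fromSpec
  have : LocallyOfFinitePresentation z₀ := by
    rw [HasRingHomProperty.Spec_iff (P := @LocallyOfFinitePresentation)]
    exact RingHom.finitePresentation_algebraMap.2 hfp
  refine ⟨_, z, s, ?_, inferInstance, inferInstance, inferInstance, inferInstance, ?_⟩
  · let q : PrimeSpectrum C := ⟨RingHom.ker τ, RingHom.ker_isPrime _⟩
    refine ⟨q, ?_⟩
    have hq : z₀ q = hU.primeIdealOf ⟨f x, hy⟩ := by
      refine PrimeSpectrum.ext (Ideal.ext fun a => ?_)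
      show τ (algebraMap A C a) = 0 ↔ _
      rw [τ.commutes, ← not_iff_not, ← ne_eq, hne]
      have key : hU.primeIdealOf ⟨f x, hy⟩ ∈ hU.fromSpec ⁻¹ᵁ Y.basicOpen a ↔ f x ∈ Y.basicOpen a := by
        show hU.fromSpec (hU.primeIdealOf ⟨f x, hy⟩) ∈ Y.basicOpen a ↔ _
        exact Iff.of_eq (congrArg (· ∈ Y.basicOpen a) (hU.fromSpec_primeIdealOf ⟨f x, hy⟩))
      rw [← key, hU.fromSpec_preimage_basicOpen]
      rfl
    show (z₀ ≫ hU.fromSpec) q = f x
    rw [Scheme.Hom.comp_apply, hq]
    exact hU.fromSpec_primeIdealOf ⟨f x, hy⟩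
  · show (Spec.map (CommRingCat.ofHom σ.toRingHom) ≫ hV.fromSpec) ≫ f = z₀ ≫ hU.fromSpec
    rw [Category.assoc, ← IsAffineOpen.SpecMap_appLE_fromSpec f hU hV hVU, ← Category.assoc,
      ← Spec.map_comp]
    congr 2
    ext a
    exact σ.commutes a

theorem exists_strata (f : X ⟶ Y) [LocallyOfFinitePresentation f] [CompactSpace Y]
    [QuasiSeparatedSpace Y]
    (hcd : ∀ y : Y, ∃ x : X, f x = y ∧ Function.Bijective (f.residueFieldMap x)) :
    ∃ (n : ℕ) (Z : Fin n → Scheme.{u}) (z : ∀ i, Z i ⟶ Y), (∀ y : Y, ∃ i, y ∈ Set.range (z i)) ∧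
      ∀ i, IsImmersion (z i) ∧ LocallyOfFinitePresentation (z i) ∧ QuasiCompact (z i) ∧
        QuasiSeparated (z i) ∧ ∃ s : Z i ⟶ X, s ≫ f = z i := by
  have h : ∀ y : Y, ∃ (Z : Scheme.{u}) (z : Z ⟶ Y) (s : Z ⟶ X), y ∈ Set.range z ∧ IsImmersion z ∧
      LocallyOfFinitePresentation z ∧ QuasiCompact z ∧ QuasiSeparated z ∧ s ≫ f = z := fun y => by
    obtain ⟨x, rfl, hx⟩ := hcd y
    exact exists_nhd_section f x hx
  choose Z z s hy h1 h2 h3 h4 h5 using h
  have : SpectralSpace Y := ⟨⟩
  have hopen : ∀ y, IsOpen[constructibleTopology Y] (Set.range (z y)) := fun y => by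
    have hc : Topology.IsConstructible (Set.range (z y)) := by
      have := h2 y
      have := h3 y
      have : CompactSpace (Z y) := (quasiCompact_iff_compactSpace (z y)).1 inferInstance
      exact Topology.IsLocallyConstructible.isConstructible
        (by simpa using (z y).isLocallyConstructible_image Topology.IsConstructible.univ.isLocallyConstructible)
    exact (Spectral.Basic.isClopen_cons_of_isConstructible hc).2
  obtain ⟨t, ht⟩ := @IsCompact.elim_finite_subcover Y (constructibleTopology Y) Set.univ Y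
    (@isCompact_univ Y (constructibleTopology Y) Spectral.Basic.compactSpace_cons)
    (fun y => Set.range (z y)) hopen (fun y _ => Set.mem_iUnion.2 ⟨y, hy y⟩)
  refine ⟨t.card, fun i => Z (t.equivFin.symm i).1, fun i => z _, fun y => ?_,
    fun i => ⟨h1 _, h2 _, h3 _, h4 _, s _, h5 _⟩⟩
  obtain ⟨y', hy', hyy'⟩ := Set.mem_iUnion₂.1 (ht (Set.mem_univ y))
  obtain ⟨i, hi⟩ := t.equivFin.symm.surjective ⟨y', hy'⟩
  obtain rfl : (t.equivFin.symm i).1 = y' := by rw [hi]
  exact ⟨i, hyy'⟩

end Groth.Agent.Lib.Flat55.CdStrata
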