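import Groth.Agent.Lib.Flat55.ComponentModel

/-!
# Finite flat cover of an open making the components geometrically integral: assembly
-/

set_option autoImplicit false
set_option linter.style.haveILetI false
universe u

open CategoryTheory CategoryTheory.Limits AlgebraicGeometry TopologicalSpace

namespace Groth.Agent.Lib.Flat55.ComponentModelMain

open ComponentModel

theorem genericPoint_mem {T : Scheme.{u}} [IrreducibleSpace ↥T] (W : T.Opens) (h : (W : Set T).Nonempty) :
    genericPoint ↥T ∈ W := by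
  obtain ⟨a, ha⟩ := h
  exact (genericPoint_specializes a).mem_open W.isOpen ha

/-- Good behaviour of one component near the generic point. -/
theorem component_near {X T Z : Scheme.{u}} [IsIntegral T] [IsNoetherian T] (q : Z ⟶ T) [LocallyOfFiniteType q]
    [QuasiCompact q] (h : GeometricallyIntegral (q.fiberToSpecResidueField (genericPoint T))) :
    ∃ W : T.Opens, genericPoint T ∈ W ∧ ∀ {T' Z' : Scheme.{u}} (j : T' ⟶ T) (a : Z' ⟶ Z) (b : Z' ⟶ T'),
      Set.range j ⊆ W → IsPullback a b q j → Flat b ∧ GeometricallyIntegral b := by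
  haveI := h
  obtain ⟨W₁, h₁, hi⟩ := S0419.result q inferInstance
  obtain ⟨W₂, h₂, hr⟩ := S0434.result q inferInstance
  obtain ⟨W₃, h₃, hf⟩ := Homog.exists_flat_restrict q
  refine ⟨W₁ ⊓ W₂ ⊓ W₃, ⟨⟨genericPoint_mem W₁ h₁, genericPoint_mem W₂ h₂⟩, genericPoint_mem W₃ h₃⟩,
    fun {T' Z'} j a b hj sq => ?_⟩
  have key : ∀ (P : MorphismProperty Scheme.{u}) [P.IsStableUnderBaseChange] (W : T.Opens),
      Set.range j ⊆ W → P (q ∣_ W) → P b := by
    intro P _ W hW hP
    have hj' : Set.range j ⊆ Set.range W.ι := by rw [Scheme.Opens.range_ι]; exact hW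
    let j' := IsOpenImmersion.lift W.ι j hj'
    have ha : Set.range a ⊆ Set.range (q ⁻¹ᵁ W).ι := by
      rw [Scheme.Opens.range_ι]
      rintro _ ⟨z, rfl⟩
      show q (a z) ∈ W
      rw [← Scheme.Hom.comp_apply, sq.w, Scheme.Hom.comp_apply]
      exact hW ⟨_, rfl⟩
    let a' := IsOpenImmersion.lift (q ⁻¹ᵁ W).ι a ha
    have sq' : IsPullback a' b (q ∣_ W) j' := by
      refine IsPullback.of_right ?_ ?_ (isPullback_morphismRestrict q W).flip
      · rw [IsOpenImmersion.lift_fac, IsOpenImmersion.lift_fac]; exact sq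
      · rw [← cancel_mono W.ι]
        simp [a', j', morphismRestrict_ι, sq.w]
    exact MorphismProperty.of_isPullback sq' hP
  haveI : GeometricallyIrreducible b := key @GeometricallyIrreducible W₁ (hj.trans fun _ x => x.1.1) hi
  haveI : GeometricallyReduced b := key @GeometricallyReduced W₂ (hj.trans fun _ x => x.1.2) hr
  exact ⟨key @Flat W₃ (hj.trans fun _ x => x.2) hf,
    GeometricallyIntegral.of_geometricallyReduced_of_geometricallyIrreducible _⟩

theorem result {X S : Scheme.{u}} [IsNoetherian S] [IsIntegral S]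
    (f : X ⟶ S) [LocallyOfFiniteType f] [QuasiCompact f] :
    ∃ (V : S.Opens) (S' : Scheme.{u}) (h : S' ⟶ (V : Scheme.{u})), (V : Set S).Nonempty ∧ IsIntegral S' ∧
      IsFinite h ∧ Flat h ∧ Surjective h ∧
      ∀ (Z : Scheme.{u}) (i : Z ⟶ pullback f (h ≫ V.ι)) [IsClosedImmersion i] [IsReduced Z],
        Set.range i.base ∈ irreducibleComponents ↥(pullback f (h ≫ V.ι)) →
          Flat (i ≫ pullback.snd f (h ≫ V.ι)) ∧ GeometricallyIntegral (i ≫ pullback.snd f (h ≫ V.ι)) := by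
  classical
  obtain ⟨V₁, Y₁, g₁, X₁, r₁, hY₁, hV₁, hY₁a, hg₁, hg₁u, hr₁, hr₁s, hX₁, hfl, hlfp, hqc, hqs, hgr⟩ :=
    GeomReducedModel.exists_model f
  haveI := hY₁; haveI := hY₁a; haveI := hg₁; haveI := hr₁; haveI := hr₁s; haveI := hX₁
  haveI := hfl; haveI := hlfp; haveI := hqc
  let q₁ := r₁ ≫ pullback.snd f (g₁ ≫ V₁.ι)
  haveI : Flat q₁ := hfl
  haveI : LocallyOfFinitePresentation q₁ := hlfp
  haveI : QuasiCompact q₁ := hqc
  obtain ⟨V₂, Y₂, g₂, hY₂, hV₂, hY₂a, hg₂s, hg₂f, hg₂e, hcomp⟩ := GeomIrredModel.result q₁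
  haveI := hY₂; haveI := hY₂a; haveI := hg₂s; haveI := hg₂f; haveI := hg₂e
  let G₂ := g₂ ≫ V₂.ι
  haveI : IsReduced Y₂ := ComponentModel.isReduced_of_etale G₂
  haveI : IsIntegral Y₂ := (isIntegral_iff_irreducibleSpace_and_isReduced _).2 ⟨hY₂, inferInstance⟩
  let q₂ := pullback.snd q₁ G₂
  haveI : IsReduced (pullback q₁ G₂) := ComponentModel.isReduced_of_etale (pullback.fst q₁ G₂)
  -- generic fibre of `q₂`
  set η₂ := genericPoint Y₂
  have hη₁ : G₂ η₂ = genericPoint Y₁ := by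
    obtain ⟨b, hb, hb'⟩ := (Flat.generalizingMap G₂) (genericPoint_specializes (G₂ η₂))
    exact (congrArg G₂ ((hb.antisymm (genericPoint_specializes b)).eq)).symm.trans hb'
  haveI hgr₂ : GeometricallyReduced (q₂.fiberToSpecResidueField η₂) := by
    have hgr₁ : GeometricallyReduced (q₁.fiberToSpecResidueField (G₂ η₂)) := by rw [hη₁]; exact hgr
    let κ := Spec.map (G₂.residueFieldMap η₂)
    have hF : IsPullback (q₂.fiberι η₂ ≫ pullback.fst q₁ G₂) (q₂.fiberToSpecResidueField η₂) q₁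
        (Y₂.fromSpecResidueField η₂ ≫ G₂) :=
      (IsPullback.of_hasPullback q₂ _).paste_horiz (IsPullback.of_hasPullback q₁ G₂)
    rw [← Scheme.Hom.SpecMap_residueFieldMap_fromSpecResidueField] at hF
    let m : q₂.fiber η₂ ⟶ q₁.fiber (G₂ η₂) := pullback.lift (q₂.fiberι η₂ ≫ pullback.fst q₁ G₂)
      (q₂.fiberToSpecResidueField η₂ ≫ κ) (hF.w.trans (Category.assoc _ _ _).symm)
    have hm : IsPullback m (q₂.fiberToSpecResidueField η₂) (q₁.fiberToSpecResidueField (G₂ η₂)) κ := by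
      refine IsPullback.of_right ?_ (pullback.lift_snd _ _ _)
        (IsPullback.of_hasPullback q₁ (Y₁.fromSpecResidueField (G₂ η₂)))
      exact (congrArg (fun a => IsPullback a (q₂.fiberToSpecResidueField η₂) q₁ _)
        (pullback.lift_fst _ _ _)).mpr hF
    exact MorphismProperty.of_isPullback hm hgr₁
  -- compare with the base change of `f`
  let h₀ : Y₂ ⟶ (V₁ : Scheme.{u}) := G₂ ≫ g₁
  let G := h₀ ≫ V₁.ι
  let P₂ := pullback f G
  let ρ₁ : P₂ ⟶ pullback f (g₁ ≫ V₁.ι) := pullback.lift (pullback.fst f G) (pullback.snd f G ≫ G₂) (by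
    rw [pullback.condition]; simp [G, h₀])
  let c : pullback q₁ G₂ ⟶ P₂ := pullback.lift (pullback.fst q₁ G₂ ≫ r₁ ≫ pullback.fst f (g₁ ≫ V₁.ι)) q₂ (by
    simp only [Category.assoc, pullback.condition]
    rw [← Category.assoc r₁, ← Category.assoc (pullback.fst q₁ G₂), show pullback.fst q₁ G₂ ≫ r₁ ≫ pullback.snd f (g₁ ≫ V₁.ι) = q₂ ≫ G₂ from pullback.condition]
    simp [G, h₀])
  have hρ₁ : IsPullback ρ₁ (pullback.snd f G) (pullback.snd f (g₁ ≫ V₁.ι)) G₂ := by
    refine IsPullback.of_right ?_ (pullback.lift_snd _ _ _) (IsPullback.of_hasPullback f (g₁ ≫ V₁.ι))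
    rw [pullback.lift_fst]
    have : G₂ ≫ g₁ ≫ V₁.ι = G := (Category.assoc _ _ _).symm
    rw [this]
    exact IsPullback.of_hasPullback f G
  have hc : IsPullback (pullback.fst q₁ G₂) c r₁ ρ₁ := by
    refine IsPullback.of_bot ?_ ?_ hρ₁
    · exact (congrArg (fun m => IsPullback (pullback.fst q₁ G₂) m q₁ G₂) (pullback.lift_snd _ _ _)).mpr
        (IsPullback.of_hasPullback q₁ G₂)
    · apply pullback.hom_ext
      · rw [Category.assoc, Category.assoc, pullback.lift_fst, pullback.lift_fst]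
      · rw [Category.assoc, Category.assoc, pullback.lift_snd, ← Category.assoc c, pullback.lift_snd]
        exact pullback.condition
  haveI : IsClosedImmersion c := MorphismProperty.of_isPullback hc ‹IsClosedImmersion r₁›
  haveI : Surjective c := MorphismProperty.of_isPullback hc ‹Surjective r₁›
  have hcs : c ≫ pullback.snd f G = q₂ := pullback.lift_snd _ _ _
  -- the components
  haveI : LocallyOfFiniteType h₀ := inferInstance
  haveI : CompactSpace Y₂ := inferInstance
  haveI : IsLocallyNoetherian Y₂ := LocallyOfFiniteType.isLocallyNoetherian h₀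
  haveI : IsNoetherian Y₂ := {}
  haveI : IsLocallyNoetherian (pullback q₁ G₂) := LocallyOfFiniteType.isLocallyNoetherian q₂
  haveI : CompactSpace ↥(pullback q₁ G₂) := QuasiCompact.compactSpace_of_compactSpace q₂
  haveI : IsNoetherian (pullback q₁ G₂) := {}
  haveI : Finite (irreducibleComponents ↥(pullback q₁ G₂)) :=
    NoetherianSpace.finite_irreducibleComponents.to_subtype
  let J := fun C : irreducibleComponents ↥(pullback q₁ G₂) =>
    Scheme.IdealSheafData.vanishingIdeal (⟨C.1, isClosed_of_mem_irreducibleComponents _ C.2⟩ : Closeds _)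
  have hJ : ∀ C, Set.range (J C).subschemeι = C.1 := fun C => by
    simp [J, Scheme.IdealSheafData.range_subschemeι, Scheme.IdealSheafData.coe_support_vanishingIdeal]
  choose W hηW hW using fun C : irreducibleComponents ↥(pullback q₁ G₂) =>
    component_near (X := X) ((J C).subschemeι ≫ q₂) (component_genericFibre q₂ hgr₂ hcomp (J C).subschemeι
      (by rw [hJ]; exact C.2))
  let Wall : Y₂.Opens := ⟨⋂ C, (W C : Set Y₂), isOpen_iInter_of_finite fun C => (W C).isOpen⟩
  have hηWall : η₂ ∈ Wall := Set.mem_iInter.2 hηW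
  -- shrinking the base
  haveI : Nonempty ↥(V₁ : Scheme.{u}) := hV₁.to_subtype
  haveI : IsIntegral (V₁ : Scheme.{u}) := isIntegral_of_isOpenImmersion V₁.ι
  haveI : IsLocallyNoetherian (V₁ : Scheme.{u}) := isLocallyNoetherian_of_isOpenImmersion V₁.ι
  haveI : LocallyQuasiFinite G₂ := Lib.SourceDescent.Scheme.locallyQuasiFinite_of_etale G₂
  haveI : LocallyQuasiFinite h₀ := inferInstance
  haveI : QuasiSeparatedSpace ↥(V₁ : Scheme.{u}) := inferInstance
  haveI : CompactSpace ↥(V₁ : Scheme.{u}) := by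
    haveI : NoetherianSpace ↥(V₁ : Scheme.{u}) := V₁.ι.isOpenEmbedding.isInducing.noetherianSpace
    infer_instance
  haveI : QuasiCompact h₀ := quasiCompact_of_compactSpace h₀
  obtain ⟨O₁, hO₁d, hO₁f⟩ := H56.QFDense.exists_dense_isFinite h₀
  set ηV := genericPoint ↥(V₁ : Scheme.{u})
  have hηO₁ : ηV ∈ O₁ := genericPoint_mem O₁ hO₁d.nonempty
  have hη₀ : h₀ η₂ = ηV := by
    haveI := hg₁u
    rw [show h₀ η₂ = g₁ (genericPoint Y₁) from congrArg g₁ hη₁]
    obtain ⟨y, hy⟩ := ((UnivHomeo.Basic.iff_integral_universallyInjective_surjective g₁).1 hg₁u).2.2.surj ηV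
    refine ((genericPoint_specializes (g₁ (genericPoint Y₁))).antisymm ?_).eq.symm
    show g₁ (genericPoint ↥Y₁) ⤳ ηV
    rw [← hy]
    exact (genericPoint_specializes y).map g₁.continuous
  have honly : ∀ b : Y₂, h₀ b = ηV → b = η₂ := fun b hb => by
    haveI := (h₀.isDiscrete_preimage_singleton ηV).to_subtype
    exact (congrArg Subtype.val (((subtype_specializes_iff
      (⟨η₂, hη₀⟩ : h₀ ⁻¹' {ηV}) ⟨b, hb⟩).2 (genericPoint_specializes b)).eq)).symm
  haveI := hO₁f
  let bad : Set ↥(O₁ : Scheme.{u}) := (h₀ ∣_ O₁) '' ((h₀ ⁻¹ᵁ O₁).ι ⁻¹' (Wall : Set Y₂)ᶜ)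
  have hbad : IsClosed bad :=
    (h₀ ∣_ O₁).isClosedMap _ (Wall.isOpen.isClosed_compl.preimage (h₀ ⁻¹ᵁ O₁).ι.continuous)
  let O₂ : (V₁ : Scheme.{u}).Opens := O₁.ι ''ᵁ ⟨badᶜ, hbad.isOpen_compl⟩
  have hηO₂ : ηV ∈ O₂ := by
    refine ⟨⟨ηV, hηO₁⟩, ?_, rfl⟩
    rintro ⟨b, hb, hbe⟩
    have h1 : h₀ ((h₀ ⁻¹ᵁ O₁).ι b) = ηV := by
      rw [← Scheme.Hom.comp_apply, ← morphismRestrict_ι, Scheme.Hom.comp_apply, hbe]; rfl
    exact hb (by rw [honly _ h1]; exact hηWall)
  have hO₂le : O₂ ≤ O₁ := by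
    rintro _ ⟨a, -, rfl⟩; exact a.2
  have hO₂W : ∀ y : Y₂, h₀ y ∈ O₂ → y ∈ Wall := fun y hy => by
    obtain ⟨a, ha, hay⟩ := hy
    by_contra hyW
    refine ha ⟨⟨y, show h₀ y ∈ O₁ from hay ▸ a.2⟩, hyW, ?_⟩
    apply O₁.ι.isOpenEmbedding.injective
    rw [← Scheme.Hom.comp_apply, morphismRestrict_ι, Scheme.Hom.comp_apply]
    exact hay.symm
  haveI : IsNoetherian (V₁ : Scheme.{u}) := {}
  haveI : Nonempty ↥(V₁ : Scheme.{u}) := inferInstance
  obtain ⟨O₃, hO₃, hO₃f⟩ := Homog.exists_flat_restrict h₀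
  let O := O₂ ⊓ O₃
  have hηO : ηV ∈ O := ⟨hηO₂, genericPoint_mem O₃ hO₃⟩
  let V := V₁.ι ''ᵁ O
  let h : ((h₀ ⁻¹ᵁ O : Y₂.Opens) : Scheme.{u}) ⟶ (V : Scheme.{u}) := (h₀ ∣_ O) ≫ (V₁.ι.isoImage O).hom
  have hG : h ≫ V.ι = (h₀ ⁻¹ᵁ O).ι ≫ G := by
    simp [h, V, G, morphismRestrict_ι_assoc]
  have restr : ∀ (P : MorphismProperty Scheme.{u}) [P.IsStableUnderBaseChange] (O' : (V₁ : Scheme.{u}).Opens),
      O ≤ O' → P (h₀ ∣_ O') → P (h₀ ∣_ O) := by
    intro P _ O' hle hP
    have hp : IsPullback (Y₂.homOfLE (h₀.preimage_mono hle)) (h₀ ∣_ O) (h₀ ∣_ O')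
        (V₁.toScheme.homOfLE hle) := by
      refine IsPullback.of_right ?_ ?_ (isPullback_morphismRestrict h₀ O').flip
      · simpa using (isPullback_morphismRestrict h₀ O).flip
      · rw [← cancel_mono O'.ι]; simp
    exact MorphismProperty.of_isPullback hp hP
  haveI : IsFinite (h₀ ∣_ O) := restr @IsFinite O₁ (inf_le_left.trans hO₂le) hO₁f
  haveI : Flat (h₀ ∣_ O) := restr @Flat O₃ inf_le_right hO₃f
  haveI : Nonempty ↥(h₀ ⁻¹ᵁ O : Y₂.Opens).toScheme := ⟨⟨η₂, show h₀ η₂ ∈ O from hη₀ ▸ hηO⟩⟩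
  haveI : Surjective (h₀ ∣_ O) := by
    refine ⟨fun b => ?_⟩
    refine (h₀ ∣_ O).isClosedMap.isClosed_range.closure_subset_iff.2
      (Set.singleton_subset_iff.2 ⟨⟨η₂, show h₀ η₂ ∈ O from hη₀ ▸ hηO⟩, rfl⟩) ?_
    rw [O.ι.isOpenEmbedding.isInducing.closure_eq_preimage_closure_image, Set.image_singleton,
      Set.mem_preimage, ← Scheme.Hom.comp_apply, morphismRestrict_ι, Scheme.Hom.comp_apply]
    exact specializes_iff_mem_closure.1 ((congrArg (· ⤳ O.ι b) hη₀).mpr (genericPoint_specializes _))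
  refine ⟨V, _, h, ⟨V₁.ι ηV, ηV, hηO, rfl⟩, isIntegral_of_isOpenImmersion (h₀ ⁻¹ᵁ O).ι,
    by dsimp [h]; infer_instance, by dsimp [h]; infer_instance, by dsimp [h]; infer_instance,
    fun Z i _ _ hZ => ?_⟩
  -- transport a component
  let P := pullback f (h ≫ V.ι)
  let ρ : P ⟶ P₂ := pullback.lift (pullback.fst f (h ≫ V.ι)) (pullback.snd f (h ≫ V.ι) ≫ (h₀ ⁻¹ᵁ O).ι) (by
    exact pullback.condition.trans ((congrArg (pullback.snd f (h ≫ V.ι) ≫ ·) hG).trans (Category.assoc _ _ _).symm))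
  have hρ : IsPullback ρ (pullback.snd f (h ≫ V.ι)) (pullback.snd f G) (h₀ ⁻¹ᵁ O).ι := by
    refine IsPullback.of_right ?_ (pullback.lift_snd _ _ _) (IsPullback.of_hasPullback f G)
    rw [pullback.lift_fst]
    exact (congrArg (fun m => IsPullback (pullback.fst f (h ≫ V.ι)) (pullback.snd f (h ≫ V.ι)) f m) hG).mp
      (IsPullback.of_hasPullback f (h ≫ V.ι))
  haveI : IsOpenImmersion ρ := MorphismProperty.of_isPullback hρ.flip inferInstance
  let ζ := hZ.1.genericPoint
  have hζ : IsGenericPoint ζ (Set.range i) := hZ.1.isGenericPoint_genericPoint i.isClosedEmbedding.isClosed_range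
  obtain ⟨x, hx⟩ := c.surjective (ρ ζ)
  have hcl : closure ({x} : Set ↥(pullback q₁ G₂)) ∈ irreducibleComponents ↥(pullback q₁ G₂) := by
    refine ⟨isIrreducible_singleton.closure, fun D hD hle a ha => ?_⟩
    let d := hD.closure.genericPoint
    have hd : IsGenericPoint d (closure D) := hD.closure.isGenericPoint_genericPoint isClosed_closure
    have hdx : d ⤳ x := hd.specializes (subset_closure (hle (subset_closure rfl)))
    have hcd : c d ⤳ ρ ζ := hx ▸ hdx.map c.continuous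
    obtain ⟨d', hd'⟩ := hcd.mem_open ρ.isOpenEmbedding.isOpen_range ⟨ζ, rfl⟩
    have hd'ζ : d' ⤳ ζ := ρ.isOpenEmbedding.isInducing.specializes_iff.1 (hd' ▸ hcd)
    have : d' = ζ := by
      have h1 := isIrreducible_singleton (x := d') |>.closure
      have h2 : Set.range i ⊆ closure {d'} := by
        rw [← hζ.def]
        exact closure_minimal (Set.singleton_subset_iff.2 (specializes_iff_mem_closure.1 hd'ζ)) isClosed_closure
      exact IsGenericPoint.eq (hZ.2 h1 h2 |>.antisymm h2 : closure {d'} = Set.range i) hζ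
    have hdx' : d = x := c.isClosedEmbedding.injective (by rw [← hd', this, hx])
    rw [← hdx', hd.def]
    exact subset_closure ha
  let C : irreducibleComponents ↥(pullback q₁ G₂) := ⟨_, hcl⟩
  let k := (J C).subschemeι ≫ c
  haveI : IsReduced (J C).subscheme := inferInstance
  have hk : Set.range k = closure {ρ ζ} := by
    rw [← hx, show Set.range k = c '' Set.range (J C).subschemeι by
      rw [← Set.range_comp]; rfl, hJ]
    refine Set.Subset.antisymm (image_closure_subset_closure_image c.continuous |>.trans (by rw [Set.image_singleton]))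
      (closure_minimal ?_ (c.isClosedMap _ isClosed_closure))
    exact Set.singleton_subset_iff.2 ⟨x, subset_closure rfl, rfl⟩
  haveI : IsClosedImmersion (pullback.snd k ρ) := MorphismProperty.pullback_snd _ _ inferInstance
  haveI : IsOpenImmersion (pullback.fst k ρ) := MorphismProperty.pullback_fst _ _ inferInstance
  haveI : IsReduced (pullback k ρ) := isReduced_of_isOpenImmersion (pullback.fst k ρ)
  obtain ⟨e, he⟩ := iso_of_same_range i (pullback.snd k ρ) (by
    rw [Scheme.Pullback.range_snd, hk]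
    rw [← hζ.def, ρ.isOpenEmbedding.isInducing.closure_eq_preimage_closure_image, Set.image_singleton])
  have hsq : IsPullback (pullback.fst k ρ) (pullback.snd k ρ ≫ pullback.snd f (h ≫ V.ι))
      ((J C).subschemeι ≫ q₂) (h₀ ⁻¹ᵁ O).ι := by
    have := (IsPullback.of_hasPullback k ρ).paste_vert hρ
    rwa [show k ≫ pullback.snd f G = (J C).subschemeι ≫ q₂ by simp [k, hcs]] at this
  obtain ⟨h1, h2⟩ := hW C _ _ _ (by
    rintro _ ⟨y, rfl⟩
    exact Set.mem_iInter.1 (hO₂W _ y.2.1) C) hsq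
  rw [← he, Category.assoc]
  exact ⟨(MorphismProperty.cancel_left_of_respectsIso @Flat e.hom _).2 h1,
    (MorphismProperty.cancel_left_of_respectsIso @GeometricallyIntegral e.hom _).2 h2⟩

end Groth.Agent.Lib.Flat55.ComponentModelMain
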