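import Groth.Agent.H34.Stein.NormalBase
import Groth.Agent.Lib.Regular.Quotient
import Groth.Agent.Lib.Ideal.BlowUp
import Mathlib.AlgebraicGeometry.Morphisms.QuasiSeparated

/-!
# Sections of a modification of a regular point of dimension two
-/

set_option autoImplicit false
universe u

open CategoryTheory CategoryTheory.Limits AlgebraicGeometry TopologicalSpace Opposite

namespace Groth.Agent.Lib.Flat55.ContractionPush

/-- Two parameters of a two-dimensional regular local ring. -/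
theorem exists_pair (A : Type u) [CommRing A] [IsRegularLocalRing A] (hA : ringKrullDim A = 2) :
    ∃ x y : A, x ∈ IsLocalRing.maximalIdeal A ∧ y ∈ IsLocalRing.maximalIdeal A ∧ x ≠ 0 ∧
      ∀ c : A, x ∣ c * y → x ∣ c := by
  have hne : ¬ IsLocalRing.maximalIdeal A ≤ IsLocalRing.maximalIdeal A ^ 2 := by
    intro h
    have h1 : IsLocalRing.maximalIdeal A = ⊥ :=
      Submodule.eq_bot_of_le_smul_of_le_jacobson_bot (IsLocalRing.maximalIdeal A) _
        (IsNoetherian.noetherian _) (by rw [smul_eq_mul, ← pow_two]; exact h)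
        (IsLocalRing.maximalIdeal_le_jacobson _)
    have hF : IsField A := IsLocalRing.isField_iff_maximalIdeal_eq.mpr h1
    rw [ringKrullDim_eq_zero_of_isField hF] at hA
    exact absurd hA (by decide)
  obtain ⟨x, hx, hx2⟩ := SetLike.not_le_iff_exists.mp hne
  obtain ⟨h1, h2, -⟩ := Regular.Quotient.quotient_singleton hx hx2
  haveI := Regular.Quotient.isDomain (A ⧸ Ideal.span {x})
  have hy : ¬ IsLocalRing.maximalIdeal A ≤ Ideal.span {x} := by
    intro h
    have hmax : (Ideal.span {x}).IsMaximal := by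
      rw [le_antisymm ((Ideal.span_singleton_le_iff_mem _).mpr hx) h]
      infer_instance
    rw [ringKrullDim_eq_zero_of_isField ((Ideal.Quotient.maximal_ideal_iff_isField_quotient _).mp hmax),
      hA] at h2
    exact absurd h2 (by decide)
  obtain ⟨y, hy1, hy2⟩ := SetLike.not_le_iff_exists.mp hy
  refine ⟨x, y, hx, hy1, fun h => hx2 (h ▸ Ideal.zero_mem _), fun c hc => ?_⟩
  rw [← Ideal.mem_span_singleton, ← Ideal.Quotient.eq_zero_iff_mem, map_mul] at hc
  rcases mul_eq_zero.mp hc with h | h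
  · rwa [← Ideal.mem_span_singleton, ← Ideal.Quotient.eq_zero_iff_mem]
  · exact absurd (Ideal.Quotient.eq_zero_iff_mem.mp h) hy2

theorem pow_dvd {A : Type u} [CommRing A] [IsDomain A] {x y : A} (hx : x ≠ 0)
    (h : ∀ c : A, x ∣ c * y → x ∣ c) (n m : ℕ) : ∀ c : A, x ^ n ∣ c * y ^ m → x ^ n ∣ c := by
  have hm : ∀ (m : ℕ) (c : A), x ∣ c * y ^ m → x ∣ c := by
    intro m
    induction m with
    | zero => intro c hc; simpa using hc
    | succ m ih => intro c hc; exact ih c (h _ (by rwa [mul_assoc, ← pow_succ]))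
  induction n with
  | zero => intro c _; simp
  | succ n ih =>
    intro c hc
    obtain ⟨c', rfl⟩ := hm m c ((dvd_pow_self x (Nat.succ_ne_zero n)).trans hc)
    rw [pow_succ', mul_assoc] at hc
    rw [pow_succ']
    exact mul_dvd_mul_left x (ih c' ((mul_dvd_mul_iff_left hx).mp hc))

/-- An element which is a fraction with all powers of elements of a prime as denominators is a
fraction with a denominator outside the prime, if the local ring is regular of dimension two. -/
theorem exists_denom {R A R' : Type u} [CommRing R] [IsDomain R] [CommRing A] [Algebra R A]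
    (p : Ideal R) [p.IsPrime] [IsLocalization.AtPrime A p] [IsRegularLocalRing A]
    (hA : ringKrullDim A = 2) [CommRing R'] [IsDomain R'] (φ : R →+* R')
    (hφ : Function.Injective φ) (s : R')
    (h : ∀ g ∈ p, ∃ (n : ℕ) (c : R), φ g ^ n * s = φ c) :
    ∃ u : R, u ∉ p ∧ ∃ c : R, φ u * s = φ c := by
  obtain ⟨x, y, hx, hy, hx0, hxy⟩ := exists_pair A hA
  haveI := Regular.Quotient.isDomain A
  obtain ⟨⟨r₁, u₁⟩, e₁⟩ := IsLocalization.surj (M := p.primeCompl) x
  obtain ⟨⟨r₂, u₂⟩, e₂⟩ := IsLocalization.surj (M := p.primeCompl) y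
  simp only at e₁ e₂
  have hmem : ∀ (x : A) (r : R) (u : p.primeCompl), x ∈ IsLocalRing.maximalIdeal A →
      x * algebraMap R A u = algebraMap R A r → r ∈ p := by
    intro x r u hx e
    exact (IsLocalization.AtPrime.to_map_mem_maximal_iff A p r).mp
      (e ▸ Ideal.mul_mem_right _ _ hx)
  obtain ⟨n, c₁, hc₁⟩ := h r₁ (hmem x r₁ u₁ hx e₁)
  obtain ⟨m, c₂, hc₂⟩ := h r₂ (hmem y r₂ u₂ hy e₂)
  have hu₁ : IsUnit (algebraMap R A u₁) := IsLocalization.map_units A u₁
  have hu₂ : IsUnit (algebraMap R A u₂) := IsLocalization.map_units A u₂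
  have h12 : c₁ * r₂ ^ m = c₂ * r₁ ^ n := hφ (by
    simp only [map_mul, map_pow, ← hc₁, ← hc₂]; ring)
  have hd : x ^ n ∣ algebraMap R A c₁ := by
    refine pow_dvd hx0 hxy n m _ ?_
    have h3 := congrArg (algebraMap R A) h12
    simp only [map_mul, map_pow, ← e₁, ← e₂, mul_pow] at h3
    rw [← (hu₂.pow m).dvd_mul_right, mul_assoc, h3]
    exact ⟨algebraMap R A c₂ * algebraMap R A ↑u₁ ^ n, by ring⟩
  obtain ⟨d, hd⟩ := hd
  obtain ⟨v, hv⟩ := (hu₁.pow n).exists_right_inv
  obtain ⟨⟨c, u⟩, ec⟩ := IsLocalization.surj (M := p.primeCompl) (d * v)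
  simp only at ec
  have hinj : Function.Injective (algebraMap R A) :=
    IsLocalization.injective A p.primeCompl_le_nonZeroDivisors
  have h4 : c₁ * u = r₁ ^ n * c := hinj (by
    simp only [map_mul, map_pow, ← e₁, ← ec, hd]
    linear_combination (-(x ^ n * d * algebraMap R A ↑u)) * hv)
  have hr₁ : φ r₁ ^ n ≠ 0 := by
    refine pow_ne_zero _ fun h0 => hx0 ?_
    have : r₁ = 0 := hφ (by rw [h0, map_zero])
    rw [this, map_zero] at e₁
    exact hu₁.mul_left_eq_zero.mp e₁
  refine ⟨u, u.2, c, mul_left_cancel₀ hr₁ ?_⟩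
  calc φ r₁ ^ n * (φ u * s) = φ u * (φ r₁ ^ n * s) := by ring
    _ = φ (c₁ * u) := by rw [hc₁, map_mul, mul_comm]
    _ = φ r₁ ^ n * φ c := by rw [h4, map_mul, map_pow]

variable {X S : Scheme.{u}}

/-- Over an open over which `b` is an isomorphism it is bijective on sections. -/
theorem bijective_app_of_le (b : X ⟶ S) (W : S.Opens) [IsIso (b ∣_ W)] (D : S.Opens) (hD : D ≤ W) :
    Function.Bijective (b.app D) := by
  haveI : IsOpenImmersion ((b ⁻¹ᵁ W).ι ≫ b) := by
    rw [← morphismRestrict_ι]; infer_instance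
  have hr : D ≤ ((b ⁻¹ᵁ W).ι ≫ b).opensRange := by
    intro q hq
    obtain ⟨w, hw⟩ := (b ∣_ W).homeomorph.surjective ⟨q, hD hq⟩
    refine ⟨w, ?_⟩
    rw [← morphismRestrict_ι, Scheme.Hom.comp_apply]
    exact congrArg Subtype.val hw
  have h1 := ((b ⁻¹ᵁ W).ι ≫ b).isIso_app D hr
  have h2 : IsIso ((b ⁻¹ᵁ W).ι.app (b ⁻¹ᵁ D)) := (b ⁻¹ᵁ W).ι.isIso_app _ (by
    rw [Scheme.Opens.opensRange_ι]
    exact b.preimage_mono hD)
  rw [Scheme.Hom.comp_app] at h1
  haveI : IsIso (b.app D) := @IsIso.of_isIso_comp_right _ _ _ _ _ _ _ h2 h1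
  exact ConcreteCategory.bijective_of_isIso (b.app D)

/-- A proper modification of a two-dimensional regular point does not change the functions. -/
theorem isIso_app [IsIntegral S] [IsLocallyNoetherian S] (b : X ⟶ S) [IsProper b] [IsIntegral X]
    (y : S) (hy : IsClosed ({y} : Set S))
    [IsIso (b ∣_ (⟨{y}ᶜ, hy.isOpen_compl⟩ : S.Opens))]
    [IsRegularLocalRing (S.presheaf.stalk y)] (hdim : ringKrullDim (S.presheaf.stalk y) = 2)
    (U : S.Opens) : IsIso (b.app U) := by
  refine H34.Stein.isIso_app_of_affine b (fun V hV => ?_) U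
  by_cases hne : Nonempty V
  swap
  · exact H34.Stein.bijective_app_of_isEmpty b hne
  set W : S.Opens := ⟨{y}ᶜ, hy.isOpen_compl⟩ with hW
  have hη : genericPoint S ∈ W := by
    intro h
    have hF : IsField (S.presheaf.stalk y) := by
      rw [← (show (genericPoint S : S) = y from h)]
      exact Field.toIsField S.functionField
    rw [ringKrullDim_eq_zero_of_isField hF] at hdim
    exact absurd hdim (by decide)
  have hηV : genericPoint S ∈ V :=
    ((genericPoint_spec S).mem_open_set_iff V.isOpen).2 (by simpa using hne)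
  obtain ⟨x₀, hx₀⟩ := (b ∣_ W).homeomorph.surjective ⟨genericPoint S, hη⟩
  have hx₀' : b x₀.1 = genericPoint S := by
    rw [← show W.ι ((b ∣_ W) x₀) = b x₀.1 from by
      rw [← Scheme.Hom.comp_apply, morphismRestrict_ι]; rfl]
    exact congrArg Subtype.val hx₀
  haveI : Nonempty (b ⁻¹ᵁ V) := ⟨⟨x₀.1, by show b x₀.1 ∈ V; rw [hx₀']; exact hηV⟩⟩
  set φ := (b.app V).hom
  have hinj : Function.Injective φ := by
    rw [injective_iff_map_eq_zero]
    intro r hr
    by_contra h0
    have hηr : genericPoint S ∈ S.basicOpen r := by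
      refine ((genericPoint_spec S).mem_open_set_iff (S.basicOpen r).isOpen).2 ?_
      rw [Set.univ_inter, Set.nonempty_iff_ne_empty]
      exact fun h => h0 ((basicOpen_eq_bot_iff r).1 (Opens.ext h))
    have h1 : x₀.1 ∈ b ⁻¹ᵁ S.basicOpen r := by show b x₀.1 ∈ S.basicOpen r; rw [hx₀']; exact hηr
    rw [Scheme.preimage_basicOpen, show b.app V r = 0 from hr, Scheme.basicOpen_zero] at h1
    exact h1
  refine ⟨hinj, fun s => ?_⟩
  have hc : IsCompact (b ⁻¹ᵁ V).1 := b.isCompact_preimage hV.isCompact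
  have hs : IsQuasiSeparated (b ⁻¹ᵁ V).1 := by
    have : QuasiSeparatedSpace (b ⁻¹ᵁ V : Scheme.{u}) := by
      haveI : IsAffine (V : Scheme.{u}) := hV
      exact quasiSeparatedSpace_of_quasiSeparated (b ∣_ V)
    have h := ((b ⁻¹ᵁ V).ι.isOpenEmbedding.isQuasiSeparated_iff (s := Set.univ)).mp isQuasiSeparated_univ
    rw [Set.image_univ, Scheme.Opens.range_ι] at h
    exact h
  have hW' : ∀ g : Γ(S, V), y ∉ S.basicOpen g → ∃ (n : ℕ) (c : Γ(S, V)), φ g ^ n * s = φ c := by
    intro g hg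
    have hD : S.basicOpen g ≤ W := fun q hq h => hg ((show q = y from h) ▸ hq)
    obtain ⟨c₀, hc₀⟩ := (bijective_app_of_le b W _ hD).2
      (X.presheaf.map (homOfLE (b.preimage_mono (S.basicOpen_le g))).op s)
    haveI := hV.isLocalization_basicOpen g
    obtain ⟨⟨c, ⟨_, n, rfl⟩⟩, hc'⟩ := IsLocalization.surj (M := Submonoid.powers g) c₀
    simp only [RingHom.algebraMap_toAlgebra] at hc'
    let res : Γ(X, b ⁻¹ᵁ V) ⟶ Γ(X, b ⁻¹ᵁ S.basicOpen g) :=
      X.presheaf.map (homOfLE (b.preimage_mono (S.basicOpen_le g))).op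
    have nat : ∀ r : Γ(S, V), res (b.app V r) =
        b.app (S.basicOpen g) (S.presheaf.map (homOfLE (S.basicOpen_le g)).op r) := fun r =>
      (congrArg (fun f => f r) (b.naturality (homOfLE (S.basicOpen_le g)).op)).symm
    have hdiff : res (φ g ^ n * s - φ c) = 0 := by
      rw [map_sub, map_mul, map_pow, sub_eq_zero]
      show res (b.app V g) ^ n * res s = res (b.app V c)
      rw [nat, nat, show res s = _ from hc₀.symm, ← map_pow, ← map_mul, mul_comm, ← map_pow]
      exact congrArg _ hc'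
    haveI := isLocalization_basicOpen_of_qcqs hc hs (b.app V g)
    have hdiff' : algebraMap Γ(X, b ⁻¹ᵁ V) Γ(X, X.basicOpen (b.app V g))
        (φ g ^ n * s - φ c) = 0 := by
      rw [RingHom.algebraMap_toAlgebra]
      have h5 := congrArg (X.presheaf.map (eqToHom (Scheme.preimage_basicOpen b g).symm).op) hdiff
      rw [map_zero] at h5
      rw [← h5, ← CommRingCat.comp_apply, ← Functor.map_comp]
      rfl
    obtain ⟨⟨_, k, rfl⟩, hk⟩ := (IsLocalization.map_eq_zero_iff (Submonoid.powers (b.app V g))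
      Γ(X, X.basicOpen (b.app V g)) _).mp hdiff'
    refine ⟨k + n, g ^ k * c, ?_⟩
    rw [mul_sub, sub_eq_zero] at hk
    rw [pow_add, mul_assoc, map_mul, map_pow]
    exact hk
  let J : Ideal Γ(S, V) :=
    { carrier := {r | ∃ c, φ r * s = φ c}
      add_mem' := by rintro a a' ⟨c, hc⟩ ⟨c', hc'⟩; exact ⟨c + c', by rw [map_add, add_mul, hc, hc', map_add]⟩
      zero_mem' := ⟨0, by rw [map_zero, zero_mul]⟩
      smul_mem' := by rintro r a ⟨c, hc⟩; exact ⟨r * c, by rw [smul_eq_mul, map_mul, mul_assoc, hc, map_mul]⟩ }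
  suffices J = ⊤ by
    obtain ⟨c, hc⟩ := (show (1 : Γ(S, V)) ∈ J from this ▸ trivial)
    exact ⟨c, by rw [map_one, one_mul] at hc; exact hc.symm⟩
  by_contra hJ
  obtain ⟨M, hM, hJM⟩ := Ideal.exists_le_maximal J hJ
  let pt : PrimeSpectrum Γ(S, V) := ⟨M, hM.isPrime⟩
  have hqV : hV.fromSpec pt ∈ V := hV.range_fromSpec.le ⟨pt, rfl⟩
  by_cases hq : hV.fromSpec pt = y
  · subst hq
    letI := S.presheaf.algebra_section_stalk (U := V) ⟨hV.fromSpec pt, hqV⟩
    haveI hloc : IsLocalization pt.asIdeal.primeCompl (S.presheaf.stalk (hV.fromSpec pt)) :=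
      hV.isLocalization_stalk' pt hqV
    obtain ⟨u, hu, hu'⟩ := exists_denom (A := S.presheaf.stalk (hV.fromSpec pt)) pt.asIdeal hdim φ hinj s
      fun g hg => hW' g (fun h => by
        rw [← hV.fromSpec_image_basicOpen] at h
        obtain ⟨pt', hpt', he⟩ := h
        rw [hV.fromSpec.isOpenEmbedding.injective he] at hpt'
        exact hpt' hg)
    exact hu (hJM hu')
  · obtain ⟨g, hgW, hqg⟩ := hV.exists_basicOpen_le (V := V ⊓ W) ⟨_, hqV, hq⟩ hqV
    obtain ⟨n, c, hn⟩ := hW' g fun h => (hgW h).2 rfl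
    have hgM : g ∉ M := by
      rw [← hV.fromSpec_image_basicOpen] at hqg
      obtain ⟨pt', hpt', he⟩ := hqg
      rwa [hV.fromSpec.isOpenEmbedding.injective he] at hpt'
    exact hgM (hM.isPrime.mem_of_pow_mem n (hJM ⟨c, by rw [map_pow]; exact hn⟩))

end Groth.Agent.Lib.Flat55.ContractionPush
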