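import Groth.Agent.Lib.Flat55.CurveValuation
import Groth.Agent.Lib.ModelFibre.CodimOne

/-!
# Modifications of normal relative curves over a valuation ring with finite spectrum
-/

set_option autoImplicit false
set_option linter.style.haveILetI false
set_option maxHeartbeats 1000000

universe u

open CategoryTheory CategoryTheory.Limits AlgebraicGeometry TopologicalSpace
open Groth.Agent.Lib Groth.Agent.Lib.VarDim.Basic Groth.Agent.Lib.Flat55.FlatEquidim

namespace Groth.Agent.Lib.Flat55.CurveModification

/-- With domains as local rings, maximal generisations are unique. -/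
theorem isMax_unique {C : Scheme.{u}} (hdom : ∀ x : C, IsDomain (C.presheaf.stalk x)) {x z₁ z₂ : C}
    (h₁ : z₁ ⤳ x) (h₂ : z₂ ⤳ x) (m₁ : FlatEquidim.IsMax z₁) (m₂ : FlatEquidim.IsMax z₂) : z₁ = z₂ := by
  haveI := hdom x
  obtain ⟨p₁, hp₁⟩ : z₁ ∈ Set.range (C.fromSpecStalk x) := by
    rw [Scheme.range_fromSpecStalk]; exact h₁
  obtain ⟨p₂, hp₂⟩ : z₂ ∈ Set.range (C.fromSpecStalk x) := by
    rw [Scheme.range_fromSpecStalk]; exact h₂
  have e₁ := (genericPoint_specializes p₁).map (C.fromSpecStalk x).continuous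
  have e₂ := (genericPoint_specializes p₂).map (C.fromSpecStalk x).continuous
  rw [hp₁] at e₁
  rw [hp₂] at e₂
  exact (m₁ _ e₁).symm.trans (m₂ _ e₂)

/-- A connected scheme with finitely many maximal points and domains as local rings is irreducible. -/
theorem irreducibleSpace_of_finite {C : Scheme.{u}} [ConnectedSpace C]
    (hdom : ∀ x : C, IsDomain (C.presheaf.stalk x)) (hfin : {z : C | FlatEquidim.IsMax z}.Finite) :
    IrreducibleSpace C := by
  obtain ⟨x₀⟩ := (inferInstance : Nonempty C)
  obtain ⟨z₀, -, hz₀⟩ := exists_isMax_specializes x₀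
  have hopen : IsOpen (closure ({z₀} : Set C)) := by
    have e : closure ({z₀} : Set C) = (⋃ z ∈ {z : C | FlatEquidim.IsMax z} \ {z₀}, closure ({z} : Set C))ᶜ := by
      ext y
      simp only [Set.mem_compl_iff, Set.mem_iUnion, not_exists]
      constructor
      · intro hy z hz hyz
        exact hz.2 (isMax_unique hdom (specializes_iff_mem_closure.2 hyz)
          (specializes_iff_mem_closure.2 hy) hz.1 hz₀)
      · intro h
        obtain ⟨z, hzy, hz⟩ := exists_isMax_specializes y
        by_contra hy
        refine h z ⟨hz, fun he => ?_⟩ hzy.mem_closure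
        exact hy (Set.mem_singleton_iff.1 he ▸ hzy.mem_closure)
    rw [e, isOpen_compl_iff]
    exact hfin.sdiff.isClosed_biUnion fun z _ => isClosed_closure
  have h : closure ({z₀} : Set C) = Set.univ :=
    IsClopen.eq_univ ⟨isClosed_closure, hopen⟩ ⟨z₀, subset_closure rfl⟩
  rw [irreducibleSpace_def]
  show IsIrreducible (Set.univ : Set C)
  rw [← h]
  exact isIrreducible_singleton.closure

/-- Finitely many maximal points for a flat quasi-compact morphism locally of finite type over a
domain. -/
theorem finite_isMax {R : Type u} [CommRing R] [IsDomain R] {C : Scheme.{u}}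
    (φ : C ⟶ Spec (CommRingCat.of R)) [Flat φ] [LocallyOfFiniteType φ] [QuasiCompact φ] :
    {z : C | FlatEquidim.IsMax z}.Finite := by
  set η := genericPoint (Spec (CommRingCat.of R))
  haveI : LocallyOfFiniteType (X := φ.fiber η) (Y := Spec (CommRingCat.of
      ((Spec (CommRingCat.of R)).residueField η))) (φ.fiberToSpecResidueField η) :=
    inferInstanceAs (LocallyOfFiniteType (pullback.snd φ ((Spec (CommRingCat.of R)).fromSpecResidueField η)))
  haveI : IsLocallyNoetherian (φ.fiber η) :=
    LocallyOfFiniteType.isLocallyNoetherian (φ.fiberToSpecResidueField η)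
  haveI : IsNoetherian (φ.fiber η) := {}
  have hM : {a : φ.fiber η | FlatEquidim.IsMax a}.Finite := by
    refine Set.Finite.of_finite_image (f := fun a => closure ({a} : Set (φ.fiber η))) ?_ ?_
    · refine (NoetherianSpace.finite_irreducibleComponents (α := φ.fiber η)).subset ?_
      rintro _ ⟨a, ha, rfl⟩
      exact closure_mem_irreducibleComponents ha
    · intro a _ b _ hab
      exact IsGenericPoint.eq (isGenericPoint_closure a)
        (show IsGenericPoint b (closure {a}) from hab.symm)
  refine (hM.image (φ.fiberι η)).subset fun z hz => ?_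
  have hφz : φ z = η := eq_genericPoint_of_isMax (isMax_apply φ hz)
  obtain ⟨a, rfl⟩ : z ∈ Set.range (φ.fiberι η) := by rw [φ.range_fiberι]; exact hφz
  exact ⟨a, (isMax_asFiber_iff φ a).2 (hz.isMaxFib φ), rfl⟩

/-- A scheme is integral when an integral open is schematically dense in it. -/
theorem vanishingIdeal_closure_eq_bot {X Y : Scheme.{u}} (f : X ⟶ Y) [IsReduced X]
    [IsSchemeTheoreticallyDominant f] :
    Scheme.IdealSheafData.vanishingIdeal (Closeds.closure (Set.range f)) = ⊥ := by
  have h := Scheme.IdealSheafData.map_vanishingIdeal f ⊤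
  rw [Scheme.IdealSheafData.vanishingIdeal_top, Scheme.nilradical_eq_bot,
    Scheme.IdealSheafData.map_bot, f.ker_eq_bot, Closeds.coe_top, Set.image_univ] at h
  exact h.symm

theorem closure_range_eq_univ {X Y : Scheme.{u}} (f : X ⟶ Y) [IsReduced X]
    [IsSchemeTheoreticallyDominant f] : closure (Set.range f) = Set.univ := by
  have h := congrArg (fun I : Y.IdealSheafData => (I.support : Set Y)) (vanishingIdeal_closure_eq_bot f)
  simpa using h

theorem isReduced_of_nilradical {Y : Scheme.{u}} (h : Y.nilradical = ⊥) : IsReduced Y := by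
  have haff : ∀ U : Y.Opens, IsAffineOpen U → _root_.IsReduced Γ(Y, U) := fun U hU => by
    refine ⟨fun s hs => ?_⟩
    have hmem : s ∈ Y.nilradical.ideal ⟨U, hU⟩ := by
      obtain ⟨n, hn⟩ := hs
      rw [Scheme.nilradical]
      exact ⟨n, by simpa using hn⟩
    rw [h] at hmem
    simpa using hmem
  have : ∀ x : Y, _root_.IsReduced (Y.presheaf.stalk x) := fun x => by
    obtain ⟨_, ⟨U, hU, rfl⟩, hx, -⟩ :=
      Y.isBasis_affineOpens.exists_subset_of_mem_open (Set.mem_univ x) isOpen_univ
    replace hU : IsAffineOpen U := hU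
    have : IsOpenImmersion hU.fromSpec := hU.isOpenImmersion_fromSpec
    have := haff U hU
    obtain ⟨P, rfl⟩ : ∃ P, hU.fromSpec P = x :=
      ⟨hU.primeIdealOf ⟨x, hx⟩, hU.fromSpec_primeIdealOf ⟨x, hx⟩⟩
    exact isReduced_of_injective (hU.fromSpec.stalkMap P).hom
      (asIso (hU.fromSpec.stalkMap P)).commRingCatIsoToRingEquiv.injective
  exact isReduced_of_isReduced_stalk Y

theorem isReduced_of_dominant {X Y : Scheme.{u}} (f : X ⟶ Y) [IsReduced X]
    [IsSchemeTheoreticallyDominant f] : IsReduced Y := by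
  refine isReduced_of_nilradical ?_
  have h : Closeds.closure (Set.range f) = ⊤ := Closeds.ext (closure_range_eq_univ f)
  rw [← Scheme.IdealSheafData.vanishingIdeal_top, ← h, vanishingIdeal_closure_eq_bot f]

/-- The source of a modification of an integral scheme is integral, and birational. -/
theorem modification {C C' : Scheme.{u}} [IsIntegral C] (f : C' ⟶ C) (U : C.Opens)
    (hU : IsSchemeTheoreticallyDominant U.ι) (hU' : IsSchemeTheoreticallyDominant (f ⁻¹ᵁ U).ι)
    (hfU : IsIso (f ∣_ U)) :
    ∃ _ : IsIntegral C', f (genericPoint C') = genericPoint C ∧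
      IsIso (f.stalkMap (genericPoint C')) := by
  haveI := hU
  haveI := hU'
  have hne : Nonempty U.toScheme := by
    by_contra h
    rw [not_nonempty_iff] at h
    have e := closure_range_eq_univ U.ι
    rw [Set.range_eq_empty, closure_empty] at e
    exact Set.empty_ne_univ e
  haveI : IsIntegral U.toScheme := isIntegral_of_isOpenImmersion U.ι
  haveI hTne : Nonempty (f ⁻¹ᵁ U).toScheme := (f ∣_ U).homeomorph.toEquiv.nonempty
  haveI : IsIntegral (f ⁻¹ᵁ U).toScheme := isIntegral_of_isOpenImmersion (f ∣_ U)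
  haveI : IsReduced C' := isReduced_of_dominant (f ⁻¹ᵁ U).ι
  haveI : IrreducibleSpace C' := by
    have h0 := (IrreducibleSpace.isIrreducible_univ (f ⁻¹ᵁ U).toScheme).image
      (f ⁻¹ᵁ U).ι ((f ⁻¹ᵁ U).ι.continuous.continuousOn)
    rw [Set.image_univ] at h0
    rw [irreducibleSpace_def]
    show IsIrreducible (Set.univ : Set C')
    rw [← closure_range_eq_univ (f ⁻¹ᵁ U).ι]
    exact h0.closure
  haveI : IsIntegral C' := isIntegral_of_irreducibleSpace_of_isReduced C'
  have hξU : genericPoint C ∈ U := by
    obtain ⟨t⟩ := hne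
    exact Groth.Agent.H26.BirationalZMT.genericPoint_mem t.2
  have hηT : genericPoint C' ∈ f ⁻¹ᵁ U := by
    obtain ⟨t⟩ := hTne
    exact Groth.Agent.H26.BirationalZMT.genericPoint_mem t.2
  obtain ⟨t₀, ht₀⟩ := (f ∣_ U).surjective ⟨genericPoint C, hξU⟩
  have ht₀' : f t₀.1 = genericPoint C := by
    have e := congrArg Subtype.val ht₀
    rwa [morphismRestrict_base_coe] at e
  refine ⟨inferInstance, (Specializes.antisymm (genericPoint_specializes _)
    (ht₀' ▸ (genericPoint_specializes t₀.1).map f.continuous)).eq.symm, ?_⟩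
  have h0 : IsIso ((f ∣_ U).stalkMap ⟨genericPoint C', hηT⟩) := inferInstance
  exact ((MorphismProperty.isomorphisms CommRingCat).arrow_mk_iso_iff
    (morphismRestrictStalkMap f U ⟨genericPoint C', hηT⟩)).mp h0

/-- The structure map into the function field of a flat integral scheme is injective. -/
theorem injective_toStalk {R : Type u} [CommRing R] [IsDomain R] {C : Scheme.{u}}
    (φ : C ⟶ Spec (CommRingCat.of R)) [Flat φ] [IsIntegral C] :
    Function.Injective (CurveValuation.toStalk φ (genericPoint C)) := by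
  have hφ : φ (genericPoint C) = genericPoint (Spec (CommRingCat.of R)) := eq_genericPoint_of_isMax (isMax_apply φ isMax_genericPoint)
  have hF : IsField ((Spec (CommRingCat.of R)).presheaf.stalk (φ (genericPoint C))) := by
    rw [hφ]
    exact Field.toIsField (Spec (CommRingCat.of R)).functionField
  have he : CurveValuation.toStalk φ (genericPoint C) = ((φ.stalkMap (genericPoint C)).hom.comp
      ((Spec (CommRingCat.of R)).presheaf.germ ⊤ (φ (genericPoint C)) trivial).hom).comp (Scheme.ΓSpecIso (CommRingCat.of R)).inv.hom :=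
    RingHom.ext fun r => (φ.germ_stalkMap_apply ⊤ (genericPoint C) trivial _).symm
  rw [he, RingHom.coe_comp, RingHom.coe_comp]
  refine (Function.Injective.comp ?_ ?_).comp
    (Scheme.ΓSpecIso (CommRingCat.of R)).symm.commRingCatIsoToRingEquiv.injective
  · letI := hF.toField
    exact RingHom.injective _
  · haveI : Nonempty ((⊤ : (Spec (CommRingCat.of R)).Opens) : Set (Spec (CommRingCat.of R))) := ⟨⟨φ (genericPoint C), trivial⟩⟩
    exact germ_injective_of_isIntegral (U := ⊤) (Spec (CommRingCat.of R)) (φ (genericPoint C)) trivial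

section main

variable {R : Type u} [CommRing R] [IsDomain R] [ValuationRing R] {C C' : Scheme.{u}}
  (φ : C ⟶ Spec (CommRingCat.of R)) [Flat φ] [LocallyOfFinitePresentation φ] [IsIntegral C]

omit [LocallyOfFinitePresentation φ] in
/-- A modification is an isomorphism near every fibre-generic point. -/
theorem exists_nhds_isIso (hN : Pi1.IsNormalScheme C)
    (hd : ∀ z : C, IsMaxFib φ z → tdAt φ z = 1) {x : C} (hx : IsMaxFib φ x)
    (f : C' ⟶ C) [IsProper f] [IsIntegral C'] (hgen : f (genericPoint C') = genericPoint C)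
    (hbir : IsIso (f.stalkMap (genericPoint C'))) :
    ∃ V : C.Opens, x ∈ V ∧ IsIso (f ∣_ V) := by
  have key : ∀ z : C, IsMaxFib φ z → Cyc.Residue.trdegAt φ z = 1 := fun z hz =>
    Cardinal.toNat_eq_one.1 (hd z hz)
  haveI : ValuationRing (C.presheaf.stalk x) :=
    CurveValuation.valuationRing_stalk φ hN x (injective_toStalk φ) (key x hx)
      (key _ (isMax_genericPoint.isMaxFib φ))
  obtain ⟨z, hz⟩ : x ∈ Set.range f :=
    (genericPoint_specializes x).mem_closed f.isClosedMap.isClosed_range ⟨_, hgen⟩
  have hsub := ModelFibre.CodimOne.subsingleton_fibre f hgen hbir x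
  subst hz
  refine Groth.Agent.H26.BirationalZMT.exists_isIso_morphismRestrict f hgen hbir z (hN _).2 ?_
  rw [Scheme.Hom.quasiFiniteAt_iff_isOpen_singleton_asFiber]
  have : Subsingleton (f.fiber (f z)) := by
    refine ⟨fun a b => (f.fiberHomeo (f z)).injective (Subtype.ext ?_)⟩
    exact hsub ((f.fiberHomeo (f z)) a).2 ((f.fiberHomeo (f z)) b).2
  exact isOpen_discrete _

omit [IsDomain R] [ValuationRing R] [Flat φ] [IsIntegral C] in
/-- A closed set avoiding the fibre-generic points of a relative curve over a finite base is finite. -/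
theorem finite_of_closed [Finite (PrimeSpectrum R)] [QuasiCompact φ]
    (hdim : ∀ s : Spec (CommRingCat.of R), ∀ Z ∈ irreducibleComponents (φ.fiber s : Type u),
      topologicalKrullDim Z = ((1 : ℕ) : WithBot ℕ∞))
    (T : Set C) (hT : IsClosed T) (hTm : ∀ z ∈ T, ¬ IsMaxFib φ z) : T.Finite := by
  haveI : Finite (Spec (CommRingCat.of R)) := inferInstanceAs (Finite (PrimeSpectrum R))
  have hcover : T ⊆ ⋃ s, φ.fiberι s '' (φ.fiberι s ⁻¹' T) := fun c hc => by
    obtain ⟨a, ha⟩ : c ∈ Set.range (φ.fiberι (φ c)) := by rw [φ.range_fiberι]; rfl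
    exact Set.mem_iUnion.2 ⟨_, a, show φ.fiberι (φ c) a ∈ T by rw [ha]; exact hc, ha⟩
  refine (Set.finite_iUnion fun s => Set.Finite.image _ ?_).subset hcover
  set κ := (Spec (CommRingCat.of R)).residueField s
  set q := φ.fiberToSpecResidueField s
  haveI : LocallyOfFiniteType (X := φ.fiber s) (Y := Spec (CommRingCat.of κ)) q :=
    inferInstanceAs (LocallyOfFiniteType (pullback.snd φ ((Spec (CommRingCat.of R)).fromSpecResidueField s)))
  haveI : IsLocallyNoetherian (φ.fiber s) := LocallyOfFiniteType.isLocallyNoetherian q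
  haveI : IsNoetherian (φ.fiber s) := {}
  have hpd := (forall_component_iff (K := κ) q 1).1 (hdim s)
  set F := φ.fiberι s ⁻¹' T
  have hF : IsClosed F := hT.preimage (φ.fiberι s).continuous
  have hpt : ∀ a ∈ F, IsClosed ({a} : Set (φ.fiber s)) := fun a ha => by
    refine (pdim_eq_zero_iff (K := κ) q a).1 ?_
    obtain ⟨b, hba, hb⟩ := exists_isMax_specializes a
    have hne : b ≠ a := fun h => hTm _ ha ((isMax_asFiber_iff φ a).1 (h ▸ hb))
    have := pdim_lt (K := κ) q hba hne
    rw [hpd b hb] at this
    omega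
  obtain ⟨S, hSf, hSc, hSi, hFS⟩ := NoetherianSpace.exists_finite_set_isClosed_irreducible hF
  rw [hFS]
  refine hSf.sUnion fun t ht => ?_
  obtain ⟨g, hg⟩ := QuasiSober.sober (hSi t ht) (hSc t ht)
  have hgF : g ∈ F := hFS ▸ Set.mem_sUnion.2 ⟨t, ht, hg.mem⟩
  rw [← hg.def, (hpt g hgF).closure_eq]
  exact Set.finite_singleton g

/-- The modification locus is finite. -/
theorem exists_open_finite_compl [Finite (PrimeSpectrum R)] [QuasiCompact φ]
    (hN : Pi1.IsNormalScheme C)
    (hdim : ∀ s : Spec (CommRingCat.of R), ∀ Z ∈ irreducibleComponents (φ.fiber s : Type u),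
      topologicalKrullDim Z = ((1 : ℕ) : WithBot ℕ∞))
    (f : C' ⟶ C) [IsProper f] [IsIntegral C'] (hgen : f (genericPoint C') = genericPoint C)
    (hbir : IsIso (f.stalkMap (genericPoint C'))) :
    ∃ W : C.Opens, ((W : Set C)ᶜ).Finite ∧ IsIso (f ∣_ W) := by
  let V : {V : C.Opens // IsIso (f ∣_ V)} → C.Opens := Subtype.val
  refine ⟨⨆ i, V i, finite_of_closed φ hdim _ (⨆ i, V i).2.isClosed_compl fun z hz hm => ?_, ?_⟩
  · obtain ⟨W, hzW, hW⟩ := exists_nhds_isIso φ hN ((forall_fibre_component_iff φ 1).1 hdim) hm f hgen hbir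
    exact hz (Opens.mem_iSup.2 ⟨⟨W, hW⟩, hzW⟩)
  · let 𝒰 := Scheme.Opens.iSupOpenCover V
    refine (IsZariskiLocalAtTarget.iff_of_openCover (P := .isomorphisms _) 𝒰).mpr fun x => ?_
    refine (MorphismProperty.arrow_mk_iso_iff (.isomorphisms _)
      ((morphismRestrictRestrict ..).symm ≪≫ morphismRestrictOpensRange ..)).mp ?_
    have h : Scheme.Opens.ι _ ''ᵁ (𝒰.f x).opensRange = V x := by
      simp only [Scheme.Opens.iSupOpenCover, 𝒰, ← Scheme.Hom.opensRange_comp, Scheme.homOfLE_ι,
        Scheme.Opens.opensRange_ι]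
    rw [h]
    exact x.2

end main

end Groth.Agent.Lib.Flat55.CurveModification
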