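import Groth.Agent.Lib.Flat55.CurveNormalizationBC
import Groth.Agent.Lib.Flat55.NormalizationPIScheme
import Mathlib.AlgebraicGeometry.Geometrically.Connected
import Mathlib.AlgebraicGeometry.Geometrically.Irreducible
import Mathlib.AlgebraicGeometry.Geometrically.Reduced

/-!
# The smooth model of a geometrically irreducible curve is geometrically connected
-/

set_option autoImplicit false

universe u

open CategoryTheory CategoryTheory.Limits AlgebraicGeometry TopologicalSpace
open Groth.Agent.Lib

namespace Groth.Agent.Lib.Flat55.CurveNormalizationH0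

theorem irreducibleSpace_of_homeomorph {A B : Type*} [TopologicalSpace A] [TopologicalSpace B]
    [IrreducibleSpace A] (e : A ≃ₜ B) : IrreducibleSpace B :=
  { toPreirreducibleSpace := e.surjective.preirreducibleSpace e.continuous
    toNonempty := e.toEquiv.nonempty_congr.1 inferInstance }

variable (k : Type u) [Field k] (X : Scheme.{u}) [X.Over (Spec (CommRingCat.of k))]
  [GeometricallyIrreducible (X ↘ Spec (CommRingCat.of k))] (K : Type u) [Field K] [Algebra k K]

theorem irreducibleSpace_pullback (L : Type u) [Field L] (y : Spec (CommRingCat.of L) ⟶ Spec (CommRingCat.of K)) :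
    IrreducibleSpace ↥(pullback ((Curv2.bc k X K).nilradical.subschemeι ≫ Curv2.bcSnd k X K) y) := by
  let ι := (Curv2.bc k X K).nilradical.subschemeι
  let s := Curv2.bcSnd k X K
  have h0 : IrreducibleSpace ↥(pullback s y) := by
    have : IrreducibleSpace ↥(pullback (X ↘ Spec (CommRingCat.of k))
        (y ≫ Spec.map (CommRingCat.ofHom (algebraMap k K)))) :=
      GeometricallyIrreducible.geometrically_irreducibleSpace (f := X ↘ Spec (CommRingCat.of k))
        (y ≫ Spec.map (CommRingCat.ofHom (algebraMap k K))) _ _ (IsPullback.of_hasPullback _ _)
    exact irreducibleSpace_of_homeomorph (pullbackLeftPullbackSndIso (X ↘ Spec (CommRingCat.of k))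
      (Spec.map (CommRingCat.ofHom (algebraMap k K))) y).inv.homeomorph
  have h1 : IrreducibleSpace ↥(pullback ι (pullback.fst s y)) := by
    have hsurj : Surjective ι := ⟨(NormalizationPIScheme.isHomeomorph_nilradical _).surjective⟩
    have : Surjective (pullback.snd ι (pullback.fst s y)) := MorphismProperty.pullback_snd _ _ hsurj
    have : IsClosedImmersion (pullback.snd ι (pullback.fst s y)) := inferInstance
    have hh : IsHomeomorph (pullback.snd ι (pullback.fst s y)) :=
      isHomeomorph_iff_continuous_isClosedMap_bijective.2
        ⟨(pullback.snd ι (pullback.fst s y)).continuous,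
          (pullback.snd ι (pullback.fst s y)).isClosedEmbedding.isClosedMap,
          (pullback.snd ι (pullback.fst s y)).isClosedEmbedding.injective,
          (pullback.snd ι (pullback.fst s y)).surjective⟩
    exact irreducibleSpace_of_homeomorph hh.homeomorph.symm
  exact irreducibleSpace_of_homeomorph (pullbackRightPullbackFstIso s y ι).hom.homeomorph

/-- The normalization of the reduced base change is geometrically connected when it is smooth. -/
theorem geometricallyConnected [LocallyOfFiniteType (X ↘ Spec (CommRingCat.of k))]
    [IsIntegral (Curv2.bc k X K).nilradical.subscheme]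
    [QuasiCompact ((Curv2.bc k X K).nilradical.subscheme.fromSpecStalk
      (genericPoint (Curv2.bc k X K).nilradical.subscheme))]
    [QuasiSeparated ((Curv2.bc k X K).nilradical.subscheme.fromSpecStalk
      (genericPoint (Curv2.bc k X K).nilradical.subscheme))]
    [Smooth (Curv2.normalizationι (Curv2.bc k X K).nilradical.subscheme ≫
      (Curv2.bc k X K).nilradical.subschemeι ≫ Curv2.bcSnd k X K)] :
    GeometricallyConnected (Curv2.normalizationι (Curv2.bc k X K).nilradical.subscheme ≫
      (Curv2.bc k X K).nilradical.subschemeι ≫ Curv2.bcSnd k X K) := by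
  let Z := (Curv2.bc k X K).nilradical.subscheme
  let h := (Curv2.bc k X K).nilradical.subschemeι ≫ Curv2.bcSnd k X K
  refine ⟨geometrically_iff_of_isClosedUnderIsomorphisms.mpr fun L _ y => ?_⟩
  let : Algebra K L := (Spec.preimage y).hom.toAlgebra
  have hy : Spec.map (CommRingCat.ofHom (algebraMap K L)) = y := Spec.map_preimage y
  have := irreducibleSpace_pullback k X K L (Spec.map (CommRingCat.ofHom (algebraMap K L)))
  have hint : IsIntegral (pullback h (Spec.map (CommRingCat.ofHom (algebraMap K L)))).nilradical.subscheme := by
    have := NormalizationPIScheme.isReduced_nilradical (pullback h (Spec.map (CommRingCat.ofHom (algebraMap K L))))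
    have := irreducibleSpace_of_homeomorph (NormalizationPIScheme.isHomeomorph_nilradical
      (pullback h (Spec.map (CommRingCat.ofHom (algebraMap K L))))).homeomorph.symm
    exact isIntegral_of_irreducibleSpace_of_isReduced _
  obtain ⟨e, -⟩ := CurveNormalizationBC.exists_iso (X := Z) K L h
  have := irreducibleSpace_of_homeomorph e.inv.homeomorph
  rw [← hy]
  exact (inferInstance : ConnectedSpace ↥(pullback (Curv2.normalizationι Z ≫ h)
    (Spec.map (CommRingCat.ofHom (algebraMap K L)))))

end Groth.Agent.Lib.Flat55.CurveNormalizationH0
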