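import Groth.Agent.Lib.Flat55.FibreDimVal
import Groth.Agent.Lib.Flat55.FlatEquidim
import Groth.Agent.H20.FlatFibreTrdeg
import Groth.Prelude.Def_Pi1
import Mathlib.AlgebraicGeometry.FunctionField
import Mathlib.RingTheory.Valuation.ValuationRing
import Mathlib.RingTheory.Polynomial.IntegralNormalization
import Mathlib.RingTheory.AlgebraicIndependent.TranscendenceBasis

/-!
# Fibre-generic points of normal relative curves over a valuation ring
-/

set_option autoImplicit false
set_option linter.style.haveILetI false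
set_option maxHeartbeats 1000000

universe u

open CategoryTheory AlgebraicGeometry Polynomial IsLocalRing
open Groth.Agent.Lib Groth.Agent.Lib.VarDim.Basic Groth.Agent.Lib.Flat55.FlatEquidim

namespace Groth.Agent.Lib.Flat55.CurveValuation

/-- A root of a polynomial with a unit coefficient over an integrally closed local domain is integral
or has integral inverse. -/
theorem mem_or_inv_mem {O L : Type u} [CommRing O] [IsDomain O] [IsLocalRing O]
    [IsIntegrallyClosed O] [Field L] [Algebra O L] [IsFractionRing O L] (z : L) :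
    ∀ (d : ℕ) (P : O[X]), P.natDegree ≤ d → (∃ i, IsUnit (P.coeff i)) → aeval z P = 0 →
      IsLocalization.IsInteger O z ∨ IsLocalization.IsInteger O z⁻¹ := by
  intro d
  induction d with
  | zero =>
    intro P hP ⟨i, hi⟩ h0
    rw [eq_C_of_natDegree_le_zero hP] at h0 hi
    rw [aeval_C] at h0
    rcases eq_or_ne i 0 with rfl | hne
    · rw [coeff_C_zero] at hi
      exact absurd h0 (hi.map (algebraMap O L)).ne_zero
    · rw [coeff_C, if_neg hne] at hi
      exact absurd hi not_isUnit_zero
  | succ d ih =>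
    intro P hP ⟨i, hi⟩ h0
    by_cases hlt : P.natDegree ≤ d
    · exact ih P hlt ⟨i, hi⟩ h0
    have hdeg : P.natDegree = d + 1 := by omega
    set a := P.coeff (d + 1) with ha
    have hint : IsIntegral O (algebraMap O L a * z) := by
      have := isIntegral_leadingCoeff_smul P z h0
      rwa [leadingCoeff, hdeg, Algebra.smul_def] at this
    obtain ⟨b, hb⟩ := IsIntegrallyClosed.isIntegral_iff.1 hint
    by_cases hua : IsUnit a
    · obtain ⟨w, hw⟩ := hua
      refine .inl ⟨↑w⁻¹ * b, ?_⟩
      rw [map_mul, hb, ← mul_assoc, ← map_mul, ← hw, Units.inv_mul, map_one, one_mul]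
    by_cases hub : IsUnit b
    · obtain ⟨w, hw⟩ := hub
      refine .inr ⟨↑w⁻¹ * a, ?_⟩
      refine eq_inv_of_mul_eq_one_left ?_
      rw [map_mul, mul_assoc, ← hb, ← map_mul, ← hw, Units.inv_mul, map_one]
    let P' : O[X] := P.eraseLead + C b * X ^ d
    have hP' : P'.natDegree ≤ d := by
      refine natDegree_add_le_of_degree_le ?_ (natDegree_C_mul_X_pow_le _ _)
      exact (eraseLead_natDegree_le P).trans (by omega)
    have h0' : aeval z P' = 0 := by
      have e := congrArg (aeval z) P.eraseLead_add_C_mul_X_pow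
      rw [h0, map_add, map_mul, map_pow, aeval_C, aeval_X, leadingCoeff, hdeg, pow_succ,
        ← ha] at e
      rw [map_add, map_mul, map_pow, aeval_C, aeval_X, hb]
      linear_combination e
    refine ih P' hP' ?_ h0'
    have hine : i ≠ d + 1 := fun h => hua (ha ▸ h ▸ hi)
    refine ⟨i, ?_⟩
    rw [coeff_add, coeff_C_mul, coeff_X_pow, eraseLead_coeff_of_ne i (hdeg ▸ hine)]
    by_cases hid : i = d
    · rw [if_pos hid, mul_one]
      by_contra hnu
      have h1 : P.coeff i + b ∈ maximalIdeal O := hnu
      have h2 : b ∈ maximalIdeal O := hub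
      exact (Ideal.add_mem_iff_left _ h2).1 h1 hi
    · rwa [if_neg hid, mul_zero, add_zero]

/-- An integrally closed local domain containing a "Gauss point" of a valuation ring, with fraction
field algebraic over it, is a valuation ring. -/
theorem valuationRing_of {R O L : Type u} [CommRing R] [IsDomain R] [ValuationRing R] [CommRing O]
    [IsDomain O] [IsLocalRing O] [IsIntegrallyClosed O] [Field L] [Algebra O L] [IsFractionRing O L]
    (α : R →+* O) (hα : Function.Injective α) (t : O)
    (hunit : ∀ G : R[X], (∃ i, G.coeff i = 1) → IsUnit (G.eval₂ α t))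
    (halg : ∀ z : L, ∃ Q : Polynomial R[X], Q ≠ 0 ∧
      Q.eval₂ ((algebraMap O L).comp (eval₂RingHom α t)) z = 0) :
    ValuationRing O := by
  classical
  refine (ValuationRing.iff_isInteger_or_isInteger O L).2 fun z => ?_
  obtain ⟨Q, hQ, hz⟩ := halg z
  let s : Finset (ℕ × ℕ) := Q.support.sigma (fun i => (Q.coeff i).support) |>.image
    fun p => (p.1, p.2)
  have hs : s.Nonempty := by
    obtain ⟨i, hi⟩ := support_nonempty.2 hQ
    obtain ⟨m, hm⟩ := support_nonempty.2 (mem_support_iff.1 hi)
    exact ⟨(i, m), Finset.mem_image.2 ⟨⟨i, m⟩, Finset.mem_sigma.2 ⟨hi, hm⟩, rfl⟩⟩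
  obtain ⟨⟨i₀, m₀⟩, hmem, hdvd⟩ :=
    FibreDimVal.exists_mem_forall_dvd s hs fun p => (Q.coeff p.1).coeff p.2
  set c := (Q.coeff i₀).coeff m₀ with hc
  have hc0 : c ≠ 0 := by
    obtain ⟨⟨i, m⟩, him, he⟩ := Finset.mem_image.1 hmem
    obtain ⟨rfl, rfl⟩ := Prod.mk.inj he
    exact mem_support_iff.1 (Finset.mem_sigma.1 him).2
  have hall : ∀ i m, c ∣ (Q.coeff i).coeff m := fun i m => by
    by_cases h : (Q.coeff i).coeff m = 0
    · rw [h]; exact dvd_zero c
    refine hdvd (i, m) (Finset.mem_image.2 ⟨⟨i, m⟩, Finset.mem_sigma.2 ⟨?_, mem_support_iff.2 h⟩, rfl⟩)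
    exact mem_support_iff.2 fun h0 => h (by rw [h0, coeff_zero])
  obtain ⟨Q₁, hQ₁⟩ : C (C c) ∣ Q := C_dvd_iff_dvd_coeff _ _ |>.2 fun i =>
    C_dvd_iff_dvd_coeff _ _ |>.2 (hall i)
  have h1 : (Q₁.coeff i₀).coeff m₀ = 1 := by
    refine mul_left_cancel₀ hc0 ?_
    rw [mul_one]
    conv_rhs => rw [hc, hQ₁, coeff_C_mul, coeff_C_mul]
  refine mem_or_inv_mem z (Q₁.map (eval₂RingHom α t)).natDegree _ le_rfl
    ⟨i₀, ?_⟩ ?_
  · rw [coeff_map]
    exact hunit _ ⟨m₀, h1⟩
  · rw [hQ₁, eval₂_mul, eval₂_C, RingHom.comp_apply, coe_eval₂RingHom, eval₂_C] at hz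
    rw [aeval_def, eval₂_map]
    refine (mul_eq_zero.1 hz).resolve_left fun h0 => hc0 (hα ?_)
    rw [map_zero]
    exact IsFractionRing.injective O L (h0.trans (map_zero _).symm)

variable {R : Type u} [CommRing R] [IsDomain R] {C : Scheme.{u}}
  (φ : C ⟶ Spec (CommRingCat.of R))

/-- The structure homomorphism into a local ring. -/
noncomputable def toStalk (x : C) : R →+* C.presheaf.stalk x :=
  ((C.presheaf.germ ⊤ x trivial).hom.comp φ.appTop.hom).comp
    (Scheme.ΓSpecIso (CommRingCat.of R)).inv.hom

omit [IsDomain R] in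
theorem residue_toStalk (x : C) (r : R) :
    (C.residue x).hom (toStalk φ x r) = (φ.residueFieldMap x).hom
      (((Spec (CommRingCat.of R)).residue (φ x)).hom
        ((Spec (CommRingCat.of R)).presheaf.germ ⊤ (φ x) trivial
          ((Scheme.ΓSpecIso (CommRingCat.of R)).inv r))) := by
  set r' := (Scheme.ΓSpecIso (CommRingCat.of R)).inv r
  have h := congrArg (fun g : (Spec (CommRingCat.of R)).presheaf.stalk (φ x) ⟶ C.residueField x =>
    g.hom ((Spec (CommRingCat.of R)).presheaf.germ ⊤ (φ x) trivial r'))
    (Scheme.residue_residueFieldMap φ x)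
  simp only [CommRingCat.hom_comp, RingHom.comp_apply] at h
  rw [h]
  congr 1
  exact (φ.germ_stalkMap_apply ⊤ x trivial r').symm

/-- The base homomorphism into a residue field of `Spec R`. -/
noncomputable def toResidue (s : Spec (CommRingCat.of R)) :
    R →+* (Spec (CommRingCat.of R)).residueField s :=
  ((Spec (CommRingCat.of R)).residue s).hom.comp
    (((Spec (CommRingCat.of R)).presheaf.germ ⊤ s trivial).hom.comp
      (Scheme.ΓSpecIso (CommRingCat.of R)).inv.hom)

omit [IsDomain R] in
theorem residue_comp_toStalk (x : C) :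
    (C.residue x).hom.comp (toStalk φ x) = (φ.residueFieldMap x).hom.comp (toResidue (φ x)) :=
  RingHom.ext fun r => residue_toStalk φ x r

omit [IsDomain R] in
/-- Residue fields of `Spec R` consist of fractions. -/
theorem exists_frac (s : Spec (CommRingCat.of R)) (c : (Spec (CommRingCat.of R)).residueField s) :
    ∃ a b : R, toResidue s b ≠ 0 ∧ c * toResidue s b = toResidue s a := by
  obtain ⟨c, rfl⟩ := (Spec (CommRingCat.of R)).residue_surjective s c
  let S := (Spec.structureSheaf R).presheaf.stalk s
  obtain ⟨⟨a, b⟩, hab⟩ :=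
    IsLocalization.surj (M := s.asIdeal.primeCompl) (S := S) (show S from c)
  refine ⟨a, b.1, ?_, ?_⟩
  · have hu : IsUnit (algebraMap R S b.1) := IsLocalization.map_units S b
    exact (hu.map ((Spec (CommRingCat.of R)).residue s).hom).ne_zero
  · exact ((map_mul ((Spec (CommRingCat.of R)).residue s).hom _ _).symm).trans
      (congrArg ((Spec (CommRingCat.of R)).residue s).hom hab)

omit [IsDomain R] in
theorem exists_transcendental {κ E : Type u} [CommRing κ] [CommRing E] [Algebra κ E]
    (h : Algebra.trdeg κ E = 1) : ∃ t : E, Transcendental κ t := by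
  have : ¬ Algebra.IsAlgebraic κ E := fun _ => by simp [trdeg_eq_zero] at h
  obtain ⟨t, ht⟩ := not_forall.1 fun h' => this ⟨h'⟩
  exact ⟨t, ht⟩

omit [IsDomain R] in
theorem isUnit_eval₂ (x : C) (t : C.presheaf.stalk x)
    (ht : letI := (φ.residueFieldMap x).hom.toAlgebra
      Transcendental ((Spec (CommRingCat.of R)).residueField (φ x)) ((C.residue x).hom t))
    (G : R[X]) (hG : ∃ i, G.coeff i = 1) : IsUnit (G.eval₂ (toStalk φ x) t) := by
  letI := (φ.residueFieldMap x).hom.toAlgebra
  obtain ⟨i, hi⟩ := hG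
  by_contra hnu
  have h0 : (C.residue x).hom (G.eval₂ (toStalk φ x) t) = 0 :=
    (IsLocalRing.residue_eq_zero_iff _).2 hnu
  rw [hom_eval₂, residue_comp_toStalk, ← eval₂_map] at h0
  have h1 : G.map (toResidue (φ x)) = 0 := transcendental_iff.1 ht _ (by rw [aeval_def]; exact h0)
  have h2 := congrArg (fun p => p.coeff i) h1
  simp only [coeff_map, hi, map_one, coeff_zero] at h2
  exact one_ne_zero h2

/-- If `L` has transcendence degree at most one over `R` and `t` is transcendental, every element of
`L` is a root of a nonzero polynomial over `R[t]`. -/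
theorem exists_root_poly {R L : Type u} [CommRing R] [IsDomain R] [Field L] (β : R →+* L) (t : L)
    (htr : letI := β.toAlgebra; Algebra.trdeg R L ≤ 1)
    (hinj : ∀ G : R[X], G.eval₂ β t = 0 → G = 0) (z : L) :
    ∃ Q : Polynomial R[X], Q ≠ 0 ∧ Q.eval₂ (eval₂RingHom β t) z = 0 := by
  letI := β.toAlgebra
  have hind : AlgebraicIndependent R (fun _ : PUnit.{u + 1} => t) := by
    rw [algebraicIndependent_unique_type_iff]
    exact transcendental_iff.2 fun G hG => hinj G hG
  have hbasis : IsTranscendenceBasis R (fun _ : PUnit.{u + 1} => t) :=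
    hind.isTranscendenceBasis_of_trdeg_le_of_finite (by simpa using htr)
  obtain ⟨q, hq, hqz⟩ := (hbasis.isAlgebraic.isAlgebraic z)
  let A₁ := Algebra.adjoin R (Set.range fun _ : PUnit.{u + 1} => t)
  let ψ : R[X] →ₐ[R] A₁ := aeval ⟨t, Algebra.subset_adjoin ⟨PUnit.unit, rfl⟩⟩
  have hψ : Function.Surjective ψ := fun a => by
    have hrange : (a : L) ∈ (aeval t : R[X] →ₐ[R] L).range := by
      rw [← Algebra.adjoin_singleton_eq_range_aeval]
      exact Algebra.adjoin_mono (by simp) a.2
    obtain ⟨G, hG⟩ := hrange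
    exact ⟨G, Subtype.ext ((aeval_algHom_apply A₁.val _ G).symm.trans hG)⟩
  obtain ⟨Q, rfl⟩ := map_surjective ψ.toRingHom hψ q
  refine ⟨Q, fun h => hq (by rw [h, Polynomial.map_zero]), ?_⟩
  rw [aeval_def, eval₂_map] at hqz
  refine Eq.trans ?_ hqz
  congr 1
  refine Polynomial.ringHom_ext (fun r => ?_) ?_
  · show eval₂ β t (Polynomial.C r) = (ψ (Polynomial.C r) : L)
    rw [eval₂_C, aeval_C]
    rfl
  · show eval₂ β t X = (ψ X : L)
    rw [eval₂_X, aeval_X]

/-- The function field has transcendence degree at most one over the base. -/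
theorem trdeg_functionField_le [IsIntegral C]
    (hinj : Function.Injective (toStalk φ (genericPoint C)))
    (hξ : Cyc.Residue.trdegAt φ (genericPoint C) = 1) :
    letI := (toStalk φ (genericPoint C)).toAlgebra
    Algebra.trdeg R C.functionField ≤ 1 := by
  let ξ := genericPoint C
  let L := C.functionField
  letI : Algebra R L := (toStalk φ ξ).toAlgebra
  let κ := (Spec (CommRingCat.of R)).residueField (φ ξ)
  let F := C.residueField ξ
  letI : Algebra κ F := (φ.residueFieldMap ξ).hom.toAlgebra
  letI : Algebra R κ := (toResidue (φ ξ)).toAlgebra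
  letI : Algebra R F := ((C.residue ξ).hom.comp (toStalk φ ξ)).toAlgebra
  haveI : IsScalarTower R κ F := IsScalarTower.of_algebraMap_eq fun r =>
    RingHom.congr_fun (residue_comp_toStalk φ ξ) r
  let res : L →ₐ[R] F := { (C.residue ξ).hom with commutes' := fun _ => rfl }
  have hres : Function.Injective res := RingHom.injective (R := L) (C.residue ξ).hom
  refine (trdeg_le_of_injective res hres).trans ?_
  haveI : Algebra.IsAlgebraic R κ := H20.FlatFibreTrdeg.isAlgebraic_of_frac fun c => by
    obtain ⟨a, b, hb, hab⟩ := exists_frac (φ ξ) c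
    exact ⟨a, b, fun h => hb (by rw [h, map_zero]), hab⟩
  have hcomp : Function.Injective (algebraMap R F) := by
    show Function.Injective ((C.residue ξ).hom.comp (toStalk φ ξ))
    exact hres.comp hinj
  have hκ : Function.Injective (algebraMap R κ) := by
    rw [IsScalarTower.algebraMap_eq R κ F, RingHom.coe_comp] at hcomp
    exact Function.Injective.of_comp hcomp
  haveI : FaithfulSMul R κ := (faithfulSMul_iff_algebraMap_injective R κ).2 hκ
  haveI : FaithfulSMul κ F := (faithfulSMul_iff_algebraMap_injective κ F).2 (RingHom.injective _)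
  rw [← trdeg_add_eq R κ (A := F), trdeg_eq_zero, zero_add]
  exact le_of_eq hξ

/-- At a point whose residue field and the function field have transcendence degree one over the base,
the local ring of a normal integral scheme over a valuation ring is a valuation ring. -/
theorem valuationRing_stalk [ValuationRing R] [IsIntegral C] (hN : Pi1.IsNormalScheme C) (x : C)
    (hinj : Function.Injective (toStalk φ (genericPoint C)))
    (hx : Cyc.Residue.trdegAt φ x = 1) (hξ : Cyc.Residue.trdegAt φ (genericPoint C) = 1) :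
    ValuationRing (C.presheaf.stalk x) := by
  classical
  haveI := (hN x).1
  haveI := (hN x).2
  let O := C.presheaf.stalk x
  let L := C.functionField
  have hspec : genericPoint C ⤳ x := genericPoint_specializes x
  have hβ : (algebraMap O L).comp (toStalk φ x) = toStalk φ (genericPoint C) := RingHom.ext fun r =>
    TopCat.Presheaf.germ_stalkSpecializes_apply C.presheaf (U := ⊤) trivial hspec _
  have hα : Function.Injective (toStalk φ x) := by
    have h : Function.Injective ((algebraMap O L).comp (toStalk φ x)) := hβ ▸ hinj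
    rw [RingHom.coe_comp] at h
    exact Function.Injective.of_comp h
  letI := (φ.residueFieldMap x).hom.toAlgebra
  obtain ⟨tb, htb⟩ := exists_transcendental (show Algebra.trdeg ((Spec (CommRingCat.of R)).residueField (φ x))
    (C.residueField x) = 1 from hx)
  obtain ⟨t, rfl⟩ := C.residue_surjective x tb
  refine valuationRing_of (L := L) (toStalk φ x) hα t (isUnit_eval₂ φ x t htb) fun z => ?_
  have htr : ∀ G : R[X], G.eval₂ (toStalk φ (genericPoint C)) (algebraMap O L t) = 0 → G = 0 := by
    intro G hG
    by_contra hne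
    rw [← hβ, ← hom_eval₂] at hG
    have hG' : G.eval₂ (toStalk φ x) t = 0 :=
      IsFractionRing.injective O L (hG.trans (map_zero _).symm)
    obtain ⟨m, hm, hdvd⟩ :=
      FibreDimVal.exists_mem_forall_dvd G.support (support_nonempty.2 hne) G.coeff
    obtain ⟨G₁, hG₁⟩ : Polynomial.C (G.coeff m) ∣ G := C_dvd_iff_dvd_coeff _ _ |>.2 fun i => by
      by_cases h : G.coeff i = 0
      · rw [h]; exact dvd_zero _
      · exact hdvd i (mem_support_iff.2 h)
    have h1 : G₁.coeff m = 1 := by
      refine mul_left_cancel₀ (mem_support_iff.1 hm) ?_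
      conv_rhs => rw [mul_one, hG₁, coeff_C_mul]
    rw [hG₁, eval₂_mul, eval₂_C] at hG'
    rcases mul_eq_zero.1 hG' with h | h
    · exact mem_support_iff.1 hm (hα (h.trans (map_zero _).symm))
    · exact (isUnit_eval₂ φ x t htb G₁ ⟨m, h1⟩).ne_zero h
  obtain ⟨Q, hQ, hQz⟩ := exists_root_poly (toStalk φ (genericPoint C)) (algebraMap O L t)
    (trdeg_functionField_le φ hinj hξ) htr z
  refine ⟨Q, hQ, Eq.trans ?_ hQz⟩
  congr 1
  exact Polynomial.ringHom_ext (fun r => by simp [← hβ]; rfl) (by simp; rfl)

end Groth.Agent.Lib.Flat55.CurveValuation
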