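import Groth.Agent.Lib.Flat55.IntClosedFlat
import Groth.Agent.Lib.FEt.NormalCover
import Groth.Agent.H2.Rigid.FibreIso
import Mathlib.AlgebraicGeometry.Morphisms.SchemeTheoreticallyDominant
import Mathlib.AlgebraicGeometry.Morphisms.Finite

/-!
# Finite `η`-modifications of flat schemes with geometrically reduced fibres over a normal base
-/

set_option autoImplicit false
set_option linter.style.haveILetI false

universe u

open CategoryTheory AlgebraicGeometry Limits TensorProduct
open Groth.Agent.H46 Groth.Agent.H46.UnivOpenFinite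

namespace Groth.Agent.Lib.Flat55.EtaModification

variable {S X X' : Scheme.{u}}

/-- All points of a morphism with geometrically reduced fibres are geometrically reduced. -/
theorem grAt_of_reduced (φ : X ⟶ S)
    (hred : ∀ (K : Type u) [Field K] (k : Spec (CommRingCat.of K) ⟶ S), IsReduced (pullback φ k))
    (x : X) : GRAt.GRAt φ x := fun K _ g p _ => by
  haveI := hred K g
  infer_instance

/-- The generic fibre of a flat scheme over an integral base is schematically dominant. -/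
theorem stDominant_genericFibre [IsIntegral S] [QuasiSeparatedSpace S] (φ : X ⟶ S) [Flat φ] :
    IsSchemeTheoreticallyDominant (pullback.fst φ (S.fromSpecStalk (genericPoint S))) := by
  let sp := S.fromSpecStalk (genericPoint S)
  haveI : QuasiCompact sp := inferInstance
  haveI : IsDominant sp := ⟨by
    rw [DenseRange, dense_iff_closure_eq, Set.eq_univ_iff_forall]
    intro x
    exact closure_mono (Set.singleton_subset_iff.mpr
      (show genericPoint S ∈ Set.range sp by
        rw [Scheme.range_fromSpecStalk]; exact specializes_rfl))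
      ((genericPoint_closure (α := S)).symm ▸ Set.mem_univ x)⟩
  haveI : IsSchemeTheoreticallyDominant sp := .of_isDominant _
  infer_instance

/-- A nonzero function on the base is a unit on the generic fibre. -/
theorem isUnit_app [IsIntegral S] {P : Scheme.{u}} (g : P ⟶ X) (φ : X ⟶ S)
    (snd : P ⟶ Spec (S.presheaf.stalk (genericPoint S)))
    (h : g ≫ φ = snd ≫ S.fromSpecStalk (genericPoint S)) {V : S.Opens} [Nonempty V] {W : X.Opens}
    (hWV : W ≤ φ ⁻¹ᵁ V) {a : Γ(S, V)} (ha : a ≠ 0) : IsUnit (g.app W (φ.appLE V W hWV a)) := by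
  refine RingedSpace.isUnit_of_isUnit_germ P.toRingedSpace _ _ fun x hx =>
    (Scheme.mem_basicOpen P _ x hx).1 ?_
  rw [← Scheme.preimage_basicOpen, Scheme.basicOpen_appLE]
  refine ⟨hx, ?_⟩
  show φ (g x) ∈ S.basicOpen a
  have hne : ((S.basicOpen a : S.Opens) : Set S).Nonempty :=
    (TopologicalSpace.Opens.ne_bot_iff_nonempty _).1 fun hb => ha ((basicOpen_eq_bot_iff a).1 hb)
  have hη : genericPoint S ∈ S.basicOpen a :=
    ((genericPoint_spec S).mem_open_set_iff (S.basicOpen a).isOpen).2 (by simpa using hne)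
  have hs : φ (g x) ⤳ genericPoint S := by
    show _ ∈ {y | y ⤳ genericPoint S}
    rw [← Scheme.range_fromSpecStalk, ← Scheme.Hom.comp_apply, h]
    exact ⟨snd x, rfl⟩
  exact hs.mem_open (S.basicOpen a).isOpen hη

/-- Base changes of `f` along charts lying over the generic point are isomorphisms. -/
theorem bijective_tensor [IsIntegral S] (φ : X ⟶ S) (f : X' ⟶ X) [IsAffineHom f]
    (hη : IsIso (pullback.snd f (pullback.fst φ (S.fromSpecStalk (genericPoint S)))))
    {V : S.Opens} (hV : IsAffineOpen V) [IsDomain Γ(S, V)] (hηV : genericPoint S ∈ V) {W : X.Opens}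
    (hW : IsAffineOpen W) (hWV : W ≤ φ ⁻¹ᵁ V) (L : Type u) [CommRing L] [Algebra Γ(X, W) L]
    (hu : ∀ a : Γ(S, V), a ≠ 0 → IsUnit (algebraMap Γ(X, W) L (φ.appLE V W hWV a))) :
    letI : Algebra Γ(X, W) Γ(X', f ⁻¹ᵁ W) := (f.app W).hom.toAlgebra
    Function.Bijective (algebraMap L (L ⊗[Γ(X, W)] Γ(X', f ⁻¹ᵁ W))) := by
  letI : Algebra Γ(X, W) Γ(X', f ⁻¹ᵁ W) := (f.app W).hom.toAlgebra
  let hW' : IsAffineOpen (f ⁻¹ᵁ W) := hW.preimage f
  let η := genericPoint S
  let sp := S.fromSpecStalk η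
  obtain ⟨ψ, hg⟩ : ∃ ψ : S.presheaf.stalk η →+* L,
      (Spec.map (CommRingCat.ofHom (algebraMap Γ(X, W) L)) ≫ hW.fromSpec) ≫ φ =
        Spec.map (CommRingCat.ofHom ψ) ≫ sp := by
    let y := hV.primeIdealOf ⟨η, hηV⟩
    letI : Algebra Γ(S, V) (S.presheaf.stalk η) := S.presheaf.algebra_section_stalk ⟨η, hηV⟩
    haveI : IsLocalization.AtPrime (S.presheaf.stalk η) y.asIdeal := hV.isLocalization_stalk ⟨η, hηV⟩
    have hu' : ∀ a : y.asIdeal.primeCompl,
        IsUnit (((algebraMap Γ(X, W) L).comp (φ.appLE V W hWV).hom) a) := fun a => by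
      refine hu a.1 fun h0 => a.2 ?_
      rw [h0]
      exact zero_mem _
    let ψ : S.presheaf.stalk η →+* L :=
      IsLocalization.lift (M := y.asIdeal.primeCompl) (S := S.presheaf.stalk η) hu'
    refine ⟨ψ, ?_⟩
    have e1 : hV.fromSpecStalk hηV = sp := hV.fromSpecStalk_eq_fromSpecStalk hηV
    have e2 : φ.appLE V W hWV ≫ CommRingCat.ofHom (algebraMap Γ(X, W) L) =
        S.presheaf.germ V η hηV ≫ CommRingCat.ofHom ψ :=
      CommRingCat.hom_ext (IsLocalization.lift_comp hu').symm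
    rw [← e1, IsAffineOpen.fromSpecStalk, Category.assoc, ← hV.SpecMap_appLE_fromSpec φ hW hWV,
      ← Category.assoc, ← Category.assoc, ← Spec.map_comp, ← Spec.map_comp, e2]
    rfl
  let j := pullback.fst φ sp
  let g : Spec (CommRingCat.of L) ⟶ X :=
    Spec.map (CommRingCat.ofHom (algebraMap Γ(X, W) L)) ≫ hW.fromSpec
  let l : Spec (CommRingCat.of L) ⟶ pullback φ sp := pullback.lift g (Spec.map (CommRingCat.ofHom ψ)) hg
  have hlj : l ≫ j = g := pullback.lift_fst _ _ _
  haveI : IsIso (pullback.snd f j) := hη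
  have sq1 : IsPullback (pullback.fst (pullback.snd f j) l ≫ pullback.fst f j)
      (pullback.snd (pullback.snd f j) l) f g := by
    rw [← hlj]
    exact (IsPullback.of_hasPullback (pullback.snd f j) l).paste_horiz (IsPullback.of_hasPullback f j)
  have sq2 := (isPullback_SpecMap_of_isPushout _ _ _ _
    (CommRingCat.isPushout_tensorProduct Γ(X, W) L Γ(X', f ⁻¹ᵁ W)).flip).paste_horiz
    (H2.Rigid.isPullback_fromSpec f hW hW')
  haveI : IsIso (Spec.map (CommRingCat.ofHom
      (algebraMap L (L ⊗[Γ(X, W)] Γ(X', f ⁻¹ᵁ W))))) := by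
    haveI : IsIso (pullback.snd (pullback.snd f j) l) := inferInstance
    rw [show Spec.map (CommRingCat.ofHom (algebraMap L (L ⊗[Γ(X, W)] Γ(X', f ⁻¹ᵁ W)))) =
      (sq2.isoIsPullback _ _ sq1).hom ≫ pullback.snd (pullback.snd f j) l from
      (sq2.isoIsPullback_hom_snd _ _ sq1).symm]
    infer_instance
  haveI : IsIso (CommRingCat.ofHom (algebraMap L (L ⊗[Γ(X, W)] Γ(X', f ⁻¹ᵁ W)))) := by
    haveI : IsIso (Scheme.Spec.map (CommRingCat.ofHom
      (algebraMap L (L ⊗[Γ(X, W)] Γ(X', f ⁻¹ᵁ W)))).op) := by assumption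
    haveI := isIso_of_reflects_iso (CommRingCat.ofHom
      (algebraMap L (L ⊗[Γ(X, W)] Γ(X', f ⁻¹ᵁ W)))).op Scheme.Spec
    exact (isIso_op_iff _).1 this
  exact (ConcreteCategory.isIso_iff_bijective (CommRingCat.ofHom
      (algebraMap L (L ⊗[Γ(X, W)] Γ(X', f ⁻¹ᵁ W))))).1 ‹_›

/-- Over the generic fibre, every section of `X'` comes from `X` after multiplication by a function
invertible at a given point. -/
theorem exists_mul_mem_range [IsIntegral S] (φ : X ⟶ S) (f : X' ⟶ X) [IsAffineHom f]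
    (hη : IsIso (pullback.snd f (pullback.fst φ (S.fromSpecStalk (genericPoint S)))))
    {V : S.Opens} (hV : IsAffineOpen V) [IsDomain Γ(S, V)] (hηV : genericPoint S ∈ V) {W : X.Opens}
    (hW : IsAffineOpen W) (hWV : W ≤ φ ⁻¹ᵁ V) (p : Ideal Γ(X, W)) [p.IsPrime]
    (hp : ∀ a : Γ(S, V), φ.appLE V W hWV a ∈ p → a = 0) (b' : Γ(X', f ⁻¹ᵁ W)) :
    ∃ s ∉ p, ∃ c : Γ(X, W), f.app W s * b' = f.app W c := by
  letI : Algebra Γ(X, W) Γ(X', f ⁻¹ᵁ W) := (f.app W).hom.toAlgebra
  have hbij := bijective_tensor φ f hη hV hηV hW hWV (Localization.AtPrime p) fun a ha =>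
    IsLocalization.map_units (Localization.AtPrime p)
      (⟨φ.appLE V W hWV a, fun h => ha (hp a h)⟩ : p.primeCompl)
  obtain ⟨r, hr⟩ := hbij.2 (1 ⊗ₜ b')
  obtain ⟨⟨c, s⟩, hs⟩ := IsLocalization.surj p.primeCompl r
  let μ := TensorProduct.mk Γ(X, W) (Localization.AtPrime p) Γ(X', f ⁻¹ᵁ W) 1
  haveI : IsLocalizedModule p.primeCompl μ :=
    (isLocalizedModule_iff_isBaseChange p.primeCompl (Localization.AtPrime p) μ).2
      (TensorProduct.isBaseChange _ _ _)
  have he : μ ((s : Γ(X, W)) • b') = μ (c • (1 : Γ(X', f ⁻¹ᵁ W))) := by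
    rw [map_smul, map_smul]
    show (s : Γ(X, W)) • ((1 : Localization.AtPrime p) ⊗ₜ[Γ(X, W)] b') =
      c • ((1 : Localization.AtPrime p) ⊗ₜ[Γ(X, W)] (1 : Γ(X', f ⁻¹ᵁ W)))
    rw [← hr, Algebra.TensorProduct.algebraMap_apply, Algebra.algebraMap_self, RingHom.id_apply,
      TensorProduct.smul_tmul', TensorProduct.smul_tmul', Algebra.smul_def, Algebra.smul_def, mul_one,
      mul_comm, hs]
  obtain ⟨t, ht⟩ := (IsLocalizedModule.eq_iff_exists p.primeCompl μ).1 he
  refine ⟨t * s, (t * s : p.primeCompl).2, t * c, ?_⟩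
  have ht' : f.app W t * (f.app W s * b') = f.app W t * (f.app W c * 1) := ht
  rw [map_mul, map_mul, mul_assoc, ht', mul_one]

/-- The theorem, on sections over an affine open. -/
theorem bijective_app [IsIntegral S] [QuasiSeparatedSpace S] (hS : Pi1.IsNormalScheme S) (φ : X ⟶ S)
    [Flat φ] [LocallyOfFinitePresentation φ]
    (hred : ∀ (K : Type u) [Field K] (k : Spec (CommRingCat.of K) ⟶ S), IsReduced (pullback φ k))
    (f : X' ⟶ X) [IsFinite f] (U : X.Opens)
    (hU' : IsSchemeTheoreticallyDominant (f ⁻¹ᵁ U).ι) (hfU : IsIso (f ∣_ U))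
    (hη : IsIso (pullback.snd f (pullback.fst φ (S.fromSpecStalk (genericPoint S)))))
    {V : S.Opens} (hV : IsAffineOpen V) (hne : Nonempty V) {W : X.Opens} (hW : IsAffineOpen W)
    (hWV : W ≤ φ ⁻¹ᵁ V) : Function.Bijective (f.app W) := by
  haveI := hne
  haveI : IsIntegrallyClosed Γ(S, V) := FEt.NormalCover.isIntegrallyClosed_sections hS
  have hηV : genericPoint S ∈ V :=
    (genericPoint_spec S).mem_open_set_iff V.isOpen |>.2 (by
      obtain ⟨v⟩ := hne
      exact ⟨v.1, trivial, v.2⟩)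
  let sp := S.fromSpecStalk (genericPoint S)
  let j := pullback.fst φ sp
  haveI : QuasiCompact sp := inferInstance
  haveI : IsSchemeTheoreticallyDominant j := stDominant_genericFibre φ
  haveI : IsIso (pullback.snd f j) := hη
  let g := pullback.fst f j
  -- the generic fibre is schematically dominant in `X'`
  haveI : IsSchemeTheoreticallyDominant g := by
    let o := (f ⁻¹ᵁ U).ι
    let h := (o ≫ f) ≫ φ
    haveI : Flat (o ≫ f) := by
      haveI := hfU
      have e : o ≫ f = f ∣_ U ≫ U.ι := (morphismRestrict_ι f U).symm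
      rw [e]
      infer_instance
    haveI := hU'
    haveI : IsSchemeTheoreticallyDominant (pullback.fst h sp) := stDominant_genericFibre h
    let m : pullback h sp ⟶ pullback f j :=
      pullback.lift (pullback.fst h sp ≫ o) (pullback.lift ((pullback.fst h sp ≫ o) ≫ f)
        (pullback.snd h sp) (by simpa [h, Category.assoc] using pullback.condition (f := h) (g := sp)))
        (pullback.lift_fst _ _ _).symm
    have hm : m ≫ g = pullback.fst h sp ≫ o := pullback.lift_fst _ _ _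
    have hd : IsSchemeTheoreticallyDominant (m ≫ g) := by rw [hm]; infer_instance
    rw [isSchemeTheoreticallyDominant_iff, eq_bot_iff, ← hd.ker_eq_bot]
    exact Scheme.Hom.le_ker_comp m g
  have hinj : Function.Injective (f.app W) := by
    refine (injective_iff_map_eq_zero _).2 fun b hb => ?_
    have h1 : (g ≫ f).app W b = 0 := by
      show g.app (f ⁻¹ᵁ W) (f.app W b) = 0
      rw [hb, map_zero]
    rw [Scheme.Hom.congr_app pullback.condition W] at h1
    have h2 : (pullback.snd f j ≫ j).app W b = 0 :=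
      (ConcreteCategory.bijective_of_isIso ((pullback f j).presheaf.map _)).1 (h1.trans (map_zero _).symm)
    have h3 : j.app W b = 0 :=
      (ConcreteCategory.bijective_of_isIso ((pullback.snd f j).app (j ⁻¹ᵁ W))).1
        (h2.trans (map_zero _).symm)
    exact j.app_injective W (h3.trans (map_zero _).symm)
  have hreg : ∀ a : Γ(S, V), a ≠ 0 → ∀ b' : Γ(X', f ⁻¹ᵁ W),
      f.app W (φ.appLE V W hWV a) * b' = 0 → b' = 0 := fun a ha b' h => by
    refine g.app_injective (f ⁻¹ᵁ W) ?_
    have hu : IsUnit ((g ≫ f).app W (φ.appLE V W hWV a)) :=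
      isUnit_app (g ≫ f) φ (pullback.snd f j ≫ pullback.snd φ sp)
        (by rw [show g ≫ f = pullback.snd f j ≫ j from pullback.condition, Category.assoc,
          Category.assoc, show j ≫ φ = pullback.snd φ sp ≫ sp from pullback.condition]) hWV ha
    rw [map_zero]
    refine hu.mul_right_eq_zero.1 ?_
    show g.app (f ⁻¹ᵁ W) (f.app W (φ.appLE V W hWV a)) * g.app (f ⁻¹ᵁ W) b' = 0
    rw [← map_mul, h, map_zero]
  refine ⟨hinj, fun b' => ?_⟩
  letI : Algebra Γ(S, V) Γ(X, W) := (φ.appLE V W hWV).hom.toAlgebra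
  -- a denominator
  let I : Ideal Γ(X, W) :=
    { carrier := {s | ∃ c, f.app W s * b' = f.app W c}
      add_mem' := fun ⟨c, hc⟩ ⟨d, hd⟩ => ⟨c + d, by rw [map_add, add_mul, hc, hd, ← map_add]⟩
      zero_mem' := ⟨0, by rw [map_zero, zero_mul]⟩
      smul_mem' := fun r s ⟨c, hc⟩ => ⟨r * c, by rw [smul_eq_mul, map_mul, mul_assoc, hc, ← map_mul]⟩ }
  obtain ⟨a, ha, b, hb⟩ : ∃ a : Γ(S, V), a ≠ 0 ∧ φ.appLE V W hWV a ∈ I := by
    by_contra hcon
    push Not at hcon
    have hd : Disjoint (I : Set Γ(X, W))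
        (Algebra.algebraMapSubmonoid Γ(X, W) (nonZeroDivisors Γ(S, V))) := by
      rw [Set.disjoint_left]
      rintro _ hI ⟨a, ha, rfl⟩
      exact hcon a (nonZeroDivisors.ne_zero ha) hI
    obtain ⟨p, hp, hIp, hpd⟩ := Ideal.exists_le_prime_disjoint I _ hd
    obtain ⟨s, hs, c, hc⟩ := exists_mul_mem_range φ f hη hV hηV hW hWV p (fun a ha => by
      by_contra h0
      exact Set.disjoint_left.1 hpd ha ⟨a, mem_nonZeroDivisors_of_ne_zero h0, rfl⟩) b'
    exact hs (hIp ⟨c, hc⟩)
  -- integrality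
  haveI : Module.Flat Γ(S, V) Γ(X, W) := φ.flat_appLE hV hW hWV
  haveI : Algebra.FinitePresentation Γ(S, V) Γ(X, W) := RingHom.finitePresentation_algebraMap.1
    (LocallyOfFinitePresentation.finitePresentation_appLE φ hV hW hWV)
  have hgr : ∀ u, GRAt.GRAt (sm Γ(S, V) Γ(X, W)) u := fun u => by
    haveI := hV.isOpenImmersion_fromSpec
    haveI := hW.isOpenImmersion_fromSpec
    rw [← NoethModel.grAt_iff_of_mono hV.fromSpec, show sm Γ(S, V) Γ(X, W) ≫ hV.fromSpec =
      hW.fromSpec ≫ φ from hV.SpecMap_appLE_fromSpec φ hW hWV, GRAt.openImmersion_iff]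
    exact grAt_of_reduced φ hred _
  obtain ⟨q, hq, hq0⟩ := RingHom.IsIntegral.of_finite (IsFinite.finite_app f W hW) b'
  have hdvd : algebraMap Γ(S, V) Γ(X, W) a ∣ b := by
    refine IntClosedFlat.dvd_of_eval_eq_zero hgr ha b hq (hinj ?_)
    rw [map_zero, ← Polynomial.eval₂_at_apply, ← hb]
    exact Polynomial.scaleRoots_eval₂_eq_zero (f.app W).hom hq0
  obtain ⟨t, rfl⟩ := hdvd
  refine ⟨t, sub_eq_zero.1 (hreg a ha _ ?_)⟩
  rw [mul_sub, hb, map_mul]
  exact sub_self _

/-- A finite `η`-modification of a flat scheme with geometrically reduced fibres over a normal base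
is an isomorphism. -/
theorem isIso [IsIntegral S] [QuasiSeparatedSpace S] (hS : Pi1.IsNormalScheme S) (φ : X ⟶ S) [Flat φ]
    [LocallyOfFinitePresentation φ]
    (hred : ∀ (K : Type u) [Field K] (k : Spec (CommRingCat.of K) ⟶ S), IsReduced (pullback φ k))
    (f : X' ⟶ X) [IsFinite f] (U : X.Opens)
    (hU' : IsSchemeTheoreticallyDominant (f ⁻¹ᵁ U).ι) (hfU : IsIso (f ∣_ U))
    (hη : IsIso (pullback.snd f (pullback.fst φ (S.fromSpecStalk (genericPoint S))))) :
    IsIso f := by
  have key : ∀ x : X, ∃ W : X.Opens, x ∈ W ∧ IsIso (f ∣_ W) := fun x => by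
    obtain ⟨V, hV, hxV, -⟩ :=
      exists_isAffineOpen_mem_and_subset (X := S) (x := φ x) (U := ⊤) trivial
    obtain ⟨W, hW, hxW, hWV⟩ :=
      exists_isAffineOpen_mem_and_subset (X := X) (x := x) (U := φ ⁻¹ᵁ V) hxV
    exact ⟨W, hxW, H2.Rigid.isIso_morphismRestrict_of_bijective f hW (hW.preimage f)
      (bijective_app hS φ hred f U hU' hfU hη hV ⟨⟨_, hxV⟩⟩ hW hWV)⟩
  choose W hxW hW using key
  exact IsZariskiLocalAtTarget.of_iSup_eq_top (P := MorphismProperty.isomorphisms Scheme.{u}) W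
    (eq_top_iff.2 fun x _ => TopologicalSpace.Opens.mem_iSup.2 ⟨x, hxW x⟩) hW

end Groth.Agent.Lib.Flat55.EtaModification
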