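import Groth.Agent.H34.Stein.FibreMax
import Groth.Agent.H34.Stein.NormalBase
import Groth.Prelude.Def_ega3
import Mathlib.RingTheory.Algebraic.Integral
import Mathlib.RingTheory.Localization.Integral

/-!
# Fibrations between normal integral schemes
-/

set_option autoImplicit false

universe u

open CategoryTheory AlgebraicGeometry TopologicalSpace

namespace Groth.Agent.Lib.Flat55.FibrationCriterion

/-- A rational function lying in all local rings of an open is a section over it. -/
theorem exists_section {X : Scheme.{u}} [IsIntegral X] {W : X.Opens} (hW : genericPoint X ∈ W)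
    (b : X.functionField) (h : ∀ y ∈ W, b ∈ (algebraMap (X.presheaf.stalk y) X.functionField).range) :
    ∃ s : Γ(X, W), X.presheaf.germ W (genericPoint X) hW s = b := by
  choose t ht using fun y : W => h y.1 y.2
  choose U hyU sU hsU using fun y : W => X.presheaf.exists_germ_eq (t y)
  let V : W → X.Opens := fun y => U y ⊓ W
  have hyV : ∀ y, y.1 ∈ V y := fun y => ⟨hyU y, y.2⟩
  have hη : ∀ y, genericPoint X ∈ V y := fun y => (genericPoint_specializes y.1).mem_open (V y).2 (hyV y)
  let sV : ∀ y, Γ(X, V y) := fun y => X.presheaf.map (homOfLE inf_le_left).op (sU y)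
  have hb : ∀ y, X.presheaf.germ (V y) (genericPoint X) (hη y) (sV y) = b := fun y => by
    rw [← ht y, ← hsU y]
    exact (X.presheaf.germ_res_apply (homOfLE inf_le_left) _ (hη y) _).trans
      (congrArg (fun φ => φ.hom (sU y)) (X.presheaf.germ_stalkSpecializes (hyU y)
        (genericPoint_specializes y.1))).symm
  have hcov : W ≤ iSup V := fun y hy => Opens.mem_iSup.2 ⟨⟨y, hy⟩, hyV ⟨y, hy⟩⟩
  have hcompat : X.presheaf.IsCompatible V sV := fun i j => by
    have hij : genericPoint X ∈ V i ⊓ V j := ⟨hη i, hη j⟩
    apply germ_injective_of_isIntegral X (U := V i ⊓ V j) (genericPoint X) hij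
    exact (X.presheaf.germ_res_apply _ _ hij _).trans ((hb i).trans
      ((hb j).symm.trans (X.presheaf.germ_res_apply _ _ hij _).symm))
  obtain ⟨s, hs, -⟩ := X.sheaf.existsUnique_gluing' V W (fun y => homOfLE inf_le_right) hcov sV hcompat
  refine ⟨s, ?_⟩
  let y : W := ⟨genericPoint X, hW⟩
  rw [← hb y, ← hs y]
  exact (X.presheaf.germ_res_apply (homOfLE inf_le_right) (genericPoint X) (hη y) s).symm

variable {X Y : Scheme.{u}} [IsIntegral X] [IsIntegral Y] (f : X ⟶ Y)
  (h : f (genericPoint X) ⤳ genericPoint Y)

/-- All sections agree iff the function field is relatively algebraically closed. -/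
theorem isIso_app_iff [UniversallyClosed f] [QuasiSeparated f] (hX : Pi1.IsNormalScheme X)
    (hY : Pi1.IsNormalScheme Y) :
    (∀ U : Y.Opens, IsIso (f.app U)) ↔
      ∀ x : X.functionField, (CohIII.stalkToFunctionField f (genericPoint Y) h).IsIntegralElem x →
        x ∈ (CohIII.stalkToFunctionField f (genericPoint Y) h).range := by
  let φ := CohIII.stalkToFunctionField f (genericPoint Y) h
  have hφinj : Function.Injective φ :=
    RingHom.injective (R := Y.functionField) φ
  have hgerm : ∀ (U : Y.Opens) (hU : genericPoint Y ∈ U) (s : Γ(Y, U)),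
      φ (Y.presheaf.germ U _ hU s) = X.presheaf.germ (f ⁻¹ᵁ U) (genericPoint X) (h.mem_open U.2 hU) (f.app U s) :=
    fun U hU s => Groth.Agent.H34.Stein.stalkToFunctionField_germ f _ h hU s
  constructor
  · intro hiso x hx
    obtain ⟨U, hU, hηU, -⟩ := exists_isAffineOpen_mem_and_subset (x := genericPoint Y) (U := ⊤) trivial
    have : Nonempty U := ⟨⟨_, hηU⟩⟩
    have hfr := functionField_isFractionRing_of_isAffineOpen Y U hU
    have hW := h.mem_open U.2 hηU
    let := φ.toAlgebra
    let := ((X.presheaf.germ (f ⁻¹ᵁ U) (genericPoint X) hW).hom.comp (f.app U).hom).toAlgebra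
    have : IsScalarTower Γ(Y, U) Y.functionField X.functionField := .of_algebraMap_eq fun a =>
      (hgerm U hηU a).symm
    have halg : IsAlgebraic Γ(Y, U) x :=
      (IsFractionRing.isAlgebraic_iff Γ(Y, U) Y.functionField X.functionField).2
        (IsIntegral.isAlgebraic (show IsIntegral Y.functionField x from hx))
    obtain ⟨a, ha0, ha⟩ := halg.exists_integral_multiple
    have hsec : ∀ y ∈ f ⁻¹ᵁ U, a • x ∈ (algebraMap (X.presheaf.stalk y) X.functionField).range := by
      intro y hy
      let := ((X.presheaf.germ (f ⁻¹ᵁ U) y hy).hom.comp (f.app U).hom).toAlgebra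
      have : IsScalarTower Γ(Y, U) (X.presheaf.stalk y) X.functionField := .of_algebraMap_eq fun r =>
        (congrArg (fun ψ => ψ.hom (f.app U r)) (X.presheaf.germ_stalkSpecializes (U := f ⁻¹ᵁ U) hy
          (genericPoint_specializes y))).symm
      have := (hX y).2
      exact IsIntegrallyClosed.isIntegral_iff.1 (ha.tower_top (A := X.presheaf.stalk y))
    obtain ⟨s, hs⟩ := exists_section hW _ hsec
    obtain ⟨c, rfl⟩ := (ConcreteCategory.bijective_of_isIso (f.app U)).2 s
    have ha' : φ (Y.presheaf.germ U _ hηU a) ≠ 0 :=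
      (map_ne_zero_iff φ hφinj).2 ((map_ne_zero_iff _ (germ_injective_of_isIntegral Y _ hηU)).2 ha0)
    refine ⟨(show Y.functionField from Y.presheaf.germ U _ hηU c) /
      (show Y.functionField from Y.presheaf.germ U _ hηU a), ?_⟩
    show RingHom.comp φ (RingHom.id Y.functionField) _ = x
    rw [RingHom.comp_id, map_div₀, div_eq_iff ha', hgerm, hs, mul_comm]
    rw [Algebra.smul_def]
    exact congrArg (· * x) (hgerm U hηU a).symm
  · intro halg
    refine fun U => Groth.Agent.H34.Stein.isIso_app_of_affine f (fun U hU => ?_) U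
    by_cases hne : Nonempty U
    swap
    · exact Groth.Agent.H34.Stein.bijective_app_of_isEmpty f hne
    have hηU : genericPoint Y ∈ U := ((genericPoint_spec Y).mem_open_set_iff U.isOpen).2 (by simpa using hne)
    have hW := h.mem_open U.2 hηU
    have := functionField_isFractionRing_of_isAffineOpen Y U hU
    have := Groth.Agent.Lib.FEt.NormalCover.isIntegrallyClosed_sections hY (U := U)
    refine ⟨fun a b hab => germ_injective_of_isIntegral Y _ hηU (hφinj ?_), fun z => ?_⟩
    · rw [hgerm, hgerm, hab]
    · obtain ⟨p, hp, hpz⟩ := Groth.Agent.S1340.isIntegral_app f hU z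
      let g := (X.presheaf.germ (f ⁻¹ᵁ U) (genericPoint X) hW).hom
      have hcomp : g.comp (f.app U).hom = φ.comp (algebraMap Γ(Y, U) Y.functionField) :=
        RingHom.ext fun a => (hgerm U hηU a).symm
      have hpz' : p.eval₂ (φ.comp (algebraMap Γ(Y, U) Y.functionField)) (g z) = 0 := by
        rw [← hcomp, ← Polynomial.hom_eval₂, hpz, map_zero]
      obtain ⟨y, hy⟩ := halg (g z) ⟨p.map (algebraMap Γ(Y, U) Y.functionField), hp.map _, by
        rw [Polynomial.eval₂_map]; exact hpz'⟩
      have hint : IsIntegral Γ(Y, U) (show Y.functionField from y) := ⟨p, hp, hφinj (by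
        rw [map_zero, Polynomial.hom_eval₂]
        exact (congrArg (p.eval₂ (φ.comp (algebraMap Γ(Y, U) Y.functionField))) hy).trans hpz')⟩
      obtain ⟨a, ha⟩ := IsIntegrallyClosed.isIntegral_iff.1 hint
      refine ⟨a, germ_injective_of_isIntegral X _ hW ?_⟩
      rw [← hgerm U hηU a]
      exact (congrArg φ ha).trans hy

end Groth.Agent.Lib.Flat55.FibrationCriterion
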