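import Mathlib.AlgebraicGeometry.Fiber
import Mathlib.AlgebraicGeometry.Properties

/-!
The ring `κ(p) ⊗[R] S` gives an open subscheme of the scheme-theoretic fibre.
-/

set_option autoImplicit false

universe u

namespace Groth.Agent.Lib.Flat55.FibreAffine

open CategoryTheory Limits AlgebraicGeometry TensorProduct

set_option backward.isDefEq.respectTransparency false in
/-- For `Spec S ⟶ X` an open immersion over `v : Spec R ⟶ Y` an open immersion, `Spec (κ(p) ⊗ S)`
is an open subscheme of the fibre over `v p`. -/
theorem exists_openImmersion {X Y : Scheme.{u}} (f : X ⟶ Y) (R S : Type u) [CommRing R] [CommRing S]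
    [Algebra R S] (v : Spec (.of R) ⟶ Y) [IsOpenImmersion v] (w : Spec (.of S) ⟶ X)
    [IsOpenImmersion w] (hw : w ≫ f = Spec.map (CommRingCat.ofHom (algebraMap R S)) ≫ v)
    (p : PrimeSpectrum R) :
    ∃ j : Spec (.of (p.asIdeal.Fiber S)) ⟶ f.fiber (v p), IsOpenImmersion j := by
  let k : Spec (.of p.asIdeal.ResidueField) ⟶ Spec (.of R) :=
    Spec.map (CommRingCat.ofHom (algebraMap R p.asIdeal.ResidueField))
  let q : Spec (.of R) ⟶ Y := v
  have hk : ∃ e : Spec (Y.residueField (v p)) ≅ Spec (.of p.asIdeal.ResidueField),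
      Y.fromSpecResidueField (v p) = e.hom ≫ k ≫ v := by
    refine ⟨(asIso (Spec.map (v.residueFieldMap p))).symm ≪≫
      (Scheme.Spec.mapIso (Scheme.Spec.residueFieldIso (.of R) p).symm.op).symm.symm, ?_⟩
    have h1 := Scheme.Spec.map_residueFieldIso_inv_eq_fromSpecResidueField (.of R) p
    simp only [Iso.trans_hom, Iso.symm_symm_eq, Iso.symm_hom, asIso_inv, Functor.mapIso_hom,
      Iso.op_hom, Scheme.Spec_map, Quiver.Hom.unop_op, Category.assoc, k]
    rw [IsIso.eq_inv_comp, Scheme.Hom.SpecMap_residueFieldMap_fromSpecResidueField]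
    rw [← h1]
    simp only [Category.assoc, Spec.map_comp]
    try rfl
  obtain ⟨e, he⟩ := hk
  have h0 : IsPullback (pullback.fst (Spec.map (CommRingCat.ofHom (algebraMap R S))) k)
      (pullback.snd _ _) (Spec.map (CommRingCat.ofHom (algebraMap R S))) k :=
    IsPullback.of_hasPullback _ _
  let P := pullback (Spec.map (CommRingCat.ofHom (algebraMap R S))) k
  let l : P ⟶ f.fiber (v p) := pullback.lift (pullback.fst _ _ ≫ w) (pullback.snd _ _ ≫ e.inv) (by
    rw [Category.assoc, Category.assoc, he, hw, e.inv_hom_id_assoc, pullback.condition_assoc])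
  have hl : IsOpenImmersion l := by
    have hbig : IsPullback (pullback.fst (Spec.map (CommRingCat.ofHom (algebraMap R S))) k)
        (pullback.snd _ _ ≫ e.inv) (w ≫ f) (Y.fromSpecResidueField (v p)) := by
      rw [hw]
      refine IsPullback.mk ⟨by rw [Category.assoc, he, e.inv_hom_id_assoc, pullback.condition_assoc]⟩
        ⟨PullbackCone.IsLimit.mk _ (fun s ↦ pullback.lift s.fst (s.snd ≫ e.hom) ?_) ?_ ?_ ?_⟩
      · rw [← cancel_mono v, Category.assoc, Category.assoc, Category.assoc, ← he]
        exact s.condition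
      · intro s; exact pullback.lift_fst ..
      · intro s
        rw [← Category.assoc, pullback.lift_snd, Category.assoc, e.hom_inv_id, Category.comp_id]
      · intro s m h1 h2
        apply pullback.hom_ext
        · rw [pullback.lift_fst, h1]
        · rw [pullback.lift_snd, ← h2]
          simp
    have : IsPullback (pullback.fst (Spec.map (CommRingCat.ofHom (algebraMap R S))) k) l w
        (f.fiberι (v p)) := by
      refine IsPullback.of_bot ?_ (pullback.lift_fst _ _ _).symm
        (IsPullback.of_hasPullback f (Y.fromSpecResidueField (v p)))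
      rwa [show l ≫ pullback.snd f (Y.fromSpecResidueField (v p)) = pullback.snd _ _ ≫ e.inv from
        pullback.lift_snd ..]
    exact MorphismProperty.of_isPullback (P := @IsOpenImmersion) this ‹_›
  exact ⟨(pullbackSpecIso R p.asIdeal.ResidueField S).inv ≫ (pullbackSymmetry _ _).hom ≫ l,
    inferInstance⟩

/-- A fibre being reduced makes the fibre rings of affine charts reduced. -/
theorem isReduced_fiber {X Y : Scheme.{u}} (f : X ⟶ Y) (R S : Type u) [CommRing R] [CommRing S]
    [Algebra R S] (v : Spec (.of R) ⟶ Y) [IsOpenImmersion v] (w : Spec (.of S) ⟶ X)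
    [IsOpenImmersion w] (hw : w ≫ f = Spec.map (CommRingCat.ofHom (algebraMap R S)) ≫ v)
    (p : PrimeSpectrum R) [IsReduced (f.fiber (v p))] :
    _root_.IsReduced (p.asIdeal.Fiber S) := by
  obtain ⟨j, hj⟩ := exists_openImmersion f R S v w hw p
  exact (affine_isReduced_iff _).1 (isReduced_of_isOpenImmersion j)

end Groth.Agent.Lib.Flat55.FibreAffine
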