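import Groth.Agent.H46.GeomSpread.SectionCons
import Groth.Agent.H54.SectionComp
import Groth.Agent.H14.IsoNat.TrivLocus
import Groth.Agent.S1324
import Groth.Agent.S1327
import Groth.Prelude.Def_Mor2

/-!
# Open subsets with connected fibres from a finite multisection
-/

set_option autoImplicit false
set_option linter.style.haveILetI false
universe u

open CategoryTheory CategoryTheory.Limits AlgebraicGeometry TopologicalSpace Topology

namespace Groth.Agent.Lib.Flat55.FibreComponentsCover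

/-- The preimage of a set in every base change to a field over the point is preconnected. -/
def GConn {X S : Scheme.{u}} (f : X ⟶ S) (η : S) (A : Set X) : Prop :=
  ∀ (L : Type u) [Field L] (t : Spec (CommRingCat.of L) ⟶ S), (∀ p, t p = η) →
    _root_.IsPreconnected ((pullback.fst f t) ⁻¹' A)

theorem fst_preimage_fiber_eq_univ {X Y : Scheme.{u}} (f : X ⟶ Y) {y : Y} {L : Type u} [Field L]
    (t : Spec (CommRingCat.of L) ⟶ Y) (ht : ∀ p, t p = y) :
    (pullback.fst f t) ⁻¹' (f ⁻¹' {y}) = Set.univ :=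
  Set.eq_univ_of_forall fun z => by
    show f (pullback.fst f t z) = y
    rw [← Scheme.Hom.comp_apply, pullback.condition, Scheme.Hom.comp_apply]
    exact ht _

theorem gConn_of_geometricallyConnected {X Y : Scheme.{u}} (f : X ⟶ Y) (y : Y)
    (h : GeometricallyConnected (f.fiberToSpecResidueField y)) : GConn f y (f ⁻¹' {y}) := by
  intro L _ t ht
  rw [fst_preimage_fiber_eq_univ f t ht]
  obtain rfl := ht (IsLocalRing.closedPoint L)
  obtain ⟨t', ht'⟩ : ∃ t', t' ≫ Y.fromSpecResidueField (t (IsLocalRing.closedPoint L)) = t :=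
    ⟨_, Scheme.descResidueField_stalkClosedPointTo_fromSpecResidueField L Y t⟩
  have hc : ConnectedSpace ↥(pullback (pullback.snd f (Y.fromSpecResidueField _)) t') :=
    h.geometrically_connectedSpace t' _ _ (IsPullback.of_hasPullback _ _)
  have : ConnectedSpace ↥(pullback f (t' ≫ Y.fromSpecResidueField _)) :=
    (pullbackLeftPullbackSndIso f (Y.fromSpecResidueField _) t').hom.homeomorph.connectedSpace_iff.mp hc
  rw [ht'] at this
  exact isPreconnected_univ

theorem gConn_sectionComponents {X Y : Scheme.{u}} (f : X ⟶ Y) [LocallyOfFiniteType f] (g : Y ⟶ X)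
    (hg : g ≫ f = 𝟙 Y) (y : Y) : GConn f y (MoreMor.sectionComponents f g ∩ f ⁻¹' {y}) := by
  intro L _ t ht
  let s' : Spec (CommRingCat.of L) ⟶ pullback f t :=
    pullback.lift (t ≫ g) (𝟙 _) (by rw [Category.assoc, hg, Category.comp_id, Category.id_comp])
  have hset := H54.SectionComp.result f g hg (pullback.snd f t) (pullback.fst f t) t
    (IsPullback.of_hasPullback f t) s' (pullback.lift_snd _ _ _) (pullback.lift_fst _ _ _)
  rw [Set.preimage_inter, fst_preimage_fiber_eq_univ f t ht, Set.inter_univ, ← hset]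
  let p₀ : Spec (CommRingCat.of L) := IsLocalRing.closedPoint L
  have : MoreMor.sectionComponents (pullback.snd f t) s' = connectedComponent (s' p₀) := by
    ext z
    show z ∈ connectedComponentIn ((pullback.snd f t) ⁻¹' {pullback.snd f t z})
      (s' (pullback.snd f t z)) ↔ _
    rw [Subsingleton.elim (α := PrimeSpectrum L) (pullback.snd f t z) p₀,
      show (pullback.snd f t) ⁻¹' {p₀} = Set.univ from
        Set.eq_univ_of_forall fun w => Subsingleton.elim (α := PrimeSpectrum L) _ _,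
      connectedComponentIn_univ]
  rw [this]
  exact isPreconnected_connectedComponent

/-- An open piece of a fibre is connected after every base change to a field. -/
theorem connectedSpace_pullback {X Y : Scheme.{u}} (f : X ⟶ Y) (U : X.Opens) (y : Y)
    (h : GConn f y (U : Set X)) (hne : ∃ x ∈ U, f x = y) (K : Type u) [Field K]
    (t : Spec (CommRingCat.of K) ⟶ Y) (hty : ∀ p, t p = y) :
    ConnectedSpace ↥(pullback (U.ι ≫ f) t) := by
  let jP : pullback (U.ι ≫ f) t ⟶ pullback f t :=
    pullback.map _ _ _ _ U.ι (𝟙 _) (𝟙 _) (by simp) (by simp)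
  have hr : Set.range jP = (pullback.fst f t) ⁻¹' (U : Set X) := by
    rw [Scheme.Pullback.range_map, Scheme.Opens.range_ι]
    simp
  haveI : IsOpenImmersion jP := by
    dsimp [jP]; infer_instance
  have h1 : _root_.IsPreconnected (Set.range jP) := hr ▸ h K t hty
  have h2 : PreconnectedSpace ↥(pullback (U.ι ≫ f) t) := ⟨by
    rw [← jP.isOpenEmbedding.isInducing.isPreconnected_image, Set.image_univ]
    exact h1⟩
  obtain ⟨x, hxU, hxy⟩ := hne
  obtain ⟨w, -, -⟩ := Scheme.Pullback.exists_preimage_pullback (f := U.ι ≫ f) (g := t)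
    (⟨x, hxU⟩ : U) (IsLocalRing.closedPoint K) (by rw [hty, Scheme.Hom.comp_apply]; exact hxy)
  exact { h2 with toNonempty := ⟨w⟩ }

/-- Geometric connectedness of an open piece of a fibre from connectedness in every base change. -/
theorem geometricallyConnected_of_gConn {X Y : Scheme.{u}} (f : X ⟶ Y) (U : X.Opens) (y : Y)
    (h : GConn f y (U : Set X)) (hne : ∃ x ∈ U, f x = y) :
    GeometricallyConnected ((U.ι ≫ f).fiberToSpecResidueField y) := by
  refine ⟨geometrically_iff_of_isClosedUnderIsomorphisms.mpr fun K _ k => ?_⟩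
  haveI := connectedSpace_pullback f U y h hne K (k ≫ Y.fromSpecResidueField y) fun p => by
    rw [Scheme.Hom.comp_apply, Scheme.fromSpecResidueField_apply]
  let e := pullbackLeftPullbackSndIso (U.ι ≫ f) (Y.fromSpecResidueField y) k
  exact e.hom.homeomorph.connectedSpace_iff.mpr this

/-- All fibres connected after every base change gives geometric connectedness. -/
theorem geometricallyConnected_of_forall {X Y : Scheme.{u}} (f : X ⟶ Y) (U : X.Opens) (W : Y.Opens)
    (hle : U ≤ f ⁻¹ᵁ W) (h : ∀ y ∈ W, GConn f y (U : Set X) ∧ ∃ x ∈ U, f x = y)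
    {X' : Scheme.{u}} (f' : X' ⟶ (W : Scheme.{u})) (k : X' ⟶ (U : Scheme.{u}))
    (H : IsPullback k f' (U.ι ≫ f) W.ι) : GeometricallyConnected f' := by
  refine ⟨geometrically_iff_of_isClosedUnderIsomorphisms.mpr fun K _ t => ?_⟩
  obtain ⟨h1, h2⟩ := h (W.ι (t (IsLocalRing.closedPoint K))) (t (IsLocalRing.closedPoint K)).2
  haveI := connectedSpace_pullback f U _ h1 h2 K (t ≫ W.ι) fun p => by
    rw [Scheme.Hom.comp_apply, Subsingleton.elim (α := PrimeSpectrum K) p (IsLocalRing.closedPoint K)]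
  exact (((IsPullback.of_hasPullback f' t).flip.paste_vert H.flip).flip.isoPullback).hom.homeomorph.connectedSpace_iff.mpr this

theorem exists_opens {X Y Z : Scheme.{u}} (f : X ⟶ Y) [Flat f] [LocallyOfFinitePresentation f]
    [QuasiCompact f] [QuasiSeparated f] [GeometricallyReduced f] (g : Z ⟶ Y) [IsFinite g] [Flat g]
    [LocallyOfFinitePresentation g] (σ : Z ⟶ X) (hσ : σ ≫ f = g) (y : Y)
    (hZy : y ∈ Set.range g) (hXy : GConn f y (f ⁻¹' {y})) :
    ∃ (U : X.Opens) (Y₁ : Y.Opens), IsCompact (U : Set X) ∧ f ⁻¹' {y} ⊆ (U : Set X) ∧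
      IsAffineOpen Y₁ ∧ y ∈ Y₁ ∧ U ≤ f ⁻¹ᵁ Y₁ ∧
      ∀ y' ∈ Y₁, GConn f y' (U : Set X) ∧ ∃ x ∈ U, f x = y' := by
  let p : pullback f g ⟶ Z := pullback.snd f g
  let q : pullback f g ⟶ X := pullback.fst f g
  let s : Z ⟶ pullback f g := pullback.lift σ (𝟙 Z) (by rw [hσ, Category.id_comp])
  have hs : s ≫ p = 𝟙 Z := pullback.lift_snd _ _ _
  have hP : IsPullback q p f g := IsPullback.of_hasPullback f g
  haveI : GeometricallyReduced p := MorphismProperty.of_isPullback hP ‹GeometricallyReduced f›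
  set C := MoreMor.sectionComponents p s with hCdef
  have hmemC : ∀ x, x ∈ C ↔ x ∈ connectedComponentIn (p ⁻¹' {p x}) (s (p x)) := fun x => Iff.rfl
  have hCo : IsOpen C := isOpen_iff_mem_nhds.mpr fun x hx =>
    mem_interior_iff_mem_nhds.mp (Groth.Agent.S1327.result p s hs (p x) inferInstance hx)
  have hCc : IsLocallyConstructible C :=
    Groth.Agent.H46.GeomSpread.isLocallyConstructible_sectionComponents p s hs
  -- the whole fibre over `y`
  have hfull : ∀ w : ↥(pullback f g), g (p w) = y → w ∈ C := by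
    intro w hw
    let t : Spec (Z.residueField (p w)) ⟶ Z := Z.fromSpecResidueField (p w)
    have hty : ∀ a, (t ≫ g) a = y := fun a => by
      rw [Scheme.Hom.comp_apply, show t a = p w from Scheme.fromSpecResidueField_apply (p w) a, hw]
    have h1 := hXy (Z.residueField (p w)) (t ≫ g) hty
    erw [fst_preimage_fiber_eq_univ f (L := Z.residueField (p w)) (t ≫ g) (y := y) hty] at h1
    have h2 : _root_.IsPreconnected (p ⁻¹' {p w}) := by
      have h3 := h1.image (pullbackLeftPullbackSndIso f g t).inv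
        (pullbackLeftPullbackSndIso f g t).inv.continuous.continuousOn
      rw [Set.image_univ, Set.range_eq_univ.mpr
        (show Function.Surjective ⇑(pullbackLeftPullbackSndIso f g t).inv from
          (pullbackLeftPullbackSndIso f g t).inv.homeomorph.surjective)] at h3
      have h4 := h3.image (pullback.fst p t) (pullback.fst p t).continuous.continuousOn
      rw [Set.image_univ, Scheme.Pullback.range_fst, Scheme.range_fromSpecResidueField] at h4
      exact h4
    rw [hmemC]
    exact h2.subset_connectedComponentIn (show p (s (p w)) = p w by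
      rw [← Scheme.Hom.comp_apply, hs]; rfl) subset_rfl rfl
  -- the base over which the components of the two sections agree
  let R := pullback g g
  let π₁ : R ⟶ Z := pullback.fst g g
  let π₂ : R ⟶ Z := pullback.snd g g
  let m : R ⟶ pullback f g := pullback.lift (π₁ ≫ σ) π₂ (by
    rw [Category.assoc, hσ]; exact pullback.condition)
  have hcl : IsClosed ((π₁ ≫ g) '' (m ⁻¹' C)ᶜ) :=
    (π₁ ≫ g).isClosedMap _ (hCo.preimage m.continuous).isClosed_compl
  have hy₀ : y ∉ (π₁ ≫ g) '' (m ⁻¹' C)ᶜ := by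
    rintro ⟨r, hr, hry⟩
    refine hr (hfull (m r) ?_)
    have : m ≫ p ≫ g = π₁ ≫ g := by
      rw [← Category.assoc, show m ≫ p = π₂ from pullback.lift_snd _ _ _]
      exact pullback.condition.symm
    rw [← Scheme.Hom.comp_apply, ← Scheme.Hom.comp_apply, this]
    exact hry
  obtain ⟨Y₁, hY₁, hyY₁, hle⟩ := exists_isAffineOpen_mem_and_subset
    (show y ∈ (⟨((π₁ ≫ g) '' (m ⁻¹' C)ᶜ)ᶜ ∩ Set.range g,
      hcl.isOpen_compl.inter g.isOpenMap.isOpen_range⟩ : Y.Opens) from ⟨hy₀, hZy⟩)
  set C₁ : Set ↥(pullback f g) := C ∩ (p ≫ g) ⁻¹' (Y₁ : Set Y) with hC₁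
  -- the two pullbacks of the fibre components
  have key : ∀ w₁ w₂ : ↥(pullback f g), q w₁ = q w₂ → w₂ ∈ C → g (p w₁) ∈ Y₁ → w₁ ∈ C := by
    intro w₁ w₂ hw hw₂ hY
    let Q := pullback p π₁
    let a₁ : Q ⟶ pullback f g := pullback.fst p π₁
    let p' : Q ⟶ R := pullback.snd p π₁
    let a₂ : Q ⟶ pullback f g := pullback.lift (a₁ ≫ q) (p' ≫ π₂) (by
      simp only [Category.assoc]
      rw [hP.w, reassoc_of% (pullback.condition : a₁ ≫ p = p' ≫ π₁)]
      exact congrArg (p' ≫ ·) pullback.condition)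
    have hbig : IsPullback (a₁ ≫ q) p' f (π₁ ≫ g) := (IsPullback.of_hasPullback p π₁).paste_horiz hP
    have hsq₂ : IsPullback a₂ p' p π₂ := by
      refine IsPullback.of_right ?_ (pullback.lift_snd _ _ _) hP
      rw [show a₂ ≫ q = a₁ ≫ q from pullback.lift_fst _ _ _, show π₂ ≫ g = π₁ ≫ g from pullback.condition.symm]
      exact hbig
    have ha₂p : a₂ ≫ p = p' ≫ π₂ := pullback.lift_snd _ _ _
    have hbot : IsPullback a₂ a₁ q q := by
      refine IsPullback.of_right ?_ (pullback.lift_fst _ _ _) hP.flip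
      rw [ha₂p, hP.w]
      exact ((IsPullback.of_hasPullback p π₁).flip).paste_horiz (IsPullback.of_hasPullback g g).flip
    let s₁ : R ⟶ Q := pullback.lift (π₁ ≫ s) (𝟙 R) (by simp [hs])
    have hs₁ : s₁ ≫ p' = 𝟙 R := pullback.lift_snd _ _ _
    have hs₁a : s₁ ≫ a₁ = π₁ ≫ s := pullback.lift_fst _ _ _
    let s₂ : R ⟶ Q := hsq₂.lift (π₂ ≫ s) (𝟙 R) (by simp [hs])
    have hs₂ : s₂ ≫ p' = 𝟙 R := hsq₂.lift_snd _ _ _
    have hs₂a : s₂ ≫ a₂ = π₂ ≫ s := hsq₂.lift_fst _ _ _
    have e₁ := Groth.Agent.S1324.result p s hs p' a₁ π₁ (IsPullback.of_hasPullback p π₁) s₁ hs₁ hs₁a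
    have e₂ := Groth.Agent.S1324.result p s hs p' a₂ π₂ hsq₂ s₂ hs₂ hs₂a
    have hm : s₁ ≫ a₂ = m := by
      apply pullback.hom_ext
      · rw [Category.assoc, show a₂ ≫ pullback.fst f g = a₁ ≫ q from pullback.lift_fst _ _ _, ← Category.assoc,
          hs₁a, Category.assoc, show s ≫ q = σ from pullback.lift_fst _ _ _]
        exact (pullback.lift_fst _ _ _).symm
      · rw [Category.assoc, show a₂ ≫ pullback.snd f g = p' ≫ π₂ from pullback.lift_snd _ _ _, ← Category.assoc,
          hs₁, Category.id_comp]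
        exact (pullback.lift_snd _ _ _).symm
    obtain ⟨z, hz₁, hz₂⟩ : ∃ z : Q, a₁ z = w₁ ∧ a₂ z = w₂ := by
      obtain ⟨c, hc₂, hc₁⟩ := Scheme.Pullback.exists_preimage_pullback (f := q) (g := q) w₂ w₁ hw.symm
      refine ⟨hbot.isoPullback.inv c, ?_, ?_⟩
      · rw [← Scheme.Hom.comp_apply, hbot.isoPullback_inv_snd]; exact hc₁
      · rw [← Scheme.Hom.comp_apply, hbot.isoPullback_inv_fst]; exact hc₂
    have hr : (π₁ ≫ g) (p' z) ∈ Y₁ := by
      rw [← Scheme.Hom.comp_apply, ← Category.assoc, show p' ≫ π₁ = a₁ ≫ p from pullback.condition.symm,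
        Category.assoc, Scheme.Hom.comp_apply, hz₁, Scheme.Hom.comp_apply]
      exact hY
    have hrC : m (p' z) ∈ C := by
      by_contra h
      exact (hle hr).1 ⟨p' z, h, rfl⟩
    have hz : z ∈ MoreMor.sectionComponents p' s₂ := by
      rw [e₂]; exact (show a₂ z ∈ C from hz₂ ▸ hw₂)
    have hs12 : s₁ (p' z) ∈ MoreMor.sectionComponents p' s₂ := by
      rw [e₂]
      show a₂ (s₁ (p' z)) ∈ C
      rw [← Scheme.Hom.comp_apply, hm]
      exact hrC
    have hp' : p' (s₁ (p' z)) = p' z := by rw [← Scheme.Hom.comp_apply, hs₁]; rfl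
    have h12 : s₁ (p' z) ∈ connectedComponentIn (p' ⁻¹' {p' z}) (s₂ (p' z)) := by
      have := (show s₁ (p' z) ∈ connectedComponentIn (p' ⁻¹' {p' (s₁ (p' z))}) (s₂ (p' (s₁ (p' z)))) from hs12)
      rwa [hp'] at this
    have h1 : z ∈ MoreMor.sectionComponents p' s₁ := by
      show z ∈ connectedComponentIn (p' ⁻¹' {p' z}) (s₁ (p' z))
      rw [← connectedComponentIn_eq h12]
      exact hz
    rw [e₁] at h1
    exact hz₁ ▸ h1
  have hq : q ⁻¹' (q '' C₁) = C₁ := by
    refine Set.Subset.antisymm (fun w hw => ?_) (Set.subset_preimage_image _ _)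
    obtain ⟨w₂, ⟨hw₂, hw₂Y⟩, hw⟩ := hw
    have hgf : (p ≫ g) w = (p ≫ g) w₂ := by
      rw [← hP.w, Scheme.Hom.comp_apply, Scheme.Hom.comp_apply, hw]
    refine ⟨key w w₂ hw.symm hw₂ ?_, ?_⟩
    · rw [← Scheme.Hom.comp_apply, hgf]; exact hw₂Y
    · show (p ≫ g) w ∈ Y₁
      rw [hgf]; exact hw₂Y
  have hCo₁ : IsOpen C₁ := hCo.inter (Y₁.isOpen.preimage (p ≫ g).continuous)
  haveI : Flat q := MorphismProperty.of_isPullback hP.flip ‹Flat g›
  haveI : LocallyOfFinitePresentation q := MorphismProperty.of_isPullback hP.flip ‹LocallyOfFinitePresentation g›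
  let U : X.Opens := ⟨q '' C₁, q.isOpenMap _ hCo₁⟩
  refine ⟨U, Y₁, ?_, ?_, hY₁, hyY₁, ?_, ?_⟩
  · -- compactness
    have hc : IsCompact C₁ := by
      let V : (pullback f g).Opens := (p ≫ g) ⁻¹ᵁ Y₁
      have hV : IsCompact (V : Set ↥(pullback f g)) := (p ≫ g).isCompact_preimage hY₁.isCompact
      obtain ⟨t, htf, ht⟩ : ∃ t : Set (pullback f g).affineOpens, t.Finite ∧
          (V : Set ↥(pullback f g)) = ⋃ A ∈ t, (A.1 : Set ↥(pullback f g)) := by
        classical
        obtain ⟨F, hF⟩ := hV.elim_finite_subcover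
          (fun A : {A : (pullback f g).affineOpens // A.1 ≤ V} => (A.1.1 : Set ↥(pullback f g)))
          (fun A => A.1.1.isOpen) fun x hx => by
            obtain ⟨A, hA, hxA, hAV⟩ := exists_isAffineOpen_mem_and_subset (show x ∈ V from hx)
            exact Set.mem_iUnion.2 ⟨⟨⟨A, hA⟩, hAV⟩, hxA⟩
        refine ⟨Subtype.val '' (F : Set {A : (pullback f g).affineOpens // A.1 ≤ V}), F.finite_toSet.image Subtype.val, Set.Subset.antisymm (fun x hx => ?_) ?_⟩
        · obtain ⟨A, hA, hxA⟩ := Set.mem_iUnion₂.1 (hF hx)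
          exact Set.mem_iUnion₂.2 ⟨A.1, ⟨A, hA, rfl⟩, hxA⟩
        · rintro x hx
          obtain ⟨_, ⟨A, -, rfl⟩, hxA⟩ := Set.mem_iUnion₂.1 hx
          exact A.2 hxA
      have hA : ∀ A : (pullback f g).affineOpens, IsCompact (C ∩ (A.1 : Set ↥(pullback f g))) := fun A => by
        have h1 := Groth.Agent.H14.IsoNat.TrivLocus.isCompact_of_isConstructible
          (Groth.Agent.H47.ConsPreimage.isLocallyConstructible_preimage A.2.fromSpec hCc).isConstructible
        have h2 := h1.image A.2.fromSpec.continuous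
        erw [Set.image_preimage_eq_inter_range, A.2.range_fromSpec] at h2
        exact h2
      show IsCompact (C ∩ (V : Set ↥(pullback f g)))
      rw [ht, Set.inter_iUnion₂]
      exact htf.isCompact_biUnion fun A _ => hA A
    exact hc.image q.continuous
  · intro x hx
    obtain ⟨z, hz⟩ := hZy
    obtain ⟨w, hw₁, hw₂⟩ := Scheme.Pullback.exists_preimage_pullback (f := f) (g := g) x z
      ((show f x = y from hx).trans hz.symm)
    refine ⟨w, ⟨hfull w (by show g (p w) = y; rw [hw₂, hz]), ?_⟩, hw₁⟩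
    show (p ≫ g) w ∈ Y₁
    rw [Scheme.Hom.comp_apply, hw₂, hz]
    exact hyY₁
  · rintro _ ⟨w, hw, rfl⟩
    show f (q w) ∈ Y₁
    rw [← Scheme.Hom.comp_apply, hP.w]
    exact hw.2
  · intro y' hy'
    obtain ⟨z₁, hz₁⟩ := (hle hy').2
    have hsz : p (s z₁) = z₁ := by rw [← Scheme.Hom.comp_apply, hs]; rfl
    have hw₀ : s z₁ ∈ C₁ := by
      refine ⟨?_, show (p ≫ g) (s z₁) ∈ Y₁ by rw [Scheme.Hom.comp_apply, hsz, hz₁]; exact hy'⟩
      rw [hmemC, hsz]
      exact mem_connectedComponentIn hsz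
    have hxy' : f (q (s z₁)) = y' := by
      rw [← Scheme.Hom.comp_apply, hP.w, Scheme.Hom.comp_apply, hsz, hz₁]
    refine ⟨?_, q (s z₁), ⟨s z₁, hw₀, rfl⟩, hxy'⟩
    set w₀ := s z₁
    intro L _ t ht
    have hgz : g (p w₀) = y' := by
      rw [show w₀ = s z₁ from rfl, hsz, hz₁]
    have hy'Y : y' ∈ Y₁ := hy'
    obtain ⟨c, -, hc⟩ := Scheme.Pullback.exists_preimage_pullback (f := g) (g := t) (p w₀)
      (IsLocalRing.closedPoint L) (hgz.trans (ht _).symm)
    let L' := (pullback g t).residueField c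
    let ι' : Spec L' ⟶ pullback g t := (pullback g t).fromSpecResidueField c
    let t' : Spec L' ⟶ Z := ι' ≫ pullback.fst g t
    let e : Spec L' ⟶ Spec (CommRingCat.of L) := ι' ≫ pullback.snd g t
    have hte : t' ≫ g = e ≫ t := by simp [t', e, pullback.condition]
    let z₀ : Z := t' (IsLocalRing.closedPoint L')
    have ht' : ∀ a, t' a = z₀ := fun a =>
      congrArg t' (Subsingleton.elim (α := PrimeSpectrum L') a (IsLocalRing.closedPoint L'))
    have hz₀ : g z₀ = y' := by
      show g (t' _) = y'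
      rw [← Scheme.Hom.comp_apply, hte, Scheme.Hom.comp_apply]
      exact ht _
    have hG := gConn_sectionComponents p s hs z₀ L' t' ht'
    let v : pullback p t' ⟶ pullback f t := pullback.lift (pullback.fst p t' ≫ q) (pullback.snd p t' ≫ e) (by
      simp only [Category.assoc]
      rw [hP.w, reassoc_of% (pullback.condition : pullback.fst p t' ≫ p = _), hte])
    have hv1 : v ≫ pullback.fst f t = pullback.fst p t' ≫ q := pullback.lift_fst _ _ _
    haveI : Surjective e := ⟨fun a => ⟨IsLocalRing.closedPoint L', Subsingleton.elim (α := PrimeSpectrum L) _ _⟩⟩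
    have hvsq : IsPullback v (pullback.snd p t') (pullback.snd f t) e := by
      refine IsPullback.of_right ?_ (pullback.lift_snd _ _ _) (IsPullback.of_hasPullback f t)
      rw [hv1, ← hte]
      exact (IsPullback.of_hasPullback p t').paste_horiz hP
    haveI : Surjective v := MorphismProperty.of_isPullback hvsq.flip ‹Surjective e›
    have hset : (pullback.fst p t') ⁻¹' (C ∩ p ⁻¹' {z₀}) = v ⁻¹' ((pullback.fst f t) ⁻¹' (U : Set X)) := by
      have hv2 : v ⁻¹' ((pullback.fst f t) ⁻¹' (U : Set X)) = (pullback.fst p t') ⁻¹' (q ⁻¹' (q '' C₁)) := by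
        ext a
        show pullback.fst f t (v a) ∈ (U : Set X) ↔ q (pullback.fst p t' a) ∈ q '' C₁
        rw [← Scheme.Hom.comp_apply, hv1, Scheme.Hom.comp_apply]
        rfl
      rw [hv2]
      rw [hq]
      ext a
      have ha : p (pullback.fst p t' a) = z₀ := by
        rw [← Scheme.Hom.comp_apply, pullback.condition, Scheme.Hom.comp_apply]
        exact ht' _
      simp only [Set.mem_preimage, Set.mem_inter_iff, hC₁, Set.mem_singleton_iff, Scheme.Hom.comp_apply, ha, hz₀]
      exact ⟨fun h => ⟨h.1, hy'Y⟩, fun h => ⟨h.1, trivial⟩⟩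
    have := hG.image v v.continuous.continuousOn
    rw [hset, Set.image_preimage_eq _ v.surjective] at this
    exact this

end Groth.Agent.Lib.Flat55.FibreComponentsCover
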