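import Groth.Agent.Lib.Flat55.Localized
import Groth.Agent.H19.FlatLocus.Main
import Groth.Agent.H20.FibreDimBC
import Groth.Agent.Lib.FibreDim.Global
import Mathlib.AlgebraicGeometry.Morphisms.Flat
import Mathlib.AlgebraicGeometry.Morphisms.FinitePresentation
import Mathlib.RingTheory.Ideal.GoingDown
import Mathlib.RingTheory.Polynomial.Basic
import Mathlib.RingTheory.RingHom.Flat

/-!
# The fibre dimension of a flat morphism near a maximal point of a fibre

For a flat morphism locally of finite presentation, the local dimension of the fibre is constant in a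
neighbourhood of every maximal point of a fibre. No Noetherian hypothesis is needed: coordinates on the
fibre give a map to affine space over the base which is flat near the point, so it has going down.
-/

set_option autoImplicit false

universe u

open CategoryTheory AlgebraicGeometry Topology TensorProduct MvPolynomial
open Groth.Agent.Lib.Dim

namespace Groth.Agent.Lib.Flat55.FibreDimFlat

open Groth.Agent.H20.FibreDimBC

section generic

/-- A generating set of a domain over a field contains as many algebraically independent elements as the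
transcendence degree. -/
theorem exists_algebraicIndependent_of_adjoin {κ L : Type u} [Field κ] [CommRing L] [IsDomain L]
    [Algebra κ L] (s : Set L) (hs : Algebra.adjoin κ s = ⊤) (d : ℕ)
    (hd : Algebra.trdeg κ L = (d : Cardinal)) :
    ∃ x : Fin d → L, (∀ i, x i ∈ s) ∧ AlgebraicIndependent κ x := by
  have : Algebra.IsAlgebraic (Algebra.adjoin κ s) L :=
    ⟨fun z => isAlgebraic_algebraMap (A := L) (⟨z, hs ▸ trivial⟩ : Algebra.adjoin κ s)⟩
  obtain ⟨u, hus, hu⟩ := exists_isTranscendenceBasis_subset (R := κ) s
  have hcard : Cardinal.mk u = (d : Cardinal) := by rw [hu.cardinalMk_eq_trdeg, hd]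
  have : Finite u := Cardinal.mk_lt_aleph0_iff.1 (hcard ▸ Cardinal.natCast_lt_aleph0)
  let e : Fin d ≃ u :=
    ((Finite.equivFinOfCardEq (by rw [Nat.card, hcard, Cardinal.toNat_natCast])) : u ≃ _).symm
  exact ⟨fun i => (e i).1, fun i => hus (e i).2, hu.1.comp e e.injective⟩

/-- A module over the quotient by a maximal ideal is flat. -/
theorem flat_quotient_of_isMaximal {B : Type u} [CommRing B] (I : Ideal B) [I.IsMaximal]
    (M : Type u) [AddCommGroup M] [Module (B ⧸ I) M] : Module.Flat (B ⧸ I) M := by
  let : Field (B ⧸ I) := Ideal.Quotient.field I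
  exact Module.Flat.of_free

variable {R A L : Type u} [CommRing R] [CommRing A] [Algebra R A] [CommRing L] [Algebra R L]
  (p : Ideal R) [p.IsPrime] [Algebra p.ResidueField L] [IsScalarTower R p.ResidueField L]
  (π : A →ₐ[R] L) {n : ℕ} (t : Fin n → A)

theorem apply_aeval (G : MvPolynomial (Fin n) R) : π (MvPolynomial.aeval t G) =
    MvPolynomial.aeval (fun i => π (t i))
      (MvPolynomial.map (algebraMap R p.ResidueField) G) := by
  rw [MvPolynomial.aeval_map_algebraMap]
  exact MvPolynomial.comp_aeval_apply t π G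

theorem apply_aeval_eq_zero_iff (hind : AlgebraicIndependent p.ResidueField fun i => π (t i))
    (G : MvPolynomial (Fin n) R) :
    π (MvPolynomial.aeval t G) = 0 ↔ G ∈ p.map MvPolynomial.C := by
  rw [apply_aeval p, map_eq_zero_iff _ hind, MvPolynomial.mem_map_C_iff]
  constructor
  · intro h m
    rw [← Ideal.algebraMap_residueField_eq_zero (I := p), ← MvPolynomial.coeff_map, h,
      MvPolynomial.coeff_zero]
  · intro h
    ext m
    rw [MvPolynomial.coeff_map, MvPolynomial.coeff_zero]
    exact Ideal.algebraMap_residueField_eq_zero.2 (h m)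

theorem algebraicIndependent_of_apply_aeval (h : ∀ G : MvPolynomial (Fin n) R,
      π (MvPolynomial.aeval t G) = 0 → MvPolynomial.map (algebraMap R p.ResidueField) G = 0) :
    AlgebraicIndependent p.ResidueField fun i => π (t i) := by
  rw [algebraicIndependent_iff]
  intro G hG
  obtain ⟨r, hr, g, hg⟩ := FibreDim.Semicont.exists_C_mul_eq_map p G
  have h1 := h g (by rw [apply_aeval p, ← hg, map_mul, hG, mul_zero])
  rw [← hg, mul_eq_zero, MvPolynomial.C_eq_zero, Ideal.algebraMap_residueField_eq_zero] at h1
  exact h1.resolve_left hr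

variable {F : Type u} [CommRing F] [Algebra p.ResidueField F] [Algebra R F]
  [IsScalarTower R p.ResidueField F] [Algebra.FiniteType p.ResidueField F] (ι : A →ₐ[R] F)

/-- Coordinates of a component of the fibre can be taken from the algebra. -/
theorem exists_forall_mem_iff (hι : Algebra.adjoin p.ResidueField (Set.range ι) = ⊤) (P' : Ideal F)
    [P'.IsPrime] (d : ℕ) (hd : Basic.dimQ p.ResidueField P' = d) :
    ∃ t : Fin d → A, ∀ G : MvPolynomial (Fin d) R,
      ι (MvPolynomial.aeval t G) ∈ P' ↔ G ∈ p.map MvPolynomial.C := by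
  let π : A →ₐ[R] F ⧸ P' := (Ideal.Quotient.mkₐ R P').comp ι
  have hadj : Algebra.adjoin p.ResidueField (Set.range π) = ⊤ := by
    rw [show Set.range π = Ideal.Quotient.mkₐ p.ResidueField P' '' Set.range ι from by
      rw [← Set.range_comp]; rfl, ← AlgHom.map_adjoin, hι, Algebra.map_top, AlgHom.range_eq_top]
    exact Ideal.Quotient.mkₐ_surjective p.ResidueField P'
  obtain ⟨x, hx, hind⟩ := exists_algebraicIndependent_of_adjoin (Set.range π) hadj d
    ((Basic.trdeg_quotient p.ResidueField P').trans (congrArg _ hd))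
  choose t ht using hx
  rw [← funext ht] at hind
  exact ⟨t, fun G => Ideal.Quotient.eq_zero_iff_mem.symm.trans
    (apply_aeval_eq_zero_iff p π t hind G)⟩

theorem le_dimQ_of_forall (P' : Ideal F) [P'.IsPrime]
    (h : ∀ G : MvPolynomial (Fin n) R, ι (MvPolynomial.aeval t G) ∈ P' →
      MvPolynomial.map (algebraMap R p.ResidueField) G = 0) :
    n ≤ Basic.dimQ p.ResidueField P' := by
  let π : A →ₐ[R] F ⧸ P' := (Ideal.Quotient.mkₐ R P').comp ι
  have hind : AlgebraicIndependent p.ResidueField (fun i => π (t i)) :=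
    algebraicIndependent_of_apply_aeval p π t fun g hg =>
      h g (Ideal.Quotient.eq_zero_iff_mem.1 hg)
  have hn := hind.lift_cardinalMk_le_trdeg
  rw [Basic.trdeg_quotient p.ResidueField P'] at hn
  simpa only [Cardinal.mk_fin, Cardinal.lift_natCast, Nat.cast_le] using hn

omit [p.IsPrime] in
theorem adjoin_range_includeRight {K : Type u} [CommRing K] [Algebra R K] :
    Algebra.adjoin K (Set.range (Algebra.TensorProduct.includeRight (R := R) (A := K) (B := A))) =
      ⊤ := by
  rw [Algebra.eq_top_iff]
  intro z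
  induction z using TensorProduct.induction_on with
  | zero => exact Subalgebra.zero_mem _
  | tmul c a =>
    have e : (c ⊗ₜ[R] a : K ⊗[R] A) = c • ((1 : K) ⊗ₜ[R] a) := by
      rw [TensorProduct.smul_tmul', smul_eq_mul, mul_one]
    rw [e]
    exact Subalgebra.smul_mem _ (Algebra.subset_adjoin
      (s := Set.range (Algebra.TensorProduct.includeRight (R := R) (A := K) (B := A))) ⟨a, rfl⟩) c
  | add x y hx hy => exact Subalgebra.add_mem _ hx hy

end generic

section ring

variable {R A : Type u} [CommRing R] [CommRing A] [Algebra R A]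

/-- At a prime which is minimal in its fibre there are as many coordinates as the dimension of the fibre
which are algebraically independent on the component of the fibre. -/
theorem exists_comap_aeval_eq_map [Algebra.FiniteType R A] (P : Ideal A) [P.IsPrime]
    (hmin : ∀ (Q : Ideal A) [Q.IsPrime], Q ≤ P → Q.under R = P.under R → Q = P) :
    ∃ t : Fin (fdim R A P) → A,
      P.comap (MvPolynomial.aeval (R := R) t).toRingHom = (P.under R).map MvPolynomial.C := by
  classical
  let κ := (P.under R).ResidueField
  let F := (P.under R).Fiber A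
  let P' := (fibrePoint R A P).asIdeal
  let ι : A →ₐ[R] F := Algebra.TensorProduct.includeRight
  have hP' : P'.comap ι.toRingHom = P := comap_fibrePoint P
  obtain ⟨q₀, hq₀, hle, hdim⟩ := Local.exists_minimalPrimes_dimAt_eq κ P'
  have hq₀p : q₀.IsPrime := hq₀.1.1
  have hq₀P : q₀ = P' := by
    have h1 : q₀.comap ι.toRingHom = P := by
      refine hmin _ ((Ideal.comap_mono hle).trans hP'.le) ?_
      exact congrArg (fun I => I.asIdeal)
        ((PrimeSpectrum.preimageHomeomorphFiber R A ⟨P.under R, inferInstance⟩).symm ⟨q₀, hq₀p⟩).2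
    exact congrArg PrimeSpectrum.asIdeal (eq_fibrePoint P ⟨q₀, hq₀p⟩ h1)
  subst hq₀P
  obtain ⟨t, ht⟩ := exists_forall_mem_iff (F := F) (P.under R) ι adjoin_range_includeRight P'
    (fdim R A P) hdim
  refine ⟨t, ?_⟩
  ext G
  exact (SetLike.ext_iff.1 hP' (aeval t G)).symm.trans (ht G)

set_option backward.isDefEq.respectTransparency false in
/-- Coordinates independent on the fibre give a map to affine space which is flat at the prime. -/
theorem flat_localizedModule_aeval [Algebra.FinitePresentation R A] [Module.Flat R A] {n : ℕ}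
    (t : Fin n → A) (P : Ideal A) [P.IsPrime]
    (hP : P.comap (MvPolynomial.aeval (R := R) t).toRingHom = (P.under R).map MvPolynomial.C) :
    letI := (MvPolynomial.aeval (R := R) t).toRingHom.toAlgebra
    Module.Flat (MvPolynomial (Fin n) R) (LocalizedModule P.primeCompl A) := by
  let : Algebra (MvPolynomial (Fin n) R) A := (MvPolynomial.aeval (R := R) t).toRingHom.toAlgebra
  let B := MvPolynomial (Fin n) R
  have : IsScalarTower R B A := IsScalarTower.of_algHom (MvPolynomial.aeval (R := R) t)
  let p := P.under R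
  let q : Ideal B := P.comap (algebraMap B A)
  have hq : q = p.map MvPolynomial.C := hP
  have hqp : p = q.comap (algebraMap R B) := by
    rw [Ideal.comap_comap, ← IsScalarTower.algebraMap_eq]
  let R' := Localization.AtPrime p
  let B' := Localization.AtPrime q
  let C' := Localization.AtPrime P
  let : Algebra R' B' := (Localization.localRingHom p q (algebraMap R B) hqp).toAlgebra
  let : Algebra B' C' := (Localization.localRingHom q P (algebraMap B A) rfl).toAlgebra
  let : Algebra R' C' := (Localization.localRingHom p P (algebraMap R A) rfl).toAlgebra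
  have : IsLocalHom (algebraMap R' C') :=
    Localization.isLocalHom_localRingHom p P (algebraMap R A) rfl
  have : IsScalarTower R' B' C' := IsScalarTower.of_algebraMap_eq' (by
    refine IsLocalization.ringHom_ext p.primeCompl (RingHom.ext fun r => ?_)
    show Localization.localRingHom p P (algebraMap R A) rfl (algebraMap R R' r) =
      Localization.localRingHom q P (algebraMap B A) rfl
        (Localization.localRingHom p q (algebraMap R B) hqp (algebraMap R R' r))
    rw [Localization.localRingHom_to_map, Localization.localRingHom_to_map,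
      Localization.localRingHom_to_map, ← IsScalarTower.algebraMap_apply R B A])
  have : IsScalarTower R R' C' := IsScalarTower.of_algebraMap_eq fun r => by
    rw [RingHom.algebraMap_toAlgebra, Localization.localRingHom_to_map,
      ← IsScalarTower.algebraMap_apply]
  have : IsScalarTower B B' C' := IsScalarTower.of_algebraMap_eq fun r => by
    rw [RingHom.algebraMap_toAlgebra, Localization.localRingHom_to_map,
      ← IsScalarTower.algebraMap_apply]
  have : Module.Flat R C' := inferInstance
  have : Module.Flat R' C' := (Module.flat_iff_of_isLocalization R' p.primeCompl C').2 this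
  have hI : (IsLocalRing.maximalIdeal R').map (algebraMap R' B') = IsLocalRing.maximalIdeal B' := by
    rw [← Localization.AtPrime.map_eq_maximalIdeal, Ideal.map_map,
      ← Localization.AtPrime.map_eq_maximalIdeal]
    have hc : (algebraMap R' B').comp (algebraMap R R') = (algebraMap B B').comp (algebraMap R B) :=
      RingHom.ext fun r => by
        rw [RingHom.comp_apply, RingHom.algebraMap_toAlgebra, Localization.localRingHom_to_map]
        rfl
    rw [hc, ← Ideal.map_map, show p.map (algebraMap R B) = q from hq.symm]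
  have hfib : Module.Flat (B' ⧸ (IsLocalRing.maximalIdeal R').map (algebraMap R' B'))
      (C' ⧸ (IsLocalRing.maximalIdeal R').map (algebraMap R' B') • (⊤ : Submodule B' C')) := by
    rw [hI]
    exact flat_quotient_of_isMaximal _ _
  have hflat : Module.Flat B' C' := Localized.flat_of_flat_fibre (R := R) (B := B) (C := A) (R' := R')
    (B' := B') (C' := C') p.primeCompl q.primeCompl P
    (fun r => (Localization.localRingHom_to_map p q (algebraMap R B) hqp r).symm)
    (fun x => Localization.localRingHom_to_map q P (algebraMap B A) rfl x)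
    (Algebra.linearMap A C') hfib
  have : Module.Flat B C' := Module.Flat.trans B B' C'
  exact Module.Flat.of_linearEquiv
    ((IsLocalizedModule.iso P.primeCompl (Algebra.linearMap A C')).restrictScalars B)

/-- Where the coordinates are flat, the fibres have at least the dimension of affine space. -/
theorem le_fdim_of_flat [Algebra.FiniteType R A] {n : ℕ} (t : Fin n → A) (w : Ideal A) [w.IsPrime]
    (hw : letI := (MvPolynomial.aeval (R := R) t).toRingHom.toAlgebra
      Module.Flat (MvPolynomial (Fin n) R) (LocalizedModule w.primeCompl A)) :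
    n ≤ fdim R A w := by
  classical
  let : Algebra (MvPolynomial (Fin n) R) A := (MvPolynomial.aeval (R := R) t).toRingHom.toAlgebra
  let B := MvPolynomial (Fin n) R
  let Cw := Localization.AtPrime w
  have : Module.Flat B Cw := Module.Flat.of_linearEquiv
    ((IsLocalizedModule.iso w.primeCompl (Algebra.linearMap A Cw)).restrictScalars B).symm
  let s := w.under R
  let κ := s.ResidueField
  let ξ : Ideal B := RingHom.ker (MvPolynomial.map (algebraMap R κ))
  have hξ : ξ.IsPrime := RingHom.ker_isPrime _
  have hξs : ∀ r : R, MvPolynomial.C r ∈ ξ ↔ r ∈ s := fun r => by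
    rw [RingHom.mem_ker, MvPolynomial.map_C, MvPolynomial.C_eq_zero,
      Ideal.algebraMap_residueField_eq_zero]
  let m := IsLocalRing.maximalIdeal Cw
  have hξm : ξ ≤ m.under B := by
    show RingHom.ker _ ≤ _
    rw [MvPolynomial.ker_map, Ideal.map_le_iff_le_comap]
    intro r hr
    rw [RingHom.mem_ker, Ideal.algebraMap_residueField_eq_zero] at hr
    show algebraMap B Cw (MvPolynomial.C r) ∈ m
    rw [IsScalarTower.algebraMap_apply B A Cw, IsLocalization.AtPrime.to_map_mem_maximal_iff Cw w,
      show algebraMap B A (MvPolynomial.C r) = algebraMap R A r from MvPolynomial.aeval_C t r]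
    exact hr
  have : m.LiesOver (m.under B) := ⟨rfl⟩
  obtain ⟨W, hWm, hW, hWξ⟩ := Ideal.exists_ideal_le_liesOver_of_le m hξm
  let w₀ := W.comap (algebraMap A Cw)
  have hw₀w : w₀ ≤ w := fun a ha =>
    (IsLocalization.AtPrime.to_map_mem_maximal_iff Cw w a).1 (hWm ha)
  have hmemξ : ∀ G : B, MvPolynomial.aeval t G ∈ w₀ ↔ G ∈ ξ := fun G => by
    rw [hWξ.over]
    show algebraMap A Cw _ ∈ W ↔ algebraMap B Cw G ∈ W
    rw [IsScalarTower.algebraMap_apply B A Cw]
    rfl
  have hw₀s : w₀.under R = s := by
    ext r
    rw [← hξs, ← hmemξ, MvPolynomial.aeval_C]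
    rfl
  let eo := PrimeSpectrum.primesOverOrderIsoFiber R A s
  let a₀ : s.primesOver A := ⟨w₀, inferInstance, ⟨hw₀s.symm⟩⟩
  let a₁ : s.primesOver A := ⟨w, inferInstance, ⟨rfl⟩⟩
  have hle : eo a₀ ≤ eo a₁ := eo.monotone hw₀w
  let W₀ := (eo a₀).asIdeal
  have hcomap : W₀.comap (Algebra.TensorProduct.includeRight (R := R) (A := κ) (B := A)).toRingHom =
      w₀ := congrArg Subtype.val (eo.symm_apply_apply a₀)
  have hn : n ≤ Basic.dimQ κ W₀ := le_dimQ_of_forall s t (F := s.Fiber A)
    Algebra.TensorProduct.includeRight W₀ fun g hg => by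
      have h1 : aeval t g ∈ w₀ := by
        rw [← hcomap]
        exact hg
      rw [hmemξ] at h1
      exact h1
  exact hn.trans (Local.dimQ_le_dimAt_of_le κ hle)

/-- Near a prime which is minimal in its fibre, the fibres of a flat finitely presented algebra have at
least the same dimension. -/
theorem exists_isOpen_forall_fdim_le [Algebra.FinitePresentation R A] [Module.Flat R A]
    (P : PrimeSpectrum A)
    (hmin : ∀ (Q : Ideal A) [Q.IsPrime], Q ≤ P.asIdeal → Q.under R = P.asIdeal.under R →
      Q = P.asIdeal) :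
    ∃ N : Set (PrimeSpectrum A), IsOpen N ∧ P ∈ N ∧
      ∀ w ∈ N, fdim R A P.asIdeal ≤ fdim R A w.asIdeal := by
  obtain ⟨t, ht⟩ := exists_comap_aeval_eq_map P.asIdeal hmin
  let : Algebra (MvPolynomial (Fin (fdim R A P.asIdeal)) R) A :=
    (MvPolynomial.aeval (R := R) t).toRingHom.toAlgebra
  have : IsScalarTower R (MvPolynomial (Fin (fdim R A P.asIdeal)) R) A :=
    IsScalarTower.of_algHom (MvPolynomial.aeval (R := R) t)
  have : Algebra.FinitePresentation (MvPolynomial (Fin (fdim R A P.asIdeal)) R) A :=
    Algebra.FinitePresentation.of_restrict_scalars_finitePresentation R _ A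
  exact ⟨_, H19.FlatLocus.isOpen_flat_of_finitePresentation
    (R := MvPolynomial (Fin (fdim R A P.asIdeal)) R) (S := A) (M := A),
    flat_localizedModule_aeval t P.asIdeal ht, fun w hw => le_fdim_of_flat t w.asIdeal hw⟩

end ring

variable {X S : Scheme.{u}} (f : X ⟶ S) [Flat f] [LocallyOfFinitePresentation f]

/-- Near a maximal point of a fibre the local dimension of the fibres is constant. -/
theorem exists_open_forall_fibreDimAt_eq (x : X)
    (hmax : ∀ z, f.base z = f.base x → z ⤳ x → z = x) :
    ∃ N : X.Opens, x ∈ N ∧ ∀ u ∈ N, FlatMor.fibreDimAt f u = FlatMor.fibreDimAt f x := by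
  obtain ⟨U₁, hxU₁, hU₁⟩ := FibreDim.Semicont.exists_open_forall_fibreDimAt_le f x
  obtain ⟨V, hV, hxV, -⟩ :=
    AlgebraicGeometry.exists_isAffineOpen_mem_and_subset (x := f.base x) (U := ⊤) trivial
  obtain ⟨U, hU, hxU, hUV⟩ :=
    AlgebraicGeometry.exists_isAffineOpen_mem_and_subset (x := x) (U := f ⁻¹ᵁ V) hxV
  let φ := (f.appLE V U hUV).hom
  let : Algebra Γ(S, V) Γ(X, U) := φ.toAlgebra
  have : Algebra.FinitePresentation Γ(S, V) Γ(X, U) := f.finitePresentation_appLE hV hU hUV
  have : Module.Flat Γ(S, V) Γ(X, U) := f.flat_appLE hV hU hUV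
  let P := hU.primeIdealOf ⟨x, hxU⟩
  have hw : Spec.map (CommRingCat.ofHom (algebraMap Γ(S, V) Γ(X, U))) ≫ hV.fromSpec =
      hU.fromSpec ≫ f := hV.SpecMap_appLE_fromSpec f hU hUV
  have hP : hU.fromSpec.base P = x := hU.fromSpec_primeIdealOf _
  have happ := FibreDim.Chart.apply_eq f hV.fromSpec hU.fromSpec hw
  have hdim : ∀ Q : PrimeSpectrum Γ(X, U), FlatMor.fibreDimAt f (hU.fromSpec.base Q) =
      (fdim Γ(S, V) Γ(X, U) Q.asIdeal : WithBot ℕ∞) := fun Q =>
    (FibreDim.Chart.fibreDimAt_eq_dimAt f hV.fromSpec hU.fromSpec hw Q).trans rfl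
  obtain ⟨N, hNo, hPN, hN⟩ := exists_isOpen_forall_fdim_le (R := Γ(S, V)) P fun Q _ hQP hQp => by
    have hQ : (⟨Q, inferInstance⟩ : PrimeSpectrum Γ(X, U)) = P := by
      apply hU.fromSpec.isOpenEmbedding.injective
      rw [hP]
      refine hmax _ ?_ (hP ▸ ((PrimeSpectrum.le_iff_specializes _ _).1 hQP).map
        hU.fromSpec.continuous)
      conv_rhs => rw [← hP]
      rw [happ, happ]
      exact congrArg hV.fromSpec.base (PrimeSpectrum.ext hQp)
    exact congrArg PrimeSpectrum.asIdeal hQ
  refine ⟨⟨hU.fromSpec.base '' N, hU.fromSpec.isOpenEmbedding.isOpenMap _ hNo⟩ ⊓ U₁,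
    ⟨⟨P, hPN, hP⟩, hxU₁⟩, ?_⟩
  rintro u ⟨⟨Q, hQ, rfl⟩, hQ₁⟩
  refine le_antisymm (hU₁ _ hQ₁) ?_
  conv_lhs => rw [← hP]
  rw [hdim, hdim]
  exact_mod_cast hN Q hQ

omit [Flat f] [LocallyOfFinitePresentation f] in
/-- The generic point of a component of a fibre is maximal in the fibre. -/
theorem eq_of_specializes_of_isGenericPoint (x : X) {Z : Set ↥(f.fiber (f x))}
    (hZ : Z ∈ irreducibleComponents ↥(f.fiber (f x))) (hgen : IsGenericPoint (f.asFiber x) Z)
    (z : X) (hz : f.base z = f.base x) (hzx : z ⤳ x) : z = x := by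
  obtain ⟨a, rfl⟩ : z ∈ Set.range (f.fiberι (f x)).base := by rw [f.range_fiberι]; exact hz
  have ha : a ⤳ f.asFiber x := by
    rw [← (f.fiberι (f x)).isEmbedding.isInducing.specializes_iff, f.fiberι_asFiber]
    exact hzx
  have hle : Z ⊆ closure {a} := hgen ▸ ha.closure_subset
  have heq : closure {a} = Z :=
    Set.Subset.antisymm (hZ.2 isIrreducible_singleton.closure hle) hle
  rw [IsGenericPoint.eq (show IsGenericPoint a Z from heq) hgen, f.fiberι_asFiber]

/-- The locus where the dimension of the fibre is at least `n` is open. -/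
theorem isOpen_setOf_le_fibre_dim (n : ℕ) :
    IsOpen {s : S | (n : WithBot ℕ∞) ≤ topologicalKrullDim ↥(f.fiber s)} := by
  rw [isOpen_iff_forall_mem_open]
  intro s hs
  obtain ⟨x, hx, hxn⟩ := (FibreDim.Global.le_topologicalKrullDim_fiber_iff f s n).1 hs
  obtain ⟨z, -, hz, hmax, hzd⟩ := FibreDim.Chart.exists_maximal_generization f x
  obtain ⟨N, hzN, hN⟩ := exists_open_forall_fibreDimAt_eq f z
    fun z' h h' => hmax z' (h.trans hz) h'
  refine ⟨f.base '' (N : Set X), ?_, f.isOpenMap _ N.2, ⟨z, hzN, hz.trans hx⟩⟩
  rintro _ ⟨u, hu, rfl⟩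
  refine (FibreDim.Global.le_topologicalKrullDim_fiber_iff f _ n).2 ⟨u, rfl, ?_⟩
  rw [hN u hu, hzd]
  exact hxn

/-- The open pieces of constant fibre dimension meet every fibre in a dense subset. -/
theorem dense_preimage_iSup_interior (s : S) :
    Dense ((f.fiberι s).base ⁻¹' ⋃ d : ℕ, interior {x : X | FlatMor.fibreDimAt f x = d}) := by
  intro a
  obtain ⟨z, hzx, hz, hmax, -⟩ := FibreDim.Chart.exists_maximal_generization f ((f.fiberι s).base a)
  obtain ⟨N, hzN, hN⟩ := exists_open_forall_fibreDimAt_eq f z
    fun z' h h' => hmax z' (h.trans hz) h'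
  obtain ⟨e, he⟩ := FibreDim.Chart.exists_fibreDimAt_eq f z
  obtain ⟨b, rfl⟩ : z ∈ Set.range (f.fiberι s).base := by
    rw [f.range_fiberι]
    refine hz.trans ?_
    have : (f.fiberι s).base a ∈ Set.range (f.fiberι s).base := ⟨a, rfl⟩
    rwa [f.range_fiberι] at this
  have hba : b ⤳ a := (f.fiberι s).isEmbedding.isInducing.specializes_iff.1 hzx
  refine closure_mono ?_ (specializes_iff_mem_closure.1 hba)
  rw [Set.singleton_subset_iff]
  exact Set.mem_iUnion.2 ⟨e, interior_maximal (fun u hu => (hN u hu).trans he) N.2 hzN⟩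

end Groth.Agent.Lib.Flat55.FibreDimFlat
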