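import Groth.Agent.Lib.Flat55.FibreDimFlat
import Groth.Agent.Lib.Subtrusive.Valuation
import Groth.Agent.H2.FibreDimPullback
import Groth.Agent.Lib.VarDim.Fibre
import Mathlib.RingTheory.Valuation.ValuationRing
import Mathlib.AlgebraicGeometry.Morphisms.UniversallyOpen

/-!
# Fibre dimension over valuation rings, and along specializations for flat morphisms of finite type

Over a valuation ring every polynomial is a scalar times a polynomial with a unit coefficient, so
coordinates on a component of the special fibre stay independent at every generization.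
-/

set_option autoImplicit false

universe u

open CategoryTheory CategoryTheory.Limits AlgebraicGeometry Topology TensorProduct MvPolynomial
open Groth.Agent.Lib.Dim

namespace Groth.Agent.Lib.Flat55.FibreDimVal

open Groth.Agent.H20.FibreDimBC

section ring

variable {R A : Type u} [CommRing R] [IsDomain R] [ValuationRing R] [CommRing A] [Algebra R A]

theorem exists_mem_forall_dvd {ι : Type*} (s : Finset ι) (hs : s.Nonempty) (c : ι → R) :
    ∃ i ∈ s, ∀ j ∈ s, c i ∣ c j := by
  induction hs using Finset.Nonempty.cons_induction with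
  | singleton a => exact ⟨a, by simp⟩
  | cons a s ha _ ih =>
    obtain ⟨i, hi, hij⟩ := ih
    rcases ValuationRing.dvd_total (c a) (c i) with h | h
    · refine ⟨a, by simp, fun j hj => ?_⟩
      rcases Finset.mem_cons.1 hj with rfl | hj
      · exact dvd_rfl
      · exact h.trans (hij j hj)
    · refine ⟨i, Finset.mem_cons_of_mem hi, fun j hj => ?_⟩
      rcases Finset.mem_cons.1 hj with rfl | hj
      · exact h
      · exact hij j hj

/-- Every nonzero polynomial over a valuation ring is a scalar times one with a coefficient one. -/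
theorem exists_content {σ : Type*} (G : MvPolynomial σ R) (hG : G ≠ 0) :
    ∃ (c : R) (G₁ : MvPolynomial σ R), G = MvPolynomial.C c * G₁ ∧ ∃ m, G₁.coeff m = 1 := by
  obtain ⟨m, hm, hdvd⟩ :=
    exists_mem_forall_dvd G.support (MvPolynomial.support_nonempty.2 hG) (fun m => G.coeff m)
  obtain ⟨G₁, hG₁⟩ : MvPolynomial.C (G.coeff m) ∣ G := by
    rw [MvPolynomial.C_dvd_iff_dvd_coeff]
    intro j
    by_cases hj : j ∈ G.support
    · exact hdvd j hj
    · rw [MvPolynomial.notMem_support_iff.1 hj]
      exact dvd_zero _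
  refine ⟨_, G₁, hG₁, m, ?_⟩
  have h := congrArg (MvPolynomial.coeff m) hG₁
  rw [MvPolynomial.coeff_C_mul] at h
  exact (mul_eq_left₀ (MvPolynomial.mem_support_iff.1 hm)).1 h.symm

/-- Over a valuation ring, generizations of a prime which is minimal in its fibre have transcendence
degree at least the dimension of that fibre. -/
theorem fdim_le_dimQ [Algebra.FiniteType R A] (P : Ideal A) [P.IsPrime]
    (hmin : ∀ (Q : Ideal A) [Q.IsPrime], Q ≤ P → Q.under R = P.under R → Q = P)
    (w : Ideal A) [w.IsPrime] (hw : w ≤ P) :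
    fdim R A P ≤ Basic.dimQ (w.under R).ResidueField (fibrePoint R A w).asIdeal := by
  obtain ⟨t, ht⟩ := FibreDimFlat.exists_comap_aeval_eq_map P hmin
  refine FibreDimFlat.le_dimQ_of_forall (F := (w.under R).Fiber A) (w.under R) t
    Algebra.TensorProduct.includeRight _ fun G hG => ?_
  have hGw : aeval t G ∈ w := (SetLike.ext_iff.1 (comap_fibrePoint (R := R) w) (aeval t G)).1 hG
  by_cases hG0 : G = 0
  · rw [hG0, map_zero]
  obtain ⟨c, G₁, rfl, m, hm⟩ := exists_content G hG0
  rw [map_mul, MvPolynomial.aeval_C] at hGw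
  have h1 : aeval t G₁ ∉ w := fun h => by
    have h2 : G₁ ∈ (P.under R).map MvPolynomial.C := ht ▸ hw h
    have h3 := MvPolynomial.mem_map_C_iff.1 h2 m
    rw [hm] at h3
    exact (Ideal.IsPrime.ne_top inferInstance) ((Ideal.eq_top_iff_one _).2 h3)
  have hc : c ∈ w.under R := (‹w.IsPrime›.mem_or_mem hGw).resolve_right h1
  rw [map_mul, MvPolynomial.map_C, Ideal.algebraMap_residueField_eq_zero.2 hc, map_zero, zero_mul]

/-- Over a valuation ring, a generization of a prime which is minimal in its fibre is minimal in its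
fibre, as soon as the fibre dimension has not jumped up. -/
theorem eq_of_le [Algebra.FiniteType R A] (P : Ideal A) [P.IsPrime]
    (hmin : ∀ (Q : Ideal A) [Q.IsPrime], Q ≤ P → Q.under R = P.under R → Q = P)
    (w y : Ideal A) [w.IsPrime] [y.IsPrime] (hw : w ≤ P) (hy : y ≤ w) (hu : y.under R = w.under R)
    (hle : fdim R A y ≤ fdim R A P) : y = w := by
  by_contra hne
  let eo := PrimeSpectrum.primesOverOrderIsoFiber R A (w.under R)
  let a₀ : (w.under R).primesOver A := ⟨y, inferInstance, ⟨hu.symm⟩⟩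
  let a₁ : (w.under R).primesOver A := ⟨w, inferInstance, ⟨rfl⟩⟩
  have hlt : eo a₀ < eo a₁ := eo.strictMono (lt_of_le_of_ne (show a₀ ≤ a₁ from hy) fun h => hne (congrArg Subtype.val h))
  have h1 := fdim_le_dimQ P hmin w hw
  have h2 : Basic.dimQ (w.under R).ResidueField (fibrePoint R A w).asIdeal <
      Basic.dimQ (w.under R).ResidueField (eo a₀).asIdeal :=
    Basic.dimQ_lt_of_lt (w.under R).ResidueField hlt
  have : y.LiesOver (w.under R) := ⟨hu.symm⟩
  have h3 : fdim R A y = Local.dimAt (w.under R).ResidueField (eo a₀).asIdeal :=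
    (dimAt_eq_fdim (w.under R) y (eo a₀) (congrArg Subtype.val (eo.symm_apply_apply a₀))).symm
  have h4 := Local.dimQ_le_dimAt_of_le (w.under R).ResidueField (le_refl (eo a₀).asIdeal)
  omega

end ring

section scheme

variable {R : Type u} [CommRing R] [IsDomain R] [ValuationRing R] {X : Scheme.{u}}
  (φ : X ⟶ Spec (CommRingCat.of R)) [LocallyOfFiniteType φ]

omit [IsDomain R] [ValuationRing R] in
theorem exists_chart_spec (x : X) :
    ∃ (A : Type u) (_ : CommRing A) (_ : Algebra R A) (_ : Algebra.FiniteType R A)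
      (w : Spec (CommRingCat.of A) ⟶ X) (_ : IsOpenImmersion w) (P : PrimeSpectrum A),
      Spec.map (CommRingCat.ofHom (algebraMap R A)) ≫ 𝟙 _ = w ≫ φ ∧ w.base P = x := by
  obtain ⟨U, hU, hxU, -⟩ :=
    AlgebraicGeometry.exists_isAffineOpen_mem_and_subset (x := x) (U := ⊤) trivial
  obtain ⟨ψ, hψ⟩ := Spec.map_surjective (hU.fromSpec ≫ φ)
  have h : LocallyOfFiniteType (Spec.map ψ) := by rw [hψ]; infer_instance
  rw [HasRingHomProperty.Spec_iff (P := @LocallyOfFiniteType)] at h
  let : Algebra R Γ(X, U) := ψ.hom.toAlgebra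
  exact ⟨Γ(X, U), inferInstance, inferInstance, h, hU.fromSpec, inferInstance,
    hU.primeIdealOf ⟨x, hxU⟩, (Category.comp_id _).trans hψ, hU.fromSpec_primeIdealOf _⟩

omit [IsDomain R] [ValuationRing R] [LocallyOfFiniteType φ] in
/-- A maximal point of a fibre gives a prime which is minimal in its fibre. -/
theorem minimal_of_maximal {A : Type u} [CommRing A] [Algebra R A]
    (w : Spec (CommRingCat.of A) ⟶ X) [IsOpenImmersion w]
    (hw : Spec.map (CommRingCat.ofHom (algebraMap R A)) ≫ 𝟙 _ = w ≫ φ) (P : PrimeSpectrum A)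
    (hmax : ∀ z, z ⤳ w.base P → φ.base z = φ.base (w.base P) → z = w.base P)
    (Q : Ideal A) [Q.IsPrime] (hQP : Q ≤ P.asIdeal) (hQ : Q.under R = P.asIdeal.under R) :
    Q = P.asIdeal := by
  have h : (⟨Q, inferInstance⟩ : PrimeSpectrum A) = P := by
    apply w.isOpenEmbedding.injective
    refine hmax _ (((PrimeSpectrum.le_iff_specializes _ _).1 hQP).map w.continuous) ?_
    rw [FibreDim.Chart.apply_eq φ (𝟙 _) w hw, FibreDim.Chart.apply_eq φ (𝟙 _) w hw]
    exact PrimeSpectrum.ext hQ
  exact congrArg PrimeSpectrum.asIdeal h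

/-- Over a valuation ring the fibre dimension at a generization of a maximal point of a fibre is at
least the dimension of that fibre. -/
theorem fibreDimAt_le_of_specializes (x x' : X) (hsp : x' ⤳ x)
    (hmax : ∀ z, z ⤳ x → φ.base z = φ.base x → z = x) :
    FlatMor.fibreDimAt φ x ≤ FlatMor.fibreDimAt φ x' := by
  obtain ⟨A, _, _, _, w, _, P, hw, rfl⟩ := exists_chart_spec φ x
  obtain ⟨Q, rfl⟩ : x' ∈ Set.range w.base :=
    hsp.mem_open w.isOpenEmbedding.isOpen_range ⟨_, rfl⟩
  rw [H2.FibreDimPullback.fibreDimAt_eq_fdim φ (𝟙 _) w hw,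
    H2.FibreDimPullback.fibreDimAt_eq_fdim φ (𝟙 _) w hw]
  exact_mod_cast (fdim_le_dimQ P.asIdeal (fun Q _ => minimal_of_maximal φ w hw P hmax Q) Q.asIdeal
    ((PrimeSpectrum.le_iff_specializes _ _).2
      (w.isOpenEmbedding.isInducing.specializes_iff.1 hsp))).trans
    (Local.dimQ_le_dimAt_of_le (Q.asIdeal.under R).ResidueField le_rfl)

/-- Over a valuation ring every generization of a maximal point of a fibre is maximal in its fibre. -/
theorem eq_of_specializes (x x' : X) (hsp : x' ⤳ x)
    (hmax : ∀ z, z ⤳ x → φ.base z = φ.base x → z = x)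
    (y : X) (hy : y ⤳ x') (hyx : φ.base y = φ.base x') : y = x' := by
  obtain ⟨A, _, _, _, w, _, P, hw, rfl⟩ := exists_chart_spec φ x
  obtain ⟨Q, rfl⟩ : x' ∈ Set.range w.base :=
    hsp.mem_open w.isOpenEmbedding.isOpen_range ⟨_, rfl⟩
  obtain ⟨Q', rfl⟩ : y ∈ Set.range w.base :=
    hy.mem_open w.isOpenEmbedding.isOpen_range ⟨_, rfl⟩
  obtain ⟨O, hxO, hO⟩ := FibreDim.Semicont.exists_open_forall_fibreDimAt_le φ (w.base P)
  have hle := hO _ ((hy.trans hsp).mem_open O.2 hxO)
  rw [H2.FibreDimPullback.fibreDimAt_eq_fdim φ (𝟙 _) w hw,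
    H2.FibreDimPullback.fibreDimAt_eq_fdim φ (𝟙 _) w hw] at hle
  rw [FibreDim.Chart.apply_eq φ (𝟙 _) w hw, FibreDim.Chart.apply_eq φ (𝟙 _) w hw] at hyx
  have hu : Q'.asIdeal.under R = Q.asIdeal.under R := congrArg PrimeSpectrum.asIdeal hyx
  exact congrArg w.base (PrimeSpectrum.ext (eq_of_le P.asIdeal
    (fun Q _ => minimal_of_maximal φ w hw P hmax Q) Q.asIdeal Q'.asIdeal
    ((PrimeSpectrum.le_iff_specializes _ _).2
      (w.isOpenEmbedding.isInducing.specializes_iff.1 hsp))
    ((PrimeSpectrum.le_iff_specializes _ _).2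
      (w.isOpenEmbedding.isInducing.specializes_iff.1 hy)) hu (by exact_mod_cast hle)))

end scheme

/-- For a flat morphism locally of finite type the fibre dimension at some generization over any
generization of the image is at least as big. -/
theorem exists_specializes_fibreDimAt_le {X S : Scheme.{u}} (f : X ⟶ S) [Flat f]
    [LocallyOfFiniteType f] (x : X) (η : S) (h : η ⤳ f.base x) :
    ∃ x' : X, x' ⤳ x ∧ f.base x' = η ∧ FlatMor.fibreDimAt f x ≤ FlatMor.fibreDimAt f x' := by
  obtain ⟨V, _, _, _, g, hg, hc⟩ := Subtrusive.Valuation.exists_valuationRing_of_specializes h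
  obtain ⟨p₀, hp₀, hp₀'⟩ := Scheme.Pullback.exists_preimage_pullback
    (f := f) (g := g) x (Subtrusive.Valuation.clPt V) hc.symm
  have hpb := IsPullback.of_hasPullback f g
  obtain ⟨p, hp, hpf, hmax, hpd⟩ :=
    FibreDim.Chart.exists_maximal_generization (pullback.snd f g) p₀
  obtain ⟨p', hp', hp'g⟩ := Flat.generalizingMap (pullback.snd f g)
    (Subtrusive.Valuation.genPt_specializes ((pullback.snd f g).base p))
  refine ⟨(pullback.fst f g).base p', ?_, ?_, ?_⟩
  · rw [← hp₀]
    exact (hp'.trans hp).map (pullback.fst f g).continuous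
  · rw [← hg, ← hp'g, ← Scheme.Hom.comp_apply, pullback.condition, Scheme.Hom.comp_apply]
  · rw [← hp₀, ← H2.FibreDimPullback.fibreDimAt_of_isPullback hpb p₀,
      ← H2.FibreDimPullback.fibreDimAt_of_isPullback hpb p', ← hpd]
    exact fibreDimAt_le_of_specializes (pullback.snd f g) p p' hp'
      fun z hz he => hmax z (he.trans hpf) hz

/-- If the fibres of a flat morphism have dimension at most `e` over a dense open of the base, they do
everywhere, when the morphism is locally of finite presentation or the open is retrocompact. -/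
theorem fibreDimAt_le_of_dense {X S : Scheme.{u}} (f : X ⟶ S) [Flat f] [LocallyOfFiniteType f]
    (U : S.Opens) (hU : Dense (U : Set S)) (e : WithBot ℕ∞)
    (hle : ∀ x : X, f.base x ∈ U → FlatMor.fibreDimAt f x ≤ e)
    (h : LocallyOfFinitePresentation f ∨ QuasiCompact U.ι) (x : X) :
    FlatMor.fibreDimAt f x ≤ e := by
  rcases h with h | h
  · obtain ⟨z, -, hz, hmax, hzd⟩ := FibreDim.Chart.exists_maximal_generization f x
    obtain ⟨N, hzN, hN⟩ := FibreDimFlat.exists_open_forall_fibreDimAt_eq f z
      fun z' h h' => hmax z' (h.trans hz) h'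
    obtain ⟨_, hs, u, hu, rfl⟩ := hU.exists_mem_open (f.isOpenMap _ N.2) ⟨_, z, hzN, rfl⟩
    rw [← hzd, ← hN u hu]
    exact hle u hs
  · obtain ⟨η, hη⟩ := VarDim.Fibre.exists_specializes_of_mem_closure_range U.ι
      (y := f.base x) (by rw [U.range_ι, hU.closure_eq]; trivial)
    obtain ⟨x', -, hx', hd⟩ := exists_specializes_fibreDimAt_le f x _ hη
    exact hd.trans (hle x' (by rw [hx']; exact η.2))

end Groth.Agent.Lib.Flat55.FibreDimVal
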