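import Groth.Agent.Lib.Flat55.Presented
import Mathlib.RingTheory.Localization.Ideal
import Mathlib.RingTheory.Flat.EquationalCriterion
import Mathlib.RingTheory.Polynomial.Basic

/-!
# Polynomial rings over a residue field extension
-/

set_option autoImplicit false

universe u v

namespace Groth.Agent.Lib.Flat55.FibreRing

open MvPolynomial

variable {σ : Type}

/-- Flatness can be checked through a surjection onto the source. -/
theorem flat_of_comp_surjective {A A' N : Type*} [CommRing A] [CommRing A'] [CommRing N]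
    (ω : A →+* A') (hω : Function.Surjective ω) (L : A' →+* N) (h : (L.comp ω).Flat) : L.Flat := by
  algebraize [ω, L, L.comp ω]
  refine Module.Flat.iff_forall_isTrivialRelation.2 fun {l f x} hfx ↦ ?_
  choose a ha using fun i ↦ hω (f i)
  have hω' : ∀ (r : A) (z : N), r • z = ω r • z := fun r z ↦ (algebraMap_smul A' r z).symm
  have h0 : ∑ i, a i • x i = 0 := by
    simpa only [hω', ha] using hfx
  obtain ⟨k, b, y, hy, hb⟩ := Module.Flat.isTrivialRelation_of_sum_smul_eq_zero h0
  refine ⟨k, fun i j ↦ ω (b i j), y, fun i ↦ ?_, fun j ↦ ?_⟩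
  · simpa only [hω'] using hy i
  · have := congrArg ω (hb j)
    simpa only [map_sum, map_mul, map_zero, ha] using this

section Residue

variable {R k : Type u} [CommRing R] [Field k] (χ : R →+* k)

theorem map_C_ker_le :
    (RingHom.ker χ).map (C : R →+* MvPolynomial σ R) ≤ RingHom.ker (MvPolynomial.map (σ := σ) χ) :=
  (MvPolynomial.ker_map χ).ge

/-- `R[σ] / m R[σ] → k[σ]` is flat. -/
theorem flat_lift_map [IsLocalRing R] (hχ : RingHom.ker χ = IsLocalRing.maximalIdeal R) :
    (Ideal.Quotient.lift ((RingHom.ker χ).map (C : R →+* MvPolynomial σ R)) (MvPolynomial.map χ)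
      (map_C_ker_le χ)).Flat := by
  let m := RingHom.ker χ
  have : m.IsMaximal := by
    change (RingHom.ker χ).IsMaximal
    rw [hχ]; infer_instance
  let := Ideal.Quotient.field m
  let χ₀ : R ⧸ m →+* k := Ideal.Quotient.lift m χ fun _ ↦ id
  let e : MvPolynomial σ R ⧸ m.map C →+* MvPolynomial σ (R ⧸ m) :=
    Ideal.Quotient.lift _ (MvPolynomial.map (Ideal.Quotient.mk m))
      (fun a ha ↦ by
        change a ∈ RingHom.ker (MvPolynomial.map (Ideal.Quotient.mk m))
        rw [MvPolynomial.ker_map, Ideal.mk_ker]; exact ha)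
  have he : Function.Bijective e := by
    constructor
    · rw [injective_iff_map_eq_zero]
      intro x hx
      obtain ⟨x, rfl⟩ := Ideal.Quotient.mk_surjective x
      have : x ∈ RingHom.ker (MvPolynomial.map (Ideal.Quotient.mk m)) := hx
      rw [MvPolynomial.ker_map, Ideal.mk_ker] at this
      exact Ideal.Quotient.eq_zero_iff_mem.2 this
    · intro y
      obtain ⟨x, rfl⟩ := MvPolynomial.map_surjective (Ideal.Quotient.mk m) Ideal.Quotient.mk_surjective y
      exact ⟨Ideal.Quotient.mk _ x, rfl⟩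
  have hflat : (MvPolynomial.map (σ := σ) χ₀).Flat := by
    let := χ₀.toAlgebra
    let := MvPolynomial.algebraMvPolynomial (R := R ⧸ m) (σ := σ) (S := k)
    have : Module.Flat (R ⧸ m) k := inferInstance
    change Module.Flat (MvPolynomial σ (R ⧸ m)) (MvPolynomial σ k)
    exact Module.Flat.isBaseChange (R ⧸ m) (MvPolynomial σ (R ⧸ m)) k (MvPolynomial σ k)
      (Algebra.IsPushout.out (R := R ⧸ m) (S := MvPolynomial σ (R ⧸ m)) (R' := k))
  convert (RingHom.Flat.of_bijective he).comp hflat using 1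
  refine Ideal.Quotient.ringHom_ext (MvPolynomial.ringHom_ext (fun a ↦ ?_) fun i ↦ ?_)
  · change MvPolynomial.map χ (C a) = MvPolynomial.map χ₀ (MvPolynomial.map (Ideal.Quotient.mk m) (C a))
    rw [map_C, map_C, map_C]
    rfl
  · change MvPolynomial.map χ (X i) = MvPolynomial.map χ₀ (MvPolynomial.map (Ideal.Quotient.mk m) (X i))
    rw [map_X, map_X, map_X]

/-- `A / m A → k[σ]_{q̄}` is faithfully flat for `A = R[σ]_q`. -/
theorem faithfullyFlat_lift_localRingHom [IsLocalRing R]
    (hχ : RingHom.ker χ = IsLocalRing.maximalIdeal R) (q : Ideal (MvPolynomial σ R)) [q.IsPrime]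
    (q₁ : Ideal (MvPolynomial σ k)) [q₁.IsPrime] (hq : q = q₁.comap (MvPolynomial.map χ))
    (hle : (IsLocalRing.maximalIdeal R).map (algebraMap R (Localization.AtPrime q)) ≤
      RingHom.ker (Localization.localRingHom q q₁ (MvPolynomial.map χ) hq)) :
    RingHom.FaithfullyFlat
      (R := Localization.AtPrime q ⧸ (IsLocalRing.maximalIdeal R).map (algebraMap R (Localization.AtPrime q)))
      (S := Localization.AtPrime q₁)
      (Ideal.Quotient.lift _ (Localization.localRingHom q q₁ (MvPolynomial.map χ) hq) hle) := by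
  set P := MvPolynomial σ R
  set S := Localization.AtPrime q
  set S₁ := Localization.AtPrime q₁
  let J₀ : Ideal P := (RingHom.ker χ).map C
  have hJ : (IsLocalRing.maximalIdeal R).map (algebraMap R S) = J₀.map (algebraMap P S) := by
    rw [← hχ, Ideal.map_map]; rfl
  set J := (IsLocalRing.maximalIdeal R).map (algebraMap R S) with hJdef
  let L : S ⧸ J →+* S₁ :=
    Ideal.Quotient.lift J (Localization.localRingHom q q₁ (MvPolynomial.map χ) hq) hle
  let e : P ⧸ J₀ →+* S ⧸ J :=
    Ideal.quotientMap J (algebraMap P S) (by rw [hJ]; exact Ideal.le_comap_map)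
  let φ : P ⧸ J₀ →+* MvPolynomial σ k :=
    Ideal.Quotient.lift J₀ (MvPolynomial.map χ) (map_C_ker_le χ)
  have hfac : L.comp e = (algebraMap (MvPolynomial σ k) S₁).comp φ :=
    Ideal.Quotient.ringHom_ext (RingHom.ext fun a ↦ Localization.localRingHom_to_map q q₁ _ hq a)
  have hflat : ((algebraMap (MvPolynomial σ k) S₁).comp φ).Flat :=
    (flat_lift_map χ hχ).comp (RingHom.flat_algebraMap_iff.2 inferInstance)
  rw [← hfac] at hflat
  let : Algebra (P ⧸ J₀) (S ⧸ J) := RingHom.toAlgebra (R := P ⧸ J₀) (S := S ⧸ J) e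
  let : Algebra (S ⧸ J) S₁ := RingHom.toAlgebra (R := S ⧸ J) (S := S₁) L
  let : Algebra (P ⧸ J₀) S₁ := RingHom.toAlgebra (R := P ⧸ J₀) (S := S₁) (L.comp e)
  have : IsScalarTower (P ⧸ J₀) (S ⧸ J) S₁ := .of_algebraMap_eq fun _ ↦ rfl
  have hloc : IsLocalization (q.primeCompl.map (Ideal.Quotient.mk J₀)) (S ⧸ J) := by
    refine IsLocalization.of_surjective q.primeCompl S (R' := P ⧸ J₀) (S' := S ⧸ J)
      (Ideal.Quotient.mk J₀) Ideal.Quotient.mk_surjective (Ideal.Quotient.mk J)
      Ideal.Quotient.mk_surjective (RingHom.ext fun _ ↦ rfl) (le_of_eq ?_)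
    rw [Ideal.mk_ker, Ideal.mk_ker]
    exact hJ
  have h1 : Module.Flat (S ⧸ J) S₁ :=
    (Module.flat_iff_of_isLocalization (R := P ⧸ J₀) (S ⧸ J)
      (q.primeCompl.map (Ideal.Quotient.mk J₀)) S₁).2 hflat
  have hJtop : J ≠ ⊤ := fun h ↦
    (Ideal.ne_top_iff_one _).1 (RingHom.ker_ne_top
      (Localization.localRingHom q q₁ (MvPolynomial.map χ) hq)) (hle (h ▸ Submodule.mem_top))
  have : Nontrivial (S ⧸ J) := Ideal.Quotient.nontrivial_iff.2 hJtop
  have : IsLocalRing (S ⧸ J) := IsLocalRing.of_surjective' _ Ideal.Quotient.mk_surjective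
  have hL : IsLocalHom L := by
    refine ⟨fun x hx ↦ ?_⟩
    obtain ⟨x, rfl⟩ := Ideal.Quotient.mk_surjective x
    exact (IsLocalHom.map_nonunit (f := Localization.localRingHom q q₁ (MvPolynomial.map χ) hq) x hx).map _
  exact @Module.FaithfullyFlat.of_flat_of_isLocalHom (S ⧸ J) S₁ _ _ _ _ _ h1 hL

end Residue

end Groth.Agent.Lib.Flat55.FibreRing
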