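import Groth.Agent.Lib.Flat55.Level
import Mathlib.Algebra.Module.LocalizedModule.Int

/-!
# The criterion of flatness by fibres, without Noetherian hypotheses

For a local ring `R`, a finitely presented algebra `B = R[τ] / I` and a finitely presented module
over a finitely presented algebra over `B`, localised at a prime over the maximal ideal of `R`:
if it is flat over `R` and its special fibre is flat over the special fibre of `B`, it is flat
over `B`.
-/

set_option autoImplicit false

universe u v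

namespace Groth.Agent.Lib.Flat55.Fibrewise

open MvPolynomial Relations LocalSubring Approx

variable {σ τ ι κ : Type} {R : Type u} [CommRing R]

section Push

variable (R' : Subring R) (g' : κ → ι → MvPolynomial σ R') (g : κ → ι → MvPolynomial σ R)
  (hg : ∀ v, mapVec R'.subtype (g' v) = g v) (q : Ideal (MvPolynomial σ R)) [q.IsPrime]

include hg in
/-- The map on presented modules induced by the inclusion of a subring, localised. -/
theorem exists_push :
    ∃ Λ : QuotAt g' (q.comap (incl R')) →+ QuotAt g q,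
      (∀ (a : MvPolynomial σ R') (x), Λ (a • x) = incl R' a • Λ x) ∧
      ∀ f : ι → MvPolynomial σ R', Λ (LocalizedModule.mkLinearMap _ (Quot g') (Submodule.Quotient.mk f)) =
        LocalizedModule.mkLinearMap q.primeCompl (Quot g) (Submodule.Quotient.mk (mapVec R'.subtype f)) := by
  let : Module (MvPolynomial σ R') (QuotAt g q) := Module.compHom _ (incl R')
  let lM := LocalizedModule.mkLinearMap q.primeCompl (Quot g)
  let L : (ι → MvPolynomial σ R') →ₗ[MvPolynomial σ R'] QuotAt g q :=
    { toFun := fun f ↦ lM (Submodule.Quotient.mk (mapVec R'.subtype f))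
      map_add' := fun a b ↦ by rw [map_add, Submodule.Quotient.mk_add, map_add]
      map_smul' := fun a f ↦ by
        rw [mapVec_smul, Submodule.Quotient.mk_smul, map_smul]
        rfl }
  let ψ₀ : Quot g' →ₗ[MvPolynomial σ R'] QuotAt g q := (rel g').liftQ L <| by
    rw [rel, Submodule.span_le]
    rintro _ ⟨v, rfl⟩
    change lM (Submodule.Quotient.mk (mapVec R'.subtype (g' v))) = 0
    rw [hg, (Submodule.Quotient.mk_eq_zero (rel g)).2 (Submodule.subset_span ⟨v, rfl⟩), map_zero]
  have hu : ∀ s : (q.comap (incl R')).primeCompl,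
      IsUnit (algebraMap (MvPolynomial σ R') (Module.End (MvPolynomial σ R') (QuotAt g q)) s) := by
    intro s
    rw [Module.End.isUnit_iff]
    have h := IsLocalizedModule.map_units (LocalizedModule.mkLinearMap q.primeCompl (Quot g))
      (⟨incl R' s, s.2⟩ : q.primeCompl)
    rw [Module.End.isUnit_iff] at h
    exact h
  let Λ := IsLocalizedModule.lift (q.comap (incl R')).primeCompl
    (LocalizedModule.mkLinearMap (q.comap (incl R')).primeCompl (Quot g')) ψ₀ hu
  refine ⟨Λ.toAddMonoidHom, fun a x ↦ map_smul Λ a x, fun f ↦ ?_⟩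
  exact IsLocalizedModule.lift_apply (q.comap (incl R')).primeCompl
    (LocalizedModule.mkLinearMap _ (Quot g')) ψ₀ hu (Submodule.Quotient.mk f)

end Push

variable [IsLocalRing R]

theorem comap_incl_comap_C (R' : Subring R) [IsLocalRing R'] [IsLocalHom R'.subtype]
    (q : Ideal (MvPolynomial σ R)) (hq : q.comap C = IsLocalRing.maximalIdeal R) :
    (q.comap (incl R')).comap C = IsLocalRing.maximalIdeal R' := by
  ext r
  rw [Ideal.mem_comap, Ideal.mem_comap, map_C]
  change (R'.subtype r) ∈ q.comap C ↔ _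
  rw [hq]
  exact not_congr (isUnit_map_iff R'.subtype r)

open scoped Classical in
/-- The criterion of flatness by fibres. -/
theorem flat_fibrewise [Finite σ] [Finite τ] [Finite ι] [Finite κ]
    (e : τ → σ) (g : κ → ι → MvPolynomial σ R) (q : Ideal (MvPolynomial σ R)) [q.IsPrime]
    (hq : q.comap C = IsLocalRing.maximalIdeal R) [Module.Flat R (QuotAt g q)]
    {B : Type u} [CommRing B] (π : MvPolynomial τ R →+* B) (hπ : Function.Surjective π)
    [Module B (QuotAt g q)]
    (hsmul : ∀ (a : MvPolynomial τ R) (x : QuotAt g q), π a • x = rename e a • x)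
    {k : Type u} [Field k] (χ : R →+* k) (hχ : RingHom.ker χ = IsLocalRing.maximalIdeal R)
    (q₁ : Ideal (MvPolynomial σ k)) [q₁.IsPrime] (hq₁ : q = q₁.comap (MvPolynomial.map χ))
    (g₁ : κ → ι → MvPolynomial σ k) (hg₁ : ∀ v, mapVec χ (g v) = g₁ v)
    {B₁ : Type u} [CommRing B₁] (π₁ : MvPolynomial τ k →+* B₁) (hπ₁ : Function.Surjective π₁)
    (hker : RingHom.ker π₁ = (RingHom.ker π).map (MvPolynomial.map χ))
    [Module B₁ (QuotAt g₁ q₁)]
    (hsmul₁ : ∀ (a : MvPolynomial τ k) (y : QuotAt g₁ q₁), π₁ a • y = rename e a • y)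
    [Module.Flat B₁ (QuotAt g₁ q₁)] :
    Module.Flat B (QuotAt g q) := by
  cases nonempty_fintype κ
  cases nonempty_fintype ι
  let lM := LocalizedModule.mkLinearMap q.primeCompl (Quot g)
  have hwit : Witness g q := witness_of_flat g q
  obtain ⟨S₁, hS₁⟩ := exists_finset_forall_witness g q hwit
  -- finitely many elements of `ker π` generating the fibre ideal
  obtain ⟨H₁, hH₁sub, hH₁⟩ := (Submodule.fg_span_iff_fg_span_finset_subset
    (MvPolynomial.map χ '' (RingHom.ker π : Set (MvPolynomial τ R)))).1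
    (IsNoetherian.noetherian (R := MvPolynomial τ k) (M := MvPolynomial τ k) _)
  choose h hhmem hh using fun t : H₁ ↦ hH₁sub t.2
  -- they kill the generators of the module
  have hkill : ∀ (t : H₁) (i : ι), ∃ s ∉ q, ∃ d : κ → MvPolynomial σ R,
      s • rename e (h t) • (Pi.single i 1 : ι → MvPolynomial σ R) = ∑ v, d v • g v := by
    intro t i
    have h0 : lM (rename e (h t) • Submodule.Quotient.mk (Pi.single i 1)) = 0 := by
      rw [map_smul, ← hsmul, RingHom.mem_ker.1 (hhmem t), zero_smul]
    obtain ⟨s, hs⟩ := (IsLocalizedModule.eq_zero_iff q.primeCompl lM).1 h0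
    rw [Submonoid.smul_def, ← Submodule.Quotient.mk_smul, ← Submodule.Quotient.mk_smul,
      Submodule.Quotient.mk_eq_zero] at hs
    obtain ⟨d, hd⟩ := (Submodule.mem_span_range_iff_exists_fun _).1 hs
    exact ⟨s, s.2, d, hd.symm⟩
  choose s hs d hd using hkill
  refine Module.Flat.of_forall_isTrivialRelation fun {l f x} hrel ↦ ?_
  choose F hF using fun i ↦ hπ (f i)
  obtain ⟨b, hb⟩ := IsLocalizedModule.exist_integer_multiples_of_finite q.primeCompl lM x
  choose G₀ hG₀ using hb
  choose G hG using fun i ↦ Submodule.Quotient.mk_surjective _ (G₀ i)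
  have hG' : ∀ i, lM (Submodule.Quotient.mk (G i)) = (b : MvPolynomial σ R) • x i :=
    fun i ↦ by rw [hG]; exact hG₀ i
  have hrel' : lM (Submodule.Quotient.mk (∑ i, rename e (F i) • G i)) = 0 := by
    rw [← Submodule.mkQ_apply, map_sum, map_sum]
    simp only [map_smul, Submodule.mkQ_apply, hG', smul_comm _ (b : MvPolynomial σ R), ← hsmul, hF]
    rw [← Finset.smul_sum, hrel, smul_zero]
  obtain ⟨w, hw⟩ := (IsLocalizedModule.eq_zero_iff q.primeCompl lM).1 hrel'
  rw [Submonoid.smul_def, ← Submodule.Quotient.mk_smul, Submodule.Quotient.mk_eq_zero] at hw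
  obtain ⟨d₀, hd₀⟩ := (Submodule.mem_span_range_iff_exists_fun _).1 hw
  -- the finitely many coefficients
  let T : Finset R := S₁ ∪ (Finset.univ.biUnion fun v ↦ Finset.univ.biUnion fun i ↦ (g v i).coeffs) ∪
    (Finset.univ.biUnion fun t ↦ (h t).coeffs) ∪
    (Finset.univ.biUnion fun t ↦ Finset.univ.biUnion fun i ↦
      (s t i).coeffs ∪ Finset.univ.biUnion fun v ↦ (d t i v).coeffs) ∪
    (Finset.univ.biUnion fun v ↦ (d₀ v).coeffs) ∪ (w : MvPolynomial σ R).coeffs ∪
    (b : MvPolynomial σ R).coeffs ∪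
    (Finset.univ.biUnion fun i ↦ (F i).coeffs) ∪
    (Finset.univ.biUnion fun i ↦ Finset.univ.biUnion fun j ↦ (G i j).coeffs)
  let R' := localSubring (T : Set R)
  have hT : ∀ {z : R}, z ∈ T → z ∈ R' := fun hz ↦ subset_localSubring _ (Finset.mem_coe.2 hz)
  have : IsNoetherianRing R' := isNoetherianRing_localSubring T.finite_toSet
  choose g' hg' using fun v ↦ exists_mapVec_eq (R' := R') (f := g v) fun i z hz ↦ hT (by
    simp only [T, Finset.mem_union, Finset.mem_biUnion, Finset.mem_univ, true_and]; grind)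
  choose h' hh' using fun t ↦ exists_incl_eq (R' := R') (p := h t) fun z hz ↦ hT (by
    simp only [T, Finset.mem_union, Finset.mem_biUnion, Finset.mem_univ, true_and]; grind)
  choose s' hs' using fun t i ↦ exists_incl_eq (R' := R') (p := s t i) fun z hz ↦ hT (by
    simp only [T, Finset.mem_union, Finset.mem_biUnion, Finset.mem_univ, true_and]; grind)
  choose d' hd' using fun t i ↦ exists_mapVec_eq (R' := R') (f := d t i) fun v z hz ↦ hT (by
    simp only [T, Finset.mem_union, Finset.mem_biUnion, Finset.mem_univ, true_and]; grind)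
  obtain ⟨d₀', hd₀'⟩ := exists_mapVec_eq (R' := R') (f := d₀) fun v z hz ↦ hT (by
    simp only [T, Finset.mem_union, Finset.mem_biUnion, Finset.mem_univ, true_and]; grind)
  obtain ⟨w', hw'⟩ := exists_incl_eq (R' := R') (p := (w : MvPolynomial σ R)) fun z hz ↦ hT (by
    simp only [T, Finset.mem_union, Finset.mem_biUnion, Finset.mem_univ, true_and]; grind)
  obtain ⟨b', hb'⟩ := exists_incl_eq (R' := R') (p := (b : MvPolynomial σ R)) fun z hz ↦ hT (by
    simp only [T, Finset.mem_union, Finset.mem_biUnion, Finset.mem_univ, true_and]; grind)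
  choose F' hF' using fun i ↦ exists_incl_eq (R' := R') (p := F i) fun z hz ↦ hT (by
    simp only [T, Finset.mem_union, Finset.mem_biUnion, Finset.mem_univ, true_and]; grind)
  choose G' hG'' using fun i ↦ exists_mapVec_eq (R' := R') (f := G i) fun j z hz ↦ hT (by
    simp only [T, Finset.mem_union, Finset.mem_biUnion, Finset.mem_univ, true_and]; grind)
  have hwit' : Witness g' (q.comap (incl R')) := hS₁ R' (fun z hz ↦ hT (by
    simp only [T, Finset.mem_union]; tauto)) g' hg'
  set q' := q.comap (incl R') with hq'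
  let lM' := LocalizedModule.mkLinearMap q'.primeCompl (Quot g')
  let H : Ideal (MvPolynomial τ R') := Ideal.span (Set.range h')
  have hren : ∀ a : MvPolynomial τ R', incl R' (rename e a) = rename e (incl R' a) :=
    fun a ↦ map_rename _ e a
  have hgen : ∀ (t : H₁) (i : ι),
      lM' (rename e (h' t) • Submodule.Quotient.mk (Pi.single i 1)) = 0 := by
    intro t i
    rw [IsLocalizedModule.eq_zero_iff q'.primeCompl lM']
    refine ⟨⟨s' t i, fun hm ↦ hs t i (hs' t i ▸ hm)⟩, ?_⟩
    rw [Submonoid.smul_def, ← Submodule.Quotient.mk_smul, ← Submodule.Quotient.mk_smul,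
      Submodule.Quotient.mk_eq_zero, Submodule.mem_span_range_iff_exists_fun]
    refine ⟨d' t i, mapVec_incl_injective R' ?_⟩
    rw [mapVec_sum, mapVec_smul, mapVec_smul,
      show MvPolynomial.map R'.subtype (s' t i) = s t i from hs' t i,
      show MvPolynomial.map R'.subtype (rename e (h' t)) = rename e (h t) by
        rw [map_rename]; exact congrArg _ (hh' t),
      show mapVec R'.subtype (Pi.single i 1) = (Pi.single i 1 : ι → MvPolynomial σ R) by
        funext j; simp [Pi.single_apply, apply_ite (MvPolynomial.map R'.subtype)], hd t i]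
    refine Finset.sum_congr rfl fun v _ ↦ ?_
    rw [hg', ← hd' t i]; rfl
  have hkill' : ∀ a ∈ H, ∀ y : QuotAt g' q', rename e a • y = 0 := by
    intro a ha
    have hgen' : ∀ (t : H₁) (y : QuotAt g' q'), rename e (h' t) • y = 0 := by
      intro t y
      obtain ⟨⟨m, u⟩, hu⟩ := IsLocalizedModule.surj q'.primeCompl lM' y
      obtain ⟨m, rfl⟩ := Submodule.Quotient.mk_surjective _ m
      apply (Module.End.isUnit_iff _).1 (IsLocalizedModule.map_units lM' u) |>.1
      change (u : MvPolynomial σ R') • rename e (h' t) • y = (u : MvPolynomial σ R') • (0 : QuotAt g' q')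
      rw [smul_comm, ← Submonoid.smul_def, hu, smul_zero, ← map_smul, pi_eq_sum_univ' m,
        ← Submodule.mkQ_apply, map_sum, Finset.smul_sum, map_sum]
      refine Finset.sum_eq_zero fun i _ ↦ ?_
      simp only [map_smul]
      rw [smul_comm, ← map_smul, Submodule.mkQ_apply, hgen, smul_zero]
    intro y
    refine Submodule.span_induction ?_ ?_ ?_ ?_ ha
    · rintro _ ⟨t, rfl⟩; exact hgen' t y
    · simp
    · intro a c _ _ h1 h2; rw [map_add, add_smul, h1, h2, add_zero]
    · intro a c _ h1; rw [smul_eq_mul, map_mul, mul_smul, h1, smul_zero]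
  have hχ' : RingHom.ker (χ.comp R'.subtype) = IsLocalRing.maximalIdeal R' := by
    rw [← RingHom.comap_ker, hχ]
    ext r
    exact not_congr (isUnit_map_iff R'.subtype r)
  have hcomp : (MvPolynomial.map (χ.comp R'.subtype) : MvPolynomial τ R' →+* _) =
      (MvPolynomial.map χ).comp (incl R') := RingHom.ext fun p ↦ (MvPolynomial.map_map _ _ p).symm
  have hker' : RingHom.ker π₁ = H.map (MvPolynomial.map (χ.comp R'.subtype)) := by
    rw [hker, hcomp, Ideal.map_span, Ideal.map, ← Ideal.submodule_span_eq, hH₁,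
      Ideal.submodule_span_eq]
    refine congrArg _ (Set.ext fun z ↦ ⟨fun hz ↦ ⟨h' ⟨z, hz⟩, ⟨_, rfl⟩, ?_⟩, ?_⟩)
    · rw [RingHom.comp_apply, hh', hh]
    · rintro ⟨_, ⟨t, rfl⟩, rfl⟩
      rw [RingHom.comp_apply, hh', hh]
      exact t.2
  obtain ⟨_, hsm, hflat⟩ := Level.flat_level (χ.comp R'.subtype) hχ' e g' q'
    (comap_incl_comap_C R' q hq) hwit' H hkill' q₁
    (by rw [hq', hq₁, Ideal.comap_comap]; congr 1; ext p <;> simp [MvPolynomial.map_map])
    g₁ (fun v ↦ by
      rw [← hg₁, ← hg']; funext i; simp [MvPolynomial.map_map])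
    π₁ hπ₁ hker' hsmul₁
  obtain ⟨Λ, hΛs, hΛ⟩ := exists_push (R' := R') (g' := g') (g := g) (q := q) hg'
  let θ : MvPolynomial τ R' ⧸ H →+* B := Ideal.Quotient.lift H (π.comp (incl R')) (by
    refine fun a ha ↦ RingHom.mem_ker.1 ((Ideal.span_le (I := RingHom.ker (π.comp (incl R')))).2 ?_ ha)
    rintro _ ⟨t, rfl⟩
    rw [SetLike.mem_coe, RingHom.mem_ker, RingHom.comp_apply, hh']
    exact RingHom.mem_ker.1 (hhmem t))
  have hθ : ∀ (c : MvPolynomial τ R' ⧸ H) (y : QuotAt g' q'), Λ (c • y) = θ c • Λ y := by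
    intro c y
    obtain ⟨c, rfl⟩ := Ideal.Quotient.mk_surjective c
    rw [hsm, hΛs, hren, ← hsmul]
    rfl
  have hb'mem : b' ∉ q' := fun hm ↦ b.2 (hb' ▸ hm)
  obtain ⟨x', hx'⟩ : ∃ x' : Fin l → QuotAt g' q',
      ∀ i, b' • x' i = lM' (Submodule.Quotient.mk (G' i)) := by
    have hu := ((Module.End.isUnit_iff _).1 (IsLocalizedModule.map_units lM'
      (⟨b', hb'mem⟩ : q'.primeCompl))).2
    choose x' hx' using fun i ↦ hu (lM' (Submodule.Quotient.mk (G' i)))
    exact ⟨x', hx'⟩
  have hΛx : ∀ i, Λ (x' i) = x i := fun i ↦ by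
    apply ((Module.End.isUnit_iff _).1 (IsLocalizedModule.map_units lM b)).1
    change (b : MvPolynomial σ R) • Λ (x' i) = (b : MvPolynomial σ R) • x i
    rw [← hb', ← hΛs, hx', hΛ, hG'', hb', hG']
  have hrel'' : ∑ i, Ideal.Quotient.mk H (F' i) • x' i = 0 := by
    apply ((Module.End.isUnit_iff _).1 (IsLocalizedModule.map_units lM'
      (⟨b', hb'mem⟩ : q'.primeCompl))).1
    change b' • ∑ i, Ideal.Quotient.mk H (F' i) • x' i = b' • (0 : QuotAt g' q')
    simp only [smul_zero, Finset.smul_sum, hsm, smul_comm b', hx', ← map_smul, ← map_sum,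
      ← Submodule.Quotient.mk_smul]
    simp only [← Submodule.mkQ_apply, ← map_sum]
    rw [IsLocalizedModule.eq_zero_iff q'.primeCompl lM']
    refine ⟨⟨w', fun hm ↦ w.2 (hw' ▸ hm)⟩, ?_⟩
    rw [Submonoid.smul_def, Submodule.mkQ_apply, ← Submodule.Quotient.mk_smul,
      Submodule.Quotient.mk_eq_zero, Submodule.mem_span_range_iff_exists_fun]
    refine ⟨d₀', mapVec_incl_injective R' ?_⟩
    rw [mapVec_sum, mapVec_smul, map_sum, show MvPolynomial.map R'.subtype w' = w from hw']
    simp only [mapVec_smul, hG'', show ∀ i, MvPolynomial.map R'.subtype (rename e (F' i)) =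
      rename e (F i) from fun i ↦ by rw [map_rename]; exact congrArg _ (hF' i)]
    rw [← hd₀]
    refine Finset.sum_congr rfl fun v _ ↦ ?_
    rw [hg', ← hd₀']; rfl
  obtain ⟨n, a, y, hxa, hfa⟩ := Module.Flat.isTrivialRelation_of_sum_smul_eq_zero hrel''
  refine ⟨n, fun i j ↦ θ (a i j), fun j ↦ Λ (y j), fun i ↦ ?_, fun j ↦ ?_⟩
  · rw [← hΛx i, hxa i, map_sum]
    exact Finset.sum_congr rfl fun j _ ↦ hθ _ _
  · have := congrArg θ (hfa j)
    simp only [map_sum, map_mul, map_zero] at this
    rw [← this]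
    refine Finset.sum_congr rfl fun i _ ↦ ?_
    rw [show θ (Ideal.Quotient.mk H (F' i)) = π (incl R' (F' i)) from rfl, hF', hF]

end Groth.Agent.Lib.Flat55.Fibrewise
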