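import Groth.Agent.S2516
import Groth.Agent.S9800

/-!
# Flat extension of closed subschemes of an open containing the generic fibre
-/

set_option autoImplicit false

universe u

open CategoryTheory CategoryTheory.Limits AlgebraicGeometry TopologicalSpace

namespace Groth.Agent.Lib.Flat55.FlatExtension

/-- Extension and uniqueness of flat closed subschemes over a regular curve. -/
theorem exists_unique {P Y : Scheme.{u}} [IsIntegral Y] [IsLocallyNoetherian Y]
    (hY : ∀ y : Y, IsRegularLocalRing (Y.presheaf.stalk y) ∧ ringKrullDim (Y.presheaf.stalk y) ≤ 1)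
    (f : P ⟶ Y) (V : P.Opens) (hV : f ⁻¹' {genericPoint Y} ⊆ (V : Set P))
    {X : Scheme.{u}} (i : X ⟶ (V : Scheme.{u})) [IsClosedImmersion i] [Flat (i ≫ V.ι ≫ f)] :
    ∃ (X' : Scheme.{u}) (i' : X' ⟶ P) (j : X ⟶ X'),
      IsClosedImmersion i' ∧ Flat (i' ≫ f) ∧ IsPullback j i i' V.ι ∧
      ∀ (X'' : Scheme.{u}) (i'' : X'' ⟶ P) (j'' : X ⟶ X''),
        IsClosedImmersion i'' → Flat (i'' ≫ f) → IsPullback j'' i i'' V.ι →
        ∃ e : X' ≅ X'', e.hom ≫ i'' = i' := by
  let η := genericPoint Y
  let f' := V.ι ≫ f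
  let h : f'.fiber η ⟶ f.fiber η := pullback.lift (f'.fiberι η ≫ V.ι) (f'.fiberToSpecResidueField η) (by
    rw [Category.assoc]; exact pullback.condition)
  have hh : h ≫ f.fiberι η = f'.fiberι η ≫ V.ι := pullback.lift_fst _ _ _
  have sqh : IsPullback (f'.fiberι η) h V.ι (f.fiberι η) := by
    refine IsPullback.of_bot ?_ hh.symm
      (IsPullback.of_hasPullback f (Y.fromSpecResidueField η))
    erw [show h ≫ f.fiberToSpecResidueField η = f'.fiberToSpecResidueField η from pullback.lift_snd _ _ _]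
    exact IsPullback.of_hasPullback f' (Y.fromSpecResidueField η)
  have : IsOpenImmersion h := MorphismProperty.of_isPullback sqh inferInstance
  have : Surjective h := ⟨fun a => by
    have ha : f.fiberι η a ∈ (V : Set P) := hV (by
      rw [← f.range_fiberι]; exact ⟨a, rfl⟩)
    obtain ⟨b, -, hb⟩ := Scheme.exists_preimage_of_isPullback sqh ⟨_, ha⟩ a rfl
    exact ⟨b, hb⟩⟩
  have : IsIso h := (isIso_iff_isOpenImmersion_and_epi_base h).2 ⟨inferInstance,
    (TopCat.epi_iff_surjective _).2 h.surjective⟩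
  let z'' := pullback.snd i (f'.fiberι η)
  let z' := z'' ≫ h
  have : IsClosedImmersion z'' := MorphismProperty.pullback_snd _ _ inferInstance
  have : IsClosedImmersion z' := inferInstanceAs (IsClosedImmersion (z'' ≫ h))
  -- convert squares
  have conv : ∀ (T : Scheme.{u}) (t : T ⟶ P) (w : pullback i (f'.fiberι η) ⟶ T),
      IsPullback w z'' t (f'.fiberι η ≫ V.ι) ↔ IsPullback w z' t (f.fiberι η) := by
    intro T t w
    constructor
    · intro p
      exact p.of_iso (Iso.refl _) (Iso.refl _) (asIso h) (Iso.refl _) (by simp) (by simp [z']) (by simp)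
        (by simp [hh])
    · intro p
      exact p.of_iso (Iso.refl _) (Iso.refl _) (asIso h).symm (Iso.refl _) (by simp) (by simp [z']) (by simp)
        (by simp [← hh])
  obtain ⟨⟨Z, z, w, hz, hflat, sqw⟩, huniq⟩ := Groth.Agent.S2516.result hY f z'
  let ZV := pullback z V.ι
  let p2 := pullback.snd z V.ι
  have sqw' := (conv Z z w).2 sqw
  let w₂ : pullback i (f'.fiberι η) ⟶ ZV := pullback.lift w (z'' ≫ f'.fiberι η) (by
    rw [sqw'.w, Category.assoc])
  have sq₂ : IsPullback w₂ z'' p2 (f'.fiberι η) := by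
    refine IsPullback.of_right ?_ (pullback.lift_snd _ _ _) (IsPullback.of_hasPullback z V.ι)
    rw [pullback.lift_fst]
    exact sqw'
  have hcl : IsClosedImmersion p2 := MorphismProperty.pullback_snd _ _ hz
  have hfl2 : Flat (p2 ≫ f') := by
    rw [show p2 ≫ f' = pullback.fst z V.ι ≫ z ≫ f from (Category.assoc _ _ _).symm.trans
      ((congrArg (· ≫ f) pullback.condition.symm).trans (Category.assoc _ _ _))]
    infer_instance
  obtain ⟨e, he⟩ := (Groth.Agent.S2516.result hY f' z'').2 X ZV i p2 (pullback.fst _ _) w₂ inferInstance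
    hcl ‹_› hfl2 (IsPullback.of_hasPullback _ _) sq₂
  refine ⟨Z, z, e.hom ≫ pullback.fst z V.ι, hz, hflat, ?_, fun X'' i'' j'' hi'' hfl'' sq'' => ?_⟩
  · exact (IsPullback.of_hasPullback z V.ι).of_iso e.symm (Iso.refl _) (Iso.refl _) (Iso.refl _) (by simp)
      (by simp [← he, p2]) (by simp) (by simp)
  · have sq := (IsPullback.of_hasPullback i (f'.fiberι η)).paste_horiz sq''
    exact huniq Z X'' z i'' w (pullback.fst _ _ ≫ j'') hz hi'' hflat hfl'' sqw ((conv _ _ _).1 sq)

end Groth.Agent.Lib.Flat55.FlatExtension
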