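import Groth.Agent.Lib.Flat55.FlatFunSheaf
import Groth.Agent.Lib.Kaehler.LocFree
import Groth.Prelude.Def_FlatFun
import Groth.Prelude.Def_FrameBundle
import Mathlib.AlgebraicGeometry.Geometrically.Irreducible

/-!
# Generic points of fibres and free modules near them
-/

set_option autoImplicit false

universe u

open CategoryTheory CategoryTheory.Limits AlgebraicGeometry TopologicalSpace
open Groth.Agent.Lib

namespace Groth.Agent.Lib.Flat55.GenericPtFibre

variable {X T : Scheme.{u}}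

theorem exists_genericPt (q : X ⟶ T) [GeometricallyIrreducible q] (t : T) :
    ∃ η : X, q η = t ∧ FlatFun.IsGenericPtOfFibre q η := by
  have hmem : ∀ x : X, q x = t → x ∈ Set.range (q.fiberι t) := fun x hx => by
    rw [q.range_fiberι]; exact hx
  let η := q.fiberι t (genericPoint (q.fiber t))
  have hη : q η = t := by
    have : η ∈ Set.range (q.fiberι t) := Set.mem_range_self _
    rw [q.range_fiberι] at this
    exact this
  refine ⟨η, hη, fun x hx => ?_⟩
  obtain ⟨y, rfl⟩ := hmem x (hx.trans hη)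
  exact (genericPoint_specializes y).map (q.fiberι t).continuous

theorem genericPt_unique {q : X ⟶ T} {η η' : X} (h : FlatFun.IsGenericPtOfFibre q η)
    (h' : FlatFun.IsGenericPtOfFibre q η') (he : q η = q η') : η = η' :=
  ((h η' he.symm).antisymm (h' η he)).eq

theorem genericPt_mem {q : X ⟶ T} {η x : X} (h : FlatFun.IsGenericPtOfFibre q η) (he : q x = q η)
    {U : X.Opens} (hx : x ∈ U) : η ∈ U :=
  (h x he).mem_open U.2 hx

variable {X' T' : Scheme.{u}} {g' : X' ⟶ X} {f' : X' ⟶ T'} {f : X ⟶ T} {g : T' ⟶ T}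

theorem isGenericPt_map (sq : IsPullback g' f' f g) {η' : X'}
    (h : FlatFun.IsGenericPtOfFibre f' η') : FlatFun.IsGenericPtOfFibre f (g' η') := by
  intro x hx
  have hx' : f x = g (f' η') := by
    rw [← Scheme.Hom.comp_apply, ← sq.w, Scheme.Hom.comp_apply]; exact hx
  obtain ⟨z, hz1, hz2⟩ := Scheme.Pullback.exists_preimage_pullback x (f' η') hx'
  have h1 : g' (sq.isoPullback.inv z) = x := by
    rw [← Scheme.Hom.comp_apply, sq.isoPullback_inv_fst, hz1]
  have h2 : f' (sq.isoPullback.inv z) = f' η' := by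
    rw [← Scheme.Hom.comp_apply, sq.isoPullback_inv_snd, hz2]
  exact h1 ▸ (h _ h2).map g'.continuous

theorem isFreeOfRankNear_of_iso {F G : X.Modules} (e : F ≅ G) {p : ℕ} {x : X}
    (h : FlatFun.IsFreeOfRankNear F p x) : FlatFun.IsFreeOfRankNear G p x := by
  obtain ⟨U, hx, ⟨i⟩⟩ := h
  exact ⟨U, hx, ⟨(Scheme.Modules.restrictFunctor U.ι).mapIso e.symm ≪≫ i⟩⟩

theorem isFreeOfRankNear_pullback (g : X' ⟶ X) (F : X.Modules) {p : ℕ} {x' : X'}
    (h : FlatFun.IsFreeOfRankNear F p (g x')) :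
    FlatFun.IsFreeOfRankNear ((Scheme.Modules.pullback g).obj F) p x' := by
  obtain ⟨U, hx, ⟨i⟩⟩ := h
  refine ⟨g ⁻¹ᵁ U, hx, ⟨(Scheme.Modules.restrictFunctorIsoPullback _).app _ ≪≫
    (Scheme.Modules.pullbackComp _ g).app F ≪≫
    (Scheme.Modules.pullbackCongr (morphismRestrict_ι g U).symm).app F ≪≫
    ((Scheme.Modules.pullbackComp (g ∣_ U) U.ι).app F).symm ≪≫
    (Scheme.Modules.pullback (g ∣_ U)).mapIso
      (((Scheme.Modules.restrictFunctorIsoPullback U.ι).app F).symm ≪≫ i) ≪≫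
    FrB.pullbackFreeIso (g ∣_ U) p⟩⟩

theorem isFreeOfRankNear_of_openImmersion (j : X' ⟶ X) [IsOpenImmersion j] (F : X.Modules) {p : ℕ}
    {x' : X'} (h : FlatFun.IsFreeOfRankNear ((Scheme.Modules.pullback j).obj F) p x') :
    FlatFun.IsFreeOfRankNear F p (j x') := by
  obtain ⟨U, hx, ⟨i⟩⟩ := h
  let e : F.restrict (U.ι ≫ j) ≅ FlatMod.freeMod (↑U) p :=
    (Scheme.Modules.restrictFunctorIsoPullback (U.ι ≫ j)).app F ≪≫
      ((Scheme.Modules.pullbackComp U.ι j).app F).symm ≪≫
      ((Scheme.Modules.restrictFunctorIsoPullback U.ι).app _).symm ≪≫ i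
  exact ⟨(U.ι ≫ j).opensRange, ⟨⟨x', hx⟩, rfl⟩, Kaehler.LocFree.free_nhd_of_chart (U.ι ≫ j) e⟩

section Functor

variable {X S : Scheme.{u}} (f : X ⟶ S) (F : X.Modules) (p : ℕ)

instance geomIrreducible_XTproj [GeometricallyIrreducible f] (T : Over S) :
    GeometricallyIrreducible (PicF.XTproj f T) :=
  inferInstanceAs (GeometricallyIrreducible (pullback.snd f T.hom))

/-- The condition defining `H_p`. -/
abbrev Cond (T : Over S) : Prop :=
  FlatFun.FreeAtGenericPts (PicF.XTproj f T) (FGA.ET f F T) p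

theorem cond_of_hom [GeometricallyIrreducible f] {T T₀ : Over S} (g : T ⟶ T₀) (h : Cond f F p T₀) :
    Cond f F p T := by
  intro t
  obtain ⟨η, hη, hgen⟩ := exists_genericPt (PicF.XTproj f T) t
  obtain ⟨x, hx, hxgen, hfree⟩ := h (g.left t)
  have sq := FlatFunSheaf.isPullback_XTmap f g
  have he : PicF.XTproj f T₀ (PicF.XTmap f g η) = PicF.XTproj f T₀ x := by
    rw [← Scheme.Hom.comp_apply, sq.w, Scheme.Hom.comp_apply, hη]; exact hx.symm
  obtain rfl := genericPt_unique (isGenericPt_map sq hgen) hxgen he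
  exact ⟨η, hη, hgen, isFreeOfRankNear_of_iso (FGA.ETiso f F g) (isFreeOfRankNear_pullback _ _ hfree)⟩

theorem cond_of_local [GeometricallyIrreducible f] (T : Over S)
    (h : ∀ t : T.left, ∃ (T' : Over S) (g : T' ⟶ T), IsOpenImmersion g.left ∧
      t ∈ Set.range g.left ∧ Cond f F p T') : Cond f F p T := by
  intro t
  obtain ⟨T', g, hg, ⟨t', rfl⟩, hT'⟩ := h t
  obtain ⟨η, hη, hgen, hfree⟩ := hT' t'
  have sq := FlatFunSheaf.isPullback_XTmap f g
  have : IsOpenImmersion (PicF.XTmap f g) := MorphismProperty.of_isPullback sq.flip hg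
  refine ⟨PicF.XTmap f g η, ?_, isGenericPt_map sq hgen, isFreeOfRankNear_of_openImmersion _ _
    (isFreeOfRankNear_of_iso (FGA.ETiso f F g).symm hfree)⟩
  show PicF.XTproj f T (PicF.XTmap f g η) = g.left t'
  rw [← Scheme.Hom.comp_apply, sq.w, Scheme.Hom.comp_apply, hη]

end Functor

end Groth.Agent.Lib.Flat55.GenericPtFibre
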