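import Groth.Agent.Lib.Flat55.FreeLocusAlg
import Groth.Agent.Lib.Flat55.GenericPtFibre
import Groth.Agent.Lib.DescAlg.FPPush
import Groth.Agent.Lib.FlatCx.BaseChange
import Mathlib.AlgebraicGeometry.PullbackCarrier

/-!
# Where a module can be generated by `p` elements; free modules on charts
-/

set_option autoImplicit false
set_option linter.style.haveILetI false

universe u

open CategoryTheory CategoryTheory.Limits AlgebraicGeometry Opposite TopologicalSpace
open scoped TensorProduct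
open Groth.Agent.Lib Groth.Agent.Lib.QCoh Groth.Agent.Lib.QCoh.Tilde Groth.Agent.Lib.QCoh.Pullback
open Groth.Agent.Lib.QCoh.Localizing

namespace Groth.Agent.Lib.Flat55.FreeLocus

variable {X : Scheme.{u}} (F : X.Modules)

/-- `F` is generated by `p` sections on an affine neighbourhood of `x`. -/
def GenLE (p : ℕ) (x : X) : Prop :=
  ∃ W : X.Opens, IsAffineOpen W ∧ x ∈ W ∧
    ∃ v : Fin p → Γ(F, W), Submodule.span Γ(X, W) (Set.range v) = ⊤

theorem isOpen_genLE (p : ℕ) : IsOpen {x | GenLE F p x} := by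
  rw [isOpen_iff_forall_mem_open]
  rintro x ⟨W, hW, hx, hv⟩
  exact ⟨W, fun y hy => ⟨W, hW, hy, hv⟩, W.2, hx⟩

variable {F} [F.IsQuasicoherent]

/-- Generators on an affine open restrict to generators on basic opens. -/
theorem span_basicOpen {W : X.Opens} (hW : IsAffineOpen W) (b : Γ(X, W)) {ι : Type*}
    (v : ι → Γ(F, W)) (hv : ∀ n, b • n ∈ Submodule.span Γ(X, W) (Set.range v)) :
    Submodule.span Γ(X, X.basicOpen b)
      (Set.range fun i => res F (X.basicOpen_le b) (v i)) = ⊤ := by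
  refine top_le_iff.1 fun s _ => ?_
  obtain ⟨n, t, ht⟩ := (localizes_of_isAffineOpen F hW b).ext' s
  have hres : ∀ z ∈ Submodule.span Γ(X, W) (Set.range v), res F (X.basicOpen_le b) z ∈
      Submodule.span Γ(X, X.basicOpen b) (Set.range fun i => res F (X.basicOpen_le b) (v i)) := by
    intro z hz
    induction hz using Submodule.span_induction with
    | mem x hx => obtain ⟨i, rfl⟩ := hx; exact Submodule.subset_span ⟨i, rfl⟩
    | zero => rw [map_zero]; exact Submodule.zero_mem _
    | add x y _ _ hx hy => rw [map_add]; exact Submodule.add_mem _ hx hy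
    | smul r x _ hx => rw [res_smul]; exact Submodule.smul_mem _ _ hx
  have hu : IsUnit (resR (X.basicOpen_le b) b ^ (n + 1)) :=
    (RingedSpace.isUnit_res_basicOpen _ b).pow _
  have := hres _ (hv t)
  rw [res_smul, ht, smul_smul, ← pow_succ'] at this
  exact (Submodule.smul_mem_iff_of_isUnit _ hu).1 this

/-- A pullback to a chart is the sheaf of the base change of sections. -/
theorem exists_pullbackChartIso {W : X.Opens} (hW : IsAffineOpen W) {L : CommRingCat.{u}}
    (φ : Γ(X, W) ⟶ L) :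
    Nonempty ((Scheme.Modules.pullback (Spec.map φ ≫ hW.fromSpec)).obj F ≅
      (tilde.functor L).obj ((ModuleCat.extendScalars φ.hom).obj (ModuleCat.of Γ(X, W) Γ(F, W)))) := by
  have := isQCoh_pullback hW.fromSpec F
  obtain ⟨e₀⟩ := DescAlg.FPPush.exists_specΓ_equiv hW F
  exact ⟨((Scheme.Modules.pullbackComp (Spec.map φ) hW.fromSpec).app F).symm ≪≫
    (Scheme.Modules.pullback (Spec.map φ)).mapIso
      ((isoTildeSections _).symm ≪≫ (tilde.functor _).mapIso
        ((specΓ _).mapIso ((Scheme.Modules.restrictFunctorIsoPullback hW.fromSpec).app F).symm ≪≫ e₀)) ≪≫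
    (pullbackTildeIso φ).app _⟩

variable {X' : Scheme.{u}} (g : X' ⟶ X) {p : ℕ}

/-- Freeness near a point gives freeness at a local ring lying over it. -/
theorem exists_equiv_of_free {W : X.Opens} (hW : IsAffineOpen W) {L : CommRingCat.{u}} [IsLocalRing L]
    (φ : Γ(X, W) ⟶ L) (k : Spec L ⟶ X') (w : k ≫ g = Spec.map φ ≫ hW.fromSpec)
    (h : FlatFun.IsFreeOfRankNear ((Scheme.Modules.pullback g).obj F) p (k (IsLocalRing.closedPoint L))) :
    letI := φ.hom.toAlgebra
    Nonempty (L ⊗[Γ(X, W)] Γ(F, W) ≃ₗ[L] (Fin p → L)) := by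
  letI := φ.hom.toAlgebra
  obtain ⟨U, hU, ⟨i⟩⟩ := h
  have hrange : Set.range k ⊆ Set.range U.ι := by
    rw [Scheme.Opens.range_ι]
    rintro _ ⟨y, rfl⟩
    exact ((IsLocalRing.specializes_closedPoint y).map k.continuous).mem_open U.2 hU
  let k' := IsOpenImmersion.lift U.ι k hrange
  have hk' : k' ≫ U.ι = k := IsOpenImmersion.lift_fac _ _ _
  obtain ⟨e₁⟩ := exists_pullbackChartIso (F := F) hW φ
  let e₂ : (tilde.functor L).obj ((ModuleCat.extendScalars φ.hom).obj (ModuleCat.of Γ(X, W) Γ(F, W))) ≅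
      (tilde.functor L).obj (ModuleCat.of L (Fin p → L)) :=
    e₁.symm ≪≫ (Scheme.Modules.pullbackCongr w.symm).app F ≪≫
      ((Scheme.Modules.pullbackComp k g).app F).symm ≪≫
      (Scheme.Modules.pullbackCongr hk'.symm).app _ ≪≫
      ((Scheme.Modules.pullbackComp k' U.ι).app _).symm ≪≫
      (Scheme.Modules.pullback k').mapIso
        (((Scheme.Modules.restrictFunctorIsoPullback U.ι).app _).symm ≪≫ i) ≪≫
      FrB.pullbackFreeIso k' p ≪≫
      (Kaehler.LocFree.tildeFreeIso (M := ModuleCat.of L (Fin p → L)) (Pi.basisFun L (Fin p))).symm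
  let e₃ := sectionsTildeIso.app _ ≪≫ (specΓ L).mapIso e₂ ≪≫
    (sectionsTildeIso.app (ModuleCat.of L (Fin p → L))).symm
  exact ⟨(FlatCx.BaseChange.extEquiv L (ModuleCat.of Γ(X, W) Γ(F, W))).symm.trans e₃.toLinearEquiv⟩

theorem genLE_of_free (hF : CohB1.IsFT F) {x' : X'}
    (h : FlatFun.IsFreeOfRankNear ((Scheme.Modules.pullback g).obj F) p x') : GenLE F p (g x') := by
  obtain ⟨W, hW, hx, -⟩ := exists_isAffineOpen_mem_and_subset (U := ⊤) (x := g x') trivial
  have hr : Set.range (X'.fromSpecResidueField x' ≫ g) ⊆ Set.range hW.fromSpec := by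
    rw [hW.range_fromSpec]
    rintro _ ⟨y, rfl⟩
    rw [Scheme.Hom.comp_apply, show X'.fromSpecResidueField x' y = x' from
      X'.fromSpecResidueField_apply x' y]
    exact hx
  let φ := Spec.preimage (IsOpenImmersion.lift hW.fromSpec _ hr)
  have w : X'.fromSpecResidueField x' ≫ g = Spec.map φ ≫ hW.fromSpec := by
    rw [Spec.map_preimage, IsOpenImmersion.lift_fac]
  letI := φ.hom.toAlgebra
  have e := exists_equiv_of_free g hW φ (X'.fromSpecResidueField x') w
    (by rwa [X'.fromSpecResidueField_apply])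
  have : SheafOfModules.IsFiniteType (R := X.ringCatSheaf) F := hF
  have : Module.Finite Γ(X, W) Γ(F, W) := CohBasics.Affine.finite_sections hW
  obtain ⟨b, hb, v, hv⟩ := FreeLocusAlg.exists_generators (X'.residueField x') e
  refine ⟨X.basicOpen b, hW.basicOpen b, ?_, _, span_basicOpen hW b v hv⟩
  have hpt : g x' = hW.fromSpec (Spec.map φ (IsLocalRing.closedPoint (X'.residueField x'))) := by
    rw [← Scheme.Hom.comp_apply, ← w, Scheme.Hom.comp_apply, X'.fromSpecResidueField_apply]
  rw [hpt]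
  show Spec.map φ (IsLocalRing.closedPoint (X'.residueField x')) ∈ hW.fromSpec ⁻¹ᵁ X.basicOpen b
  rw [hW.fromSpec_preimage_basicOpen]
  show φ.hom b ∉ IsLocalRing.maximalIdeal (X'.residueField x')
  rw [IsLocalRing.maximalIdeal_eq_bot]
  simp only [Ideal.mem_bot]
  exact hb

section Chart

variable {S : Scheme.{u}} (f : X ⟶ S) {V : S.Opens} (hV : IsAffineOpen V) {W : X.Opens}
  (hW : IsAffineOpen W) (A : Type u) [CommRing A] [Algebra Γ(S, V) A]

/-- An affine test scheme over an affine open of the base. -/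
noncomputable abbrev affTest : Over S :=
  Over.mk (Spec.map (CommRingCat.ofHom (algebraMap Γ(S, V) A)) ≫ hV.fromSpec)

variable (e : W ≤ f ⁻¹ᵁ V) [Algebra Γ(S, V) Γ(X, W)]
  (halg : algebraMap Γ(S, V) Γ(X, W) = (f.appLE V W e).hom)

include halg in
theorem exists_chart :
    ∃ j : Spec (.of (A ⊗[Γ(S, V)] Γ(X, W))) ⟶ PicF.XT f (affTest hV A), IsOpenImmersion j ∧
      j ≫ pullback.fst f (affTest hV A).hom = Spec.map (CommRingCat.ofHom
        (Algebra.TensorProduct.includeRight : Γ(X, W) →ₐ[Γ(S, V)] A ⊗[Γ(S, V)] Γ(X, W)).toRingHom) ≫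
          hW.fromSpec ∧
      j ≫ PicF.XTproj f (affTest hV A) =
        Spec.map (CommRingCat.ofHom Algebra.TensorProduct.includeLeftRingHom) ∧
      ∀ z, pullback.fst f (affTest hV A).hom z ∈ W → z ∈ Set.range j := by
  have e₁ : Spec.map (CommRingCat.ofHom (algebraMap Γ(S, V) Γ(X, W))) ≫ hV.fromSpec =
      hW.fromSpec ≫ f := by
    rw [halg]; exact IsAffineOpen.SpecMap_appLE_fromSpec f hV hW e
  let k := pullback.map (Spec.map (CommRingCat.ofHom (algebraMap Γ(S, V) Γ(X, W))))
    (Spec.map (CommRingCat.ofHom (algebraMap Γ(S, V) A))) f (affTest hV A).hom hW.fromSpec (𝟙 _)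
    hV.fromSpec e₁ (Category.id_comp _).symm
  let σ := (pullbackSpecIso Γ(S, V) A Γ(X, W)).inv ≫ (pullbackSymmetry _ _).hom
  refine ⟨σ ≫ k, inferInstance, ?_, ?_, fun z hz => ?_⟩
  · simp only [σ, k, Category.assoc, pullback.lift_fst, pullbackSymmetry_hom_comp_fst_assoc,
      pullbackSpecIso_inv_snd_assoc]
    rfl
  · simp only [σ, k, PicF.XTproj, Category.assoc, pullback.lift_snd, Category.comp_id,
      pullbackSymmetry_hom_comp_snd]
    exact pullbackSpecIso_inv_fst _ _ _
  · have hk : z ∈ Set.range k := by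
      rw [Scheme.Pullback.range_map]
      exact ⟨hW.range_fromSpec.symm ▸ hz, ⟨_, rfl⟩⟩
    obtain ⟨y, rfl⟩ := hk
    exact ⟨inv σ y, by rw [← Scheme.Hom.comp_apply, IsIso.inv_hom_id_assoc]⟩

end Chart

end Groth.Agent.Lib.Flat55.FreeLocus
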