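import Mathlib.LinearAlgebra.TensorProduct.Tower
import Mathlib.LinearAlgebra.TensorProduct.RightExactness
import Mathlib.LinearAlgebra.Dimension.Finrank
import Mathlib.LinearAlgebra.Basis.VectorSpace
import Mathlib.RingTheory.LocalRing.Module
import Mathlib.RingTheory.Support
import Mathlib.RingTheory.Flat.FaithfullyFlat.Basic

/-!
# Base changes of a module with `p` generators which are free of rank `p`
-/

set_option autoImplicit false

universe u

open scoped TensorProduct

namespace Groth.Agent.Lib.Flat55.FreeLocusAlg

variable {B : Type u} [CommRing B] {N : Type u} [AddCommGroup N] [Module B N] {p : ℕ}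

/-- The map `L^p → L ⊗ N` given by `p` elements. -/
noncomputable def genMap (L : Type u) [CommRing L] [Algebra B L] (v : Fin p → N) :
    (Fin p → L) →ₗ[L] L ⊗[B] N :=
  Fintype.linearCombination L fun i => (1 : L) ⊗ₜ[B] v i

theorem genMap_apply (L : Type u) [CommRing L] [Algebra B L] (v : Fin p → N) (a : Fin p → L) :
    genMap L v a = ∑ i, a i ⊗ₜ[B] v i := by
  simp [genMap, Fintype.linearCombination_apply, TensorProduct.smul_tmul']

theorem genMap_surjective (L : Type u) [CommRing L] [Algebra B L] {v : Fin p → N}
    (hv : Submodule.span B (Set.range v) = ⊤) : Function.Surjective (genMap (B := B) L v) := by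
  intro z
  induction z with
  | zero => exact ⟨0, map_zero _⟩
  | add x y hx hy =>
    obtain ⟨a, rfl⟩ := hx
    obtain ⟨b, rfl⟩ := hy
    exact ⟨a + b, map_add _ _ _⟩
  | tmul l n =>
    obtain ⟨c, rfl⟩ := (Submodule.mem_span_range_iff_exists_fun B).1
      (show n ∈ Submodule.span B (Set.range v) by rw [hv]; trivial)
    refine ⟨fun i => c i • l, ?_⟩
    rw [genMap_apply, TensorProduct.tmul_sum]
    exact Finset.sum_congr rfl fun i _ => TensorProduct.smul_tmul _ _ _

/-- If `p` generators give a module free of rank `p` over `L`, their relations vanish in `L`. -/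
theorem coord_zero {L : Type u} [CommRing L] [Algebra B L]
    (e : Nonempty (L ⊗[B] N ≃ₗ[L] (Fin p → L))) {v : Fin p → N}
    (hv : Submodule.span B (Set.range v) = ⊤) (a : Fin p → B) (ha : ∑ i, a i • v i = 0) (i : Fin p) :
    algebraMap B L (a i) = 0 := by
  obtain ⟨e⟩ := e
  have hinj := OrzechProperty.injective_of_surjective_endomorphism (e.toLinearMap.comp (genMap (B := B) L v))
    (e.surjective.comp (genMap_surjective L hv))
  have h0 : genMap (B := B) L v (fun i => algebraMap B L (a i)) = 0 := by
    rw [genMap_apply]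
    simp only [Algebra.algebraMap_eq_smul_one, TensorProduct.smul_tmul]
    rw [← TensorProduct.tmul_sum, ha, TensorProduct.tmul_zero]
  exact congrFun (hinj (show e (genMap (B := B) L v fun i => algebraMap B L (a i)) = e (genMap (B := B) L v 0) by
    rw [h0, map_zero, map_zero, map_zero])) i

/-- If all relations between `p` generators vanish in `C`, the base change to `C` is free. -/
theorem exists_equiv_of_rel (C : Type u) [CommRing C] [Algebra B C] {v : Fin p → N}
    (hv : Submodule.span B (Set.range v) = ⊤)
    (h : ∀ a : Fin p → B, ∑ i, a i • v i = 0 → ∀ i, algebraMap B C (a i) = 0) :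
    Nonempty (C ⊗[B] N ≃ₗ[C] (Fin p → C)) := by
  classical
  let π₀ := Fintype.linearCombination B v
  have hπ₀ : Function.Surjective π₀ := by
    rw [← LinearMap.range_eq_top, Fintype.range_linearCombination, hv]
  let L₀ : (Fin p → B) →ₗ[B] (Fin p → C) := (Algebra.linearMap B C).compLeft (Fin p)
  have hker : LinearMap.ker π₀ ≤ LinearMap.ker L₀ := fun a ha => by
    refine funext fun i => h a ?_ i
    simpa [π₀, Fintype.linearCombination_apply] using ha
  let l : N →ₗ[B] (Fin p → C) :=
    (LinearMap.ker π₀).liftQ L₀ hker ∘ₗ (π₀.quotKerEquivOfSurjective hπ₀).symm.toLinearMap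
  have hl : ∀ a, l (π₀ a) = L₀ a := fun a => by
    have : π₀ a = π₀.quotKerEquivOfSurjective hπ₀ (Submodule.Quotient.mk a) := rfl
    rw [this]
    simp [l]
  let γ := l.liftBaseChange C
  have hγ : ∀ a, γ (genMap (B := B) C v a) = a := by
    have : γ.comp (genMap (B := B) C v) = LinearMap.id := by
      refine (Pi.basisFun C (Fin p)).ext fun i => ?_
      have hvi : v i = π₀ (Pi.single i 1) := by simp [π₀]
      simp only [LinearMap.comp_apply, LinearMap.id_apply, Pi.basisFun_apply, genMap,
        Fintype.linearCombination_apply_single, one_smul, γ, LinearMap.liftBaseChange_tmul]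
      rw [hvi, hl]
      ext j
      by_cases hj : j = i
      · subst hj; simp [L₀]
      · simp [L₀, Pi.single_eq_of_ne hj]
    exact fun a => LinearMap.congr_fun this a
  exact ⟨(LinearEquiv.ofBijective (genMap (B := B) C v)
    ⟨(Function.LeftInverse.injective hγ), genMap_surjective C hv⟩).symm⟩

/-- If the base change to a field is free of rank `p`, there are `p` elements generating near the
kernel of the map to the field. -/
theorem exists_generators [Module.Finite B N] (L : Type u) [Field L] [Algebra B L]
    (e : Nonempty (L ⊗[B] N ≃ₗ[L] (Fin p → L))) :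
    ∃ b : B, algebraMap B L b ≠ 0 ∧ ∃ v : Fin p → N,
      ∀ n : N, b • n ∈ Submodule.span B (Set.range v) := by
  classical
  obtain ⟨e⟩ := e
  let g : N → L ⊗[B] N := fun n => (1 : L) ⊗ₜ n
  have hspan : Submodule.span L (Set.range g) = ⊤ := by
    refine top_le_iff.1 fun z _ => ?_
    induction z with
    | zero => exact Submodule.zero_mem _
    | add x y hx hy => exact Submodule.add_mem _ (hx trivial) (hy trivial)
    | tmul l n =>
      rw [show l ⊗ₜ[B] n = l • g n by simp [g, TensorProduct.smul_tmul']]
      exact Submodule.smul_mem _ _ (Submodule.subset_span ⟨n, rfl⟩)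
  obtain ⟨s, hs, hsp, hli⟩ := exists_linearIndependent L (Set.range g)
  let bs : Module.Basis s L (L ⊗[B] N) :=
    Module.Basis.mk hli (by rw [Subtype.range_coe, hsp, hspan])
  let τ : s ≃ Fin p := bs.indexEquiv ((Pi.basisFun L (Fin p)).map e.symm)
  have hmem : ∀ i, ∃ n, g n = (τ.symm i : L ⊗[B] N) := fun i => hs (τ.symm i).2
  choose v hv using hmem
  let K := Submodule.span B (Set.range v)
  let q := RingHom.ker (algebraMap B L)
  have : q.IsPrime := RingHom.ker_isPrime _
  have h1 : (Submodule.mkQ K).baseChange L = 0 := by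
    refine bs.ext fun i => ?_
    rw [Module.Basis.coe_mk, LinearMap.zero_apply]
    have : (i : L ⊗[B] N) = g (v (τ i)) := by rw [hv, Equiv.symm_apply_apply]
    rw [this, LinearMap.baseChange_tmul, Submodule.mkQ_apply,
      (Submodule.Quotient.mk_eq_zero K).2 (Submodule.subset_span ⟨_, rfl⟩), TensorProduct.tmul_zero]
  have h2 : Subsingleton (L ⊗[B] (N ⧸ K)) := by
    refine subsingleton_of_forall_eq 0 fun z => ?_
    obtain ⟨w, rfl⟩ := LinearMap.lTensor_surjective L (Submodule.mkQ_surjective K) z
    exact LinearMap.congr_fun h1 w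
  have hnot : (⟨q, inferInstance⟩ : PrimeSpectrum B) ∉ Module.support B (N ⧸ K) := by
    rw [Module.mem_support_iff_nontrivial_residueField_tensorProduct]
    intro hnt
    let κ := q.ResidueField
    let θ : κ →+* L := Ideal.ResidueField.lift q (algebraMap B L) le_rfl
      fun b hb => isUnit_iff_ne_zero.2 hb
    let : Algebra κ L := θ.toAlgebra
    have : IsScalarTower B κ L := IsScalarTower.of_algebraMap_eq fun b =>
      (Ideal.ResidueField.lift_algebraMap q (algebraMap B L) le_rfl (fun b hb => isUnit_iff_ne_zero.2 hb) b).symm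
    have : Nontrivial (L ⊗[κ] (κ ⊗[B] (N ⧸ K))) := Module.FaithfullyFlat.lTensor_nontrivial κ L _
    have := (TensorProduct.AlgebraTensorModule.cancelBaseChange B κ L L (N ⧸ K)).nontrivial_congr.1 this
    exact not_nontrivial _ this
  rw [Module.support_eq_zeroLocus, PrimeSpectrum.mem_zeroLocus, Set.not_subset] at hnot
  obtain ⟨b, hb, hbq⟩ := hnot
  refine ⟨b, hbq, v, fun n => ?_⟩
  have := Module.mem_annihilator.1 hb (Submodule.Quotient.mk n)
  rwa [← Submodule.Quotient.mk_smul, Submodule.Quotient.mk_eq_zero] at this

end Groth.Agent.Lib.Flat55.FreeLocusAlg
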