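import Groth.Agent.Lib.Flat55.FreeLocus
import Groth.Agent.Lib.Flat55.FlatDimLimit
import Groth.Agent.H26.FreeCrit
import Groth.Agent.Lib.TensorMod.FPConv
import Groth.Agent.Lib.VarDim.Semicont
import Groth.Agent.Lib.Kaehler.SmoothChart

/-!
# Flatness at generic points of fibres of smooth morphisms
-/

set_option autoImplicit false
set_option linter.style.haveILetI false

universe u

open CategoryTheory CategoryTheory.Limits AlgebraicGeometry Opposite TopologicalSpace IsLocalRing
open scoped TensorProduct
open Groth.Agent.Lib Groth.Agent.Lib.Cyc Groth.Agent.Lib.VarDim.Basic Groth.Agent.Lib.VarDim.Semicont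

namespace Groth.Agent.Lib.Flat55.FreeLocusFlat

variable {X T : Scheme.{u}}

/-- For a smooth morphism of relative dimension `d` with irreducible fibres, the residual
transcendence degree is `d` at the generic point of a fibre and less elsewhere. -/
theorem trdegAt_genericPt (q : X ⟶ T) (d : ℕ) [SmoothOfRelativeDimension d q]
    [GeometricallyIrreducible q] {η : X} (hη : FlatFun.IsGenericPtOfFibre q η) :
    Residue.trdegAt q η = (d : Cardinal.{u}) ∧
      ∀ x, q x = q η → x ≠ η → Residue.trdegAt q x < (d : Cardinal.{u}) := by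
  have : Smooth q := SmoothOfRelativeDimension.smooth d q
  have hd : ∀ x, FlatMor.fibreDimAt q x = (d : WithBot ℕ∞) := fun x => by
    obtain ⟨V, hV, U, hU, hx, e, hs⟩ :=
      SmoothOfRelativeDimension.exists_isStandardSmoothOfRelativeDimension (n := d) (f := q) x
    exact Kaehler.SmoothChart.fibreDimAt_of_chart hV hU e hs hx
  let t := q η
  have : LocallyOfFiniteType (X := q.fiber t) (Y := Spec (CommRingCat.of (T.residueField t)))
      (q.fiberToSpecResidueField t) :=
    inferInstanceAs (LocallyOfFiniteType (pullback.snd q (T.fromSpecResidueField t)))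
  let π : q.fiber t ⟶ Spec (CommRingCat.of (T.residueField t)) := q.fiberToSpecResidueField t
  have : LocallyOfFiniteType π := this
  have heq : ∀ a : q.fiber t, Residue.trdegAt q (q.fiberι t a) = (pdim π a : Cardinal.{u}) := fun a => by
    rw [← FieldDim.trdegAt_fiber q t a]
    exact trdegAt_eq_pdim π a
  have hmem : ∀ x, q x = q η → ∃ a, q.fiberι t a = x := fun x hx => by
    have : x ∈ Set.range (q.fiberι t) := by rw [q.range_fiberι]; exact hx
    exact this
  obtain ⟨a, ha⟩ := hmem η rfl
  have hspec : ∀ b, a ⤳ b := fun b => by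
    rw [← (q.fiberι t).isEmbedding.isInducing.specializes_iff, ha]
    refine hη _ ?_
    have : q.fiberι t b ∈ Set.range (q.fiberι t) := Set.mem_range_self _
    rw [q.range_fiberι] at this
    exact this
  have hle : pdim π a ≤ d := by
    have h1 := tdAt_le_fibreDimAt q (specializes_refl η) rfl
    rw [hd η] at h1
    have h2 : tdAt q η = pdim π a := by
      rw [tdAt, ← ha, heq a, Cardinal.toNat_natCast]
    rw [h2] at h1
    exact_mod_cast h1
  have hge : d ≤ pdim π a := by
    obtain ⟨w, hw, hwd⟩ := exists_fibreDimAt_le_tdAt q η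
    obtain ⟨b, hb⟩ := hmem w hw
    have h2 : tdAt q w = pdim π b := by rw [tdAt, ← hb, heq b, Cardinal.toNat_natCast]
    rw [hd η, h2] at hwd
    exact le_trans (by exact_mod_cast hwd) (pdim_le π (hspec b))
  refine ⟨by rw [← ha, heq a, le_antisymm hle hge], fun x hx hne => ?_⟩
  obtain ⟨b, rfl⟩ := hmem x hx
  rw [heq b, Nat.cast_lt]
  exact lt_of_lt_of_le (pdim_lt π (hspec b) fun h => hne (by rw [← h, ha])) hle

/-- A module which is free near a point is flat there over the base of a flat morphism. -/
theorem isFlatOverAt_of_free (q : X ⟶ T) [Flat q] (G : X.Modules) {p : ℕ} {x : X}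
    (h : FlatFun.IsFreeOfRankNear G p x) : FlatMod.IsFlatOverAt q G x := by
  obtain ⟨U, hxU, ⟨i⟩⟩ := h
  let y : (U : Scheme.{u}) := ⟨x, hxU⟩
  have : Module.Free ((U : Scheme.{u}).presheaf.stalk y) ((G.restrict U.ι).presheaf.stalk y) :=
    Module.Free.of_basis ((Modules.FreeStalk.stalkBasis (U : Scheme.{u}) p y).map
      (Modules.StalkModule.stalkLinearEquiv i.symm y))
  have : Module.Free (X.presheaf.stalk x) (G.presheaf.stalk x) :=
    TensorMod.FPConv.free_stalk_of_restrict U.ι G y
  let : Algebra (T.presheaf.stalk (q x)) (X.presheaf.stalk x) := (q.stalkMap x).hom.toAlgebra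
  have : Module.Flat (T.presheaf.stalk (q x)) (X.presheaf.stalk x) := Flat.stalkMap q x
  let : Module (T.presheaf.stalk (q x)) (G.presheaf.stalk x) := FlatMod.moduleStalkOver q G x
  have : IsScalarTower (T.presheaf.stalk (q x)) (X.presheaf.stalk x) (G.presheaf.stalk x) :=
    IsScalarTower.of_algebraMap_smul fun _ _ => rfl
  exact Module.Flat.trans (T.presheaf.stalk (q x)) (X.presheaf.stalk x) (G.presheaf.stalk x)

/-- A finitely presented module flat at the generic point of a fibre is free near it. -/
theorem exists_free_near (q : X ⟶ T) [Smooth q] [GeometricallyIrreducible q] (G : X.Modules)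
    (hG : CohB1.IsFP G) {η : X} (hη : FlatFun.IsGenericPtOfFibre q η)
    (hfl : FlatMod.IsFlatOverAt q G η) : ∃ p, FlatFun.IsFreeOfRankNear G p η := by
  have := hG
  have := H26.FreeCrit.isQuasicoherent_of_isFP hG
  obtain ⟨U, hU, hxU, -, hFP⟩ := Flat55.QCohFP.exists_affine_le G η ⊤ trivial
  have hreg : ∀ a : q.fiber (q η), IsRegularLocalRing ((q.fiber (q η)).presheaf.stalk a) := by
    intro a
    have : Smooth (q.fiberToSpecResidueField (q η)) :=
      MorphismProperty.of_isPullback (P := @Smooth)
        (IsPullback.of_hasPullback q (T.fromSpecResidueField (q η))) ‹Smooth q›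
    exact @Cyc.SmoothReg.isRegularLocalRing_stalk (q.fiber (q η)) (T.residueField (q η)) _
      (q.fiberToSpecResidueField (q η)) this a
  have : ∀ a : q.fiber (q η), _root_.IsReduced ((q.fiber (q η)).presheaf.stalk a) := fun a => by
    have := hreg a
    have : IsDomain ((q.fiber (q η)).presheaf.stalk a) := Regular.Quotient.isDomain _
    infer_instance
  have : AlgebraicGeometry.IsReduced (q.fiber (q η)) := isReduced_of_isReduced_stalk _
  have : AlgebraicGeometry.IsIntegral (q.fiber (q η)) := isIntegral_of_irreducibleSpace_of_isReduced _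
  have hgp : q.fiberι (q η) (genericPoint (q.fiber (q η))) = η := by
    have h0 : q.fiberι (q η) (genericPoint (q.fiber (q η))) ∈ Set.range (q.fiberι (q η)) :=
      Set.mem_range_self _
    rw [q.range_fiberι] at h0
    obtain ⟨a, ha⟩ : η ∈ Set.range (q.fiberι (q η)) := by rw [q.range_fiberι]; exact rfl
    have h1 : q.fiberι (q η) (genericPoint (q.fiber (q η))) ⤳ η :=
      ((genericPoint_specializes a).map (q.fiberι (q η)).continuous).trans (specializes_of_eq ha)
    exact (h1.antisymm (hη _ h0)).eq
  have key : ∀ (s : T) (a : q.fiber s), FlatMod.IsFlatOverAt q G (q.fiberι s a) →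
      IsField ((q.fiber s).presheaf.stalk a) →
      Module.FinitePresentation (X.presheaf.stalk (q.fiberι s a)) (G.presheaf.stalk (q.fiberι s a)) →
      Module.Free (X.presheaf.stalk (q.fiberι s a)) (G.presheaf.stalk (q.fiberι s a)) := by
    intro s a hfla hfield hfpN
    let A := X.presheaf.stalk (q.fiberι s a)
    let B := (q.fiber s).presheaf.stalk a
    let R := T.presheaf.stalk (q (q.fiberι s a))
    let N := G.presheaf.stalk (q.fiberι s a)
    letI : Algebra A B := ((q.fiberι s).stalkMap a).hom.toAlgebra
    letI : Algebra R A := (q.stalkMap (q.fiberι s a)).hom.toAlgebra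
    letI : Module R N := FlatMod.moduleStalkOver q G (q.fiberι s a)
    haveI : IsScalarTower R A N := IsScalarTower.of_algebraMap_smul fun _ _ => rfl
    haveI : Module.Flat R N := hfla
    letI : Field B := hfield.toField
    haveI : Module.Free B (B ⊗[A] N) := Module.Free.of_divisionRing B (B ⊗[A] N)
    refine H26.FreeCrit.free_of_fibre (R := R) (B := B) ((q.fiberι s).stalkMap_surjective a)
      (H46.FiberStalk.ker_stalkMap_fiberι q s a) ?_ N
    exact Ideal.map_le_iff_le_comap.2 fun r hr hu =>
      hr (isUnit_of_map_unit (q.stalkMap (q.fiberι s a)).hom r hu)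
  have hfpη := H26.FreeCrit.finitePresentation_stalk (F := G) hU hxU
  have htrans : ∀ y, y = η → (FlatMod.IsFlatOverAt q G y ∧
      Module.FinitePresentation (X.presheaf.stalk y) (G.presheaf.stalk y)) ∧
      (Module.Free (X.presheaf.stalk y) (G.presheaf.stalk y) →
        Module.Free (X.presheaf.stalk η) (G.presheaf.stalk η)) := by
    rintro y rfl; exact ⟨⟨hfl, hfpη⟩, id⟩
  have hfree := (htrans _ hgp).2 (key (q η) (genericPoint (q.fiber (q η))) (htrans _ hgp).1.1
    (Field.toIsField (q.fiber (q η)).functionField) (htrans _ hgp).1.2)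
  obtain ⟨W, n, hW, hi⟩ := TensorMod.FPCrit.exists_free_nhd (M := G) hU hxU
  exact ⟨n, W, hW, hi⟩

/-- The rank is bounded by the number of generators. -/
theorem rank_le {X' : Scheme.{u}} [IsAffine X] (g : X' ⟶ X) (F : X.Modules) [F.IsQuasicoherent]
    {c : ℕ} (v : Fin c → Γ(F, ⊤)) (hv : Submodule.span Γ(X, ⊤) (Set.range v) = ⊤) {p : ℕ} {x' : X'}
    (h : FlatFun.IsFreeOfRankNear ((Scheme.Modules.pullback g).obj F) p x') : p ≤ c := by
  have hW := isAffineOpen_top X
  have hr : Set.range (X'.fromSpecResidueField x' ≫ g) ⊆ Set.range hW.fromSpec := by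
    rw [hW.range_fromSpec]
    exact Set.subset_univ _
  let φ := Spec.preimage (IsOpenImmersion.lift hW.fromSpec _ hr)
  have w : X'.fromSpecResidueField x' ≫ g = Spec.map φ ≫ hW.fromSpec := by
    rw [Spec.map_preimage, IsOpenImmersion.lift_fac]
  letI := φ.hom.toAlgebra
  obtain ⟨e⟩ := FreeLocus.exists_equiv_of_free g hW φ (X'.fromSpecResidueField x') w
    (by rwa [X'.fromSpecResidueField_apply])
  have hs := e.surjective.comp (FreeLocusAlg.genMap_surjective (X'.residueField x') hv)
  have := LinearMap.finrank_le_finrank_of_surjective (f := e.toLinearMap.comp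
    (FreeLocusAlg.genMap (B := Γ(X, ⊤)) (X'.residueField x') v)) hs
  simpa using this

end Groth.Agent.Lib.Flat55.FreeLocusFlat
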