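import Mathlib.RingTheory.Support
import Mathlib.RingTheory.LocalRing.ResidueField.Ideal
import Mathlib.Algebra.Module.FinitePresentation
import Mathlib.LinearAlgebra.Matrix.NonsingularInverse
import Mathlib.LinearAlgebra.Dimension.Finrank
import Mathlib.LinearAlgebra.Basis.VectorSpace
import Mathlib.RingTheory.Spectrum.Prime.Topology

/-!
# The support of a finitely presented module is cut out by finitely many determinants
-/

set_option autoImplicit false

universe u

namespace Groth.Agent.Lib.Flat55.SupportFP

variable (B : Type u) [CommRing B] (Q : Type u) [AddCommGroup Q] [Module B Q]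

/-- The support of a finitely presented module is the zero locus of finitely many elements. -/
theorem exists_finset_support [Module.FinitePresentation B Q] :
    ∃ D : Finset B, Module.support B Q = PrimeSpectrum.zeroLocus (D : Set B) := by
  classical
  obtain ⟨n, π, hπ⟩ := Module.Finite.exists_fin' B Q
  obtain ⟨G, hG⟩ := Module.FinitePresentation.fg_ker π hπ
  refine ⟨(Finset.univ : Finset (Fin n → G)).image fun c => (Matrix.of fun i => (c i).1).det, ?_⟩
  rw [Module.support_eq_zeroLocus]
  ext q
  simp only [PrimeSpectrum.mem_zeroLocus, Finset.coe_image, Finset.coe_univ, Set.image_univ,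
    Set.range_subset_iff]
  constructor
  · intro h c
    refine h (show (Matrix.of fun i => (c i).1).det ∈ Module.annihilator B Q from
      Module.mem_annihilator.2 fun y => ?_)
    obtain ⟨v, rfl⟩ := hπ y
    let M : Matrix (Fin n) (Fin n) B := Matrix.of fun i => (c i).1
    show M.det • π v = 0
    rw [← map_smul, show M.det • v = Matrix.vecMul (Matrix.vecMul v M.adjugate) M by
      rw [Matrix.vecMul_vecMul, Matrix.adjugate_mul, Matrix.vecMul_smul, Matrix.vecMul_one],
      Matrix.vecMul_eq_sum, map_sum]
    refine Finset.sum_eq_zero fun i _ => ?_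
    rw [map_smul, show π (M i) = 0 from (hG.le (Submodule.subset_span (c i).2) : (c i).1 ∈ LinearMap.ker π), smul_zero]
  · intro h b hb
    by_contra hbq
    let κ := q.asIdeal.ResidueField
    let ev : (Fin n → B) →ₗ[B] (Fin n → κ) := (Algebra.linearMap B κ).compLeft (Fin n)
    let G' : Set (Fin n → κ) := ev '' (G : Set (Fin n → B))
    have hb0 : algebraMap B κ b ≠ 0 := by
      rw [ne_eq, Ideal.algebraMap_residueField_eq_zero]; exact hbq
    have hspan : Submodule.span κ G' = ⊤ := by
      have hmem : ∀ v ∈ LinearMap.ker π, ev v ∈ Submodule.span κ G' := by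
        intro v hv
        rw [← hG] at hv
        induction hv using Submodule.span_induction with
        | mem v hv => exact Submodule.subset_span ⟨v, hv, rfl⟩
        | zero => rw [map_zero]; exact Submodule.zero_mem _
        | add x y _ _ hx hy => rw [map_add]; exact Submodule.add_mem _ hx hy
        | smul r x _ hx => rw [map_smul, ← algebraMap_smul κ r (ev x)]; exact Submodule.smul_mem _ _ hx
      rw [eq_top_iff, ← (Pi.basisFun κ (Fin n)).span_eq, Submodule.span_le]
      rintro _ ⟨j, rfl⟩
      have h1 := hmem (b • Pi.single j 1) (by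
        rw [LinearMap.mem_ker, map_smul]; exact Module.mem_annihilator.1 hb _)
      have h2 : ev (b • Pi.single j 1) = algebraMap B κ b • (Pi.basisFun κ (Fin n)) j := by
        ext i
        by_cases hij : i = j
        · subst hij; simp [ev]
        · simp [ev, Pi.single_eq_of_ne hij]
      rw [h2] at h1
      exact (Submodule.smul_mem_iff _ hb0).1 h1
    obtain ⟨s, hs, hsp, hli⟩ := exists_linearIndependent κ G'
    let bs : Module.Basis s κ (Fin n → κ) :=
      Module.Basis.mk hli (by rw [Subtype.range_coe, hsp, hspan])
    let τ : Fin n ≃ s := (bs.indexEquiv (Pi.basisFun κ (Fin n))).symm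
    have hc : ∀ i, ∃ g : G, ev g.1 = (τ i : Fin n → κ) := fun i => by
      obtain ⟨g, hg, hge⟩ := hs (τ i).2
      exact ⟨⟨g, hg⟩, hge⟩
    choose c hc using hc
    have hd : algebraMap B κ (Matrix.of fun i => (c i).1).det ≠ 0 := by
      rw [RingHom.map_det, ← isUnit_iff_ne_zero, ← Matrix.isUnit_iff_isUnit_det,
        ← Matrix.linearIndependent_rows_iff_isUnit]
      convert! hli.comp τ τ.injective
      funext i
      exact hc i
    exact hd (Ideal.algebraMap_residueField_eq_zero.2 (h c))

theorem isCompact_compl_support [Module.FinitePresentation B Q] :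
    IsCompact (Module.support B Q)ᶜ := by
  classical
  obtain ⟨D, hD⟩ := exists_finset_support B Q
  have : (Module.support B Q)ᶜ = ⋃ d ∈ D, (PrimeSpectrum.basicOpen d : Set (PrimeSpectrum B)) := by
    rw [hD]
    ext q
    simp [PrimeSpectrum.mem_zeroLocus, Set.not_subset]
  rw [this]
  exact D.isCompact_biUnion fun d _ => PrimeSpectrum.isCompact_basicOpen d

end Groth.Agent.Lib.Flat55.SupportFP
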