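import Groth.Agent.Lib.Flat55.FreeLocusLocal
import Groth.Agent.Lib.Flat55.ClosedRep
import Groth.Agent.Lib.Flat55.SupportFP
import Mathlib.AlgebraicGeometry.Morphisms.Immersion

/-!
# The functor `H_p` is represented by a locally closed subscheme
-/

set_option autoImplicit false
set_option linter.style.haveILetI false

universe u

open CategoryTheory CategoryTheory.Limits AlgebraicGeometry Opposite TopologicalSpace
open Groth.Agent.Lib Groth.Agent.Lib.QCoh Groth.Agent.Lib.QCoh.Localizing
open Groth.Agent.Lib.Flat55.GenericPtFibre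

namespace Groth.Agent.Lib.Flat55.FreeLocusRep

variable {X S : Scheme.{u}} (f : X ⟶ S) {F : X.Modules} [F.IsQuasicoherent] {p : ℕ}

/-- The locus of `p` generators on an affine open is quasi-compact. -/
theorem isCompact_genLE (hF : CohB1.IsFP F) {W : X.Opens} (hW : IsAffineOpen W) :
    IsCompact ((W : Set X) ∩ {x | FreeLocus.GenLE F p x}) := by
  classical
  let B := Γ(X, W)
  let M := Γ(F, W)
  have : Module.FinitePresentation B M := DescAlg.FPPush.finitePresentation_sections hW F hF
  obtain ⟨G₀, hG₀⟩ := (Module.Finite.fg_top : (⊤ : Submodule B M).FG)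
  let G := insert 0 G₀
  let K : (Fin p → G) → Submodule B M := fun c => Submodule.span B (Set.range fun i => (c i).1)
  have key : (W : Set X) ∩ {x | FreeLocus.GenLE F p x} =
      ⋃ c : Fin p → G, hW.fromSpec '' (Module.support B (M ⧸ K c))ᶜ := by
    ext x
    simp only [Set.mem_inter_iff, SetLike.mem_coe, Set.mem_ofPred_eq, Set.mem_iUnion, Set.mem_image,
      Set.mem_compl_iff]
    constructor
    · rintro ⟨hxW, W₀, hW₀, hxW₀, v, hv⟩
      obtain ⟨a, b, hab, hxa⟩ := exists_basicOpen_le_affine_inter hW hW₀ x ⟨hxW, hxW₀⟩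
      obtain ⟨q, rfl⟩ := hW.range_fromSpec.ge hxW
      have hqa : a ∉ q.asIdeal := by
        have : q ∈ hW.fromSpec ⁻¹ᵁ X.basicOpen a := hxa
        rwa [hW.fromSpec_preimage_basicOpen] at this
      -- generators on `D(a)` coming from `W`
      have hspan : Submodule.span Γ(X, X.basicOpen b)
          (Set.range fun i => res F (X.basicOpen_le b) (v i)) = ⊤ :=
        FreeLocus.span_basicOpen (F := F) hW₀ b v (fun n => by rw [hv]; trivial)
      have hle : X.basicOpen b ≤ W := hab.symm.trans_le (X.basicOpen_le a)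
      have hlift : ∀ i, ∃ (k : ℕ) (t : M),
          res F hle t = resR hle a ^ k • res F (X.basicOpen_le b) (v i) := fun i =>
        (localizes_of_isAffineOpen F hW a).ext'.exists_of_eq hab.symm hle _
      choose k t ht using hlift
      have hu : IsUnit (resR hle a) := by
        have h1 := RingedSpace.isUnit_res_basicOpen (X := X.toRingedSpace) a
        have h2 := h1.map (resR (hab.symm.le : X.basicOpen b ≤ X.basicOpen a))
        exact (congrArg IsUnit (resR_resR (X := X) (X.basicOpen_le a)
          (hab.symm.le : X.basicOpen b ≤ X.basicOpen a) a)).mp h2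
      have hspan' : Submodule.span Γ(X, X.basicOpen b) (Set.range fun i => res F hle (t i)) = ⊤ := by
        rw [eq_top_iff, ← hspan, Submodule.span_le]
        rintro _ ⟨i, rfl⟩
        refine (Submodule.smul_mem_iff_of_isUnit _ (hu.pow (k i))).1 ?_
        rw [← ht i]
        exact Submodule.subset_span ⟨i, rfl⟩
      have hkill : ∀ m : M, ∃ n : ℕ, a ^ n • m ∈ Submodule.span B (Set.range t) := by
        intro m
        have hz : ∀ z ∈ Submodule.span Γ(X, X.basicOpen b) (Set.range fun i => res F hle (t i)),
            ∃ n : ℕ, ∃ y ∈ Submodule.span B (Set.range t), res F hle y = resR hle a ^ n • z := by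
          intro z hz
          induction hz using Submodule.span_induction with
          | mem z hz =>
            obtain ⟨i, rfl⟩ := hz
            exact ⟨0, t i, Submodule.subset_span ⟨i, rfl⟩, by simp⟩
          | zero => exact ⟨0, 0, Submodule.zero_mem _, by simp⟩
          | add z z' _ _ h1 h2 =>
            obtain ⟨n, y, hy, h1⟩ := h1
            obtain ⟨n', y', hy', h2⟩ := h2
            refine ⟨n + n', a ^ n' • y + a ^ n • y',
              Submodule.add_mem _ (Submodule.smul_mem _ _ hy) (Submodule.smul_mem _ _ hy'), ?_⟩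
            rw [map_add, res_smul, res_smul, h1, h2, map_pow, map_pow, smul_smul, smul_smul,
              smul_add, ← pow_add, ← pow_add, add_comm n' n]
          | smul r z _ h1 =>
            obtain ⟨n, y, hy, h1⟩ := h1
            letI := (resR hle).toAlgebra
            have := hW.isLocalization_of_eq_basicOpen a (homOfLE hle) hab.symm
            obtain ⟨⟨r₀, ⟨_, l, rfl⟩⟩, hr⟩ := IsLocalization.surj (Submonoid.powers a) r
            refine ⟨n + l, r₀ • y, Submodule.smul_mem _ _ hy, ?_⟩
            rw [res_smul, h1, smul_smul, smul_smul,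
              show resR hle r₀ = r * resR hle (a ^ l) from hr.symm, map_pow, pow_add]
            congr 1
            ring
        obtain ⟨n, y, hy, hy'⟩ := hz (res F hle m) (hspan' ▸ Submodule.mem_top)
        rw [← map_pow, ← res_smul] at hy'
        obtain ⟨N, hN⟩ := (localizes_of_isAffineOpen F hW a).sep (a ^ n • m - y) (by
          have h0 : res F hle (a ^ n • m - y) = 0 := by rw [map_sub, hy', sub_self]
          have h1 := congrArg (res F (hab.le : X.basicOpen a ≤ X.basicOpen b)) h0
          rwa [res_res, map_zero] at h1)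
        refine ⟨N + n, ?_⟩
        rw [smul_sub, sub_eq_zero, smul_smul, ← pow_add] at hN
        rw [hN]
        exact Submodule.smul_mem _ _ hy
      -- choose among the given generators
      let κ := q.asIdeal.ResidueField
      let g : M → TensorProduct B κ M := fun m => (1 : κ) ⊗ₜ[B] m
      have hgspan : ∀ m, g m ∈ Submodule.span κ (g '' Set.range t) := by
        intro m
        obtain ⟨n, hn⟩ := hkill m
        have hmem : ∀ y ∈ Submodule.span B (Set.range t), g y ∈ Submodule.span κ (g '' Set.range t) := by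
          intro y hy
          induction hy using Submodule.span_induction with
          | mem y hy => exact Submodule.subset_span ⟨y, hy, rfl⟩
          | zero => simp [g]
          | add x y _ _ hx hy => simpa [g, TensorProduct.tmul_add] using Submodule.add_mem _ hx hy
          | smul r x _ hx =>
            rw [show g (r • x) = algebraMap B κ r • g x by
              simp [g, algebraMap_smul, TensorProduct.tmul_smul]]
            exact Submodule.smul_mem _ _ hx
        have h1 := hmem _ hn
        rw [show g (a ^ n • m) = algebraMap B κ (a ^ n) • g m by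
          simp only [g, algebraMap_smul, TensorProduct.tmul_smul]] at h1
        refine (Submodule.smul_mem_iff _ ?_).1 h1
        rw [map_pow]
        exact pow_ne_zero _ (fun h => hqa (Ideal.algebraMap_residueField_eq_zero.1 h))
      have hG₀span : Submodule.span κ (g '' (G₀ : Set M)) = ⊤ := by
        refine top_le_iff.1 ?_
        intro z hz
        clear hz
        induction z with
        | zero => exact Submodule.zero_mem _
        | add x y hx hy => exact Submodule.add_mem _ hx hy
        | tmul l m =>
          have hm : m ∈ Submodule.span B (G₀ : Set M) := by rw [hG₀]; trivial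
          have : g m ∈ Submodule.span κ (g '' (G₀ : Set M)) := by
            induction hm using Submodule.span_induction with
            | mem y hy => exact Submodule.subset_span ⟨y, hy, rfl⟩
            | zero => simp [g]
            | add x y _ _ hx hy => simpa [g, TensorProduct.tmul_add] using Submodule.add_mem _ hx hy
            | smul r x _ hx =>
              rw [show g (r • x) = algebraMap B κ r • g x by
                simp [g, algebraMap_smul, TensorProduct.tmul_smul]]
              exact Submodule.smul_mem _ _ hx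
          rw [show l ⊗ₜ[B] m = l • g m by simp [g, TensorProduct.smul_tmul']]
          exact Submodule.smul_mem _ _ this
      obtain ⟨s, hs, hsp, hli⟩ := exists_linearIndependent κ (g '' (G₀ : Set M))
      let bs : Module.Basis s κ (TensorProduct B κ M) :=
        Module.Basis.mk hli (by rw [Subtype.range_coe, hsp, hG₀span])
      have ht' : Submodule.span κ (Set.range fun i => g (t i)) = ⊤ := by
        rw [eq_top_iff, ← hG₀span, Submodule.span_le, Set.range_comp' g t]
        rintro _ ⟨m, -, rfl⟩
        exact hgspan m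
      have : Fintype s := ((G₀.finite_toSet.image g).subset hs).fintype
      have hcard : Fintype.card s ≤ p := by
        rw [← Module.finrank_eq_card_basis bs, ← finrank_top κ (TensorProduct B κ M), ← ht']
        exact (finrank_range_le_card _).trans (by simp)
      obtain ⟨emb⟩ : Nonempty (s ↪ Fin p) := Function.Embedding.nonempty_of_card_le (by simpa using hcard)
      choose pre hpre hpre' using hs
      let c : Fin p → G := fun i =>
        if h : ∃ z : s, emb z = i then ⟨pre h.choose.2, Finset.mem_insert_of_mem (hpre h.choose.2)⟩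
        else ⟨0, Finset.mem_insert_self _ _⟩
      refine ⟨c, q, ?_, rfl⟩
      let q' : PrimeSpectrum B := q
      show q' ∉ Module.support B (M ⧸ K c)
      rw [Module.mem_support_iff_nontrivial_residueField_tensorProduct, not_nontrivial_iff_subsingleton]
      refine subsingleton_of_forall_eq 0 fun z => ?_
      obtain ⟨w, rfl⟩ := LinearMap.lTensor_surjective κ (Submodule.mkQ_surjective (K c)) z
      have : (Submodule.mkQ (K c)).baseChange κ = 0 := by
        refine bs.ext fun z => ?_
        rw [Module.Basis.coe_mk, LinearMap.zero_apply, ← hpre' z.2, LinearMap.baseChange_tmul,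
          Submodule.mkQ_apply, (Submodule.Quotient.mk_eq_zero _).2, TensorProduct.tmul_zero]
        refine Submodule.subset_span ⟨emb z, ?_⟩
        have hz : ∃ z' : s, emb z' = emb z := ⟨z, rfl⟩
        simp only [c, dif_pos hz]
        congr 1
        exact Subtype.ext_iff.1 (emb.injective hz.choose_spec)
      exact LinearMap.congr_fun this w
    · rintro ⟨c, q, hq, rfl⟩
      have hmem : hW.fromSpec q ∈ W := hW.range_fromSpec.le ⟨q, rfl⟩
      refine ⟨hmem, ?_⟩
      let q' : PrimeSpectrum B := q
      have hq' : q' ∉ Module.support B (M ⧸ K c) := hq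
      rw [Module.support_eq_zeroLocus, PrimeSpectrum.mem_zeroLocus, Set.not_subset] at hq'
      obtain ⟨b, hb, hbq⟩ := hq'
      refine ⟨X.basicOpen b, hW.basicOpen b, ?_, _, FreeLocus.span_basicOpen (F := F) hW b
        (fun i => (c i).1) fun m => ?_⟩
      · show q ∈ hW.fromSpec ⁻¹ᵁ X.basicOpen b
        rw [hW.fromSpec_preimage_basicOpen]
        exact hbq
      · have := Module.mem_annihilator.1 hb (Submodule.Quotient.mk m)
        rwa [← Submodule.Quotient.mk_smul, Submodule.Quotient.mk_eq_zero] at this
  rw [key]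
  refine isCompact_iUnion fun c => ?_
  have : Module.FinitePresentation B (M ⧸ K c) :=
    Module.finitePresentation_of_surjective (K c).mkQ (Submodule.mkQ_surjective _)
      (by rw [Submodule.ker_mkQ]; exact Submodule.fg_span (Set.finite_range _))
  exact (SupportFP.isCompact_compl_support B _).image hW.fromSpec.continuous

variable (F p) in
/-- The open of the base over which `H_p` lives. -/
noncomputable def baseOpen [Smooth f] : S.Opens :=
  ⟨f '' {x | FreeLocus.GenLE F p x}, f.isOpenMap _ (FreeLocus.isOpen_genLE F p)⟩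

theorem quasiCompact_baseOpen [Smooth f] [GeometricallyIrreducible f] (hF : CohB1.IsFP F) :
    QuasiCompact (baseOpen f F p).ι := by
  classical
  rw [quasiCompact_iff_forall_isAffineOpen]
  intro V hV
  rw [(baseOpen f F p).ι.isOpenEmbedding.isInducing.isCompact_iff]
  have hcov : (V : Set S) ⊆ ⋃ W : {W : X.affineOpens // W.1 ≤ f ⁻¹ᵁ V}, f '' (W.1.1 : Set X) := by
    intro s hs
    obtain ⟨x, hx, -⟩ := exists_genericPt f s
    obtain ⟨W, hW, hxW, hWV⟩ := exists_isAffineOpen_mem_and_subset (U := f ⁻¹ᵁ V) (x := x)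
      (show f x ∈ V from hx.symm ▸ hs)
    exact Set.mem_iUnion.2 ⟨⟨⟨W, hW⟩, hWV⟩, x, hxW, hx⟩
  obtain ⟨tW, htW⟩ := hV.isCompact.elim_finite_subcover _ (fun W => f.isOpenMap _ W.1.1.2) hcov
  have heq : (baseOpen f F p).ι '' ((baseOpen f F p).ι ⁻¹ᵁ V) =
      ⋃ W ∈ tW, f '' ((W.1.1 : Set X) ∩ {x | FreeLocus.GenLE F p x}) := by
    rw [Scheme.Hom.coe_preimage, Set.image_preimage_eq_inter_range, Scheme.Opens.range_ι]
    ext s
    constructor
    · rintro ⟨hsV, x, hx, rfl⟩
      obtain ⟨W, hWt, w, hw, hwx⟩ := Set.mem_iUnion₂.1 (htW hsV)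
      obtain ⟨η, hη, hgen⟩ := exists_genericPt f (f x)
      refine Set.mem_iUnion₂.2 ⟨W, hWt, η, ⟨genericPt_mem hgen (hwx.trans hη.symm) hw, ?_⟩, hη⟩
      exact genericPt_mem hgen hη.symm (U := ⟨_, FreeLocus.isOpen_genLE F p⟩) hx
    · intro hs
      obtain ⟨W, -, x, hx, rfl⟩ := Set.mem_iUnion₂.1 hs
      exact ⟨W.2 hx.1, x, hx.2, rfl⟩
  show IsCompact ((baseOpen f F p).ι '' ((baseOpen f F p).ι ⁻¹ᵁ V))
  rw [heq]
  exact tW.isCompact_biUnion fun W _ => (isCompact_genLE hF W.1.2).image f.continuous

theorem range_subset_baseOpen [Smooth f] (hF : CohB1.IsFT F) {T : Over S} (h : Cond f F p T) :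
    Set.range T.hom ⊆ baseOpen f F p := by
  rintro _ ⟨t, rfl⟩
  obtain ⟨x, hx, -, hfree⟩ := h t
  refine ⟨pullback.fst f T.hom x, FreeLocus.genLE_of_free _ hF hfree, ?_⟩
  rw [← Scheme.Hom.comp_apply, pullback.condition, Scheme.Hom.comp_apply]
  exact congrArg T.hom hx

/-- `H_p` is represented by an immersion, finitely presented when the module is. -/
theorem exists_rep [Smooth f] [GeometricallyIrreducible f] (hF : CohB1.IsFT F) :
    ∃ Z : Over S, IsImmersion Z.hom ∧ (∀ T : Over S, Cond f F p T ↔ Nonempty (T ⟶ Z)) ∧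
      (CohB1.IsFP F → LocallyOfFinitePresentation Z.hom ∧ QuasiCompact Z.hom ∧
        QuasiSeparated Z.hom) := by
  classical
  let U := baseOpen f F p
  let P : Over U.toScheme → Prop := fun T => Cond f F p (Over.mk (T.hom ≫ U.ι))
  have hP : ∀ ⦃T T₀ : Over U.toScheme⦄ (_ : T ⟶ T₀), P T₀ → P T := fun T T₀ g h =>
    cond_of_hom f F p (Over.homMk g.left (by simp) :
      Over.mk (T.hom ≫ U.ι) ⟶ Over.mk (T₀.hom ≫ U.ι)) h
  have hloc : ∀ T : Over U.toScheme, (∀ t : T.left, ∃ (T' : Over U.toScheme) (g : T' ⟶ T),
      IsOpenImmersion g.left ∧ t ∈ Set.range g.left ∧ P T') → P T := fun T h =>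
    cond_of_local f F p _ fun t => by
      obtain ⟨T', g, hg, ht, hT'⟩ := h t
      exact ⟨Over.mk (T'.hom ≫ U.ι), Over.homMk g.left (by simp), hg, ht, hT'⟩
  have hlocal : ∀ x : U.toScheme, ∃ (R : CommRingCat.{u}) (i : Spec R ⟶ U.toScheme)
      (_ : IsOpenImmersion i), x ∈ Set.range i ∧
      ∃ J : Ideal R, (CohB1.IsFP F → J.FG) ∧ ClosedRep.Rep P i J := by
    rintro ⟨s, x, hx, rfl⟩
    obtain ⟨V, hV, W, hW, e, hxV, hsurj, hss, v, hv⟩ := FreeLocusLocal.exists_nhd f hx
    obtain ⟨J, hJfg, hJ⟩ := FreeLocusLocal.exists_ideal f hV hW e hsurj hss v hv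
    have hr : Set.range hV.fromSpec ⊆ Set.range U.ι := by
      rw [Scheme.Opens.range_ι, hV.range_fromSpec]
      intro y hy
      obtain ⟨w, hw, rfl⟩ := hsurj y hy
      exact ⟨w, ⟨W, hW, hw, v, hv⟩, rfl⟩
    have hfac := IsOpenImmersion.lift_fac U.ι hV.fromSpec hr
    have hi : IsOpenImmersion (IsOpenImmersion.lift U.ι hV.fromSpec hr) := by
      have : IsOpenImmersion (IsOpenImmersion.lift U.ι hV.fromSpec hr ≫ U.ι) := by
        rw [hfac]; infer_instance
      exact IsOpenImmersion.of_comp _ U.ι
    refine ⟨_, IsOpenImmersion.lift U.ι hV.fromSpec hr, hi, ?_, J, hJfg, fun A ψ => ?_⟩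
    · obtain ⟨y, hy⟩ := hV.range_fromSpec.ge hxV
      refine ⟨y, U.ι.isOpenEmbedding.injective ?_⟩
      rw [← Scheme.Hom.comp_apply, hfac, hy]
      rfl
    · letI := ψ.hom.toAlgebra
      show Cond f F p (Over.mk ((Spec.map ψ ≫ _) ≫ U.ι)) ↔ _
      rw [Category.assoc, hfac]
      exact hJ A
  obtain ⟨I, hI, hIfp⟩ := ClosedRep.exists_closedSubscheme hP hloc fun x => by
    obtain ⟨R, i, hi, hx, J, -, hJ⟩ := hlocal x
    exact ⟨R, i, hi, hx, J, hJ⟩
  refine ⟨Over.mk (I.subschemeι ≫ U.ι), inferInstanceAs (IsImmersion (I.subschemeι ≫ U.ι)),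
    fun T => ⟨fun hT => ?_, fun ⟨g⟩ => ?_⟩, fun hFP => ?_⟩
  · have hr : Set.range T.hom ⊆ Set.range U.ι := by
      rw [Scheme.Opens.range_ι]; exact range_subset_baseOpen f hF hT
    let T' : Over U.toScheme := Over.mk (IsOpenImmersion.lift U.ι T.hom hr)
    have hT' : P T' := cond_of_hom f F p (Over.homMk (𝟙 T.left) (by
      simp [T', IsOpenImmersion.lift_fac]) : Over.mk (T'.hom ≫ U.ι) ⟶ T) hT
    obtain ⟨g⟩ := (hI T').1 hT'
    exact ⟨Over.homMk g.left (by
      show g.left ≫ I.subschemeι ≫ U.ι = T.hom
      rw [← Category.assoc, show g.left ≫ I.subschemeι = _ from Over.w g]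
      exact IsOpenImmersion.lift_fac _ _ _)⟩
  · exact cond_of_hom f F p g ((hI (Over.mk I.subschemeι)).2 ⟨𝟙 _⟩)
  · have := quasiCompact_baseOpen f (p := p) hFP
    have := hIfp fun x => by
      obtain ⟨R, i, hi, hx, J, hfg, hJ⟩ := hlocal x
      exact ⟨R, i, hi, hx, J, hfg hFP, hJ⟩
    exact ⟨inferInstanceAs (LocallyOfFinitePresentation (I.subschemeι ≫ U.ι)),
      inferInstanceAs (QuasiCompact (I.subschemeι ≫ U.ι)),
      inferInstanceAs (QuasiSeparated (I.subschemeι ≫ U.ι))⟩

/-- The representing object as a representation of the presheaf. -/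
theorem exists_representableBy [Smooth f] [GeometricallyIrreducible f] (hF : CohB1.IsFT F) :
    ∃ Z : Over S, IsImmersion Z.hom ∧
      Nonempty ((FlatFun.genPSp S (Cond f F p)).RepresentableBy Z) ∧
      (CohB1.IsFP F → LocallyOfFinitePresentation Z.hom ∧ QuasiCompact Z.hom ∧
        QuasiSeparated Z.hom) := by
  obtain ⟨Z, hZ, hiff, hfp⟩ := exists_rep f (p := p) hF
  have hmono : Mono Z.hom := inferInstance
  have hsub : ∀ T : Over S, Subsingleton (T ⟶ Z) := fun T => ⟨fun a b => by
    ext : 1
    exact (cancel_mono Z.hom).1 ((Over.w a).trans (Over.w b).symm)⟩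
  have hstab : ∀ ⦃T T₀ : Over S⦄ (_ : T ⟶ T₀), Cond f F p T₀ → Cond f F p T :=
    fun _ _ g h => cond_of_hom f F p g h
  refine ⟨Z, hZ, ⟨{ homEquiv := fun {T} => ?_, homEquiv_comp := fun _ _ => Subsingleton.elim _ _ }⟩, hfp⟩
  have := hsub T
  exact
    { toFun := fun g => (FlatFun.genPSp_nonempty_of _ ((hiff T).2 ⟨g⟩)).some
      invFun := fun x => ((hiff T).1 ((FlatFun.genPSp_nonempty_iff_of_stable _ hstab T).1 ⟨x⟩)).some
      left_inv := fun _ => Subsingleton.elim _ _
      right_inv := fun _ => Subsingleton.elim _ _ }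

end Groth.Agent.Lib.Flat55.FreeLocusRep
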