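import Groth.Agent.Lib.Flat55.GmPoints
import Mathlib.RingTheory.Localization.Away.Basic
import Mathlib.AlgebraicGeometry.Morphisms.OpenImmersion
import Mathlib.LinearAlgebra.Lagrange

/-!
# Affine models of `𝔾_a`: the integral polynomial parametrisations

`H j f` is the function `f` evaluated at `π^j u`; `Good j` says all of these are integral.
-/

set_option autoImplicit false
universe u

open CategoryTheory MonoidalCategory CartesianMonoidalCategory MonObj GrpObj AlgebraicGeometry
open Limits Polynomial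
open Groth.Agent.Lib.RedPts Groth.Agent.Lib.Flat55.GaModel Groth.Agent.Lib.Flat55.GmPoints

namespace Groth.Agent.Lib.Flat55.GaComponent

/-- An injective map which becomes bijective over a cover by localisations is an open immersion. -/
theorem isOpenImmersion_SpecMap {A B : Type u} [CommRing A] [CommRing B] [IsDomain B] (h : A →+* B)
    (hinj : Function.Injective h) (S : Set A) (hS0 : ∀ e ∈ S, h e ≠ 0)
    (hcov : Ideal.span (h '' S) = ⊤) (hsurj : ∀ e ∈ S, ∀ b, ∃ (n : ℕ) (a : A), h a = b * h e ^ n) :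
    IsOpenImmersion (Spec.map (CommRingCat.ofHom h)) := by
  have hmem : ∀ q : PrimeSpectrum B, ∃ e ∈ S, h e ∉ q.asIdeal := by
    intro q
    by_contra hq
    push_neg at hq
    exact q.isPrime.ne_top (top_le_iff.1 (hcov ▸ Ideal.span_le.2 (by
      rintro _ ⟨e, he, rfl⟩
      exact hq e he)))
  refine IsOpenImmersion.of_forall_source_exists _ ?_ fun q => ?_
  · intro q1 q2 hq
    have hc : ∀ a, h a ∈ q1.asIdeal ↔ h a ∈ q2.asIdeal := fun a => by
      have := congrArg (fun z : PrimeSpectrum A => a ∈ z.asIdeal) hq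
      exact iff_of_eq this
    obtain ⟨e, he, he1⟩ := hmem q1
    have he2 : h e ∉ q2.asIdeal := fun h' => he1 ((hc e).2 h')
    refine PrimeSpectrum.ext (Ideal.ext fun b => ?_)
    obtain ⟨n, a, hab⟩ := hsurj e he b
    have h1 : ∀ q : PrimeSpectrum B, h e ∉ q.asIdeal → (h a ∈ q.asIdeal ↔ b ∈ q.asIdeal) := fun q hq =>
      ⟨fun hb => (q.isPrime.mem_or_mem (hab ▸ hb)).resolve_right fun hh => hq (q.isPrime.mem_of_pow_mem n hh),
        fun hb => hab ▸ Ideal.mul_mem_right _ _ hb⟩
    rw [← h1 q1 he1, ← h1 q2 he2, hc]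
  · obtain ⟨e, he, hq⟩ := hmem q
    let L := Localization.Away (h e)
    let _ : Algebra A L := ((algebraMap B L).comp h).toAlgebra
    have hLinj : Function.Injective (algebraMap B L) :=
      IsLocalization.injective L (powers_le_nonZeroDivisors_of_noZeroDivisors (hS0 e he))
    have : IsLocalization.Away e L := by
      refine IsLocalization.Away.mk e ?_ ?_ ?_
      · exact IsLocalization.Away.algebraMap_isUnit (h e)
      · intro z
        obtain ⟨n, b, hb⟩ := IsLocalization.Away.surj (h e) z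
        obtain ⟨m, a, hab⟩ := hsurj e he b
        refine ⟨n + m, a, ?_⟩
        change z * algebraMap B L (h e) ^ (n + m) = algebraMap B L (h a)
        rw [hab, map_mul, map_pow, ← hb, pow_add, _root_.mul_assoc]
      · intro a b hab
        exact ⟨0, by rw [hinj (hLinj hab)]⟩
    refine ⟨Spec (CommRingCat.of L), Spec.map (CommRingCat.ofHom (algebraMap B L)),
      IsOpenImmersion.of_isLocalization (h e), ?_, ?_⟩
    · change q ∈ Set.range (PrimeSpectrum.comap (algebraMap B L))
      rw [PrimeSpectrum.localization_away_comap_range L (h e)]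
      exact hq
    · rw [← Spec.map_comp, ← CommRingCat.ofHom_comp]
      exact IsOpenImmersion.of_isLocalization (R := A) (S := L) e

variable {R : Type u} [CommRing R] [IsDomain R] [IsDiscreteValuationRing R]
  [IsAdicComplete (IsLocalRing.maximalIdeal R) R] {K : Type u} [Field K] [Algebra R K]
  [IsFractionRing R K] [IsAlgClosed (IsLocalRing.ResidueField R)]
  {G : Over (Spec (CommRingCat.of R))} [GrpObj G] [Smooth G.hom] [IsAffine G.left]
  [LocallyOfFiniteType G.hom]
  (e : Red.bc (Spec.map (CommRingCat.ofHom (algebraMap R K))) G ≅ Red.Ga (Spec (CommRingCat.of K)))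
  [IsMonHom e.hom]

variable (G K) in
/-- Functions of `G` as polynomials in the coordinate `τ`. -/
structure Coord where
  /-- the coordinate -/
  τ : Γ(G.left, ⊤)
  /-- the polynomial attached to a function -/
  χ : Γ(G.left, ⊤) →+* K[X]
  χ_str : ∀ r, χ (str G r) = C (algebraMap R K r)
  χ_τ : χ τ = Polynomial.X
  χ_inj : Function.Injective χ
  χ_den : ∀ Q : K[X], ∃ r : R, r ≠ 0 ∧ ∃ f, χ f = C (algebraMap R K r) * Q
  ev_χ : ∀ (g : 𝟙_ (Over (Spec (CommRingCat.of R))) ⟶ G) (f : Γ(G.left, ⊤)),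
    algebraMap R K (ev g f) = (χ f).eval (algebraMap R K (ev g τ))
  isMonHom : IsMonHom (Ga.gaPt τ)

include e in
theorem exists_Coord
    (hmon : ∀ (s : Γ(G.left, ⊤)) (l : K),
      bcι (algebraMap R K) G s = str (Red.bc (Spec.map (CommRingCat.ofHom (algebraMap R K))) G) l *
        Red.gaFn e.hom → IsMonHom (Ga.gaPt s)) : Nonempty (Coord K G) := by
  let φ := algebraMap R K
  have := isAffine_bc (G := G) φ
  let P := Red.bc (Spec.map (CommRingCat.ofHom φ)) G
  let t : Γ(P.left, ⊤) := Red.gaFn e.hom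
  obtain ⟨c, hc, a0, ha0⟩ := (bc_injective_and_surj K G).2 t
  rw [bcι_str] at ha0
  have hcK : φ c ≠ 0 := (map_ne_zero_iff φ (IsFractionRing.injective R K)).2 hc
  let θ : K → K[X] →+* K[X] := fun d => eval₂RingHom (C : K →+* K[X]) (C d * Polynomial.X)
  have hθ : ∀ d d', d * d' = 1 → Function.LeftInverse (θ d) (θ d') := fun d d' hd =>
    RingHom.congr_fun (show (θ d).comp (θ d') = RingHom.id _ from
      Polynomial.ringHom_ext (fun a => by simp [θ]) (by
        simp [θ, ← _root_.mul_assoc, ← C_mul, mul_comm d' d, hd]))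
  let ψ : K[X] →+* Γ(P.left, ⊤) := (eval₂RingHom (str P) t).comp (θ (φ c))
  have hψ : Function.Bijective ψ := (bijective_eval_of_iso_Ga e).comp
    ⟨(hθ _ _ (inv_mul_cancel₀ hcK)).injective, (hθ _ _ (mul_inv_cancel₀ hcK)).surjective⟩
  let ε := RingEquiv.ofBijective ψ hψ
  let χ : Γ(G.left, ⊤) →+* K[X] := ε.symm.toRingHom.comp (bcι φ G)
  have hψC : ∀ d, ψ (C d) = str P d := fun d => by simp [ψ, θ]
  have hψX : ψ Polynomial.X = bcι φ G a0 := by
    refine Eq.trans ?_ ha0.symm
    simp [ψ, θ, φ, P, t]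
  have hχs : ∀ r, χ (str G r) = C (φ r) := fun r =>
    ε.symm_apply_eq.2 ((bcι_str φ G r).trans (hψC _).symm)
  refine ⟨⟨a0, χ, hχs, ε.symm_apply_eq.2 hψX.symm, ε.symm.injective.comp (bc_injective_and_surj K G).1,
    fun Q => ?_, fun g f => ?_, hmon a0 (φ c) ha0⟩⟩
  · obtain ⟨r, hr, f, hf⟩ := (bc_injective_and_surj K G).2 (ψ Q)
    refine ⟨r, hr, f, ε.symm_apply_eq.2 (hf.trans ?_)⟩
    rw [bcι_str, ← hψC]
    exact (map_mul ψ _ _).symm
  · have h : (ev (red φ g)).comp ψ = Polynomial.evalRingHom (φ (ev g a0)) :=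
      Polynomial.ringHom_ext (fun d => by
        rw [RingHom.comp_apply, hψC, coe_evalRingHom, eval_C]
        exact ev_str _ d) (by
        rw [RingHom.comp_apply, hψX, coe_evalRingHom, eval_X]
        exact ev_red φ g a0)
    have h2 := RingHom.congr_fun h (χ f)
    rw [RingHom.comp_apply, show ψ (χ f) = bcι φ G f from ε.apply_symm_apply _, ev_red] at h2
    exact h2

variable (D : Coord K G)

/-- `f` at `π^j u`, as a polynomial in `u`. -/
noncomputable def H (p : R) (j : ℕ) : Γ(G.left, ⊤) →+* K[X] :=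
  (compRingHom (C (algebraMap R K p ^ j) * Polynomial.X)).comp D.χ

/-- All functions are integral on `π^j R`. -/
def Good (p : R) (j : ℕ) : Prop :=
  ∀ f, H D p j f ∈ (mapRingHom (algebraMap R K)).range

theorem eval_H (p : R) (j : ℕ) (g : 𝟙_ (Over (Spec (CommRingCat.of R))) ⟶ G) (u : R)
    (hu : ev g D.τ = p ^ j * u) (f : Γ(G.left, ⊤)) :
    (H D p j f).eval (algebraMap R K u) = algebraMap R K (ev g f) := by
  rw [D.ev_χ, hu, H, RingHom.comp_apply, coe_compRingHom_apply, eval_comp]
  simp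

theorem ev_τ_mul (g h : 𝟙_ (Over (Spec (CommRingCat.of R))) ⟶ G) :
    ev (g * h) D.τ = ev g D.τ + ev h D.τ := by
  have := D.isMonHom
  change (Scheme.ΓSpecIso (CommRingCat.of R)).hom ((g * h).left.appTop D.τ) =
    (Scheme.ΓSpecIso (CommRingCat.of R)).hom (g.left.appTop D.τ) +
    (Scheme.ΓSpecIso (CommRingCat.of R)).hom (h.left.appTop D.τ)
  rw [← Ga.gaFn_gaPt D.τ, ← Ga.gaFn_comp, ← Ga.gaFn_comp, ← Ga.gaFn_comp,
    MonObj.mul_comp _ _ (Ga.gaPt D.τ), Ga.gaFn_mul, map_add]

theorem ev_τ_one : ev (1 : 𝟙_ (Over (Spec (CommRingCat.of R))) ⟶ G) D.τ = 0 := by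
  simpa using (ev_τ_mul D 1 1)

theorem ev_τ_pow (g : 𝟙_ (Over (Spec (CommRingCat.of R))) ⟶ G) (n : ℕ) :
    ev (g ^ n) D.τ = n * ev g D.τ := by
  induction n with
  | zero => simp [ev_τ_one]
  | succ n ih => rw [pow_succ, ev_τ_mul, ih]; push_cast; ring

theorem exists_good {p : R} (hp : Irreducible p) : ∃ j, Good D p j := by
  let φ := algebraMap R K
  let rg := (mapRingHom φ).range
  have hone : ∀ f, (D.χ f).eval 0 = φ (ev (1 : 𝟙_ _ ⟶ G) f) := fun f => by
    rw [D.ev_χ, ev_τ_one, map_zero]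
  have key : ∀ f, ∃ j, ∀ i, j ≤ i → H D p i f ∈ rg := by
    intro f
    obtain ⟨b, hb, hN⟩ := IsLocalization.integerNormalization_spec (nonZeroDivisors R) (D.χ f)
    obtain ⟨j, ε, rfl⟩ := IsDiscreteValuationRing.eq_unit_mul_pow_irreducible (nonZeroDivisors.ne_zero hb) hp
    refine ⟨j, fun i hi => ?_⟩
    rw [show rg = (mapRingHom φ).range from rfl, RingHom.mem_range]
    change ∃ q, Polynomial.map φ q = H D p i f
    rw [← mem_lifts]
    refine (lifts_iff_coeff_lifts _).2 fun n => ?_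
    rw [H, RingHom.comp_apply, coe_compRingHom_apply, comp_C_mul_X_coeff]
    rcases Nat.eq_zero_or_pos n with rfl | hn
    · exact ⟨ev (1 : 𝟙_ _ ⟶ G) f, by rw [← hone, pow_zero, _root_.mul_one, coeff_zero_eq_eval_zero]⟩
    · obtain ⟨d, hd⟩ := Nat.exists_eq_add_of_le (hi.trans (Nat.le_mul_of_pos_right i hn))
      refine ⟨(IsLocalization.integerNormalization (nonZeroDivisors R) (D.χ f)).coeff n * (↑ε⁻¹ * p ^ d), ?_⟩
      have h1 := congrArg (fun q => q.coeff n) hN
      simp only [coeff_map] at h1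
      rw [coeff_smul, Algebra.smul_def] at h1
      have hεε : φ (ε : R) * φ ↑ε⁻¹ = 1 := by rw [← map_mul, Units.mul_inv, map_one]
      rw [map_mul, h1, ← pow_mul, hd, pow_add, map_mul, map_mul, map_pow, map_pow]
      linear_combination (φ p ^ (j + d) * (D.χ f).coeff n) * hεε
  choose J hJ using key
  have hft : (str G).FiniteType := RingHom.FiniteType.comp
    (HasRingHomProperty.appTop @LocallyOfFiniteType G.hom inferInstance)
    (RingHom.FiniteType.of_surjective _
      (ConcreteCategory.bijective_of_isIso (Scheme.ΓSpecIso (CommRingCat.of R)).inv).2)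
  algebraize [str G]
  obtain ⟨T, hT⟩ := (inferInstance : Algebra.FiniteType R Γ(G.left, ⊤)).out
  refine ⟨T.sup J, fun f => ?_⟩
  have hle : Algebra.adjoin R (T : Set Γ(G.left, ⊤)) ≤
      { Subring.comap (H D p (T.sup J)) rg with
        algebraMap_mem' := fun r => ⟨C r, by
          change Polynomial.map φ (C r) = H D p (T.sup J) (str G r)
          rw [H, RingHom.comp_apply, D.χ_str, coe_compRingHom_apply, C_comp, map_C]⟩ } :=
    Algebra.adjoin_le fun x hx => hJ x _ (Finset.le_sup hx)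
  exact hle (hT ▸ Algebra.mem_top)

theorem exists_hom_of_good {p : R} {j : ℕ} (hj : Good D p j) :
    ∃ h : Γ(G.left, ⊤) →+* R[X], (∀ f, (h f).map (algebraMap R K) = H D p j f) ∧
      (∀ r, h (str G r) = C r) ∧ h D.τ = C (p ^ j) * Polynomial.X := by
  let m := mapRingHom (algebraMap R K)
  have hm : Function.Injective m := Polynomial.map_injective _ (IsFractionRing.injective R K)
  let ε := RingEquiv.ofBijective m.rangeRestrict
    ⟨fun a b hab => hm (congrArg Subtype.val hab), m.rangeRestrict_surjective⟩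
  let h : Γ(G.left, ⊤) →+* R[X] := ε.symm.toRingHom.comp ((H D p j).codRestrict m.range hj)
  have hh : ∀ f, m (h f) = H D p j f := fun f => congrArg Subtype.val (ε.apply_symm_apply _)
  refine ⟨h, hh, fun r => hm ((hh _).trans ?_), hm ((hh _).trans ?_)⟩
  · simp [H, m, D.χ_str]
  · simp [H, m, D.χ_τ]

theorem exists_point_of_good {p : R} {j : ℕ} (hj : Good D p j) (u : R) :
    ∃ g : 𝟙_ (Over (Spec (CommRingCat.of R))) ⟶ G, ev g D.τ = p ^ j * u := by
  obtain ⟨h, -, hs, hτ⟩ := exists_hom_of_good D hj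
  obtain ⟨g, hg⟩ := exists_section (X := G) ((evalRingHom u).comp h) fun r => by simp [hs]
  exact ⟨g, by simp [hg, hτ]⟩

theorem red_eq_one {p : R} (hp : Irreducible p) {j : ℕ} (hj : Good D p j)
    (g : 𝟙_ (Over (Spec (CommRingCat.of R))) ⟶ G) (hg : p ^ (j + 1) ∣ ev g D.τ) :
    red (IsLocalRing.residue R) g = 1 := by
  obtain ⟨u, hu⟩ := hg
  obtain ⟨h, hh, -, -⟩ := exists_hom_of_good D hj
  have := isAffine_bc (G := G) (IsLocalRing.residue R)
  refine ev_ext fun b => ?_
  obtain ⟨f, rfl⟩ := bc_surjective _ G IsLocalRing.residue_surjective b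
  rw [← map_one (red (IsLocalRing.residue R) (G := G)), ev_red, ev_red, ← sub_eq_zero, ← map_sub,
    GmPoly.residue_eq_zero_iff_dvd hp]
  have he : ∀ g u, ev g D.τ = p ^ j * u → ev g f = (h f).eval u := fun g u hu =>
    IsFractionRing.injective R K (by rw [← eval_H D p j g u hu f, ← hh, eval_map, eval₂_hom])
  rw [he g (p * u) (by rw [hu, pow_succ, _root_.mul_assoc]), he 1 0 (by rw [ev_τ_one, mul_zero])]
  exact (dvd_mul_right p u).trans (by simpa using sub_dvd_eval_sub (p * u) 0 (h f))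

theorem finite_residues {p : R} (hp : Irreducible p) {j : ℕ} (hj : ¬ Good D p j) :
    {w : IsLocalRing.ResidueField R | ∃ g u, ev g D.τ = p ^ j * u ∧ IsLocalRing.residue R u = w}.Finite := by
  classical
  unfold Good at hj
  push_neg at hj
  obtain ⟨f, hf⟩ := hj
  have hex : ∃ n : ℕ, C (algebraMap R K p ^ n) * H D p j f ∈ (mapRingHom (algebraMap R K)).range := by
    obtain ⟨b, hb, hN⟩ := IsLocalization.integerNormalization_spec (nonZeroDivisors R) (H D p j f)
    obtain ⟨n, ε, rfl⟩ := IsDiscreteValuationRing.eq_unit_mul_pow_irreducible (nonZeroDivisors.ne_zero hb) hp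
    refine ⟨n, C (↑ε⁻¹ : R) * IsLocalization.integerNormalization (nonZeroDivisors R) (H D p j f), ?_⟩
    rw [map_mul, coe_mapRingHom, map_C, hN, Algebra.smul_def, IsScalarTower.algebraMap_apply R K K[X],
      Polynomial.algebraMap_eq, ← _root_.mul_assoc, ← C_mul, ← map_mul, Units.inv_mul_cancel_left, map_pow]
  obtain ⟨N, hN⟩ := Nat.find_spec hex
  rcases Nat.eq_zero_or_pos (Nat.find hex) with h0 | h0
  · exact absurd ⟨N, by rw [hN, h0, pow_zero, C_1, _root_.one_mul]⟩ hf
  have hne : N.map (IsLocalRing.residue R) ≠ 0 := by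
    intro hz
    obtain ⟨N', rfl⟩ : C p ∣ N := (C_dvd_iff_dvd_coeff _ _).2 fun i => by
      rw [← GmPoly.residue_eq_zero_iff_dvd hp, ← coeff_map, hz, coeff_zero]
    refine Nat.find_min hex (Nat.sub_lt h0 one_pos) ⟨N', mul_left_cancel₀
      (C_ne_zero.2 ((map_ne_zero_iff _ (IsFractionRing.injective R K)).2 hp.ne_zero)) ?_⟩
    rw [map_mul, coe_mapRingHom, map_C] at hN
    rw [coe_mapRingHom, hN, ← _root_.mul_assoc, ← C_mul, ← pow_succ', show Nat.find hex - 1 + 1 = Nat.find hex by omega]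
  refine ((N.map (IsLocalRing.residue R)).roots.toFinset.finite_toSet).subset ?_
  rintro w ⟨g, u, hu, rfl⟩
  rw [Finset.mem_coe, Multiset.mem_toFinset, mem_roots hne, IsRoot, eval_map, eval₂_hom,
    GmPoly.residue_eq_zero_iff_dvd hp]
  have h1 : N.eval u = p ^ Nat.find hex * ev g f := IsFractionRing.injective R K (by
    rw [← eval₂_hom, ← eval_map, map_mul, map_pow, ← eval_H D p j g u hu f]
    rw [coe_mapRingHom] at hN
    rw [hN, eval_mul, eval_C])
  exact h1 ▸ (dvd_pow_self p h0.ne').trans (dvd_mul_right _ _)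

theorem finite_classes {p : R} (hp : Irreducible p) (n : ℕ) (hn : ∀ j < n, ¬ Good D p j) :
    (Set.range fun g : 𝟙_ (Over (Spec (CommRingCat.of R))) ⟶ G =>
      Ideal.Quotient.mk (Ideal.span {p ^ n}) (ev g D.τ)).Finite := by
  induction n with
  | zero =>
    have : Subsingleton (R ⧸ Ideal.span {p ^ 0}) := Ideal.Quotient.subsingleton_iff.2 (by simp)
    exact Set.toFinite _
  | succ n ih =>
    have hfin := ih fun j hj => hn j (Nat.lt_succ_of_lt hj)
    let rep : R ⧸ Ideal.span {p ^ n} → (𝟙_ (Over (Spec (CommRingCat.of R))) ⟶ G) :=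
      Function.invFun fun g => Ideal.Quotient.mk (Ideal.span {p ^ n}) (ev g D.τ)
    refine ((hfin.prod (finite_residues D hp (hn n n.lt_succ_self))).image fun x =>
      Ideal.Quotient.mk (Ideal.span {p ^ (n + 1)})
        (ev (rep x.1) D.τ + p ^ n * Function.surjInv IsLocalRing.residue_surjective x.2)).subset ?_
    rintro _ ⟨g, rfl⟩
    let c := Ideal.Quotient.mk (Ideal.span {p ^ n}) (ev g D.τ)
    have hrep : Ideal.Quotient.mk (Ideal.span {p ^ n}) (ev (rep c) D.τ) = c :=
      Function.invFun_eq (f := fun g => Ideal.Quotient.mk (Ideal.span {p ^ n}) (ev g D.τ)) ⟨g, rfl⟩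
    obtain ⟨u, hu⟩ := Ideal.mem_span_singleton.1 (Ideal.Quotient.eq.1 hrep.symm)
    refine ⟨(c, IsLocalRing.residue R u), ⟨⟨g, rfl⟩, g * (rep c)⁻¹, u, ?_, rfl⟩, ?_⟩
    · have h := ev_τ_mul D (g * (rep c)⁻¹) (rep c)
      rw [inv_mul_cancel_right] at h
      linear_combination hu - h
    · refine Ideal.Quotient.eq.2 (Ideal.mem_span_singleton.2 ?_)
      have h1 : p ∣ Function.surjInv IsLocalRing.residue_surjective (IsLocalRing.residue R u) - u := by
        rw [← GmPoly.residue_eq_zero_iff_dvd hp, map_sub, Function.surjInv_eq IsLocalRing.residue_surjective,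
          sub_self]
      obtain ⟨d, hd⟩ := h1
      exact ⟨d, by rw [pow_succ]; linear_combination p ^ n * hd - hu⟩

end Groth.Agent.Lib.Flat55.GaComponent
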