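import Groth.Prelude.Def_Red2
import Groth.Agent.Lib.RedPts.BC
import Groth.Agent.Lib.RedPts.Ga

/-!
# Affine schemes over `Spec R` whose coordinate ring is `R[X]`, and affine base changes

* `bijective_eval_of_iso_Ga`: if `P ≅ 𝔾_a` then `Γ(P) = R[t]` with `t` the coordinate.
* `exists_iso_Ga_of_bijective`: if `Γ(X) = R[s]` with `X` affine then the point `s` is an
  isomorphism `X ≅ 𝔾_a`.
* `bc_injective_and_surj`: functions on the generic fibre of a flat affine scheme.
* `bc_surjective`, `bc_ker`: functions on a closed fibre of an affine scheme.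
-/

set_option autoImplicit false
universe u

open CategoryTheory MonoidalCategory CartesianMonoidalCategory MonObj GrpObj AlgebraicGeometry
open Limits Polynomial
open Groth.Agent.Lib.RedPts

namespace Groth.Agent.Lib.Flat55.GaModel

variable {R : Type u} [CommRing R]

/-- The structure map on global functions. -/
noncomputable def str (X : Over (Spec (CommRingCat.of R))) : R →+* Γ(X.left, ⊤) :=
  X.hom.appTop.hom.comp (Scheme.ΓSpecIso (CommRingCat.of R)).inv.hom

theorem appTop_str {X Y : Over (Spec (CommRingCat.of R))} (g : X ⟶ Y) (r : R) :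
    g.left.appTop (str Y r) = str X r := by
  simp only [str, ← Over.w g, Scheme.Hom.comp_appTop, CommRingCat.hom_comp, RingHom.comp_apply]

theorem hom_ext {X T : Over (Spec (CommRingCat.of R))} [IsAffine X.left] {g g' : T ⟶ X}
    (h : g.left.appTop = g'.left.appTop) : g = g' :=
  Over.OverMorphism.ext (ext_of_isAffine h)

theorem exists_hom {X T : Over (Spec (CommRingCat.of R))} [IsAffine X.left]
    (h : Γ(X.left, ⊤) →+* Γ(T.left, ⊤)) (hh : h.comp (str X) = str T) :
    ∃ g : T ⟶ X, g.left.appTop = CommRingCat.ofHom h := by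
  let l : T.left ⟶ X.left := T.left.toSpecΓ ≫ Spec.map (CommRingCat.ofHom h) ≫ X.left.isoSpec.inv
  have hl : l.appTop = CommRingCat.ofHom h := by
    have h0 := congrArg Scheme.Hom.appTop X.left.isoSpec.hom_inv_id
    rw [Scheme.Hom.comp_appTop, show X.left.isoSpec.hom = X.left.toSpecΓ from rfl,
      Scheme.toSpecΓ_appTop] at h0
    simp only [l, Scheme.Hom.comp_appTop, Scheme.toSpecΓ_appTop, Category.assoc,
      Scheme.ΓSpecIso_naturality]
    exact (reassoc_of% h0) _ |>.trans (by simp)
  refine ⟨Over.homMk l (ext_of_isAffine ?_), hl⟩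
  rw [Scheme.Hom.comp_appTop, hl, ← cancel_epi (Scheme.ΓSpecIso (CommRingCat.of R)).inv]
  exact CommRingCat.hom_ext hh

theorem str_spec {C : Type u} [CommRing C] (τ : R →+* C) (r : R) :
    (Scheme.ΓSpecIso (CommRingCat.of C)).hom
      (str (Over.mk (Spec.map (CommRingCat.ofHom τ))) r) = τ r := by
  change ((Scheme.ΓSpecIso (CommRingCat.of R)).inv ≫ (Spec.map (CommRingCat.ofHom τ)).appTop ≫
    (Scheme.ΓSpecIso (CommRingCat.of C)).hom) r = _
  rw [Scheme.ΓSpecIso_naturality, Iso.inv_hom_id_assoc]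
  rfl

theorem bijective_eval_of_iso_Ga {P : Over (Spec (CommRingCat.of R))} [IsAffine P.left]
    (e : P ≅ Red.Ga (Spec (CommRingCat.of R))) :
    Function.Bijective (eval₂RingHom (str P) (Red.gaFn e.hom)) := by
  let ψ : R[X] →+* Γ(P.left, ⊤) := eval₂RingHom (str P) (Red.gaFn e.hom)
  let T : Over (Spec (CommRingCat.of R)) := Over.mk (Spec.map (CommRingCat.ofHom (C : R →+* R[X])))
  let σ := Scheme.ΓSpecIso (CommRingCat.of R[X])
  let g : T ⟶ P := Ga.gaPt (σ.inv (Polynomial.X : R[X])) ≫ e.inv
  let χ : Γ(P.left, ⊤) →+* R[X] := σ.hom.hom.comp g.left.appTop.hom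
  have hχ0 : ∀ r, χ (str P r) = C r := fun r =>
    (congrArg σ.hom (appTop_str g r)).trans (str_spec (C : R →+* R[X]) r)
  have hχX : χ (Red.gaFn e.hom) = Polynomial.X := by
    have h1 : g.left.appTop (Red.gaFn e.hom) = σ.inv (Polynomial.X : R[X]) := by
      rw [← Ga.gaFn_comp]
      simp [g]
    change σ.hom (g.left.appTop (Red.gaFn e.hom)) = _
    rw [h1]
    exact Iso.inv_hom_id_apply σ _
  have hψC : ∀ r, ψ (C r) = str P r := fun r => eval₂_C _ _
  have h1 : χ.comp ψ = RingHom.id _ := by
    refine Polynomial.ringHom_ext (fun r => ?_) ?_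
    · exact (congrArg χ (hψC r)).trans (hχ0 r)
    · exact (congrArg χ (eval₂_X _ _)).trans hχX
  have h2 : ψ.comp χ = RingHom.id _ := by
    obtain ⟨g', hg'⟩ := exists_hom (X := P) (T := P) (ψ.comp χ) (RingHom.ext fun r => by
      simp only [RingHom.comp_apply, hχ0, hψC])
    have hid : g' = 𝟙 P := by
      rw [← cancel_mono e.hom, Category.id_comp]
      apply Ga.gaFn_injective
      rw [Ga.gaFn_comp, hg']
      change ψ (χ (Red.gaFn e.hom)) = _
      rw [hχX]
      exact eval₂_X _ _
    subst hid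
    exact (congrArg CommRingCat.Hom.hom hg').symm.trans (by simp)
  exact ⟨Function.LeftInverse.injective (g := χ) fun x => RingHom.congr_fun h1 x,
    Function.RightInverse.surjective (g := χ) fun x => RingHom.congr_fun h2 x⟩

theorem exists_iso_Ga_of_bijective {X : Over (Spec (CommRingCat.of R))} [IsAffine X.left]
    (s : Γ(X.left, ⊤)) (hb : Function.Bijective (eval₂RingHom (str X) s)) :
    ∃ e : X ≅ Red.Ga (Spec (CommRingCat.of R)), e.hom = Ga.gaPt s := by
  let T := Red.Ga (Spec (CommRingCat.of R))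
  let ε := RingEquiv.ofBijective _ hb
  let coord : Γ(T.left, ⊤) := Red.gaFn (𝟙 T)
  let h : Γ(X.left, ⊤) →+* Γ(T.left, ⊤) :=
    (eval₂RingHom (str T) coord).comp ε.symm.toRingHom
  have hC : ∀ r, ε.symm (str X r) = C r := fun r => by
    rw [RingEquiv.symm_apply_eq]; exact (eval₂_C _ _).symm
  have hX : ε.symm s = Polynomial.X := by
    rw [RingEquiv.symm_apply_eq]; exact (eval₂_X _ _).symm
  have hhs : h s = coord := by simp [h, hX]
  obtain ⟨y, hy⟩ := exists_hom (X := X) (T := T) h (RingHom.ext fun r => by simp [h, hC])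
  refine ⟨⟨Ga.gaPt s, y, ?_, ?_⟩, rfl⟩
  · apply hom_ext
    apply CommRingCat.hom_ext
    refine RingHom.ext fun a => ?_
    obtain ⟨p, rfl⟩ := hb.surjective a
    simp only [Over.comp_left, Scheme.Hom.comp_appTop, Over.id_left, Scheme.Hom.id_appTop]
    change (Ga.gaPt s).left.appTop (y.left.appTop _) = eval₂RingHom (str X) s p
    have key : ((Ga.gaPt s).left.appTop.hom.comp y.left.appTop.hom).comp
        (eval₂RingHom (str X) s) = eval₂RingHom (str X) s := by
      refine Polynomial.ringHom_ext (fun r => ?_) ?_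
      · simp only [RingHom.comp_apply, coe_eval₂RingHom, eval₂_C]
        exact (congrArg (Ga.gaPt s).left.appTop (appTop_str y r)).trans (appTop_str _ r)
      · simp only [RingHom.comp_apply, coe_eval₂RingHom, eval₂_X]
        rw [hy]
        change (Ga.gaPt s).left.appTop (h s) = s
        rw [hhs, ← Ga.gaFn_comp, Category.comp_id, Ga.gaFn_gaPt]
    exact RingHom.congr_fun key p
  · apply Ga.gaFn_injective
    rw [Ga.gaFn_comp, Ga.gaFn_gaPt, hy]
    exact hhs

section BaseChange

variable {K : Type u} [CommRing K] (φ : R →+* K) (X : Over (Spec (CommRingCat.of R)))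

/-- Pulling back functions to a base change. -/
noncomputable def bcι : Γ(X.left, ⊤) →+* Γ((Red.bc (Spec.map (CommRingCat.ofHom φ)) X).left, ⊤) :=
  (pullback.fst X.hom (Spec.map (CommRingCat.ofHom φ))).appTop.hom

theorem bcι_str (r : R) :
    bcι φ X (str X r) = str (Red.bc (Spec.map (CommRingCat.ofHom φ)) X) (φ r) := by
  have h := congrArg Scheme.Hom.appTop
    (pullback.condition (f := X.hom) (g := Spec.map (CommRingCat.ofHom φ)))
  simp only [Scheme.Hom.comp_appTop] at h
  have h2 := congrArg (fun k => ((Scheme.ΓSpecIso (CommRingCat.of R)).inv ≫ k) r) h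
  rw [← Scheme.ΓSpecIso_inv_naturality_assoc] at h2
  exact h2

theorem isPushout_bc [IsAffine X.left] :
    IsPushout (CommRingCat.ofHom (str X)) (CommRingCat.ofHom φ) (CommRingCat.ofHom (bcι φ X))
      (CommRingCat.ofHom (str (Red.bc (Spec.map (CommRingCat.ofHom φ)) X))) := by
  have h := isPushout_appTop_of_isPullback
    (IsPullback.of_hasPullback X.hom (Spec.map (CommRingCat.ofHom φ)))
  refine h.of_iso (Scheme.ΓSpecIso _) (Iso.refl _) (Scheme.ΓSpecIso _) (Iso.refl _) ?_ ?_ ?_ ?_
  · change _ = _ ≫ ((Scheme.ΓSpecIso (CommRingCat.of R)).inv ≫ X.hom.appTop)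
    simp
  · exact (Scheme.ΓSpecIso_naturality (CommRingCat.ofHom φ))
  · simp only [Iso.refl_hom, Category.comp_id, Category.id_comp]
    rfl
  · change _ = _ ≫ ((Scheme.ΓSpecIso (CommRingCat.of K)).inv ≫
      (pullback.snd X.hom (Spec.map (CommRingCat.ofHom φ))).appTop)
    simp

theorem bc_surjective [IsAffine X.left] (hφ : Function.Surjective φ) :
    Function.Surjective (bcι φ X) := by
  have : IsClosedImmersion (Spec.map (CommRingCat.ofHom φ)) :=
    IsClosedImmersion.spec_of_surjective _ hφ
  exact (IsClosedImmersion.isAffine_surjective_of_isAffine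
    (f := pullback.fst X.hom (Spec.map (CommRingCat.ofHom φ)))).2

theorem bc_ker [IsAffine X.left] (hφ : Function.Surjective φ) :
    RingHom.ker (bcι φ X) = (RingHom.ker φ).map (str X) := by
  refine le_antisymm (fun a ha => ?_) ?_
  · let I := (RingHom.ker φ).map (str X)
    let q := (Ideal.Quotient.mk I).comp (str X)
    have hq : RingHom.ker φ ≤ RingHom.ker q := fun r hr =>
      Ideal.Quotient.eq_zero_iff_mem.2 (Ideal.mem_map_of_mem _ hr)
    let d := (isPushout_bc φ X).desc (CommRingCat.ofHom (Ideal.Quotient.mk I))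
      (CommRingCat.ofHom (φ.liftOfSurjective hφ ⟨q, hq⟩)) (CommRingCat.hom_ext (RingHom.ext fun r => by
        simp [q, RingHom.liftOfSurjective_comp_apply]))
    have h := congrArg (fun k => k.hom a) ((isPushout_bc φ X).inl_desc
      (CommRingCat.ofHom (Ideal.Quotient.mk I))
      (CommRingCat.ofHom (φ.liftOfSurjective hφ ⟨q, hq⟩)) (CommRingCat.hom_ext (RingHom.ext fun r => by
        simp [q, RingHom.liftOfSurjective_comp_apply])))
    refine Ideal.Quotient.eq_zero_iff_mem.1 (h.symm.trans ?_)
    change d (bcι φ X a) = 0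
    rw [RingHom.mem_ker.1 ha, map_zero]
  · rw [Ideal.map_le_iff_le_comap]
    intro r hr
    rw [Ideal.mem_comap, RingHom.mem_ker, bcι_str, RingHom.mem_ker.1 hr, map_zero]

end BaseChange

section Generic

variable [IsDomain R] (K : Type u) [Field K] [Algebra R K] [IsFractionRing R K]
  (X : Over (Spec (CommRingCat.of R))) [IsAffine X.left] [Flat X.hom]

omit [IsDomain R] in
theorem str_flat : (str X).Flat := by
  have h : X.hom.appTop.hom.Flat := HasRingHomProperty.appTop @Flat X.hom inferInstance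
  exact RingHom.Flat.comp (RingHom.Flat.of_bijective
    (ConcreteCategory.bijective_of_isIso (Scheme.ΓSpecIso (CommRingCat.of R)).inv)) h

theorem str_mul_eq_zero {c : R} (hc : c ≠ 0) {a : Γ(X.left, ⊤)} (h : str X c * a = 0) : a = 0 := by
  algebraize [str X]
  have : Module.Flat R Γ(X.left, ⊤) := str_flat X
  have : c • a = 0 := h
  exact (smul_eq_zero.1 this).resolve_left hc

theorem bc_injective_and_surj :
    Function.Injective (bcι (algebraMap R K) X) ∧
      ∀ b, ∃ c : R, c ≠ 0 ∧ ∃ a, bcι (algebraMap R K) X a =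
        bcι (algebraMap R K) X (str X c) * b := by
  let P := Red.bc (Spec.map (CommRingCat.ofHom (algebraMap R K))) X
  let B := Γ(P.left, ⊤)
  let j := bcι (algebraMap R K) X
  algebraize [str X, bcι (algebraMap R K) X, str P]
  let _ : Algebra R B := (j.comp (str X)).toAlgebra
  have : IsScalarTower R Γ(X.left, ⊤) B := IsScalarTower.of_algebraMap_eq fun r => rfl
  have : IsScalarTower R K B := IsScalarTower.of_algebraMap_eq fun r => bcι_str _ X r
  have hp : Algebra.IsPushout R Γ(X.left, ⊤) K B :=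
    CommRingCat.isPushout_iff_isPushout.1 (isPushout_bc (algebraMap R K) X)
  have hl : IsLocalization (Algebra.algebraMapSubmonoid Γ(X.left, ⊤) (nonZeroDivisors R)) B :=
    (Algebra.isLocalization_iff_isPushout (nonZeroDivisors R) K).2 hp
  refine ⟨IsLocalization.injective B (M := Algebra.algebraMapSubmonoid Γ(X.left, ⊤)
    (nonZeroDivisors R)) ?_, fun b => ?_⟩
  · rintro _ ⟨c, hc, rfl⟩
    refine mem_nonZeroDivisors_iff_right.2 fun a ha => ?_
    exact str_mul_eq_zero X (nonZeroDivisors.ne_zero hc) ((mul_comm _ _).trans ha)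
  · obtain ⟨⟨a, ⟨_, c, hc, rfl⟩⟩, h⟩ :=
      IsLocalization.surj (Algebra.algebraMapSubmonoid Γ(X.left, ⊤) (nonZeroDivisors R)) b
    exact ⟨c, nonZeroDivisors.ne_zero hc, a, h.symm.trans (mul_comm _ _)⟩

end Generic

end Groth.Agent.Lib.Flat55.GaModel
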