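import Groth.Agent.S0414
import Mathlib.AlgebraicGeometry.Morphisms.UniversallyOpen
import Mathlib.AlgebraicGeometry.Morphisms.QuasiSeparated
import Mathlib.AlgebraicGeometry.Fiber
import Mathlib.AlgebraicGeometry.Noetherian
import Mathlib.AlgebraicGeometry.IdealSheaf.Functorial

/-!
# Finite type morphisms are quasi-separated over a dense open of an integral base
-/

set_option autoImplicit false

universe u

open CategoryTheory CategoryTheory.Limits AlgebraicGeometry TopologicalSpace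

namespace Groth.Agent.Lib.Flat55.GenericQS

variable {X Y : Scheme.{u}} (q : X ⟶ Y) [IsIntegral Y] [LocallyOfFiniteType q] [QuasiCompact q]

/-- Subsets of the generic fibre are compact. -/
theorem isCompact_of_subset_fibre (S : Set X) (hS : S ⊆ q ⁻¹' {genericPoint Y}) : IsCompact S := by
  have : LocallyOfFiniteType (q.fiberToSpecResidueField (genericPoint Y)) :=
    MorphismProperty.pullback_snd _ _ ‹_›
  have : IsLocallyNoetherian (q.fiber (genericPoint Y)) :=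
    LocallyOfFiniteType.isLocallyNoetherian (q.fiberToSpecResidueField (genericPoint Y))
  have : IsNoetherian (q.fiber (genericPoint Y)) := { }
  have h : S = q.fiberι (genericPoint Y) '' (q.fiberι (genericPoint Y) ⁻¹' S) := by
    rw [Set.image_preimage_eq_inter_range, q.range_fiberι, Set.inter_eq_left.2 hS]
  rw [h]
  exact (NoetherianSpace.isCompact _).image (q.fiberι _).continuous

/-- Over a dense open an open subset of an affine open is quasi-compact. -/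
theorem exists_eq_compact [IsAffine Y] {U O : X.Opens} (hU : IsAffineOpen U) (hO : O ≤ U) :
    ∃ W : Y.Opens, Dense (W : Set Y) ∧ ∃ Q : Set X, IsOpen Q ∧ IsCompact Q ∧ Q ⊆ U ∧
      (O : Set X) ∩ q ⁻¹' W = Q ∩ q ⁻¹' W := by
  obtain ⟨𝒬, h𝒬, hcov⟩ : ∃ 𝒬 : Set X.Opens, (𝒬.Finite ∧ ∀ D ∈ 𝒬, IsAffineOpen D ∧ D ≤ O) ∧
      (O : Set X) ∩ q ⁻¹' {genericPoint Y} ⊆ ⋃ D ∈ 𝒬, (D : Set X) := by
    obtain ⟨b, hb, hbf, hsub⟩ := (isCompact_of_subset_fibre q _ (Set.inter_subset_right (s := (O : Set X)))).elim_finite_subcover_image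
      (b := {D : X.Opens | IsAffineOpen D ∧ D ≤ O}) (c := fun D => (D : Set X)) (fun D _ => D.2)
      (fun x hx => by
        obtain ⟨_, ⟨D, hD, rfl⟩, hxD, hsub⟩ := X.isBasis_affineOpens.exists_subset_of_mem_open hx.1 O.2
        exact Set.mem_biUnion (x := D) ⟨hD, hsub⟩ hxD)
    exact ⟨b, ⟨hbf, fun D hD => hb hD⟩, hsub⟩
  obtain ⟨hfin, hgood⟩ := h𝒬
  let Q : Set X := ⋃ D ∈ 𝒬, (D : Set X)
  have hQo : IsOpen Q := isOpen_biUnion fun D _ => D.2
  have hQc : IsCompact Q := hfin.isCompact_biUnion fun D hD => (hgood D hD).1.isCompact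
  have hQO : Q ⊆ O := Set.iUnion₂_subset fun D hD => (hgood D hD).2
  have : IsAffine (U : Scheme.{u}) := hU
  let C : Closeds (U : Scheme.{u}) := ⟨(U.ι ⁻¹' Q)ᶜ, (hQo.preimage U.ι.continuous).isClosed_compl⟩
  let J := Scheme.IdealSheafData.vanishingIdeal C
  have hJ : Set.range J.subschemeι = (U.ι ⁻¹' Q)ᶜ := by
    rw [Scheme.IdealSheafData.range_subschemeι, Scheme.IdealSheafData.coe_support_vanishingIdeal]
    rfl
  let g : J.subscheme ⟶ Y := J.subschemeι ≫ U.ι ≫ q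
  have : CompactSpace (U : Scheme.{u}) := isCompact_iff_compactSpace.1 hU.isCompact
  have : CompactSpace J.subscheme := QuasiCompact.compactSpace_of_compactSpace J.subschemeι
  have : QuasiSeparatedSpace (U : Scheme.{u}) := inferInstance
  have : LocallyOfFiniteType g := inferInstance
  have : QuasiCompact (U.ι ≫ q) := quasiCompact_of_compactSpace _
  have : QuasiCompact g := inferInstance
  obtain ⟨W, hW, hflat, -⟩ := Groth.Agent.S0414.result g
  refine ⟨W, hW, Q, hQo, hQc, hQO.trans hO, Set.Subset.antisymm ?_ (Set.inter_subset_inter_left _ hQO)⟩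
  rintro x ⟨hxO, hxW⟩
  refine ⟨?_, hxW⟩
  by_contra hxQ
  obtain ⟨z, hz⟩ : (⟨x, hO hxO⟩ : U) ∈ Set.range J.subschemeι := by rw [hJ]; exact hxQ
  have hzW : z ∈ g ⁻¹ᵁ W := by
    show q (U.ι (J.subschemeι z)) ∈ W
    rw [hz]; exact hxW
  have hηW : genericPoint Y ∈ W := (genericPoint_specializes _).mem_open W.2 hzW
  have hsp : (⟨genericPoint Y, hηW⟩ : W) ⤳ (g ∣_ W) ⟨z, hzW⟩ :=
    W.ι.isOpenEmbedding.isInducing.specializes_iff.1 (genericPoint_specializes _)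
  obtain ⟨z', hz', hgz'⟩ := Flat.generalizingMap (f := g ∣_ W) hsp
  let x' : X := U.ι (J.subschemeι ((g ⁻¹ᵁ W).ι z'))
  have hqx' : q x' = genericPoint Y := by
    have h := congrArg W.ι hgz'
    rw [← Scheme.Hom.comp_apply, morphismRestrict_ι] at h
    exact h
  have hx'O : x' ∈ O := by
    have hs : x' ⤳ x := by
      have := ((hz'.map (g ⁻¹ᵁ W).ι.continuous).map J.subschemeι.continuous).map U.ι.continuous
      rwa [show U.ι (J.subschemeι ((g ⁻¹ᵁ W).ι ⟨z, hzW⟩)) = x from congrArg U.ι hz] at this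
    exact hs.mem_open O.2 hxO
  have hx'Q : x' ∈ Q := hcov ⟨hx'O, hqx'⟩
  exact (hJ ▸ Set.mem_range_self ((g ⁻¹ᵁ W).ι z') : J.subschemeι ((g ⁻¹ᵁ W).ι z') ∈ (U.ι ⁻¹' Q)ᶜ) hx'Q

/-- A morphism of finite type to an integral affine scheme is quasi-separated over every small enough affine open. -/
theorem exists_quasiSeparated [IsAffine Y] :
    ∃ W : Y.Opens, Dense (W : Set Y) ∧ ∀ D : Y.Opens, IsAffineOpen D → D ≤ W → QuasiSeparated (q ∣_ D) := by
  classical
  have : CompactSpace X := QuasiCompact.compactSpace_of_compactSpace q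
  obtain ⟨T, hT⟩ := isCompact_univ.elim_finite_subcover (fun U : X.affineOpens => (U.1 : Set X))
    (fun U => U.1.2) (fun x _ => by
      obtain ⟨_, ⟨U, hU, rfl⟩, hxU, -⟩ := X.isBasis_affineOpens.exists_subset_of_mem_open (Set.mem_univ x) isOpen_univ
      exact Set.mem_iUnion.2 ⟨⟨U, hU⟩, hxU⟩)
  choose W hWd Q hQo hQc hQU hWQ using fun p : ↥T × ↥T =>
    exists_eq_compact q (O := p.1.1.1 ⊓ p.2.1.1) p.1.1.2 inf_le_left
  let W₀ : Y.Opens := Finset.univ.inf W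
  have hd : Dense (W₀ : Set Y) := by
    refine Finset.inf_induction (p := fun V : Y.Opens => Dense (V : Set Y)) dense_univ
      (fun a ha b hb => ?_) fun p _ => hWd p
    exact ha.inter_of_isOpen_left hb a.2
  refine ⟨W₀, hd, fun D hD hDW => ?_⟩
  have : IsAffine (D : Scheme.{u}) := hD
  rw [HasAffineProperty.iff_of_isAffine (P := @QuasiSeparated)]
  have haff : ∀ U : ↥T, IsAffineOpen (U.1.1 ⊓ q ⁻¹ᵁ D) := fun U => by
    have : IsAffine (U.1.1 : Scheme.{u}) := U.1.2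
    have h := (hD.preimage (U.1.1.ι ≫ q)).image_of_isOpenImmersion U.1.1.ι
    rwa [Scheme.Hom.comp_preimage, Scheme.Hom.image_preimage_eq_opensRange_inf, Scheme.Opens.opensRange_ι] at h
  refine Scheme.quasiSeparatedSpace_of_isOpenCover (fun U : ↥T => (q ⁻¹ᵁ D).ι ⁻¹ᵁ U.1.1) ?_ (fun U => ?_) fun U U' => ?_
  · refine eq_top_iff.2 fun x _ => ?_
    obtain ⟨U, hU, hx⟩ := Set.mem_iUnion₂.1 (hT (Set.mem_univ ((q ⁻¹ᵁ D).ι x)))
    exact Opens.mem_iSup.2 ⟨⟨U, hU⟩, hx⟩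
  · rw [← (q ⁻¹ᵁ D).ι.isAffineOpen_iff_of_isOpenImmersion]
    rw [Scheme.Hom.image_preimage_eq_opensRange_inf, Scheme.Opens.opensRange_ι]
    rw [inf_comm]
    exact haff U
  · rw [(q ⁻¹ᵁ D).ι.isOpenEmbedding.isInducing.isCompact_iff,
      show ((((q ⁻¹ᵁ D).ι ⁻¹ᵁ U.1.1 : (↑(q ⁻¹ᵁ D) : Scheme.{u}).Opens) : Set _) ∩ (((q ⁻¹ᵁ D).ι ⁻¹ᵁ U'.1.1 : (↑(q ⁻¹ᵁ D) : Scheme.{u}).Opens) : Set _)) =
        (q ⁻¹ᵁ D).ι ⁻¹' ((U.1.1 : Set X) ∩ U'.1.1) from rfl,
      Set.image_preimage_eq_inter_range, Scheme.Opens.range_ι]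
    show IsCompact ((U.1.1 : Set X) ∩ U'.1.1 ∩ q ⁻¹' D)
    have hle : D ≤ W (U, U') := hDW.trans (Finset.inf_le (Finset.mem_univ _))
    have : (U.1.1 : Set X) ∩ U'.1.1 ∩ q ⁻¹' D = Q (U, U') ∩ ((U.1.1 : Set X) ∩ q ⁻¹' D) := by
      ext x
      constructor
      · rintro ⟨hx, hxD⟩
        exact ⟨((Set.ext_iff.1 (hWQ (U, U')) x).1 ⟨hx, hle hxD⟩).1, hx.1, hxD⟩
      · rintro ⟨hxQ, hxU, hxD⟩
        exact ⟨((Set.ext_iff.1 (hWQ (U, U')) x).2 ⟨hxQ, hle hxD⟩).1, hxD⟩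
    rw [this]
    have h2 : IsCompact ((U.1.1 : Set X) ∩ q ⁻¹' D) := (haff U).isCompact
    exact U.1.2.isQuasiSeparated _ _ (hQU _) (hQo _) (hQc _) Set.inter_subset_left
      (U.1.1.2.inter (q.continuous.isOpen_preimage _ D.2)) h2

end Groth.Agent.Lib.Flat55.GenericQS
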