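import Groth.Agent.H47.GenericFree
import Groth.Agent.H19.FlatLocus.Model
import Mathlib.RingTheory.Ideal.MinimalPrime.Noetherian
import Mathlib.RingTheory.IsTensorProduct

/-!
# Generic flatness stratification of a module over an arbitrary ring
-/

set_option autoImplicit false

universe u

open TensorProduct

namespace Groth.Agent.Lib.Flat55.GenericStrata

attribute [local instance] Algebra.TensorProduct.rightAlgebra

/-- On the stratum `V(I) ∖ V(I')` the module is flat. -/
def Step (R M : Type u) [CommRing R] [AddCommGroup M] [Module R M] (I I' : Ideal R) : Prop :=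
  I ≤ I' ∧ I'.FG ∧ ∀ (C : Type u) [CommRing C] [Algebra R C],
    I.map (algebraMap R C) = ⊥ → I'.map (algebraMap R C) = ⊤ → Module.Flat C (C ⊗[R] M)

theorem flat_of_gf {R : Type u} [CommRing R] {M : Type u} [AddCommGroup M] [Module R M] {f : R}
    [Module.Free (Localization.Away f) (Localization.Away f ⊗[R] M)] (C : Type u) [CommRing C]
    [Algebra R C] (h : IsUnit (algebraMap R C f)) : Module.Flat C (C ⊗[R] M) := by
  let φ : Localization.Away f →+* C := IsLocalization.Away.lift f h
  let : Algebra (Localization.Away f) C := φ.toAlgebra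
  have : IsScalarTower R (Localization.Away f) C :=
    IsScalarTower.of_algebraMap_eq fun r => (IsLocalization.Away.lift_eq f h r).symm
  exact Module.Flat.of_linearEquiv
    (AlgebraTensorModule.cancelBaseChange R (Localization.Away f) C C M).symm

variable {R₀ M₀ : Type u} [CommRing R₀] [AddCommGroup M₀] [Module R₀ M₀]

section Noetherian

variable (S₀ : Type u) [CommRing S₀] [Algebra R₀ S₀]
  [Module S₀ M₀] [IsScalarTower R₀ S₀ M₀] [Algebra.FiniteType R₀ S₀] [Module.Finite S₀ M₀]

include S₀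

/-- Generic flatness over an irreducible component. -/
theorem exists_flat_on_prime (p : Ideal R₀) [p.IsPrime] [IsNoetherianRing R₀] :
    ∃ f : R₀, f ∉ p ∧ ∀ (C : Type u) [CommRing C] [Algebra R₀ C],
      p.map (algebraMap R₀ C) = ⊥ → IsUnit (algebraMap R₀ C f) → Module.Flat C (C ⊗[R₀] M₀) := by
  let Rb := R₀ ⧸ p
  let C₀ := Rb ⊗[R₀] S₀
  have : IsNoetherianRing Rb := isNoetherianRing_of_surjective R₀ Rb (Ideal.Quotient.mk p) Ideal.Quotient.mk_surjective
  let N := C₀ ⊗[S₀] M₀
  have h1 : H47.GenericFree.GF Rb N := H47.GenericFree.gf_of_finiteType C₀ N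
  have h2 : H47.GenericFree.GF Rb (Rb ⊗[R₀] M₀) :=
    H47.GenericFree.GF.of_equiv (Algebra.IsPushout.cancelBaseChange R₀ Rb S₀ C₀ M₀) h1
  obtain ⟨fb, hfb, hfree⟩ := h2
  obtain ⟨f, rfl⟩ := Ideal.Quotient.mk_surjective fb
  refine ⟨f, fun hf => hfb (Ideal.Quotient.eq_zero_iff_mem.2 hf), fun C _ _ hp hu => ?_⟩
  have hle : p ≤ RingHom.ker (algebraMap R₀ C) := fun x hx =>
    RingHom.mem_ker.2 ((Submodule.mem_bot C).1 (hp ▸ Ideal.mem_map_of_mem _ hx))
  let : Algebra Rb C := (Ideal.Quotient.lift p (algebraMap R₀ C) fun x hx => hle hx).toAlgebra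
  have : IsScalarTower R₀ Rb C := IsScalarTower.of_algebraMap_eq fun r => rfl
  have hu' : IsUnit (algebraMap Rb C (Ideal.Quotient.mk p f)) := hu
  have := flat_of_gf C hu' (M := Rb ⊗[R₀] M₀)
  exact Module.Flat.of_linearEquiv (AlgebraTensorModule.cancelBaseChange R₀ Rb C C M₀).symm

/-- Over a Noetherian ring there is a stratification with flat strata. -/
theorem exists_chain_noetherian [IsNoetherianRing R₀] (I : Ideal R₀) :
    Relation.ReflTransGen (Step R₀ M₀) I ⊤ := by
  induction I using IsWellFounded.induction (α := Ideal R₀) (· > ·) with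
  | ind I ih =>
  by_cases hI : I = ⊤
  · rw [hI]
  by_cases hrad : I.radical = I
  swap
  · refine Relation.ReflTransGen.head ⟨Ideal.le_radical, IsNoetherian.noetherian _, fun C _ _ h1 h2 => ?_⟩
      (ih _ (lt_of_le_of_ne Ideal.le_radical (Ne.symm hrad)))
    obtain ⟨n, hn⟩ := I.exists_radical_pow_le_of_fg (IsNoetherian.noetherian _)
    have : (1 : C) = 0 := by
      have h3 := Ideal.map_mono (f := algebraMap R₀ C) hn
      rw [Ideal.map_pow, h2, h1, Ideal.top_pow, top_le_iff] at h3
      exact (Submodule.mem_bot C).1 (h3.symm ▸ trivial)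
    have : Subsingleton C := subsingleton_of_zero_eq_one this.symm
    have : Subsingleton (C ⊗[R₀] M₀) := Module.subsingleton C _
    infer_instance
  obtain ⟨⟨p, hp⟩⟩ := Ideal.nonempty_minimalPrimes hI
  have := hp.1.1
  have hfin := Ideal.finite_minimalPrimes_of_isNoetherianRing R₀ I
  have hsep : ∀ q ∈ I.minimalPrimes, q ≠ p → ∃ g, g ∈ q ∧ g ∉ p := fun q hq hne => by
    by_contra! hle
    exact hne (le_antisymm hle (hp.2 hq.1 hle))
  choose! g hgq hgp using hsep
  classical
  let G := ∏ q ∈ hfin.toFinset.erase p, g q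
  have hGp : G ∉ p := fun hG => by
    obtain ⟨q, hq, hgq'⟩ := (Ideal.IsPrime.prod_mem_iff (p := p)).1 hG
    exact hgp q (hfin.mem_toFinset.1 (Finset.mem_of_mem_erase hq)) (Finset.ne_of_mem_erase hq) hgq'
  obtain ⟨f, hf, hflat⟩ := exists_flat_on_prime (M₀ := M₀) S₀ p
  have hmem : G * f ∉ I := fun h => (Ideal.IsPrime.mem_or_mem ‹_› (hp.1.2 h)).elim hGp hf
  have hlt : I < I ⊔ Ideal.span {G * f} :=
    lt_of_le_of_ne le_sup_left fun e => hmem (e.symm.le (Ideal.mem_sup_right (Ideal.mem_span_singleton_self _)))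
  refine Relation.ReflTransGen.head ⟨le_sup_left, IsNoetherian.noetherian _, fun C _ _ h1 h2 => ?_⟩
    (ih _ hlt)
  rw [Ideal.map_sup, h1, bot_sup_eq, Ideal.map_span, Set.image_singleton,
    Ideal.span_singleton_eq_top, map_mul, IsUnit.mul_iff] at h2
  refine hflat C (eq_bot_iff.2 (Ideal.map_le_iff_le_comap.2 fun x hx => ?_)) h2.2
  rw [Ideal.mem_comap, Submodule.mem_bot]
  have hGx : G * x ∈ I := by
    rw [← hrad, ← Ideal.sInf_minimalPrimes, Submodule.mem_sInf]
    intro q hq
    by_cases hqp : q = p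
    · subst hqp; exact Ideal.mul_mem_left _ _ hx
    · exact Ideal.mul_mem_right _ _ (Ideal.prod_mem q (Finset.mem_erase.2
        ⟨hqp, hfin.mem_toFinset.2 hq⟩) (hgq q hq hqp))
  have h3 : algebraMap R₀ C (G * x) = 0 := (Submodule.mem_bot C).1 (h1 ▸ Ideal.mem_map_of_mem _ hGx)
  rw [map_mul] at h3
  exact (h2.1.mul_right_eq_zero).1 h3

end Noetherian

/-- Stratifications pull back. -/
theorem chain_map {R M : Type u} [CommRing R] [Algebra R₀ R] [AddCommGroup M] [Module R M]
    (e : M ≃ₗ[R] R ⊗[R₀] M₀) (J₀ : Ideal R) (hJ₀ : J₀.FG) {I I' : Ideal R₀}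
    (h : Relation.ReflTransGen (Step R₀ M₀) I I') :
    Relation.ReflTransGen (Step R M) (J₀ ⊔ I.map (algebraMap R₀ R)) (J₀ ⊔ I'.map (algebraMap R₀ R)) := by
  refine Relation.ReflTransGen.lift (fun I : Ideal R₀ => J₀ ⊔ I.map (algebraMap R₀ R)) (fun I I' hII' => ?_) _ _ h
  obtain ⟨hle, hfg, hflat⟩ := hII'
  refine ⟨sup_le_sup le_rfl (Ideal.map_mono hle), Submodule.FG.sup hJ₀ (Ideal.FG.map hfg _), fun C _ _ h1 h2 => ?_⟩
  let : Algebra R₀ C := ((algebraMap R C).comp (algebraMap R₀ R)).toAlgebra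
  have : IsScalarTower R₀ R C := IsScalarTower.of_algebraMap_eq fun r => rfl
  rw [Ideal.map_sup, sup_eq_bot_iff, Ideal.map_map] at h1
  rw [Ideal.map_sup, h1.1, bot_sup_eq, Ideal.map_map] at h2
  have := hflat C h1.2 h2
  exact Module.Flat.of_linearEquiv ((LinearEquiv.baseChange R C _ _ e).trans
    (AlgebraTensorModule.cancelBaseChange R₀ R C C M₀))

/-- A finitely presented module on a finitely presented algebra has a stratification of the base
with flat strata. -/
theorem exists_chain (R B M : Type u) [CommRing R] [CommRing B] [Algebra R B]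
    [Algebra.FinitePresentation R B] [AddCommGroup M] [Module B M] [Module R M] [IsScalarTower R B M]
    [Module.FinitePresentation B M] (J₀ : Ideal R) (hJ₀ : J₀.FG) :
    Relation.ReflTransGen (Step R M) J₀ ⊤ := by
  obtain ⟨R₀, _, _, S₀, _, _, _, _, _, _, M₀, _, _, _, _, _, _, F, h1, h2, h3, h4, h5, -⟩ :=
    H19.FlatLocus.Model.exists_model R B M
  have : Algebra.FiniteType R₀ S₀ := h2
  have : Module.Finite S₀ M₀ := h3
  have : IsNoetherianRing R₀ := Algebra.FiniteType.isNoetherianRing ℤ R₀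
  have : Algebra.IsPushout R₀ R S₀ B := h4
  have h := chain_map ((h5.equiv.restrictScalars R).symm.trans
    (Algebra.IsPushout.cancelBaseChange R₀ R S₀ B M₀)) J₀ hJ₀
    (exists_chain_noetherian (M₀ := M₀) S₀ (⊥ : Ideal R₀))
  rw [Ideal.map_bot, sup_bot_eq, Ideal.map_top, sup_top_eq] at h
  exact h

end Groth.Agent.Lib.Flat55.GenericStrata
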