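import Groth.Agent.Lib.Flat55.EtaleCoverConnected
import Groth.Agent.H52.FBase.ComponentsIrr
import Groth.Agent.H56.QFDense2
import Mathlib.AlgebraicGeometry.Geometrically.Irreducible
import Groth.Agent.Lib.SourceDescent.Scheme

/-!
# Finite étale base change making generic fibre components geometrically irreducible
-/

set_option autoImplicit false
set_option linter.style.haveILetI false
universe u

open CategoryTheory CategoryTheory.Limits AlgebraicGeometry TopologicalSpace

namespace Groth.Agent.Lib.Flat55.GeomIrredModel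

attribute [local instance] Curv2.resAlgebra

/-- A maximal point over which an étale (or flat quasi-finite) affine piece gets shrunk to an irreducible one. -/
theorem exists_irreducible_nhd {U Y : Scheme.{u}} (g : U ⟶ Y) [Flat g] [LocallyQuasiFinite g]
    [LocallyOfFiniteType g] [QuasiCompact g] [IrreducibleSpace ↥Y] (w : U) (hw : g w = genericPoint ↥Y) :
    ∃ W : U.Opens, IsAffineOpen W ∧ w ∈ W ∧ (W : Set U) ⊆ closure {w} := by
  have hmax : ∀ a b : U, g b = genericPoint ↥Y → a ⤳ b → a = b := fun a b hb hab => by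
    have ha : g a = genericPoint ↥Y := by
      have := hab.map g.continuous
      rw [hb] at this
      exact (this.antisymm (genericPoint_specializes (g a))).eq
    haveI := (g.isDiscrete_preimage_singleton (genericPoint ↥Y)).to_subtype
    exact congrArg Subtype.val (((subtype_specializes_iff
      (⟨a, ha⟩ : g ⁻¹' {genericPoint ↥Y}) ⟨b, hb⟩).2 hab).eq)
  let F : Set U := g ⁻¹' {genericPoint ↥Y} \ {w}
  have hF : F.Finite := (g.finite_preimage_singleton _).subset Set.sdiff_subset
  have hcl : closure F = ⋃ a ∈ F, closure ({a} : Set U) := by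
    conv_lhs => rw [← Set.biUnion_of_singleton F]
    exact hF.closure_biUnion _
  have hwF : w ∉ closure F := by
    rw [hcl]
    simp only [Set.mem_iUnion, not_exists]
    rintro a ⟨ha, hne⟩ h
    exact hne (hmax a w hw (specializes_iff_mem_closure.2 h))
  obtain ⟨W, hW, hwW, hWle⟩ := exists_isAffineOpen_mem_and_subset
    (show w ∈ (⟨(closure F)ᶜ, isClosed_closure.isOpen_compl⟩ : U.Opens) from hwF)
  refine ⟨W, hW, hwW, fun a ha => ?_⟩
  obtain ⟨b, hba, hb⟩ := (Flat.generalizingMap g) (genericPoint_specializes (g a))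
  have hbW : b ∈ W := hba.mem_open W.isOpen ha
  have : b = w := by
    by_contra hne
    exact hWle hbW (subset_closure ⟨hb, hne⟩)
  exact specializes_iff_mem_closure.1 (this ▸ hba)

theorem result {X Y : Scheme.{u}} (f : X ⟶ Y) [IrreducibleSpace ↑Y] [LocallyOfFiniteType f] [QuasiCompact f] :
    ∃ (V : Y.Opens) (Y' : Scheme.{u}) (g : Y' ⟶ (V : Scheme.{u})) (hY' : IrreducibleSpace ↑Y'), (V : Set ↑Y).Nonempty ∧ IsAffine Y' ∧ Surjective g ∧ IsFinite g ∧ Etale g ∧
      ∀ (Z : Set ↑((pullback.snd f (g ≫ V.ι)).fiber (genericPoint ↑Y'))) (hZ : Z ∈ irreducibleComponents ↑((pullback.snd f (g ≫ V.ι)).fiber (genericPoint ↑Y'))),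
        GeometricallyIrreducible ((Scheme.IdealSheafData.vanishingIdeal (⟨Z, isClosed_of_mem_irreducibleComponents Z hZ⟩ : TopologicalSpace.Closeds _)).subschemeι ≫
          (pullback.snd f (g ≫ V.ι)).fiberToSpecResidueField (genericPoint ↑Y')) := by
  classical
  let η := genericPoint ↥Y
  let π := f.fiberToSpecResidueField η
  haveI : LocallyOfFiniteType π := MorphismProperty.pullback_snd _ _ inferInstance
  haveI : QuasiCompact π := MorphismProperty.pullback_snd _ _ inferInstance
  let k := Y.residueField η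
  letI : (f.fiber η).Over (Spec (CommRingCat.of k)) := ⟨π⟩
  haveI : LocallyOfFiniteType (f.fiber η ↘ Spec (CommRingCat.of k)) := ‹LocallyOfFiniteType π›
  haveI : IsLocallyNoetherian (f.fiber η) := LocallyOfFiniteType.isLocallyNoetherian π
  haveI : CompactSpace (f.fiber η) := QuasiCompact.compactSpace_of_compactSpace π
  haveI : IsNoetherian (f.fiber η) := {}
  haveI : Finite (irreducibleComponents (f.fiber η)) := NoetherianSpace.finite_irreducibleComponents.to_subtype
  obtain ⟨E, hE, hirr⟩ := H52.FBase.ComponentsIrr.exists_finite_separable k (f.fiber η)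
    fun Z hZ => S1654.finiteDimensional_separableClosure k (f.fiber η) _
  haveI : Algebra.IsSeparable k E := Algebra.isSeparable_tower_bot_of_isSeparable k E (SeparableClosure k)
  haveI : Algebra.IsSeparable E (SeparableClosure k) :=
    Algebra.isSeparable_tower_top_of_isSeparable k E (SeparableClosure k)
  obtain ⟨U, g₀, w, hw, hg₀, e, he, hcomp⟩ := H56.SepExt.exists_etale_nbhd_residueField Y η E
  haveI : IsIso e := (ConcreteCategory.isIso_iff_bijective e).2 he
  have hε₀ : Spec.map e ≫ U.fromSpecResidueField w ≫ g₀ =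
      Spec.map (CommRingCat.ofHom (algebraMap k E)) ≫ Y.fromSpecResidueField η := by
    rw [← hcomp]
    simp only [Spec.map_comp, Category.assoc, Scheme.residueFieldCongr_inv,
      Scheme.residueFieldCongr_fromSpecResidueField,
      Scheme.Hom.SpecMap_residueFieldMap_fromSpecResidueField]
  haveI := hg₀
  obtain ⟨Y₀, hY₀, hη₀, -⟩ := exists_isAffineOpen_mem_and_subset (show η ∈ (⊤ : Y.Opens) from trivial)
  obtain ⟨U₀, hU₀, hw₀, hle⟩ := exists_isAffineOpen_mem_and_subset (show w ∈ g₀ ⁻¹ᵁ Y₀ by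
    show g₀ w ∈ Y₀
    rw [hw]; exact hη₀)
  haveI : IsAffine (Y₀ : Scheme.{u}) := hY₀
  haveI : IsAffine (U₀ : Scheme.{u}) := hU₀
  haveI : Nonempty ↥(Y₀ : Scheme.{u}) := ⟨⟨η, hη₀⟩⟩
  let g₁ := g₀.resLE Y₀ U₀ hle
  haveI : Etale g₁ := by dsimp [g₁, Scheme.Hom.resLE]; infer_instance
  haveI : LocallyQuasiFinite g₁ := Lib.SourceDescent.Scheme.locallyQuasiFinite_of_etale g₁
  haveI : IrreducibleSpace ↥(Y₀ : Scheme.{u}) := Y₀.ι.isOpenEmbedding.irreducibleSpace
  have hη' : genericPoint ↥(Y₀ : Scheme.{u}) = ⟨η, hη₀⟩ :=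
    Y₀.ι.isOpenEmbedding.injective (genericPoint_eq_of_isOpenImmersion Y₀.ι)
  obtain ⟨W, hW, hwW, hWcl⟩ := exists_irreducible_nhd g₁ ⟨w, hw₀⟩ (by
    rw [hη']
    apply Y₀.ι.isOpenEmbedding.injective
    show (g₀.resLE Y₀ U₀ hle ≫ Y₀.ι) ⟨w, hw₀⟩ = η
    rw [Scheme.Hom.resLE_comp_ι, Scheme.Hom.comp_apply]
    exact hw)
  haveI : IsAffine (W : Scheme.{u}) := hW
  let g₂ := W.ι ≫ g₁
  obtain ⟨V₁, hV₁d, hV₁f⟩ := H56.QFDense.exists_dense_isFinite g₂
  have hηV₁ : genericPoint ↥(Y₀ : Scheme.{u}) ∈ V₁ := by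
    obtain ⟨a, ha⟩ := hV₁d.nonempty
    exact (genericPoint_specializes a).mem_open V₁.isOpen ha
  obtain ⟨V₂, hV₂, hηV₂, hV₂le⟩ := exists_isAffineOpen_mem_and_subset hηV₁
  haveI : IsAffine (V₂ : Scheme.{u}) := hV₂
  haveI : IsFinite (g₂ ∣_ V₂) := by
    haveI := hV₁f
    have hle₂ : V₂ ≤ V₁ := hV₂le
    have hp : IsPullback (W.toScheme.homOfLE (g₂.preimage_mono hle₂)) (g₂ ∣_ V₂) (g₂ ∣_ V₁)
        (Y₀.toScheme.homOfLE hle₂) := by
      refine IsPullback.of_right ?_ ?_ (isPullback_morphismRestrict g₂ V₁).flip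
      · simpa using (isPullback_morphismRestrict g₂ V₂).flip
      · rw [← cancel_mono V₁.ι]
        simp
    exact MorphismProperty.of_isPullback hp hV₁f
  let Y' : Scheme.{u} := (g₂ ⁻¹ᵁ V₂ : W.toScheme.Opens)
  let V := Y₀.ι ''ᵁ V₂
  let g : Y' ⟶ (V : Scheme.{u}) := (g₂ ∣_ V₂) ≫ (Y₀.ι.isoImage V₂).hom
  let j : Y' ⟶ U := (g₂ ⁻¹ᵁ V₂).ι ≫ W.ι ≫ U₀.ι
  have hG : g ≫ V.ι = j ≫ g₀ := by
    simp [g, V, j, g₂, g₁, morphismRestrict_ι_assoc, Scheme.Hom.resLE_comp_ι]
    rfl
  let y' : Y' := ⟨⟨⟨w, hw₀⟩, hwW⟩, by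
    show g₁ ⟨w, hw₀⟩ ∈ V₂
    have : g₁ ⟨w, hw₀⟩ = ⟨η, hη₀⟩ := by
      apply Y₀.ι.isOpenEmbedding.injective
      show (g₀.resLE Y₀ U₀ hle ≫ Y₀.ι) ⟨w, hw₀⟩ = η
      rw [Scheme.Hom.resLE_comp_ι, Scheme.Hom.comp_apply]
      exact hw
    rw [this, ← hη']
    exact hηV₂⟩
  have hgen : IsGenericPoint y' (Set.univ : Set Y') := by
    refine Set.eq_univ_iff_forall.2 fun a => ?_
    rw [((g₂ ⁻¹ᵁ V₂).ι.isOpenEmbedding.isInducing.closure_eq_preimage_closure_image _),
      Set.image_singleton, Set.mem_preimage, W.ι.isOpenEmbedding.isInducing.closure_eq_preimage_closure_image,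
      Set.image_singleton]
    exact hWcl ((g₂ ⁻¹ᵁ V₂).ι a).2
  haveI hY' : IrreducibleSpace ↥Y' :=
    (irreducibleSpace_def Y').2 hgen.isIrreducible
  have hgp : genericPoint ↥Y' = y' := (genericPoint_spec ↥Y').eq hgen
  haveI : IsAffine Y' := isAffine_of_isAffineHom (g₂ ∣_ V₂)
  haveI : Surjective g := by
    haveI : Surjective (g₂ ∣_ V₂) := by
      refine ⟨fun b => ?_⟩
      have hc : IsClosed (Set.range (g₂ ∣_ V₂)) := (g₂ ∣_ V₂).isClosedMap.isClosed_range
      refine hc.closure_subset_iff.2 (Set.singleton_subset_iff.2 ⟨y', rfl⟩) ?_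
      rw [V₂.ι.isOpenEmbedding.isInducing.closure_eq_preimage_closure_image, Set.image_singleton,
        Set.mem_preimage, ← Scheme.Hom.comp_apply, morphismRestrict_ι, Scheme.Hom.comp_apply]
      refine specializes_iff_mem_closure.1 ?_
      have : g₁ ⟨w, hw₀⟩ = genericPoint ↥(Y₀ : Scheme.{u}) := by
        rw [hη']
        apply Y₀.ι.isOpenEmbedding.injective
        show (g₀.resLE Y₀ U₀ hle ≫ Y₀.ι) ⟨w, hw₀⟩ = η
        rw [Scheme.Hom.resLE_comp_ι, Scheme.Hom.comp_apply]
        exact hw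
      exact (congrArg (· ⤳ V₂.ι b) this).mpr (genericPoint_specializes _)
    dsimp [g]; infer_instance
  haveI : Etale (g₂ ∣_ V₂) := IsZariskiLocalAtTarget.restrict (P := @Etale) inferInstance V₂
  refine ⟨V, Y', g, hY', ⟨η, ⟨η, hη₀⟩, hη' ▸ hηV₂, rfl⟩, inferInstance, inferInstance,
    by dsimp [g]; infer_instance, by dsimp [g]; infer_instance, fun Z hZ => ⟨fun K _ t P a b H => ?_⟩⟩
  -- the generic fibre of the base change
  let G := g ≫ V.ι
  let h := pullback.snd f G
  let c : Spec (CommRingCat.of E) ≅ Spec (Y'.residueField (genericPoint ↥Y')) :=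
    asIso (Spec.map e) ≪≫ asIso (Spec.map (inv ((U.residueFieldCongr (show j y' = w from rfl)).inv ≫
      j.residueFieldMap y'))) ≪≫ asIso (Spec.map (Y'.residueFieldCongr hgp).hom)
  have hc : c.hom ≫ Y'.fromSpecResidueField (genericPoint ↥Y') ≫ G =
      Spec.map (CommRingCat.ofHom (algebraMap k E)) ≫ Y.fromSpecResidueField η := by
    rw [← hε₀]
    simp only [c, Iso.trans_hom, asIso_hom, Category.assoc, Scheme.residueFieldCongr_fromSpecResidueField_assoc]
    rw [show G = j ≫ g₀ from hG]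
    congr 1
    rw [← cancel_epi (Spec.map ((U.residueFieldCongr (show j y' = w from rfl)).inv ≫ j.residueFieldMap y'))]
    rw [← Category.assoc, ← Spec.map_comp, IsIso.inv_hom_id, Spec.map_id, Category.id_comp]
    simp
  let B := Curv2.bc k (f.fiber η) E
  let bf : B ⟶ f.fiber η := Curv2.bcFst k (f.fiber η) E
  let bs : B ⟶ Spec (CommRingCat.of E) := Curv2.bcSnd k (f.fiber η) E
  have hB : IsPullback (bf ≫ f.fiberι η) bs f
      (Spec.map (CommRingCat.ofHom (algebraMap k E)) ≫ Y.fromSpecResidueField η) :=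
    (IsPullback.of_hasPullback π _).paste_horiz (IsPullback.of_hasPullback f (Y.fromSpecResidueField η))
  let π' := h.fiberToSpecResidueField (genericPoint ↥Y')
  have hF : IsPullback (h.fiberι _ ≫ pullback.fst f G) π' f (Y'.fromSpecResidueField _ ≫ G) :=
    (IsPullback.of_hasPullback h (Y'.fromSpecResidueField _)).paste_horiz (IsPullback.of_hasPullback f G)
  let m : B ⟶ h.fiber (genericPoint ↥Y') := hF.lift (bf ≫ f.fiberι η) (bs ≫ c.hom) (by
    rw [hB.w, Category.assoc, hc])
  have hm : IsPullback m bs π' c.hom := by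
    refine IsPullback.of_right ?_ (hF.lift_snd _ _ _) hF
    rw [hc, hF.lift_fst]
    exact hB
  haveI : IsIso m := hm.isIso_fst_of_isIso
  have hT : m ⁻¹' Z ∈ irreducibleComponents B := by
    rw [show (m ⁻¹' Z : Set B) = (asIso m).hom.homeomorph ⁻¹' Z from rfl]
    exact preimage_mem_irreducibleComponents hZ
      (asIso m).hom.homeomorph.isOpenEmbedding (by
        rw [(asIso m).hom.homeomorph.surjective.range_eq, Set.inter_univ]; exact hZ.1.nonempty)
  obtain ⟨φ, hφ⟩ := Spec.map_surjective (t ≫ c.inv)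
  letI : Algebra E K := φ.hom.toAlgebra
  have hK := H52.FBase.ComponentsIrr.isIrreducible_preimage_bc k (f.fiber η) E (SeparableClosure k)
    (hirr _ hT) K
  -- compare the two base changes to `K`
  let J := Scheme.IdealSheafData.vanishingIdeal (⟨Z, isClosed_of_mem_irreducibleComponents Z hZ⟩ : Closeds _)
  let M : pullback bs (Spec.map φ) ⟶ pullback π' t :=
    pullback.map _ _ _ _ m (𝟙 _) c.hom hm.w.symm (by rw [hφ]; simp)
  haveI : IsIso M := by dsimp [M]; infer_instance
  let l : P ⟶ pullback π' t := pullback.lift (a ≫ J.subschemeι) b (by rw [Category.assoc]; exact H.w)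
  have hl : IsPullback a l J.subschemeι (pullback.fst π' t) :=
    IsPullback.of_bot (by rw [pullback.lift_snd]; exact H) (pullback.lift_fst _ _ _).symm
      (IsPullback.of_hasPullback _ _)
  haveI : IsClosedImmersion l := MorphismProperty.of_isPullback hl inferInstance
  have hJ : Set.range J.subschemeι = Z := by
    simp [J, Scheme.IdealSheafData.range_subschemeι, Scheme.IdealSheafData.coe_support_vanishingIdeal]
  have hrange : Set.range l = M '' (pullback.fst bs (Spec.map φ) ⁻¹' (m ⁻¹' Z)) := by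
    ext q
    obtain ⟨v, rfl⟩ : q ∈ Set.range M := (asIso M).hom.surjective q
    have hi : Function.Injective ⇑M := (asIso M).hom.homeomorph.injective
    rw [hi.mem_set_image]
    have hv : pullback.fst π' t (M v) = m (pullback.fst bs (Spec.map φ) v) := by
      rw [← Scheme.Hom.comp_apply, pullback.lift_fst, Scheme.Hom.comp_apply]
    constructor
    · rintro ⟨z, hz⟩
      show m (pullback.fst bs (Spec.map φ) v) ∈ Z
      rw [← hv, ← hz, ← Scheme.Hom.comp_apply, pullback.lift_fst, Scheme.Hom.comp_apply]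
      exact hJ.le ⟨_, rfl⟩
    · intro (hmem : m (pullback.fst bs (Spec.map φ) v) ∈ Z)
      rw [← hv, ← hJ] at hmem
      obtain ⟨z₀, hz₀⟩ := hmem
      obtain ⟨z, -, hz⟩ := Scheme.exists_preimage_of_isPullback hl z₀ (M v) hz₀
      exact ⟨z, hz⟩
  haveI := Subtype.irreducibleSpace (hrange ▸ hK.image M M.continuous.continuousOn : IsIrreducible (Set.range l))
  exact l.isClosedEmbedding.isEmbedding.toHomeomorph.symm.surjective.irreducibleSpace
    l.isClosedEmbedding.isEmbedding.toHomeomorph.symm.continuous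

end Groth.Agent.Lib.Flat55.GeomIrredModel
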