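import Groth.Agent.Lib.Flat55.GmPoints
import Mathlib.AlgebraicGeometry.AlgClosed.Basic
import Mathlib.RingTheory.IntegralDomain

/-!
# Components of the special fibre of a model of `𝔾_m` with unipotent identity component

If the identity component of the special fibre is `𝔾_a`, the component group is, away from `q`-power
torsion, cyclic (`q = 1` or the residue characteristic).
-/

set_option autoImplicit false
universe u

open CategoryTheory MonoidalCategory CartesianMonoidalCategory MonObj GrpObj AlgebraicGeometry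
open Limits
open Groth.Agent.Lib.RedPts Groth.Agent.Lib.Flat55.GaModel Groth.Agent.Lib.Flat55.GmPoints

namespace Groth.Agent.Lib.Flat55.GmComponents

section Field

variable {k : Type u} [Field k]

/-- The point underlying a rational point. -/
noncomputable abbrev pt {X : Over (Spec (CommRingCat.of k))}
    (x : 𝟙_ (Over (Spec (CommRingCat.of k))) ⟶ X) : X.left :=
  x.left.base (IsLocalRing.closedPoint k)

variable {G : Over (Spec (CommRingCat.of k))} [GrpObj G]

/-- Right translation by a rational point. -/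
noncomputable def translate (x : 𝟙_ (Over (Spec (CommRingCat.of k))) ⟶ G) : G ≅ G where
  hom := 𝟙 G * (toUnit G ≫ x)
  inv := 𝟙 G * (toUnit G ≫ x⁻¹)
  hom_inv_id := by
    rw [MonObj.comp_mul, Category.comp_id, ← Category.assoc, toUnit_unique (_ ≫ toUnit G) (toUnit G),
      _root_.mul_assoc, ← MonObj.comp_mul, mul_inv_cancel, MonObj.comp_one, _root_.mul_one]
  inv_hom_id := by
    rw [MonObj.comp_mul, Category.comp_id, ← Category.assoc, toUnit_unique (_ ≫ toUnit G) (toUnit G),
      _root_.mul_assoc, ← MonObj.comp_mul, inv_mul_cancel, MonObj.comp_one, _root_.mul_one]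

theorem comp_translate {X : Over (Spec (CommRingCat.of k))} (f : X ⟶ G)
    (x : 𝟙_ (Over (Spec (CommRingCat.of k))) ⟶ G) : f ≫ (translate x).hom = f * (toUnit X ≫ x) := by
  change f ≫ (𝟙 G * (toUnit G ≫ x)) = _
  rw [MonObj.comp_mul, Category.comp_id, ← Category.assoc, toUnit_unique (f ≫ toUnit G) (toUnit X)]

theorem comp_translate_pt (f x : 𝟙_ (Over (Spec (CommRingCat.of k))) ⟶ G) :
    f ≫ (translate x).hom = f * x := by
  rw [comp_translate, toUnit_unique (toUnit _) (𝟙 _), Category.id_comp]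

/-- The rational points of the image of a homomorphism. -/
noncomputable def imPts {U : Over (Spec (CommRingCat.of k))} [GrpObj U] (j : U ⟶ G) [IsMonHom j] :
    Subgroup (𝟙_ (Over (Spec (CommRingCat.of k))) ⟶ G) :=
  (MonoidHom.mk' (fun y : 𝟙_ (Over (Spec (CommRingCat.of k))) ⟶ U => y ≫ j)
      fun a b => MonObj.mul_comp a b j).range

theorem mem_connectedComponent_mul {U : Over (Spec (CommRingCat.of k))} [GrpObj U]
    [PreconnectedSpace U.left] (j : U ⟶ G) [IsMonHom j]
    (x : 𝟙_ (Over (Spec (CommRingCat.of k))) ⟶ G) (y : 𝟙_ (Over (Spec (CommRingCat.of k))) ⟶ U) :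
    pt ((y ≫ j) * x) ∈ connectedComponent (pt x) := by
  let i := j ≫ (translate x).hom
  have hy : y ≫ i = (y ≫ j) * x := by rw [← Category.assoc, comp_translate_pt]
  have h1 : (1 : 𝟙_ _ ⟶ U) ≫ i = x := by
    rw [← Category.assoc, comp_translate_pt, MonObj.one_comp j, _root_.one_mul]
  rw [← hy]
  conv => arg 1; rw [← h1]
  exact (isPreconnected_range i.left.continuous).subset_connectedComponent ⟨_, rfl⟩ ⟨_, rfl⟩

variable [IsAlgClosed k] [LocallyOfFiniteType G.hom] [CompactSpace G.left]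

theorem finiteIndex_range {U : Over (Spec (CommRingCat.of k))} [GrpObj U]
    (j : U ⟶ G) [IsMonHom j] [IsOpenImmersion j.left]
    (hcomm : ∀ a b : 𝟙_ (Over (Spec (CommRingCat.of k))) ⟶ G, a * b = b * a) :
    (imPts j).FiniteIndex := by
  set H := imPts j with hH
  let V : (𝟙_ (Over (Spec (CommRingCat.of k))) ⟶ G) → Set G.left :=
    fun x => Set.range (j ≫ (translate x).hom).left
  have himm : ∀ x, IsOpenImmersion (j ≫ (translate x).hom).left := fun x => by
    have : IsIso (translate x).hom.left :=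
      inferInstanceAs (IsIso ((Over.forget _).map (translate x).hom))
    rw [Over.comp_left]
    infer_instance
  have hV : ∀ x, IsOpen (V x) := fun x => (himm x).base_open.isOpen_range
  have hmem : ∀ x, pt x ∈ V x := fun x => by
    have h1 : (1 : 𝟙_ _ ⟶ U) ≫ j ≫ (translate x).hom = x := by
      rw [← Category.assoc, comp_translate_pt, MonObj.one_comp j, _root_.one_mul]
    exact ⟨pt (1 : 𝟙_ _ ⟶ U), congrArg pt h1⟩
  have hcov : (Set.univ : Set G.left) ⊆ ⋃ x, V x := by
    intro z _
    by_contra hz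
    obtain ⟨w, hw, hwc⟩ := (isOpen_iUnion hV).isClosed_compl.exists_closed_singleton ⟨z, hz⟩
    let x : 𝟙_ (Over (Spec (CommRingCat.of k))) ⟶ G :=
      Over.homMk (pointOfClosedPoint G.hom w hwc) (pointOfClosedPoint_comp G.hom w hwc)
    refine hw (Set.mem_iUnion.2 ⟨x, ?_⟩)
    convert hmem x
    exact (pointOfClosedPoint_apply G.hom w hwc _).symm
  obtain ⟨T, hT⟩ := isCompact_univ.elim_finite_subcover V hV hcov
  have hsurj : Function.Surjective
      (fun x : T => (QuotientGroup.mk x.1 : (𝟙_ (Over (Spec (CommRingCat.of k))) ⟶ G) ⧸ H)) := by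
    intro q
    obtain ⟨x, rfl⟩ := QuotientGroup.mk_surjective q
    obtain ⟨c, hc, hxc⟩ := Set.mem_iUnion₂.1 (hT (Set.mem_univ (pt x)))
    refine ⟨⟨c, hc⟩, ?_⟩
    have := himm c
    have hrange : Set.range x.left ⊆ Set.range (j ≫ (translate c).hom).left := by
      rintro _ ⟨a, rfl⟩
      rw [show a = IsLocalRing.closedPoint k from Subsingleton.elim (α := PrimeSpectrum k) _ _]
      exact hxc
    let l := IsOpenImmersion.lift (j ≫ (translate c).hom).left x.left hrange
    have hl : l ≫ (j ≫ (translate c).hom).left = x.left := IsOpenImmersion.lift_fac _ _ _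
    let y : 𝟙_ (Over (Spec (CommRingCat.of k))) ⟶ U := Over.homMk l (by
      rw [← Over.w (j ≫ (translate c).hom), ← Category.assoc, hl]
      exact Over.w x)
    have hy : (y ≫ j) * c = x := by
      rw [← comp_translate_pt, Category.assoc]
      exact Over.OverMorphism.ext hl
    change QuotientGroup.mk c = QuotientGroup.mk x
    rw [QuotientGroup.eq, ← hy, hcomm (y ≫ j) c, ← _root_.mul_assoc, inv_mul_cancel, _root_.one_mul]
    exact ⟨y, rfl⟩
  have : Finite ((𝟙_ (Over (Spec (CommRingCat.of k))) ⟶ G) ⧸ H) := Finite.of_surjective _ hsurj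
  exact Subgroup.finiteIndex_of_finite_quotient

end Field

variable {R : Type u} [CommRing R] [IsDomain R] [IsDiscreteValuationRing R]
  [IsAdicComplete (IsLocalRing.maximalIdeal R) R] {K : Type u} [Field K] [Algebra R K]
  [IsFractionRing R K] [IsAlgClosed (IsLocalRing.ResidueField R)]
  {G : Over (Spec (CommRingCat.of R))} [GrpObj G] [Smooth G.hom] [IsAffine G.left]
  [LocallyOfFiniteType G.hom]
  (e : Red.bc (Spec.map (CommRingCat.ofHom (algebraMap R K))) G ≅ Red.Gm (Spec (CommRingCat.of K)))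
  [IsMonHom e.hom]
  (j₀ : Red.Ga (Spec (CommRingCat.of (IsLocalRing.ResidueField R))) ⟶
    Red.bc (Spec.map (CommRingCat.ofHom (IsLocalRing.residue R))) G)
  [IsMonHom j₀] [IsOpenImmersion j₀.left]

include e j₀ in
theorem exists_generator (q : ℕ) (hq : ∀ N : ℕ, N ≠ 0 →
      ∃ i N' : ℕ, N = q ^ i * N' ∧ (N' : IsLocalRing.ResidueField R) ≠ 0) :
    ∃ x₀ : 𝟙_ (Over (Spec (CommRingCat.of (IsLocalRing.ResidueField R)))) ⟶
        Red.bc (Spec.map (CommRingCat.ofHom (IsLocalRing.residue R))) G,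
      ∀ x, ∃ i m : ℕ, pt (x ^ q ^ i) ∈ connectedComponent (pt (x₀ ^ m)) := by
  classical
  let k := IsLocalRing.ResidueField R
  let Gk := Red.bc (Spec.map (CommRingCat.ofHom (IsLocalRing.residue R))) G
  let σ := Scheme.ΓSpecIso (CommRingCat.of k)
  have hGka : IsAffine Gk.left := isAffine_bc (IsLocalRing.residue R)
  have : LocallyOfFiniteType Gk.hom :=
    inferInstanceAs (LocallyOfFiniteType
      (pullback.snd G.hom (Spec.map (CommRingCat.ofHom (IsLocalRing.residue R)))))
  obtain ⟨s, hsu, hs⟩ := exists_coord e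
  obtain ⟨χ, hχ⟩ := exists_char e hs
  have hcomm := mul_comm_points (G := G) e
  let _ : CommGroup (𝟙_ (Over (Spec (CommRingCat.of k))) ⟶ Gk) :=
    { (inferInstance : Group (𝟙_ (Over (Spec (CommRingCat.of k))) ⟶ Gk)) with mul_comm := hcomm }
  -- the additive group `(Red.Ga (Spec (CommRingCat.of k)))` has coordinate ring `k[X]`
  have : IsAffine Red.GaZ.left := inferInstanceAs (IsAffine (Spec _))
  have hUa : IsAffine (Red.Ga (Spec (CommRingCat.of k))).left := inferInstanceAs (IsAffine (pullback _ _))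
  have hb := bijective_eval_of_iso_Ga (Iso.refl (Red.Ga (Spec (CommRingCat.of k))))
  have : IsDomain Γ((Red.Ga (Spec (CommRingCat.of k))).left, ⊤) :=
    MulEquiv.isDomain _ (RingEquiv.ofBijective _ hb).symm.toMulEquiv
  have : Nonempty (Red.Ga (Spec (CommRingCat.of k))).left := Nonempty.map (Red.Ga (Spec (CommRingCat.of k))).left.isoSpec.inv
    (inferInstanceAs (Nonempty (PrimeSpectrum Γ((Red.Ga (Spec (CommRingCat.of k))).left, ⊤))))
  have : IsIntegral (Red.Ga (Spec (CommRingCat.of k))).left := isIntegral_of_isAffine_of_isDomain (Red.Ga (Spec (CommRingCat.of k))).left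
  have : PreconnectedSpace (Red.Ga (Spec (CommRingCat.of k))).left := inferInstance
  -- the character is trivial on the image of `(Red.Ga (Spec (CommRingCat.of k)))`
  have hχj : ∀ y : 𝟙_ (Over (Spec (CommRingCat.of k))) ⟶ (Red.Ga (Spec (CommRingCat.of k))), χ (y ≫ j₀) = 1 := by
    intro y
    have hu : IsUnit (j₀.left.appTop (bcι (IsLocalRing.residue R) G s)) :=
      (hsu.map _).map j₀.left.appTop.hom
    obtain ⟨P, hP⟩ := hb.2 (j₀.left.appTop (bcι (IsLocalRing.residue R) G s))
    have hPu : IsUnit P := by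
      rw [← hP] at hu
      exact (isUnit_map_iff (RingEquiv.ofBijective _ hb) P).1 hu
    obtain ⟨c, -, rfl⟩ := Polynomial.isUnit_iff.1 hPu
    have hc : ∀ z : 𝟙_ (Over (Spec (CommRingCat.of k))) ⟶ (Red.Ga (Spec (CommRingCat.of k))), χ (z ≫ j₀) = c := fun z => by
      rw [hχ, ev_comp, ← hP]
      exact (congrArg (ev z) (Polynomial.eval₂_C _ _)).trans (ev_str z c)
    rw [hc, ← hc 1, MonObj.one_comp j₀, map_one]
  -- finiteness
  have := finiteIndex_range j₀ hcomm
  set H := imPts j₀ with hH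
  have hN0 : H.index ≠ 0 := Subgroup.FiniteIndex.index_ne_zero
  obtain ⟨i, N', hNN, hN'⟩ := hq _ hN0
  have hker : ∀ z, z ^ N' ∈ H → χ z = 1 → z ∈ H := by
    rintro z ⟨y, hy : y ≫ j₀ = z ^ N'⟩ hz
    let a := σ.hom (Red.gaFn y)
    let y' : 𝟙_ (Over (Spec (CommRingCat.of k))) ⟶ (Red.Ga (Spec (CommRingCat.of k))) := Ga.gaPt (σ.inv ((N' : k)⁻¹ * a))
    have hy' : y' ^ N' = y := Ga.gaFn_injective (by
      rw [Ga.gaFn_pow, Ga.gaFn_gaPt]
      refine (map_nsmul σ.inv.hom _ _).symm.trans ?_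
      rw [nsmul_eq_mul, ← _root_.mul_assoc, mul_inv_cancel₀ hN', _root_.one_mul]
      exact Iso.hom_inv_id_apply σ _)
    have hj : (y' ≫ j₀) ^ N' = z ^ N' := by
      rw [← hy, ← hy']
      exact (map_pow (MonoidHom.mk' (fun y : 𝟙_ (Over (Spec (CommRingCat.of k))) ⟶ (Red.Ga (Spec (CommRingCat.of k))) => y ≫ j₀)
        fun a b => MonObj.mul_comp a b j₀) y' N').symm
    have h1 := eq_one_of_pow_eq_one e hs hN' (z * (y' ≫ j₀)⁻¹)
      (by rw [mul_pow, inv_pow, hj, mul_inv_cancel]) (by
      rw [← hχ, map_mul, hz, _root_.one_mul]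
      have h2 : χ (y' ≫ j₀)⁻¹ * χ (y' ≫ j₀) = 1 := by rw [← map_mul, inv_mul_cancel, map_one]
      rwa [hχj, _root_.mul_one] at h2)
    rw [mul_inv_eq_one] at h1
    exact ⟨y', h1.symm⟩
  -- a generator of the image of the character
  let χu := χ.toHomUnits
  have hpow : ∀ x, χu x ^ H.index = 1 := fun x => Units.ext (by
    obtain ⟨y, hy⟩ := H.pow_index_mem x
    rw [Units.val_pow_eq_pow_val, Units.val_one, MonoidHom.coe_toHomUnits, ← map_pow, ← hy]
    exact hχj y)
  have : NeZero H.index := ⟨hN0⟩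
  have hfin : Finite χu.range := by
    have hle : χu.range ≤ rootsOfUnity H.index k := by
      rintro _ ⟨x, rfl⟩
      exact (mem_rootsOfUnity _ _).2 (hpow x)
    exact Finite.of_injective (Subgroup.inclusion hle) (Subgroup.inclusion_injective hle)
  obtain ⟨⟨w, x₀, rfl⟩, hw⟩ := IsCyclic.exists_generator (α := χu.range)
  refine ⟨x₀, fun x => ?_⟩
  obtain ⟨m, hm⟩ := Submonoid.mem_powers_iff _ _ |>.1
    ((mem_powers_iff_mem_zpowers).2 (hw ⟨χu x, x, rfl⟩))
  refine ⟨i, m * q ^ i, ?_⟩
  have hm' : χ x = χ (x₀ ^ m) := by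
    have := congrArg (fun w : χu.range => ((w : kˣ) : k)) hm
    simpa [χu, eq_comm] using this
  let z := (x * (x₀ ^ m)⁻¹) ^ q ^ i
  have hzH : z ∈ H := by
    refine hker z ?_ ?_
    · rw [← pow_mul, ← hNN]
      exact H.pow_index_mem _
    · have h2 : χ (x₀ ^ m) * χ (x₀ ^ m)⁻¹ = 1 := by rw [← map_mul, mul_inv_cancel, map_one]
      rw [map_pow, map_mul, hm', h2, one_pow]
  obtain ⟨y, hy⟩ := hzH
  have hxz : x ^ q ^ i = (y ≫ j₀) * x₀ ^ (m * q ^ i) := by
    rw [show (y ≫ j₀) = z from hy, pow_mul, ← mul_pow, inv_mul_cancel_right]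
  rw [hxz]
  exact mem_connectedComponent_mul j₀ _ y

end Groth.Agent.Lib.Flat55.GmComponents
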