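import Groth.Agent.Lib.Flat55.GaModel
import Groth.Agent.Lib.RedPts.Gm
import Mathlib.Algebra.Polynomial.Laurent

/-!
# Affine schemes over `Spec R` whose coordinate ring is `R[T,T⁻¹]`
-/

set_option autoImplicit false
universe u

open CategoryTheory MonoidalCategory CartesianMonoidalCategory MonObj GrpObj AlgebraicGeometry
open Polynomial
open Groth.Agent.Lib.RedPts Groth.Agent.Lib.Flat55.GaModel

namespace Groth.Agent.Lib.Flat55.GmModel

variable {R : Type u} [CommRing R]

theorem laurent_ext {S : Type u} [CommRing S] {f g : LaurentPolynomial R →+* S}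
    (hC : ∀ r, f (LaurentPolynomial.C r) = g (LaurentPolynomial.C r))
    (hT : f (LaurentPolynomial.T 1) = g (LaurentPolynomial.T 1)) : f = g := by
  refine IsLocalization.ringHom_ext (Submonoid.powers (Polynomial.X : R[X]))
    (Polynomial.ringHom_ext (fun r => ?_) ?_)
  · simpa [LaurentPolynomial.algebraMap_eq_toLaurent] using hC r
  · simpa [LaurentPolynomial.algebraMap_eq_toLaurent] using hT

theorem bijective_eval_of_iso_Gm {P : Over (Spec (CommRingCat.of R))} [IsAffine P.left]
    (e : P ≅ Red.Gm (Spec (CommRingCat.of R))) (w : Γ(P.left, ⊤)ˣ) (hw : (w : Γ(P.left, ⊤)) = Red.gmFn e.hom) :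
    Function.Bijective (LaurentPolynomial.eval₂ (str P) w) := by
  let LP := LaurentPolynomial R
  let ψ : LP →+* Γ(P.left, ⊤) := LaurentPolynomial.eval₂ (str P) w
  let T : Over (Spec (CommRingCat.of R)) :=
    Over.mk (Spec.map (CommRingCat.ofHom (LaurentPolynomial.C : R →+* LP)))
  let σ := Scheme.ΓSpecIso (CommRingCat.of LP)
  obtain ⟨y, hy⟩ := Gm.exists_gmFn_eq (X := T)
    ((LaurentPolynomial.isUnit_T (R := R) 1).map σ.inv.hom)
  let g : T ⟶ P := y ≫ e.inv
  let χ : Γ(P.left, ⊤) →+* LP := σ.hom.hom.comp g.left.appTop.hom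
  have hχ0 : ∀ r, χ (str P r) = LaurentPolynomial.C r := fun r =>
    (congrArg σ.hom (appTop_str g r)).trans (str_spec (LaurentPolynomial.C : R →+* LP) r)
  have hχX : χ w = LaurentPolynomial.T 1 := by
    have h1 : g.left.appTop w = σ.inv (LaurentPolynomial.T 1 : LP) := by
      rw [hw, ← Gm.gmFn_comp, ← hy]
      simp [g]
    change σ.hom (g.left.appTop w) = _
    rw [h1]
    exact Iso.inv_hom_id_apply σ _
  have hψC : ∀ r, ψ (LaurentPolynomial.C r) = str P r := fun r => LaurentPolynomial.eval₂_C _ _ r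
  have hψT : ψ (LaurentPolynomial.T 1) = w :=
    (LaurentPolynomial.eval₂_T_n (str P) w 1).trans (pow_one _)
  have h1 : χ.comp ψ = RingHom.id _ :=
    laurent_ext (fun r => (congrArg χ (hψC r)).trans (hχ0 r)) ((congrArg χ hψT).trans hχX)
  have h2 : ψ.comp χ = RingHom.id _ := by
    obtain ⟨g', hg'⟩ := exists_hom (X := P) (T := P) (ψ.comp χ) (RingHom.ext fun r => by
      simp only [RingHom.comp_apply, hχ0, hψC])
    have hid : g' = 𝟙 P := by
      rw [← cancel_mono e.hom, Category.id_comp]
      apply Gm.gmFn_injective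
      rw [Gm.gmFn_comp, hg', ← hw]
      exact (congrArg ψ hχX).trans hψT
    subst hid
    exact (congrArg CommRingCat.Hom.hom hg').symm.trans (by simp)
  exact ⟨Function.LeftInverse.injective (g := χ) fun x => RingHom.congr_fun h1 x,
    Function.RightInverse.surjective (g := χ) fun x => RingHom.congr_fun h2 x⟩

theorem exists_iso_Gm_of_bijective {X : Over (Spec (CommRingCat.of R))} [IsAffine X.left]
    (s : Γ(X.left, ⊤)ˣ) (hb : Function.Bijective (LaurentPolynomial.eval₂ (str X) s)) :
    ∃ e : X ≅ Red.Gm (Spec (CommRingCat.of R)), Red.gmFn e.hom = s := by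
  let T := Red.Gm (Spec (CommRingCat.of R))
  let ε := RingEquiv.ofBijective _ hb
  let c : Γ(T.left, ⊤)ˣ := (Gm.isUnit_gmFn (𝟙 T)).unit
  let h : Γ(X.left, ⊤) →+* Γ(T.left, ⊤) :=
    (LaurentPolynomial.eval₂ (str T) c).comp ε.symm.toRingHom
  have hC : ∀ r, ε.symm (str X r) = LaurentPolynomial.C r := fun r => by
    rw [RingEquiv.symm_apply_eq]
    exact (LaurentPolynomial.eval₂_C _ _ r).symm
  have hX : ε.symm s = LaurentPolynomial.T 1 := by
    rw [RingEquiv.symm_apply_eq]
    exact ((LaurentPolynomial.eval₂_T_n (str X) s 1).trans (pow_one _)).symm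
  have hhs : h s = Red.gmFn (𝟙 T) := by
    change LaurentPolynomial.eval₂ (str T) c (ε.symm s) = _
    rw [hX]
    exact (LaurentPolynomial.eval₂_T_n (str T) c 1).trans (pow_one _)
  obtain ⟨y, hy⟩ := exists_hom (X := X) (T := T) h (RingHom.ext fun r => by
    change LaurentPolynomial.eval₂ (str T) c (ε.symm (str X r)) = _
    rw [hC, LaurentPolynomial.eval₂_C])
  obtain ⟨x, hx⟩ := Gm.exists_gmFn_eq (X := X) s.isUnit
  refine ⟨⟨x, y, ?_, ?_⟩, hx⟩
  · apply GaModel.hom_ext
    apply CommRingCat.hom_ext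
    refine RingHom.ext fun a => ?_
    obtain ⟨p, rfl⟩ := hb.surjective a
    simp only [Over.comp_left, Scheme.Hom.comp_appTop, Over.id_left, Scheme.Hom.id_appTop]
    change x.left.appTop (y.left.appTop _) = LaurentPolynomial.eval₂ (str X) s p
    have key : (x.left.appTop.hom.comp y.left.appTop.hom).comp
        (LaurentPolynomial.eval₂ (str X) s) = LaurentPolynomial.eval₂ (str X) s := by
      refine laurent_ext (fun r => ?_) ?_
      · simp only [RingHom.comp_apply, LaurentPolynomial.eval₂_C]
        exact (congrArg x.left.appTop (appTop_str y r)).trans (appTop_str _ r)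
      · simp only [RingHom.comp_apply, LaurentPolynomial.eval₂_T, zpow_one]
        rw [hy]
        change x.left.appTop (h s) = s
        rw [hhs, ← Gm.gmFn_comp, Category.comp_id, hx]
    exact RingHom.congr_fun key p
  · apply Gm.gmFn_injective
    rw [Gm.gmFn_comp, hx, hy]
    exact hhs

end Groth.Agent.Lib.Flat55.GmModel
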