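import Mathlib.RingTheory.DiscreteValuationRing.Basic
import Mathlib.RingTheory.LocalRing.ResidueField.Basic
import Mathlib.RingTheory.Polynomial.Pochhammer
import Mathlib.Algebra.CharP.Algebra
import Mathlib.RingTheory.Valuation.ValuationRing
import Mathlib.Algebra.Polynomial.Roots

/-!
# Divisibility of polynomial values at powers of a principal unit

If `c ∣ P(v^(N e))` for all `e`, `v ≡ 1` and `N` is invertible in the residue field, then `c ∣ P(v)`.
-/

set_option autoImplicit false
universe u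

open Polynomial

namespace Groth.Agent.Lib.Flat55.GmPoly

variable {R : Type u} [CommRing R] [IsDomain R] [IsDiscreteValuationRing R] {p : R}

theorem residue_eq_zero_iff_dvd (hp : Irreducible p) (r : R) :
    IsLocalRing.residue R r = 0 ↔ p ∣ r := by
  rw [IsLocalRing.residue_eq_zero_iff, hp.maximalIdeal_eq, Ideal.mem_span_singleton]

theorem pow_dvd_eval_of_charZero [CharZero (IsLocalRing.ResidueField R)] (hp : Irreducible p)
    {N : ℕ} (hN : N ≠ 0) (M : ℕ) (H : R[X])
    (h : ∀ e : ℕ, p ^ M ∣ H.eval ((N * e : ℕ) : R)) (x : R) : p ^ M ∣ H.eval x := by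
  induction M generalizing H with
  | zero => simp
  | succ M ih =>
    have h0 : H.map (IsLocalRing.residue R) = 0 := by
      apply Polynomial.eq_zero_of_infinite_isRoot
      refine Set.infinite_of_injective_forall_mem
        (f := fun e : ℕ => ((N * e : ℕ) : IsLocalRing.ResidueField R))
        (fun a b hab => by simpa [hN] using hab) fun e => ?_
      change (H.map (IsLocalRing.residue R)).eval ((N * e : ℕ) : IsLocalRing.ResidueField R) = 0
      rw [← map_natCast (IsLocalRing.residue R), eval_map, eval₂_hom, residue_eq_zero_iff_dvd hp]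
      exact (dvd_pow_self p (Nat.succ_ne_zero M)).trans (h e)
    obtain ⟨H', rfl⟩ : C p ∣ H := (C_dvd_iff_dvd_coeff _ _).2 fun i => by
      rw [← residue_eq_zero_iff_dvd hp, ← coeff_map, h0, coeff_zero]
    rw [eval_mul, eval_C, pow_succ']
    exact mul_dvd_mul_left p (ih H' fun e => by
      have := h e
      rw [eval_mul, eval_C, pow_succ'] at this
      exact (mul_dvd_mul_iff_left hp.ne_zero).1 this)

theorem exists_binomial_poly [CharZero (IsLocalRing.ResidueField R)] (hp : Irreducible p)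
    {v : R} (hv : p ∣ v - 1) (M : ℕ) :
    ∃ Q : R[X], ∀ n : ℕ, p ^ M ∣ Q.eval (n : R) - v ^ n := by
  have hfac : ∀ i : ℕ, IsUnit ((i.factorial : ℕ) : R) := fun i => by
    rw [← IsLocalRing.residue_ne_zero_iff_isUnit, map_natCast]
    exact Nat.cast_ne_zero.2 i.factorial_ne_zero
  let z := v - 1
  refine ⟨∑ i ∈ Finset.range M, C (z ^ i * ↑((hfac i).unit⁻¹)) * descPochhammer R i, fun n => ?_⟩
  have hev : ∀ i, (C (z ^ i * ↑((hfac i).unit⁻¹)) * descPochhammer R i).eval (n : R) =
      z ^ i * (n.choose i : R) := by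
    intro i
    rw [eval_mul, eval_C, descPochhammer_eval_eq_descFactorial,
      Nat.descFactorial_eq_factorial_mul_choose, Nat.cast_mul, mul_assoc, ← mul_assoc (↑(hfac i).unit⁻¹ : R),
      IsUnit.val_inv_mul, one_mul]
  rw [eval_finsetSum, Finset.sum_congr rfl fun i _ => hev i]
  have hvn : v ^ n = ∑ i ∈ Finset.range (n + 1 + M), z ^ i * (n.choose i : R) := by
    rw [show v = z + 1 by simp [z], add_pow, Finset.sum_range_add _ (n + 1) M]
    simp only [one_pow, mul_one]
    rw [Finset.sum_eq_zero (s := Finset.range M) (fun i _ => by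
      rw [Nat.choose_eq_zero_of_lt (by omega), Nat.cast_zero, mul_zero]), add_zero]
  rw [hvn, show n + 1 + M = M + (n + 1) by omega, Finset.sum_range_add _ M (n + 1), sub_add_cancel_left,
    dvd_neg]
  refine Finset.dvd_sum fun i _ => Dvd.dvd.mul_right ?_ _
  exact (pow_dvd_pow_of_dvd hv M).trans (pow_dvd_pow _ (Nat.le_add_right M i))

omit [IsDomain R] [IsDiscreteValuationRing R] in
theorem pow_dvd_pow_sub_one {q : ℕ} (hq : p ∣ (q : R)) {w : R} (hw : p ∣ w - 1) (i : ℕ) :
    p ^ (i + 1) ∣ w ^ (q ^ i) - 1 := by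
  induction i with
  | zero => simpa using hw
  | succ i ih =>
    rw [pow_succ q, pow_mul, ← geom_sum_mul, pow_succ' p]
    refine mul_dvd_mul ?_ ih
    have h1 : p ∣ (∑ j ∈ Finset.range q, (w ^ q ^ i) ^ j) - (q : R) := by
      have hq' : (q : R) = ∑ j ∈ Finset.range q, (1 : R) := by simp
      rw [hq', ← Finset.sum_sub_distrib]
      exact Finset.dvd_sum fun j _ => ((dvd_pow_self p (Nat.succ_ne_zero i)).trans ih).trans
        (sub_one_dvd_pow_sub_one _ j)
    simpa using dvd_add h1 hq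

theorem dvd_eval_of_dvd_eval_pow (hp : Irreducible p) {N : ℕ}
    (hN : (N : IsLocalRing.ResidueField R) ≠ 0) {v : R} (hv : p ∣ v - 1) {c : R} (hc : c ≠ 0)
    (P : R[X]) (h : ∀ e : ℕ, c ∣ P.eval (v ^ (N * e))) : c ∣ P.eval v := by
  obtain ⟨M, u, rfl⟩ := IsDiscreteValuationRing.eq_unit_mul_pow_irreducible hc hp
  rw [Units.mul_left_dvd] at ⊢
  replace h : ∀ e, p ^ M ∣ P.eval (v ^ (N * e)) := fun e => Units.mul_left_dvd.1 (h e)
  rcases CharP.exists' (IsLocalRing.ResidueField R) with hchar | ⟨q, hqp, hq⟩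
  · have hN0 : N ≠ 0 := fun h0 => hN (by simp [h0])
    obtain ⟨Q, hQ⟩ := exists_binomial_poly hp hv M
    have hH : ∀ e : ℕ, p ^ M ∣ (P.comp Q).eval ((N * e : ℕ) : R) := fun e => by
      rw [eval_comp]
      exact (dvd_iff_dvd_of_dvd_sub ((hQ (N * e)).trans (Polynomial.sub_dvd_eval_sub _ _ P))).2 (h e)
    have h1 := pow_dvd_eval_of_charZero hp hN0 M _ hH 1
    rw [eval_comp] at h1
    have h2 := hQ 1
    rw [Nat.cast_one, pow_one] at h2
    exact (dvd_iff_dvd_of_dvd_sub (h2.trans (Polynomial.sub_dvd_eval_sub _ _ P))).1 h1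
  · have hpq : p ∣ (q : R) := by
      rw [← residue_eq_zero_iff_dvd hp, map_natCast]
      exact CharP.cast_eq_zero _ q
    have hco : N.Coprime (q ^ (M + 1)) := Nat.Coprime.pow_right _ ((hqp.out.coprime_iff_not_dvd.2
      fun hd => hN ((CharP.cast_eq_zero_iff _ q N).2 hd)).symm)
    obtain ⟨e, -, he⟩ := Nat.exists_mul_mod_eq_one_of_coprime hco
      (Nat.one_lt_pow (Nat.succ_ne_zero M) hqp.out.one_lt)
    have hdiv := Nat.div_add_mod (N * e) (q ^ (M + 1))
    rw [he] at hdiv
    have hkey : p ^ M ∣ v ^ (N * e) - v := by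
      rw [← hdiv, pow_add, pow_one, pow_mul, ← sub_one_mul]
      exact (((pow_dvd_pow p (by omega)).trans (pow_dvd_pow_sub_one hpq hv (M + 1))).trans
        (sub_one_dvd_pow_sub_one _ _)).mul_right _
    exact (dvd_iff_dvd_of_dvd_sub (hkey.trans (Polynomial.sub_dvd_eval_sub _ _ P))).1 (h e)

theorem mem_range_of_mul_pow_mem (hp : Irreducible p) {K : Type u} [Field K] [Algebra R K]
    [IsFractionRing R K] {c : R} (hc : c ≠ 0) (u : K)
    (h : ∀ m : ℕ, algebraMap R K c * u ^ m ∈ Set.range (algebraMap R K)) :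
    u ∈ Set.range (algebraMap R K) := by
  rcases eq_or_ne u 0 with rfl | hu
  · exact ⟨0, map_zero _⟩
  rcases ValuationRing.isInteger_or_isInteger R u with ⟨r, hr⟩ | ⟨r, hr⟩
  · exact ⟨r, hr⟩
  · by_cases hru : IsUnit r
    · refine ⟨↑hru.unit⁻¹, ?_⟩
      rw [← inv_inv u, ← hr, map_units_inv]
      rfl
    · exfalso
      have hpr : p ∣ r := by
        rwa [← residue_eq_zero_iff_dvd hp, ← not_not (a := IsLocalRing.residue R r = 0),
          ← ne_eq, IsLocalRing.residue_ne_zero_iff_isUnit]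
      obtain ⟨n, ε, rfl⟩ := IsDiscreteValuationRing.eq_unit_mul_pow_irreducible hc hp
      obtain ⟨d, hd⟩ := h (n + 1)
      have : d * r ^ (n + 1) = ↑ε * p ^ n := IsFractionRing.injective R K (by
        rw [map_mul, hd, map_pow, hr, mul_assoc, ← mul_pow, mul_inv_cancel₀ hu, one_pow, mul_one])
      have h2 : p ^ (n + 1) ∣ ↑ε * p ^ n :=
        this ▸ Dvd.dvd.mul_left (pow_dvd_pow_of_dvd hpr _) d
      rw [Units.dvd_mul_left, pow_succ'] at h2
      exact hp.not_isUnit (isUnit_of_dvd_one ((mul_dvd_mul_iff_right (pow_ne_zero n hp.ne_zero)).1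
        (by simpa using h2)))

end Groth.Agent.Lib.Flat55.GmPoly
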