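import Groth.Agent.Lib.Flat55.GmModel
import Groth.Agent.Lib.Flat55.GmPoly
import Groth.Agent.Lib.GrpSch.SmoothReduced
import Groth.Agent.Lib.Henselian.Smooth
import Mathlib.RingTheory.Jacobson.Ring
import Mathlib.FieldTheory.IsAlgClosed.Basic

/-!
# Points of affine smooth models of `𝔾_m` over a complete discrete valuation ring

Main results: `exists_red_eq` (lifting), `mem_range_bcι` (integrality criterion by points),
`eq_one_of_pow_eq_one` (no prime-to-`p` torsion in the kernel of the coordinate on the special fibre).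
-/

set_option autoImplicit false
universe u

open CategoryTheory MonoidalCategory CartesianMonoidalCategory MonObj GrpObj AlgebraicGeometry
open Limits
open Groth.Agent.Lib.RedPts Groth.Agent.Lib.Flat55.GaModel

namespace Groth.Agent.Lib.Flat55.GmPoints

section Basic

variable {R : Type u} [CommRing R]

/-- Evaluation of functions at a section. -/
noncomputable def ev {X : Over (Spec (CommRingCat.of R))}
    (x : 𝟙_ (Over (Spec (CommRingCat.of R))) ⟶ X) : Γ(X.left, ⊤) →+* R :=
  (Scheme.ΓSpecIso (CommRingCat.of R)).hom.hom.comp x.left.appTop.hom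

theorem str_unit (r : R) :
    (Scheme.ΓSpecIso (CommRingCat.of R)).hom
      (str (𝟙_ (Over (Spec (CommRingCat.of R)))) r) = r :=
  Iso.inv_hom_id_apply (Scheme.ΓSpecIso (CommRingCat.of R)) r

theorem ev_str {X : Over (Spec (CommRingCat.of R))} (x : 𝟙_ (Over (Spec (CommRingCat.of R))) ⟶ X)
    (r : R) : ev x (str X r) = r :=
  (congrArg _ (appTop_str x r)).trans (str_unit r)

theorem ev_comp {X Y : Over (Spec (CommRingCat.of R))}
    (x : 𝟙_ (Over (Spec (CommRingCat.of R))) ⟶ X) (f : X ⟶ Y) (a : Γ(Y.left, ⊤)) :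
    ev (x ≫ f) a = ev x (f.left.appTop a) := rfl

theorem ev_ext {X : Over (Spec (CommRingCat.of R))} [IsAffine X.left]
    {x y : 𝟙_ (Over (Spec (CommRingCat.of R))) ⟶ X} (h : ∀ a, ev x a = ev y a) : x = y :=
  GaModel.hom_ext (CommRingCat.hom_ext (RingHom.ext fun a =>
    (ConcreteCategory.bijective_of_isIso (Scheme.ΓSpecIso (CommRingCat.of R)).hom).1 (h a)))

theorem exists_section {X : Over (Spec (CommRingCat.of R))} [IsAffine X.left]
    (h : Γ(X.left, ⊤) →+* R) (hh : ∀ r, h (str X r) = r) :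
    ∃ x : 𝟙_ (Over (Spec (CommRingCat.of R))) ⟶ X, ∀ a, ev x a = h a := by
  obtain ⟨x, hx⟩ := exists_hom (X := X) (T := 𝟙_ (Over (Spec (CommRingCat.of R))))
    ((Scheme.ΓSpecIso (CommRingCat.of R)).inv.hom.comp h) (RingHom.ext fun r => by
      change (Scheme.ΓSpecIso (CommRingCat.of R)).inv (h (str X r)) = _
      rw [hh]
      rfl)
  refine ⟨x, fun a => ?_⟩
  change (Scheme.ΓSpecIso (CommRingCat.of R)).hom (x.left.appTop a) = h a
  rw [hx]
  exact Iso.inv_hom_id_apply (Scheme.ΓSpecIso (CommRingCat.of R)) (h a)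

variable {K : Type u} [CommRing K] (φ : R →+* K) {G : Over (Spec (CommRingCat.of R))} [GrpObj G]

/-- Base change of sections. -/
noncomputable def red : (𝟙_ (Over (Spec (CommRingCat.of R))) ⟶ G) →*
    (𝟙_ (Over (Spec (CommRingCat.of K))) ⟶ Red.bc (Spec.map (CommRingCat.ofHom φ)) G) :=
  MonoidHom.mk' (fun g => BC.up _ (toUnit _ ≫ g)) fun a b => by
    rw [MonObj.comp_mul, BC.up_mul]

theorem ev_red (g : 𝟙_ (Over (Spec (CommRingCat.of R))) ⟶ G) (a : Γ(G.left, ⊤)) :
    ev (red φ g) (bcι φ G a) = φ (ev g a) := by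
  have h : (red φ g).left ≫ pullback.fst G.hom (Spec.map (CommRingCat.ofHom φ)) =
      Spec.map (CommRingCat.ofHom φ) ≫ g.left := by
    rw [← BC.down_left, red, MonoidHom.mk'_apply, BC.down_up, Over.comp_left]
    congr 1
  have h2 := congrArg (fun k : Spec (CommRingCat.of K) ⟶ G.left =>
    (Scheme.ΓSpecIso (CommRingCat.of K)).hom (k.appTop a)) h
  refine h2.trans ?_
  change ((Spec.map (CommRingCat.ofHom φ)).appTop ≫ (Scheme.ΓSpecIso (CommRingCat.of K)).hom)
    (g.left.appTop a) = _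
  rw [Scheme.ΓSpecIso_naturality]
  rfl

theorem ev_gm_mul {P : Over (Spec (CommRingCat.of R))} [GrpObj P]
    (e : P ⟶ Red.Gm (Spec (CommRingCat.of R))) [IsMonHom e]
    (x y : 𝟙_ (Over (Spec (CommRingCat.of R))) ⟶ P) :
    ev (x * y) (Red.gmFn e) = ev x (Red.gmFn e) * ev y (Red.gmFn e) := by
  change (Scheme.ΓSpecIso (CommRingCat.of R)).hom ((x * y).left.appTop (Red.gmFn e)) =
    (Scheme.ΓSpecIso (CommRingCat.of R)).hom (x.left.appTop (Red.gmFn e)) *
    (Scheme.ΓSpecIso (CommRingCat.of R)).hom (y.left.appTop (Red.gmFn e))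
  rw [← Gm.gmFn_comp, ← Gm.gmFn_comp, ← Gm.gmFn_comp, MonObj.mul_comp _ _ e, Gm.gmFn_mul, map_mul]

theorem ev_gm_pow {P : Over (Spec (CommRingCat.of R))} [GrpObj P]
    (e : P ⟶ Red.Gm (Spec (CommRingCat.of R))) [IsMonHom e]
    (x : 𝟙_ (Over (Spec (CommRingCat.of R))) ⟶ P) (n : ℕ) :
    ev (x ^ n) (Red.gmFn e) = ev x (Red.gmFn e) ^ n := by
  induction n with
  | zero =>
    rw [pow_zero, pow_zero]
    change (Scheme.ΓSpecIso (CommRingCat.of R)).hom ((1 : 𝟙_ _ ⟶ P).left.appTop (Red.gmFn e)) = 1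
    rw [← Gm.gmFn_comp, MonObj.one_comp e, Gm.gmFn_one, map_one]
  | succ n ih => rw [pow_succ, ev_gm_mul, ih, pow_succ]

end Basic

section Model

variable {R : Type u} [CommRing R] [IsDomain R] [IsDiscreteValuationRing R]
  [IsAdicComplete (IsLocalRing.maximalIdeal R) R] {K : Type u} [Field K] [Algebra R K]
  [IsFractionRing R K] [IsAlgClosed (IsLocalRing.ResidueField R)]
  {G : Over (Spec (CommRingCat.of R))} [GrpObj G] [Smooth G.hom] [IsAffine G.left]
  [LocallyOfFiniteType G.hom]


omit [IsAdicComplete (IsLocalRing.maximalIdeal R) R] [IsAlgClosed (IsLocalRing.ResidueField R)]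
  [GrpObj G] [Smooth G.hom] in
theorem isAffine_bc {L : Type u} [CommRing L] (φ : R →+* L) :
    IsAffine (Red.bc (Spec.map (CommRingCat.ofHom φ)) G).left :=
  inferInstanceAs (IsAffine (pullback G.hom (Spec.map (CommRingCat.ofHom φ))))

theorem exists_red_eq (x : 𝟙_ (Over (Spec (CommRingCat.of (IsLocalRing.ResidueField R)))) ⟶ (Red.bc (Spec.map (CommRingCat.ofHom (IsLocalRing.residue R))) G)) :
    ∃ g : 𝟙_ (Over (Spec (CommRingCat.of R))) ⟶ G, (red (IsLocalRing.residue R) (G := G)) g = x := by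
  have h1 : G.hom.appTop.hom.Smooth := (HasRingHomProperty.iff_of_isAffine (P := @Smooth)).1 ‹_›
  have hs : (str G).Smooth := RingHom.Smooth.comp
    (RingHom.Smooth.of_bijective
      (ConcreteCategory.bijective_of_isIso (Scheme.ΓSpecIso (CommRingCat.of R)).inv)) h1
  algebraize [str G]
  have : Algebra.Smooth R Γ(G.left, ⊤) := hs
  let χ : Γ(G.left, ⊤) →+* IsLocalRing.ResidueField R := (ev x).comp (bcι (IsLocalRing.residue R) G)
  let χ' : Γ(G.left, ⊤) →ₐ[R] R ⧸ IsLocalRing.maximalIdeal R :=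
    { toRingHom := χ, commutes' := fun r => by
        change ev x (bcι _ G (str G r)) = _
        rw [bcι_str, ev_str]
        rfl }
  obtain ⟨τ, hτ⟩ := Henselian.Smooth.exists_algHom_lift_smooth (IsLocalRing.maximalIdeal R) χ'
  obtain ⟨g, hg⟩ := exists_section (X := G) τ.toRingHom fun r => τ.commutes r
  refine ⟨g, ?_⟩
  have := isAffine_bc (G := G) (IsLocalRing.residue R)
  refine ev_ext fun b => ?_
  obtain ⟨a, rfl⟩ := bc_surjective _ G IsLocalRing.residue_surjective b
  rw [ev_red, hg]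
  exact AlgHom.congr_fun hτ a

omit [IsAdicComplete (IsLocalRing.maximalIdeal R) R] in
theorem dvd_of_forall_ev_eq_zero {p : R} (hp : Irreducible p) (a : Γ(G.left, ⊤))
    (h : ∀ x : 𝟙_ (Over (Spec (CommRingCat.of (IsLocalRing.ResidueField R)))) ⟶ (Red.bc (Spec.map (CommRingCat.ofHom (IsLocalRing.residue R))) G),
      ev x (bcι (IsLocalRing.residue R) G a) = 0) : str G p ∣ a := by
  let res := IsLocalRing.residue R
  let f := Spec.map (CommRingCat.ofHom res)
  have : IsAffine (Red.bc f G).left := isAffine_bc res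
  have : Smooth (pullback.snd G.hom f) := MorphismProperty.pullback_snd _ _ inferInstance
  have : IsReduced (Red.bc f G).left :=
    Lib.GrpSch.isReduced_of_smooth_field (k := IsLocalRing.ResidueField R) (pullback.snd G.hom f)
  have : LocallyOfFiniteType (Red.bc f G).hom :=
    inferInstanceAs (LocallyOfFiniteType (pullback.snd G.hom f))
  let B := Γ((Red.bc f G).left, ⊤)
  algebraize [str (Red.bc f G)]
  have : Algebra.FiniteType (IsLocalRing.ResidueField R) B :=
    RingHom.FiniteType.comp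
      (HasRingHomProperty.appTop @LocallyOfFiniteType (Red.bc f G).hom inferInstance)
      (RingHom.FiniteType.of_surjective _
        (ConcreteCategory.bijective_of_isIso
          (Scheme.ΓSpecIso (CommRingCat.of (IsLocalRing.ResidueField R))).inv).2)
  have : IsJacobsonRing B := isJacobsonRing_of_finiteType (A := IsLocalRing.ResidueField R)
  have hker : RingHom.ker (bcι res G) = Ideal.span {str G p} := by
    rw [bc_ker res G IsLocalRing.residue_surjective, IsLocalRing.ker_residue, hp.maximalIdeal_eq,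
      Ideal.map_span, Set.image_singleton]
  rw [← Ideal.mem_span_singleton, ← hker, RingHom.mem_ker]
  have hmem : bcι res G a ∈ (⊥ : Ideal B).jacobson := by
    rw [Ideal.jacobson, Submodule.mem_sInf]
    rintro M ⟨-, hM⟩
    let _ := Ideal.Quotient.field M
    have : Module.Finite (IsLocalRing.ResidueField R) (B ⧸ M) :=
      finite_of_finite_type_of_isJacobsonRing _ _
    let ε := RingEquiv.ofBijective _
      (IsAlgClosed.algebraMap_bijective_of_isIntegral
        (k := IsLocalRing.ResidueField R) (K := B ⧸ M))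
    obtain ⟨x, hx⟩ := exists_section (X := Red.bc f G)
      (ε.symm.toRingHom.comp (Ideal.Quotient.mk M)) fun r => ε.symm_apply_apply r
    have h0 := (hx (bcι res G a)).symm.trans (h x)
    exact Ideal.Quotient.eq_zero_iff_mem.1 (ε.symm.injective (h0.trans (map_zero ε.symm).symm))
  rw [← Ideal.radical_eq_jacobson, ← Ideal.zero_eq_bot] at hmem
  obtain ⟨n, hn⟩ := hmem
  exact eq_zero_of_pow_eq_zero hn

theorem mem_range_bcι (b : Γ(((Red.bc (Spec.map (CommRingCat.ofHom (algebraMap R K))) G)).left, ⊤))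
    (h : ∀ g, ev ((red (algebraMap R K) (G := G)) g) b ∈ Set.range (algebraMap R K)) :
    ∃ a, bcι (algebraMap R K) G a = b := by
  obtain ⟨p, hp⟩ := IsDiscreteValuationRing.exists_irreducible R
  have hinj := IsFractionRing.injective R K
  obtain ⟨c, hc, a0, ha0⟩ := (bc_injective_and_surj K G).2 b
  rw [bcι_str] at ha0
  obtain ⟨n, ε, rfl⟩ := IsDiscreteValuationRing.eq_unit_mul_pow_irreducible hc hp
  have hp0 : algebraMap R K p ≠ 0 := (map_ne_zero_iff _ hinj).2 hp.ne_zero
  suffices H : ∀ (m : ℕ) (a : Γ(G.left, ⊤)),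
      bcι (algebraMap R K) G a = str (Red.bc (Spec.map (CommRingCat.ofHom (algebraMap R K))) G) (algebraMap R K p ^ m) * b →
      ∃ a', bcι (algebraMap R K) G a' = b by
    refine H n (str G ↑ε⁻¹ * a0) ?_
    rw [map_mul, ha0, bcι_str, ← _root_.mul_assoc, ← map_mul, ← map_mul, ← _root_.mul_assoc, Units.inv_mul, _root_.one_mul,
      map_pow (algebraMap R K)]
  intro m
  induction m with
  | zero => exact fun a ha => ⟨a, by rw [ha, pow_zero, map_one, _root_.one_mul]⟩
  | succ m ih =>
    intro a ha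
    obtain ⟨a', rfl⟩ : str G p ∣ a := dvd_of_forall_ev_eq_zero hp a fun x => by
      obtain ⟨g, rfl⟩ := exists_red_eq x
      rw [ev_red, GmPoly.residue_eq_zero_iff_dvd hp]
      obtain ⟨r, hr⟩ := h g
      refine ⟨p ^ m * r, hinj ?_⟩
      rw [← ev_red (algebraMap R K), ha, map_mul, ev_str, ← hr, ← map_pow, ← map_mul, pow_succ',
        _root_.mul_assoc]
    refine ih a' (IsUnit.mul_left_cancel ((isUnit_iff_ne_zero.2 hp0).map (str (Red.bc (Spec.map (CommRingCat.ofHom (algebraMap R K))) G))) ?_)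
    rw [← _root_.mul_assoc, ← map_mul, ← pow_succ', ← ha, map_mul, bcι_str]

variable (e : (Red.bc (Spec.map (CommRingCat.ofHom (algebraMap R K))) G) ≅ Red.Gm (Spec (CommRingCat.of K))) [IsMonHom e.hom]

theorem exists_coord :
    ∃ s : Γ(G.left, ⊤), IsUnit s ∧ bcι (algebraMap R K) G s = Red.gmFn e.hom := by
  obtain ⟨p, hp⟩ := IsDiscreteValuationRing.exists_irreducible R
  obtain ⟨c, hc, a0, ha0⟩ := (bc_injective_and_surj K G).2 (Red.gmFn e.hom)
  rw [bcι_str] at ha0
  have key : ∀ g, ev ((red (algebraMap R K) (G := G)) g) (Red.gmFn e.hom) ∈ Set.range (algebraMap R K) := by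
    intro g
    refine GmPoly.mem_range_of_mul_pow_mem hp hc _ fun m => ⟨ev (g ^ m) a0, ?_⟩
    rw [← ev_red (algebraMap R K), ha0, map_mul, ev_str, map_pow, ev_gm_pow]
  obtain ⟨s, hs⟩ := mem_range_bcι _ key
  let w := (Gm.isUnit_gmFn e.hom).unit
  obtain ⟨s', hs'⟩ := mem_range_bcι (↑w⁻¹ : Γ(((Red.bc (Spec.map (CommRingCat.ofHom (algebraMap R K))) G)).left, ⊤)) fun g => by
    obtain ⟨r, hr⟩ := key g⁻¹
    refine ⟨r, hr.trans ?_⟩
    have h1 := ev_gm_mul e.hom ((red (algebraMap R K) (G := G)) g⁻¹) ((red (algebraMap R K) (G := G)) g)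
    rw [← map_mul, inv_mul_cancel, map_one] at h1
    have h0 := ev_gm_pow e.hom (1 : 𝟙_ _ ⟶ (Red.bc (Spec.map (CommRingCat.ofHom (algebraMap R K))) G)) 0
    rw [pow_zero, pow_zero] at h0
    have h2 : ev ((red (algebraMap R K) (G := G)) g) (↑w⁻¹ : Γ(((Red.bc (Spec.map (CommRingCat.ofHom (algebraMap R K))) G)).left, ⊤)) * ev ((red (algebraMap R K) (G := G)) g) (Red.gmFn e.hom) = 1 := by
      rw [← map_mul, show (↑w⁻¹ : Γ(((Red.bc (Spec.map (CommRingCat.ofHom (algebraMap R K))) G)).left, ⊤)) * Red.gmFn e.hom = 1 from w.inv_mul, map_one]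
    exact (mul_right_cancel₀ (right_ne_zero_of_mul (h2.trans_ne one_ne_zero))
      ((h2.trans (h0.symm.trans h1)))).symm
  refine ⟨s, isUnit_iff_exists_inv.2 ⟨s', (bc_injective_and_surj K G).1 ?_⟩, hs⟩
  rw [map_mul, hs, hs', map_one]
  exact w.mul_inv

omit [IsAdicComplete (IsLocalRing.maximalIdeal R) R] [IsAlgClosed (IsLocalRing.ResidueField R)]
  [IsMonHom e.hom] in
theorem exists_repr {s : Γ(G.left, ⊤)} (hs : bcι (algebraMap R K) G s = Red.gmFn e.hom)
    (a : Γ(G.left, ⊤)) :
    ∃ (c : R) (d : ℕ) (P : Polynomial R), c ≠ 0 ∧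
      str G c * a * s ^ d = Polynomial.eval₂ (str G) s P := by
  have := isAffine_bc (G := G) (algebraMap R K)
  let w := (Gm.isUnit_gmFn e.hom).unit
  obtain ⟨L, hL⟩ := (GmModel.bijective_eval_of_iso_Gm e w rfl).2 (bcι (algebraMap R K) G a)
  obtain ⟨d, Q, hQ⟩ := LaurentPolynomial.exists_T_pow L
  obtain ⟨b, hb, hN⟩ := IsLocalization.integerNormalization_spec (nonZeroDivisors R) Q
  refine ⟨b, d, IsLocalization.integerNormalization (nonZeroDivisors R) Q, nonZeroDivisors.ne_zero hb,
    (bc_injective_and_surj K G).1 ?_⟩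
  have h1 := congrArg (LaurentPolynomial.eval₂ (str (Red.bc (Spec.map (CommRingCat.ofHom (algebraMap R K))) G)) w) hQ
  rw [LaurentPolynomial.eval₂_toLaurent, map_mul, hL, LaurentPolynomial.eval₂_T_n] at h1
  rw [map_mul, map_mul, map_pow, bcι_str, hs, Polynomial.hom_eval₂, hs, _root_.mul_assoc,
    show (bcι (algebraMap R K) G).comp (str G) = (str (Red.bc (Spec.map (CommRingCat.ofHom (algebraMap R K))) G)).comp (algebraMap R K) from
      RingHom.ext (bcι_str _ G), ← Polynomial.eval₂_map, hN, Algebra.smul_def,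
    Polynomial.eval₂_mul, IsScalarTower.algebraMap_apply R K (Polynomial K), Polynomial.algebraMap_eq,
    Polynomial.eval₂_C]
  exact congrArg (str (Red.bc (Spec.map (CommRingCat.ofHom (algebraMap R K))) G) (algebraMap R K b) * ·) h1.symm

include e in
theorem mul_comm_points (x y : 𝟙_ (Over (Spec (CommRingCat.of (IsLocalRing.ResidueField R)))) ⟶ (Red.bc (Spec.map (CommRingCat.ofHom (IsLocalRing.residue R))) G)) :
    x * y = y * x := by
  obtain ⟨g, rfl⟩ := exists_red_eq x
  obtain ⟨g', rfl⟩ := exists_red_eq y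
  rw [← map_mul, ← map_mul]
  congr 1
  have hK : (red (algebraMap R K) (G := G)) (g * g') = (red (algebraMap R K) (G := G)) (g' * g) := by
    rw [map_mul, map_mul]
    have : IsMonHom e.hom := ‹_›
    rw [← cancel_mono e.hom, MonObj.mul_comp _ _ e.hom, MonObj.mul_comp _ _ e.hom]
    exact Gm.gmFn_injective (by rw [Gm.gmFn_mul, Gm.gmFn_mul, mul_comm])
  refine ev_ext fun a => IsFractionRing.injective R K ?_
  rw [← ev_red (algebraMap R K), ← ev_red (algebraMap R K), hK]

variable {s : Γ(G.left, ⊤)} (hs : bcι (algebraMap R K) G s = Red.gmFn e.hom)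
include e hs

theorem ev_coord_pow (g : 𝟙_ (Over (Spec (CommRingCat.of R))) ⟶ G) (n : ℕ) :
    ev (g ^ n) s = ev g s ^ n := by
  apply IsFractionRing.injective R K
  rw [← ev_red (algebraMap R K), hs, map_pow, map_pow, ev_gm_pow, ← hs, ev_red]

theorem ev_coord_mul (g g' : 𝟙_ (Over (Spec (CommRingCat.of R))) ⟶ G) :
    ev (g * g') s = ev g s * ev g' s := by
  apply IsFractionRing.injective R K
  rw [← ev_red (algebraMap R K), hs, map_mul, map_mul, ev_gm_mul, ← hs, ev_red, ev_red]

/-- The coordinate on the points of the special fibre, as a character. -/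
theorem exists_char : ∃ χ : (𝟙_ (Over (Spec (CommRingCat.of (IsLocalRing.ResidueField R)))) ⟶ (Red.bc (Spec.map (CommRingCat.ofHom (IsLocalRing.residue R))) G)) →*
    IsLocalRing.ResidueField R, ∀ x, χ x = ev x (bcι (IsLocalRing.residue R) G s) := by
  refine ⟨⟨⟨fun x => ev x (bcι (IsLocalRing.residue R) G s), ?_⟩, fun x y => ?_⟩, fun x => rfl⟩
  · change ev (1 : 𝟙_ _ ⟶ (Red.bc (Spec.map (CommRingCat.ofHom (IsLocalRing.residue R))) G)) (bcι (IsLocalRing.residue R) G s) = 1
    rw [← map_one (red (IsLocalRing.residue R) (G := G)), ev_red]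
    have h0 := ev_coord_pow e hs 1 0
    rw [pow_zero, pow_zero] at h0
    rw [h0, map_one]
  · change ev (x * y) (bcι (IsLocalRing.residue R) G s) =
      ev x (bcι (IsLocalRing.residue R) G s) * ev y (bcι (IsLocalRing.residue R) G s)
    obtain ⟨g, rfl⟩ := exists_red_eq x
    obtain ⟨g', rfl⟩ := exists_red_eq y
    rw [← map_mul (red (IsLocalRing.residue R) (G := G)), ev_red, ev_red, ev_red, ev_coord_mul e hs, map_mul]

theorem eq_one_of_pow_eq_one {N : ℕ} (hN : (N : IsLocalRing.ResidueField R) ≠ 0)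
    (x : 𝟙_ (Over (Spec (CommRingCat.of (IsLocalRing.ResidueField R)))) ⟶ (Red.bc (Spec.map (CommRingCat.ofHom (IsLocalRing.residue R))) G))
    (hx : x ^ N = 1) (h1 : ev x (bcι (IsLocalRing.residue R) G s) = 1) : x = 1 := by
  obtain ⟨p, hp⟩ := IsDiscreteValuationRing.exists_irreducible R
  obtain ⟨g, rfl⟩ := exists_red_eq x
  rw [ev_red] at h1
  have := isAffine_bc (G := G) (IsLocalRing.residue R)
  refine ev_ext fun b => ?_
  obtain ⟨a, rfl⟩ := bc_surjective _ G IsLocalRing.residue_surjective b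
  rw [← map_one (red (IsLocalRing.residue R) (G := G)), ev_red, ev_red]
  obtain ⟨c, d, P, hc, hP⟩ := exists_repr e hs a
  have hval : ∀ h, c * ev h a * ev h s ^ d = P.eval (ev h s) := fun h => by
    have := congrArg (ev h) hP
    rw [map_mul, map_mul, map_pow, ev_str, Polynomial.hom_eval₂,
      show (ev h).comp (str G) = RingHom.id R from RingHom.ext (ev_str h),
      Polynomial.eval₂_id] at this
    exact this
  let ε := ev (1 : 𝟙_ (Over (Spec (CommRingCat.of R))) ⟶ G) a
  let F := P - Polynomial.C (c * ε) * Polynomial.X ^ d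
  have hF : ∀ h, F.eval (ev h s) = c * ((ev h a - ε) * ev h s ^ d) := fun h => by
    simp only [F, Polynomial.eval_sub, Polynomial.eval_mul, Polynomial.eval_C, Polynomial.eval_pow,
      Polynomial.eval_X, ← hval h]
    ring
  have hv : p ∣ ev g s - 1 := by
    rw [← GmPoly.residue_eq_zero_iff_dvd hp, map_sub, h1, map_one, sub_self]
  have hmain := GmPoly.dvd_eval_of_dvd_eval_pow hp hN hv (mul_ne_zero hc hp.ne_zero) F fun n => by
    rw [← ev_coord_pow e hs, hF]
    refine mul_dvd_mul_left c (Dvd.dvd.mul_right ?_ _)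
    have hred : (red (IsLocalRing.residue R) (G := G)) (g ^ (N * n)) = (red (IsLocalRing.residue R) (G := G)) 1 := by
      rw [map_pow, pow_mul, hx, one_pow, map_one]
    rw [← GmPoly.residue_eq_zero_iff_dvd hp, map_sub, ← ev_red (IsLocalRing.residue R), hred, ev_red,
      sub_self]
  rw [hF, mul_dvd_mul_iff_left hc, ← GmPoly.residue_eq_zero_iff_dvd hp, map_mul, map_pow, h1,
    one_pow, _root_.mul_one, map_sub, sub_eq_zero] at hmain
  exact hmain

end Model

end Groth.Agent.Lib.Flat55.GmPoints
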