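import Groth.Agent.H19.FlatLocus.Scheme
import Groth.Agent.H19.FlatLocus.Basic
import Groth.Agent.Lib.LocalFlat.Criterion
import Mathlib.AlgebraicGeometry.IdealSheaf.Subscheme
import Mathlib.AlgebraicGeometry.Pullbacks
import Mathlib.AlgebraicGeometry.Morphisms.Flat
import Mathlib.AlgebraicGeometry.Noetherian

/-!
# Flatness from flatness on all infinitesimal neighbourhoods
-/

set_option autoImplicit false

universe u

open CategoryTheory CategoryTheory.Limits AlgebraicGeometry TopologicalSpace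
open scoped TensorProduct

namespace Groth.Agent.Lib.Flat55.Infinitesimal

variable {X S : Scheme.{u}}

set_option backward.isDefEq.respectTransparency false in
/-- Flat base change to a closed subscheme, on affine charts. -/
theorem flat_tensor_quotient (f : X ⟶ S) (K : S.IdealSheafData)
    (h : Flat (pullback.snd f K.subschemeι)) {V : S.Opens} (hV : IsAffineOpen V)
    {U : X.Opens} (hU : IsAffineOpen U) (hUV : U ≤ f ⁻¹ᵁ V) :
    letI := (f.appLE V U hUV).hom.toAlgebra
    Module.Flat (Γ(S, V) ⧸ K.ideal ⟨V, hV⟩)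
      ((Γ(S, V) ⧸ K.ideal ⟨V, hV⟩) ⊗[Γ(S, V)] Γ(X, U)) := by
  let : Algebra Γ(S, V) Γ(X, U) := (f.appLE V U hUV).hom.toAlgebra
  set A := Γ(S, V) ⧸ K.ideal ⟨V, hV⟩
  let m : Spec (.of A) ⟶ Spec Γ(S, V) := Spec.map (CommRingCat.ofHom (Ideal.Quotient.mk _))
  have hm : K.subschemeCover.f ⟨V, hV⟩ ≫ K.subschemeι = m ≫ hV.fromSpec :=
    (K.subschemeCover_map_subschemeι ⟨V, hV⟩).trans (K.glueDataObjι_ι ⟨V, hV⟩)
  let f₀ : Spec Γ(X, U) ⟶ Spec Γ(S, V) :=
    Spec.map (CommRingCat.ofHom (algebraMap Γ(S, V) Γ(X, U)))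
  have hsq : hU.fromSpec ≫ f = f₀ ≫ hV.fromSpec := (hV.SpecMap_appLE_fromSpec f hU hUV).symm
  let l := pullback.lift (f := f) (g := hV.fromSpec) hU.fromSpec f₀ hsq
  have : IsOpenImmersion l := by
    have : IsOpenImmersion (l ≫ pullback.fst f hV.fromSpec) := by
      rw [pullback.lift_fst]; infer_instance
    exact IsOpenImmersion.of_comp l (pullback.fst f hV.fromSpec)
  have h1 : Flat (pullback.snd f (K.subschemeCover.f ⟨V, hV⟩ ≫ K.subschemeι)) := by
    rw [← pullbackLeftPullbackSndIso_inv_snd_snd]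
    infer_instance
  rw [hm] at h1
  have h2 : Flat (pullback.snd (pullback.snd f hV.fromSpec) m) := by
    rw [← pullbackLeftPullbackSndIso_hom_snd]
    infer_instance
  have h3 : Flat (pullback.snd f₀ m) := by
    rw [show f₀ = l ≫ pullback.snd f hV.fromSpec from (pullback.lift_snd _ _ _).symm,
      ← pullbackRightPullbackFstIso_inv_snd_snd]
    infer_instance
  have h4 : Flat (pullback.fst m f₀) := by
    rw [← pullbackSymmetry_hom_comp_snd]
    infer_instance
  have h5 : Flat ((pullbackSpecIso Γ(S, V) A Γ(X, U)).inv ≫ pullback.fst _ _) :=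
    (MorphismProperty.cancel_left_of_respectsIso @Flat _ _).2 h4
  rw [pullbackSpecIso_inv_fst, HasRingHomProperty.Spec_iff (P := @Flat)] at h5
  exact RingHom.flat_algebraMap_iff.1 h5

/-- Flatness at the points over `Z` from flatness over all the infinitesimal neighbourhoods of
`Z`. -/
theorem flat_stalkMap (f : X ⟶ S) [IsLocallyNoetherian X] [IsLocallyNoetherian S]
    (I : S.IdealSheafData) (h : ∀ n : ℕ, Flat (pullback.snd f (I ^ (n + 1)).subschemeι))
    (x : X) (hx : f x ∈ I.support) : (f.stalkMap x).hom.Flat := by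
  open Groth.Agent.Lib.LocalFlat in
  obtain ⟨V, hV, hxV, -⟩ := exists_isAffineOpen_mem_and_subset (X := S) (x := f x) (U := ⊤) trivial
  obtain ⟨U, hU, hxU, hUV⟩ := exists_isAffineOpen_mem_and_subset (X := X) (x := x) (U := f ⁻¹ᵁ V) hxV
  let : Algebra Γ(S, V) Γ(X, U) := (f.appLE V U hUV).hom.toAlgebra
  have : IsNoetherianRing Γ(S, V) := IsLocallyNoetherian.component_noetherian ⟨V, hV⟩
  have : IsNoetherianRing Γ(X, U) := IsLocallyNoetherian.component_noetherian ⟨U, hU⟩
  rw [H19.FlatLocus.Scheme.flat_stalkMap_iff f hV hU hUV hxU]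
  set q := hU.primeIdealOf ⟨x, hxU⟩
  let Sq := Localization q.asIdeal.primeCompl
  have : IsNoetherianRing Sq := IsLocalization.isNoetherianRing q.asIdeal.primeCompl Sq inferInstance
  have : Module.Finite Sq (LocalizedModule q.asIdeal.primeCompl Γ(X, U)) :=
    Module.Finite.of_isLocalizedModule q.asIdeal.primeCompl
      (LocalizedModule.mkLinearMap q.asIdeal.primeCompl Γ(X, U))
  have hq : (I.ideal ⟨V, hV⟩).map (algebraMap Γ(S, V) Γ(X, U)) ≤ q.asIdeal := by
    rw [Ideal.map_le_iff_le_comap, RingHom.algebraMap_toAlgebra]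
    have e : q.asIdeal.comap (f.appLE V U hUV).hom = (hV.primeIdealOf ⟨f x, hxV⟩).asIdeal :=
      congr($(IsAffineOpen.comap_primeIdealOf_appLE V hV U hU hUV hxU).1)
    rw [e, ← SetLike.coe_subset_coe]
    have := (Scheme.IdealSheafData.mem_support_iff_of_mem (U := ⟨V, hV⟩) hxV).1 hx
    have h2 : hV.primeIdealOf ⟨f x, hxV⟩ ∈ PrimeSpectrum.zeroLocus (I.ideal ⟨V, hV⟩ : Set Γ(S, V)) :=
      (hV.fromSpec_preimage_zeroLocus (I.ideal ⟨V, hV⟩ : Set Γ(S, V))).le
        (Set.mem_preimage.2 (Eq.mpr (congrArg (· ∈ _) (hV.fromSpec_primeIdealOf ⟨f x, hxV⟩)) this))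
    exact h2
  refine Criterion.flat_of_forall_pow Sq (I.ideal ⟨V, hV⟩) ?_ fun n p ↦ ?_
  · rw [IsLocalRing.jacobson_eq_maximalIdeal ⊥ bot_ne_top,
      IsScalarTower.algebraMap_eq Γ(S, V) Γ(X, U) Sq, ← Ideal.map_map,
      ← Localization.AtPrime.map_eq_maximalIdeal]
    exact Ideal.map_mono hq
  · rcases n with - | n
    · have : Subsingleton (Γ(S, V) ⧸ I.ideal ⟨V, hV⟩ ^ 0) :=
        Ideal.Quotient.subsingleton_iff.2 (by simp)
      have hz : ∀ z : LocalizedModule q.asIdeal.primeCompl Γ(X, U) ⊗[Γ(S, V)] p, z = 0 := by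
        intro z
        induction z using TensorProduct.induction_on with
        | zero => rfl
        | add a b ha hb => rw [ha, hb, add_zero]
        | tmul m a => rw [Subsingleton.elim a 0, TensorProduct.tmul_zero]
      intro z y _
      rw [hz z, hz y]
    · have := flat_tensor_quotient f (I ^ (n + 1)) (h n) hV hU hUV
      rw [Scheme.IdealSheafData.ideal_pow, Pi.pow_apply] at this
      refine H19.FlatLocus.lTensor_injective_of_killed q.asIdeal.primeCompl
        (LocalizedModule.mkLinearMap q.asIdeal.primeCompl Γ(X, U)) p.subtype fun y hy ↦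
        ⟨1, one_mem _, ?_⟩
      rw [one_smul]
      exact Basic.lTensor_subtype_injective_of_flat_quotient (I := I.ideal ⟨V, hV⟩ ^ (n + 1)) p
        (hy.trans (map_zero _).symm)

end Groth.Agent.Lib.Flat55.Infinitesimal
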