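import Groth.Agent.H46.NoethModel
import Groth.Agent.H47.ExcellentZ
import Groth.Agent.Lib.Excellent.NormalAscent

/-!
# A flat algebra with geometrically reduced fibres over a normal domain is integrally closed in its
generic fibre

`dvd_of_eval_eq_zero`: if `A` is a normal domain, `B` a flat finitely presented `A`-algebra with
geometrically reduced fibres, `a ≠ 0`, and `b / a` is integral over `B`, then `a ∣ b`.
-/

set_option linter.style.haveILetI false

universe u

open CategoryTheory AlgebraicGeometry Limits TensorProduct nonZeroDivisors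
open Groth.Agent.H46 Groth.Agent.H46.UnivOpenFinite

namespace Groth.Agent.Lib.Flat55.IntClosedFlat

/-- The fibre of a flat algebra with geometrically reduced fibre is reduced modulo the prime. -/
theorem isReduced_quotient_map {C T : Type u} [CommRing C] [CommRing T] [Algebra C T]
    [Module.Flat C T] (hgr : ∀ u, GRAt.GRAt (sm C T) u) (q : Ideal C) [q.IsPrime] :
    _root_.IsReduced (T ⧸ q.map (algebraMap C T)) := by
  let κ := q.ResidueField
  let P := Spec (CommRingCat.of (κ ⊗[C] T))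
  have sq := isPullback_pr (R₀ := C) (A := T) κ
  haveI : IsReduced P := by
    haveI : ∀ p : P, _root_.IsReduced (P.presheaf.stalk p) := fun p =>
      GRAt.isReduced_of_isPullback (hgr (pr C κ T p)) sq p rfl
    exact isReduced_of_isReduced_stalk P
  haveI : _root_.IsReduced (κ ⊗[C] T) := (affine_isReduced_iff _).mp ‹IsReduced P›
  let E := Algebra.TensorProduct.quotIdealMapEquivTensorQuot T q
  let g : (C ⧸ q) →ₐ[C] κ := IsScalarTower.toAlgHom C (C ⧸ q) κ
  have hg : Function.Injective g := Ideal.injective_algebraMap_quotient_residueField q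
  have hG : Function.Injective (Algebra.TensorProduct.map (AlgHom.id C T) g) :=
    Module.Flat.lTensor_preserves_injective_linearMap (M := T) g.toLinearMap hg
  let F : (T ⊗[C] (C ⧸ q)) →+* (κ ⊗[C] T) :=
    (Algebra.TensorProduct.comm C T κ).toAlgHom.toRingHom.comp
      (Algebra.TensorProduct.map (AlgHom.id C T) g).toRingHom
  refine isReduced_of_injective (F.comp (E.toRingEquiv.toRingHom)) ?_
  exact ((Algebra.TensorProduct.comm C T κ).injective.comp hG).comp E.injective

/-- The Noetherian case, for explicit coefficients. -/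
theorem dvd_noetherian {C T : Type u} [CommRing C] [IsDomain C] [IsNoetherianRing C]
    [IsIntegrallyClosed C] [CommRing T] [Algebra C T] [Module.Flat C T]
    (hgr : ∀ u, GRAt.GRAt (sm C T) u) {ξ : C} (hξ : ξ ≠ 0) (z : T) (n : ℕ) (c : ℕ → T)
    (h : z ^ n + ∑ i ∈ Finset.range n, c i * algebraMap C T ξ ^ (n - i) * z ^ i = 0) :
    algebraMap C T ξ ∣ z := by
  let M := Algebra.algebraMapSubmonoid T C⁰
  let L := Localization M
  have hle : M ≤ T⁰ := by
    rintro _ ⟨s, hs, rfl⟩
    exact mem_nonZeroDivisors_iff_right.mpr fun x hx =>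
      (IsSMulRegular.of_flat (S := T) (IsRegular.of_ne_zero (nonZeroDivisors.ne_zero hs)).left
        ).right_eq_zero_of_smul (by
          show algebraMap C T s * x = 0
          rw [mul_comm]; exact hx)
  have hinj : Function.Injective (algebraMap T L) := IsLocalization.injective L hle
  have hu : ∀ b : C, b ≠ 0 → IsUnit (algebraMap C L b) := fun b hb => by
    rw [IsScalarTower.algebraMap_apply C T L]
    exact IsLocalization.map_units L (⟨_, b, mem_nonZeroDivisors_of_ne_zero hb, rfl⟩ : M)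
  obtain ⟨w, hw⟩ := hu ξ hξ
  let y : L := ↑w⁻¹ * algebraMap T L z
  have hzy : algebraMap T L z = algebraMap C L ξ * y := by
    rw [← hw, Units.mul_inv_cancel_left]
  have hy : IsIntegral T y := by
    nontriviality T
    refine ⟨Polynomial.X ^ n + ∑ i ∈ Finset.range n, Polynomial.C (c i) * Polynomial.X ^ i, ?_, ?_⟩
    · refine Polynomial.monic_X_pow_add ?_
      refine lt_of_le_of_lt (Polynomial.degree_sum_le _ _) ?_
      refine (Finset.sup_lt_iff (WithBot.bot_lt_coe n)).2 fun i hi => ?_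
      exact lt_of_le_of_lt (Polynomial.degree_C_mul_X_pow_le i (c i))
        (WithBot.coe_lt_coe.2 (Finset.mem_range.1 hi))
    · have h1 := congrArg (algebraMap T L) h
      simp only [map_add, map_sum, map_mul, map_pow, map_zero,
        ← IsScalarTower.algebraMap_apply C T L] at h1
      refine (IsUnit.mul_right_eq_zero ((hu ξ hξ).pow n)).1 ?_
      rw [Polynomial.eval₂_add, Polynomial.eval₂_finsetSum]
      simp only [Polynomial.eval₂_mul, Polynomial.eval₂_C, Polynomial.eval₂_X_pow, mul_add]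
      refine Eq.trans (congrArg₂ (· + ·) ?_ ?_) h1
      · rw [← mul_pow, ← hzy]
      · refine (Finset.mul_sum (Finset.range n) _ _).trans (Finset.sum_congr rfl fun i hi => ?_)
        rw [hzy, mul_pow, show algebraMap C L ξ ^ n =
          algebraMap C L ξ ^ (n - i) * algebraMap C L ξ ^ i by
            rw [← pow_add, Nat.sub_add_cancel (Finset.mem_range.1 hi).le]]
        ring
  exact Excellent.NormalAscent.dvd_of_unif T L hinj hu hξ (fun P hP => by
    haveI := hP.isPrime
    exact ⟨Cohen.NagataUnramified.hasUnif_of_normal hξ hP, isReduced_quotient_map hgr P⟩) z hy hzy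

/-- A base change square between two extensions of scalars. -/
theorem isPullback_map {A₀ B₀ C A : Type u} [CommRing A₀] [CommRing B₀] [CommRing C] [CommRing A]
    [Algebra A₀ B₀] [Algebra A₀ C] [Algebra A₀ A] (j₀ : C →ₐ[A₀] A) :
    IsPullback (Spec.map (CommRingCat.ofHom
        (Algebra.TensorProduct.map j₀ (AlgHom.id A₀ B₀)).toRingHom))
      (sm A (A ⊗[A₀] B₀)) (sm C (C ⊗[A₀] B₀)) (Spec.map (CommRingCat.ofHom j₀.toRingHom)) := by
  have hsq := isPullback_pr (R₀ := A₀) (A := B₀) A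
  have h1 : Spec.map (CommRingCat.ofHom
      (Algebra.TensorProduct.map j₀ (AlgHom.id A₀ B₀)).toRingHom) ≫ pr A₀ C B₀ = pr A₀ A B₀ := by
    rw [← Spec.map_comp]
    congr 1
    ext x
    simp
  have h2 : Spec.map (CommRingCat.ofHom j₀.toRingHom) ≫ sm A₀ C = sm A₀ A := by
    rw [← Spec.map_comp]
    congr 1
    ext x
    exact j₀.commutes x
  rw [← h1, ← h2] at hsq
  refine IsPullback.of_right hsq ?_ (isPullback_pr (R₀ := A₀) (A := B₀) C)
  rw [← Spec.map_comp, ← Spec.map_comp]
  congr 1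

/-- Divisibility descends to a normal Noetherian model and is checked there. -/
theorem dvd_of_model {A₀ B₀ C A : Type u} [CommRing A₀] [CommRing B₀] [CommRing C] [CommRing A]
    [Algebra A₀ B₀] [Algebra A₀ C] [Algebra A₀ A] [Module.Flat A₀ B₀]
    [Algebra.FinitePresentation A₀ B₀] [IsDomain C] [IsNoetherianRing C] [IsIntegrallyClosed C]
    (j₀ : C →ₐ[A₀] A) (hj : Function.Injective j₀)
    (hgr' : ∀ u, GRAt.GRAt (sm A (A ⊗[A₀] B₀)) u) {ξ : C} (hξ : ξ ≠ 0) (z : C ⊗[A₀] B₀) (n : ℕ)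
    (c₀ : ℕ → C ⊗[A₀] B₀)
    (hT : z ^ n + ∑ i ∈ Finset.range n,
      c₀ i * algebraMap C (C ⊗[A₀] B₀) ξ ^ (n - i) * z ^ i = 0) :
    algebraMap A (A ⊗[A₀] B₀) (j₀ ξ) ∣ Algebra.TensorProduct.map j₀ (AlgHom.id A₀ B₀) z := by
  let μ : (C ⊗[A₀] B₀) →ₐ[A₀] (A ⊗[A₀] B₀) := Algebra.TensorProduct.map j₀ (AlgHom.id A₀ B₀)
  let a := j₀ ξ
  set b' := μ z with hz
  change algebraMap A (A ⊗[A₀] B₀) a ∣ b'
  have hμξ : μ (algebraMap C (C ⊗[A₀] B₀) ξ) = algebraMap A (A ⊗[A₀] B₀) a := by
    simp [μ, a, Algebra.TensorProduct.algebraMap_apply]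
  -- it is enough to divide locally
  let J : Ideal (A ⊗[A₀] B₀) := (Ideal.span {algebraMap A (A ⊗[A₀] B₀) a}).colon {b'}
  suffices hJ : J = ⊤ by
    have h1 : (1 : A ⊗[A₀] B₀) ∈ J := hJ ▸ Submodule.mem_top
    rw [Submodule.mem_colon_singleton, one_smul, Ideal.mem_span_singleton] at h1
    exact h1
  by_contra hJ
  obtain ⟨Q, hQ, hJQ⟩ := Ideal.exists_le_maximal J hJ
  let Qp : PrimeSpectrum (A ⊗[A₀] B₀) := ⟨Q, hQ.isPrime⟩
  haveI : IsNoetherianRing (C ⊗[A₀] B₀) := Algebra.FiniteType.isNoetherianRing C _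
  let p : Spec (CommRingCat.of (A ⊗[A₀] B₀)) ⟶ Spec (CommRingCat.of (C ⊗[A₀] B₀)) :=
    Spec.map (CommRingCat.ofHom μ.toRingHom)
  have sqC := isPullback_map (B₀ := B₀) j₀
  have hgr₁ : GRAt.GRAt (sm C (C ⊗[A₀] B₀)) (p Qp) := GRAt.of_baseChange sqC Qp (hgr' Qp)
  haveI : Algebra.FiniteType C (C ⊗[A₀] B₀) := inferInstance
  haveI := lft_sm C (C ⊗[A₀] B₀)
  haveI : Flat (sm C (C ⊗[A₀] B₀)) :=
    (HasRingHomProperty.Spec_iff (P := @Flat)).2 (RingHom.flat_algebraMap_iff.2 inferInstance)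
  obtain ⟨_, ⟨g, rfl⟩, hgQ, hgW⟩ := PrimeSpectrum.isTopologicalBasis_basic_opens.exists_subset_of_mem_open
    (show (p Qp : PrimeSpectrum (C ⊗[A₀] B₀)) ∈ {u | GRAt.GRAt (sm C (C ⊗[A₀] B₀)) u} from hgr₁)
    (GRAtOpen.isOpen_grAt_of_flat (sm C (C ⊗[A₀] B₀)))
  let T' := Localization.Away g
  haveI : Module.Flat (C ⊗[A₀] B₀) T' := IsLocalization.flat T' (Submonoid.powers g)
  haveI : Module.Flat C T' := Module.Flat.trans C (C ⊗[A₀] B₀) T'
  let o : Spec (CommRingCat.of T') ⟶ Spec (CommRingCat.of (C ⊗[A₀] B₀)) :=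
    Spec.map (CommRingCat.ofHom (algebraMap (C ⊗[A₀] B₀) T'))
  haveI : IsOpenImmersion o := IsOpenImmersion.of_isLocalization g
  have hgrT' : ∀ u, GRAt.GRAt (sm C T') u := fun u => by
    have ho : o ≫ sm C (C ⊗[A₀] B₀) = sm C T' := by
      rw [← Spec.map_comp]
      congr 1
    rw [← ho, GRAt.openImmersion_iff]
    refine hgW ?_
    have : o u ∈ Set.range (PrimeSpectrum.comap (algebraMap (C ⊗[A₀] B₀) T')) := ⟨u, rfl⟩
    rwa [PrimeSpectrum.localization_away_comap_range T' g] at this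
  obtain ⟨t, ht⟩ := dvd_noetherian hgrT' hξ (algebraMap (C ⊗[A₀] B₀) T' z) n (fun i => algebraMap (C ⊗[A₀] B₀) T' (c₀ i))
    (by simpa only [map_add, map_sum, map_mul, map_pow, map_zero,
      ← IsScalarTower.algebraMap_apply C (C ⊗[A₀] B₀) T'] using congrArg (algebraMap (C ⊗[A₀] B₀) T') hT)
  obtain ⟨⟨t₀, ⟨_, m, rfl⟩⟩, hm⟩ := IsLocalization.surj (Submonoid.powers g) t
  have h2 : algebraMap (C ⊗[A₀] B₀) T' (z * g ^ m) = algebraMap (C ⊗[A₀] B₀) T' (algebraMap C (C ⊗[A₀] B₀) ξ * t₀) := by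
    rw [map_mul, map_mul, ht, mul_assoc, hm, ← IsScalarTower.algebraMap_apply]
  obtain ⟨⟨_, k, rfl⟩, hk⟩ := (IsLocalization.eq_iff_exists (Submonoid.powers g) T').1 h2
  refine hgQ ?_
  show μ g ∈ Q
  refine hQ.isPrime.mem_of_pow_mem (k + m) (hJQ ?_)
  rw [Submodule.mem_colon_singleton, smul_eq_mul, Ideal.mem_span_singleton]
  refine ⟨μ (g ^ k * t₀), ?_⟩
  have h3 := congrArg μ hk
  simp only [map_mul, map_pow, ← hz, hμξ] at h3 ⊢
  rw [pow_add]
  linear_combination h3

/-- The general case, for explicit coefficients. -/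
theorem dvd_of_sum_eq_zero {A B : Type u} [CommRing A] [IsDomain A] [IsIntegrallyClosed A]
    [CommRing B] [Algebra A B] [Module.Flat A B] [Algebra.FinitePresentation A B]
    (hgr : ∀ u, GRAt.GRAt (sm A B) u) {a : A} (ha : a ≠ 0) (b : B) (n : ℕ) (c : ℕ → B)
    (h : b ^ n + ∑ i ∈ Finset.range n, c i * algebraMap A B a ^ (n - i) * b ^ i = 0) :
    algebraMap A B a ∣ b := by
  classical
  obtain ⟨A₀, B₀, _, _, _, _, hft, hfl₀, hfp, ⟨e⟩⟩ := H2.FlatDescend.exists_flat_model A B
  haveI : IsNoetherianRing A₀ := Algebra.FiniteType.isNoetherianRing ℤ A₀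
  -- transport to `A ⊗ B₀`
  have hgr' : ∀ u, GRAt.GRAt (sm A (A ⊗[A₀] B₀)) u := fun u => by
    let j : Spec (CommRingCat.of (A ⊗[A₀] B₀)) ⟶ Spec (CommRingCat.of B) :=
      Spec.map (CommRingCat.ofHom e.toAlgHom.toRingHom)
    haveI : IsIso (CommRingCat.ofHom e.toAlgHom.toRingHom) :=
      (ConcreteCategory.isIso_iff_bijective _).2 e.bijective
    have hj : j ≫ sm A B = sm A (A ⊗[A₀] B₀) := by
      rw [← Spec.map_comp]
      congr 1
      ext x
      exact e.commutes x
    rw [← hj, GRAt.openImmersion_iff]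
    exact hgr _
  set b' := e b with hb'
  set c' := fun i => e (c i) with hc'
  have h' : b' ^ n + ∑ i ∈ Finset.range n,
      c' i * algebraMap A (A ⊗[A₀] B₀) a ^ (n - i) * b' ^ i = 0 := by
    simpa only [map_add, map_sum, map_mul, map_pow, map_zero, AlgEquiv.commutes] using congrArg e h
  suffices hs : algebraMap A (A ⊗[A₀] B₀) a ∣ b' by
    obtain ⟨t, ht⟩ := hs
    exact ⟨e.symm t, e.injective (by rw [map_mul, AlgEquiv.commutes, e.apply_symm_apply]; exact ht)⟩
  -- a finite type model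
  obtain ⟨D₁, hD₁, hbD⟩ := exists_fg_map_range (R := A₀) (A := B₀) b'
  choose Dc hDc hcD using fun i => exists_fg_map_range (R := A₀) (A := B₀) (c' i)
  let D : Subalgebra A₀ A := D₁ ⊔ Algebra.adjoin A₀ {a} ⊔ (Finset.range n).sup Dc
  have hD : D.FG := by
    refine (hD₁.sup ⟨{a}, by simp⟩).sup ?_
    exact Finset.sup_induction Subalgebra.fg_bot (fun _ h₁ _ h₂ => h₁.sup h₂) fun i _ => hDc i
  haveI : Algebra.FiniteType A₀ D := D.fg_iff_finiteType.1 hD
  haveI : Algebra.FiniteType ℤ D := Algebra.FiniteType.trans (S := A₀) inferInstance inferInstance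
  have hmono : ∀ (E : Subalgebra A₀ A), E ≤ D → ∀ x,
      x ∈ Set.range (Algebra.TensorProduct.map E.val (AlgHom.id A₀ B₀)) →
      x ∈ Set.range (Algebra.TensorProduct.map D.val (AlgHom.id A₀ B₀)) := by
    rintro E hE _ ⟨w, rfl⟩
    refine ⟨Algebra.TensorProduct.map (Subalgebra.inclusion hE) (AlgHom.id A₀ B₀) w, ?_⟩
    rw [← AlgHom.comp_apply, ← Algebra.TensorProduct.map_comp]
    rfl
  -- its normalisation
  let K := FractionRing D
  let C := integralClosure D K
  haveI hfin : Module.Finite D C := H47.ExcellentZ.finite_normalisation D K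
  haveI : IsNoetherianRing D := Algebra.FiniteType.isNoetherianRing ℤ D
  haveI : IsNoetherianRing C := isNoetherian_of_tower D inferInstance
  haveI : IsIntegrallyClosed C := integralClosure.isIntegrallyClosedOfFiniteExtension K
  let KA := FractionRing A
  let τ : A →ₐ[D] KA := IsScalarTower.toAlgHom D A KA
  have hτ : Function.Injective τ := IsFractionRing.injective A KA
  have hDinj : Function.Injective (algebraMap D KA) := hτ.comp Subtype.val_injective
  let φ : K →ₐ[D] KA := IsFractionRing.liftAlgHom (g := Algebra.ofId D KA) hDinj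
  have hrange : ∀ x : C, (φ.comp C.val) x ∈ τ.range := fun x => by
    have hx : IsIntegral A (φ (x : K)) := (x.2.map φ).tower_top
    obtain ⟨y, hy⟩ := IsIntegrallyClosed.isIntegral_iff.1 hx
    exact ⟨y, hy⟩
  let j : C →ₐ[D] A :=
    (AlgEquiv.ofInjective τ hτ).symm.toAlgHom.comp ((φ.comp C.val).codRestrict τ.range hrange)
  have hj : Function.Injective j := by
    refine (AlgEquiv.ofInjective τ hτ).symm.injective.comp fun x y hxy => ?_
    exact Subtype.ext (φ.toRingHom.injective (congrArg Subtype.val hxy))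
  let j₀ : C →ₐ[A₀] A := j.restrictScalars A₀
  let μ : (C ⊗[A₀] B₀) →ₐ[A₀] (A ⊗[A₀] B₀) := Algebra.TensorProduct.map j₀ (AlgHom.id A₀ B₀)
  have hμ : Function.Injective μ :=
    Module.Flat.rTensor_preserves_injective_linearMap (M := B₀) j₀.toLinearMap hj
  have hlift : ∀ x, x ∈ Set.range (Algebra.TensorProduct.map D.val (AlgHom.id A₀ B₀)) →
      ∃ w, μ w = x := by
    rintro _ ⟨w, rfl⟩
    refine ⟨Algebra.TensorProduct.map (IsScalarTower.toAlgHom A₀ D C) (AlgHom.id A₀ B₀) w, ?_⟩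
    show Algebra.TensorProduct.map j₀ (AlgHom.id A₀ B₀) _ = _
    rw [← AlgHom.comp_apply, ← Algebra.TensorProduct.map_comp]
    congr 2
    exact AlgHom.ext fun d => j.commutes d
  obtain ⟨z, hz⟩ := hlift b' (hmono D₁ (le_sup_left.trans le_sup_left) _ hbD)
  have hclift : ∀ i, ∃ w, i < n → μ w = c' i := fun i => by
    by_cases hi : i < n
    · obtain ⟨w, hw⟩ := hlift (c' i)
        (hmono (Dc i) ((Finset.le_sup (Finset.mem_range.2 hi)).trans le_sup_right) _ (hcD i))
      exact ⟨w, fun _ => hw⟩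
    · exact ⟨0, fun h => absurd h hi⟩
  choose c₀ hc₀ using hclift
  let aD : D := ⟨a, (le_sup_right.trans le_sup_left : Algebra.adjoin A₀ {a} ≤ D)
    (Algebra.subset_adjoin rfl)⟩
  let ξ : C := algebraMap D C aD
  have hjξ : j₀ ξ = a := j.commutes aD
  have hξ : ξ ≠ 0 := fun h0 => ha (by rw [← hjξ, h0, map_zero])
  have hμξ : μ (algebraMap C (C ⊗[A₀] B₀) ξ) = algebraMap A (A ⊗[A₀] B₀) a := by
    show μ (ξ ⊗ₜ 1) = a ⊗ₜ 1
    rw [Algebra.TensorProduct.map_tmul, hjξ]
    rfl
  have hT : z ^ n + ∑ i ∈ Finset.range n, c₀ i * algebraMap C (C ⊗[A₀] B₀) ξ ^ (n - i) * z ^ i = 0 := by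
    refine hμ ?_
    rw [map_zero, map_add, map_sum, map_pow, hz]
    refine Eq.trans ?_ h'
    refine congrArg _ (Finset.sum_congr rfl fun i hi => ?_)
    rw [map_mul, map_mul, map_pow, map_pow, hz, hμξ, hc₀ i (Finset.mem_range.1 hi)]
  have := dvd_of_model j₀ hj hgr' hξ z n c₀ hT
  rwa [hjξ, show Algebra.TensorProduct.map j₀ (AlgHom.id A₀ B₀) z = b' from hz] at this

/-- **Integral closedness**: if `b / a` is integral over `B` then `a ∣ b`. -/
theorem dvd_of_eval_eq_zero {A B : Type u} [CommRing A] [IsDomain A] [IsIntegrallyClosed A]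
    [CommRing B] [Algebra A B] [Module.Flat A B] [Algebra.FinitePresentation A B]
    (hgr : ∀ u, GRAt.GRAt (sm A B) u) {a : A} (ha : a ≠ 0) (b : B) {p : Polynomial B}
    (hp : p.Monic) (h : (p.scaleRoots (algebraMap A B a)).eval b = 0) :
    algebraMap A B a ∣ b := by
  refine dvd_of_sum_eq_zero hgr ha b p.natDegree p.coeff ?_
  rw [Polynomial.eval_eq_sum_range, Polynomial.natDegree_scaleRoots, Finset.sum_range_succ,
    Polynomial.coeff_scaleRoots_natDegree, hp.leadingCoeff, one_mul, add_comm] at h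
  simpa only [Polynomial.coeff_scaleRoots] using h

end Groth.Agent.Lib.Flat55.IntClosedFlat
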