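import Groth.Agent.Lib.Flat55.FibreStep
import Groth.Agent.Lib.Flat55.FibreRing
import Groth.Agent.Lib.Flat55.Approx
import Mathlib.Algebra.Module.Torsion.Basic

/-!
# The criterion at a Noetherian level, with a residue field extension
-/

set_option autoImplicit false

universe u v w

namespace Groth.Agent.Lib.Flat55.Level

open MvPolynomial Relations

/-- Flatness of the map on quotients induced by a map which is flat modulo `I`. -/
theorem flat_quotient_lift {A A₁ A₂ : Type u} [CommRing A] [CommRing A₁] [CommRing A₂]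
    (I K : Ideal A) (φ : A →+* A₁) (hI : I ≤ RingHom.ker φ)
    (hflat : (Ideal.Quotient.lift I φ hI).Flat) (π : A₁ →+* A₂) (hπ : Function.Surjective π)
    (hker : RingHom.ker π = K.map φ) (ψ : A ⧸ K →+* A₂) (hψ : ∀ a, ψ (Ideal.Quotient.mk K a) = π (φ a))
    (hle : I.map (Ideal.Quotient.mk K) ≤ RingHom.ker ψ) :
    RingHom.Flat (R := (A ⧸ K) ⧸ I.map (Ideal.Quotient.mk K)) (S := A₂)
      (Ideal.Quotient.lift _ ψ hle) := by
  set φ' := Ideal.Quotient.lift I φ hI with hφ'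
  let K' := K.map (Ideal.Quotient.mk I)
  have hK' : K'.map φ' = K.map φ := by
    rw [Ideal.map_map]; exact rfl
  let E : A₁ ⧸ K'.map φ' →+* A₂ := Ideal.Quotient.lift _ π
    fun a ha ↦ by rwa [hK', ← hker] at ha
  have hE : Function.Bijective E := by
    constructor
    · rw [injective_iff_map_eq_zero]
      intro x hx
      obtain ⟨x, rfl⟩ := Ideal.Quotient.mk_surjective x
      rw [Ideal.Quotient.eq_zero_iff_mem, hK', ← hker]
      exact hx
    · intro y
      obtain ⟨x, rfl⟩ := hπ y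
      exact ⟨Ideal.Quotient.mk _ x, rfl⟩
  let ω : (A ⧸ I) ⧸ K' →+* (A ⧸ K) ⧸ I.map (Ideal.Quotient.mk K) :=
    Ideal.Quotient.lift K' (Ideal.quotientMap _ (Ideal.Quotient.mk K) Ideal.le_comap_map) (by
      intro x hx
      obtain ⟨a, ha, rfl⟩ := (Ideal.mem_map_iff_of_surjective _ Ideal.Quotient.mk_surjective).1 hx
      rw [Ideal.quotientMap_mk, Ideal.Quotient.eq_zero_iff_mem.2 ha, map_zero])
  refine FibreRing.flat_of_comp_surjective ω ?_ _ ?_
  · intro y
    obtain ⟨y, rfl⟩ := Ideal.Quotient.mk_surjective y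
    obtain ⟨a, rfl⟩ := Ideal.Quotient.mk_surjective y
    exact ⟨Ideal.Quotient.mk K' (Ideal.Quotient.mk I a), rfl⟩
  · have h := (Presented.quotient_flat φ' hflat K').comp (RingHom.Flat.of_bijective hE)
    convert h using 1
    refine Ideal.Quotient.ringHom_ext (Ideal.Quotient.ringHom_ext (RingHom.ext fun a ↦ ?_))
    exact hψ a

theorem isUnit_of_isUnit_mk {A : Type*} [CommRing A] [IsLocalRing A] {K : Ideal A} (hK : K ≠ ⊤)
    {z : A} (h : IsUnit (Ideal.Quotient.mk K z)) : IsUnit z := by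
  by_contra hn
  obtain ⟨w, hw⟩ := h.exists_right_inv
  obtain ⟨w, rfl⟩ := Ideal.Quotient.mk_surjective w
  rw [← map_mul, ← map_one (Ideal.Quotient.mk K), Ideal.Quotient.eq] at hw
  have h1 : (1 : A) ∈ IsLocalRing.maximalIdeal A := by
    have h2 := IsLocalRing.le_maximalIdeal hK hw
    have h3 : z * w ∈ IsLocalRing.maximalIdeal A :=
      Ideal.mul_mem_right _ _ ((IsLocalRing.mem_maximalIdeal z).2 hn)
    simpa using sub_mem h3 h2
  exact (IsLocalRing.maximalIdeal.isMaximal A).ne_top ((Ideal.eq_top_iff_one _).2 h1)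

/-- The map on quotients of a faithfully flat map modulo `I` between local rings. -/
theorem faithfullyFlat_quotient_lift {A A₁ : Type u} [CommRing A] [CommRing A₁] [IsLocalRing A]
    [IsLocalRing A₁] (φ : A →+* A₁) [IsLocalHom φ] (I K : Ideal A) (hK : K ≠ ⊤)
    (hI : I ≤ RingHom.ker φ) (hflat : (Ideal.Quotient.lift I φ hI).Flat)
    (ψ : A ⧸ K →+* A₁ ⧸ K.map φ) (hψ : ∀ a, ψ (Ideal.Quotient.mk K a) = Ideal.Quotient.mk _ (φ a))
    (I' : Ideal (A ⧸ K)) (hI' : I' = I.map (Ideal.Quotient.mk K)) (hle : I' ≤ RingHom.ker ψ) :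
    RingHom.FaithfullyFlat (R := (A ⧸ K) ⧸ I') (S := A₁ ⧸ K.map φ)
      (Ideal.Quotient.lift _ ψ hle) := by
  subst hI'
  have hfl := flat_quotient_lift I K φ hI hflat (Ideal.Quotient.mk (K.map φ))
    Ideal.Quotient.mk_surjective Ideal.mk_ker ψ hψ hle
  have : Nontrivial (A ⧸ K) := Ideal.Quotient.nontrivial_iff.2 hK
  have : IsLocalRing (A ⧸ K) := IsLocalRing.of_surjective' _ Ideal.Quotient.mk_surjective
  have hK₁ : K.map φ ≠ ⊤ := fun h ↦ (IsLocalRing.maximalIdeal.isMaximal A₁).ne_top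
    (eq_top_iff.2 (h ▸ (Ideal.map_mono (IsLocalRing.le_maximalIdeal hK)).trans
      (IsLocalRing.map_maximalIdeal_le φ)))
  have : Nontrivial (A₁ ⧸ K.map φ) := Ideal.Quotient.nontrivial_iff.2 hK₁
  have : IsLocalRing (A₁ ⧸ K.map φ) := IsLocalRing.of_surjective' _ Ideal.Quotient.mk_surjective
  have hne : I.map (Ideal.Quotient.mk K) ≠ ⊤ := fun h ↦
    (Ideal.ne_top_iff_one _).1 (RingHom.ker_ne_top ψ) (hle (h ▸ Submodule.mem_top))
  have : Nontrivial ((A ⧸ K) ⧸ I.map (Ideal.Quotient.mk K)) := Ideal.Quotient.nontrivial_iff.2 hne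
  have : IsLocalRing ((A ⧸ K) ⧸ I.map (Ideal.Quotient.mk K)) :=
    IsLocalRing.of_surjective' _ Ideal.Quotient.mk_surjective
  let : Algebra ((A ⧸ K) ⧸ I.map (Ideal.Quotient.mk K)) (A₁ ⧸ K.map φ) :=
    RingHom.toAlgebra (R := (A ⧸ K) ⧸ I.map (Ideal.Quotient.mk K)) (S := A₁ ⧸ K.map φ)
      (Ideal.Quotient.lift _ ψ hle)
  have hlocal : IsLocalHom (Ideal.Quotient.lift _ ψ hle) := by
    refine ⟨fun z hz ↦ ?_⟩
    obtain ⟨z, rfl⟩ := Ideal.Quotient.mk_surjective z
    obtain ⟨z, rfl⟩ := Ideal.Quotient.mk_surjective z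
    rw [Ideal.Quotient.lift_mk, hψ] at hz
    exact ((isUnit_of_map_unit φ z (isUnit_of_isUnit_mk hK₁ hz)).map _).map _
  exact @Module.FaithfullyFlat.of_flat_of_isLocalHom _ _ _ _ _ _ _ hfl hlocal

/-- A base change map stays a base change map for the quotient rings. -/
theorem isBaseChange_quotient {A A₁ : Type*} [CommRing A] [CommRing A₁] [Algebra A A₁]
    (K : Ideal A) (K₁ : Ideal A₁) [Algebra (A ⧸ K) (A₁ ⧸ K₁)]
    (hc : ∀ a, algebraMap (A ⧸ K) (A₁ ⧸ K₁) (Ideal.Quotient.mk K a) =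
      Ideal.Quotient.mk K₁ (algebraMap A A₁ a))
    {X Y : Type*} [AddCommGroup X] [Module A X] [Module (A ⧸ K) X] [AddCommGroup Y] [Module A Y]
    [Module A₁ Y] [IsScalarTower A A₁ Y] [Module (A ⧸ K) Y] [Module (A₁ ⧸ K₁) Y]
    [IsScalarTower (A ⧸ K) (A₁ ⧸ K₁) Y]
    (hX : ∀ (a : A) (x : X), Ideal.Quotient.mk K a • x = a • x)
    (hY : ∀ (a : A₁) (y : Y), Ideal.Quotient.mk K₁ a • y = a • y)
    (ψ : X →ₗ[A] Y) (hψ : IsBaseChange A₁ ψ) (ψ' : X →ₗ[A ⧸ K] Y) (he : ∀ x, ψ' x = ψ x) :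
    IsBaseChange (A₁ ⧸ K₁) ψ' := by
  refine IsBaseChange.of_lift_unique _ fun Q _ _ _ _ f ↦ ?_
  letI : Module A Q := Module.compHom Q (Ideal.Quotient.mk K)
  letI : Module A₁ Q := Module.compHom Q (Ideal.Quotient.mk K₁)
  have : IsScalarTower A A₁ Q := IsScalarTower.of_algebraMap_smul fun a z ↦ by
    change Ideal.Quotient.mk K₁ (algebraMap A A₁ a) • z = Ideal.Quotient.mk K a • z
    rw [← hc, algebraMap_smul]
  let f' : X →ₗ[A] Q :=
    { toFun := f
      map_add' := map_add f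
      map_smul' := fun c x ↦ by rw [← hX c x, map_smul]; rfl }
  let G := hψ.lift f'
  refine ⟨{ toFun := G, map_add' := map_add G, map_smul' := fun c y ↦ ?_ },
    LinearMap.ext fun x ↦ (congrArg G (he x)).trans (hψ.lift_eq f' x), fun G' hG' ↦ ?_⟩
  · obtain ⟨c, rfl⟩ := Ideal.Quotient.mk_surjective c
    rw [hY, RingHom.id_apply]
    exact map_smul G c y
  · let G'' : Y →ₗ[A₁] Q :=
      { toFun := G'
        map_add' := map_add G'
        map_smul' := fun c y ↦ by rw [← hY c y, map_smul]; rfl }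
    have : G'' = G := hψ.algHom_ext _ _ fun x ↦ ((congrArg G' (he x)).symm.trans
      (LinearMap.congr_fun hG' x)).trans (hψ.lift_eq f' x).symm
    exact LinearMap.ext fun y ↦ LinearMap.congr_fun this y

theorem flat_lift_congr {A A₁ : Type u} [CommRing A] [CommRing A₁] (φ : A →+* A₁) {I I' : Ideal A}
    (h : I = I') (p : I ≤ RingHom.ker φ) (hf : (Ideal.Quotient.lift I φ p).Flat)
    (p' : I' ≤ RingHom.ker φ) : (Ideal.Quotient.lift I' φ p').Flat := by
  subst h
  exact hf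

/-- A map out of a base change, semilinear along a ring map of the new bases. -/
noncomputable def semilinearLift {P S S₁ : Type u} [CommRing P] [CommRing S] [CommRing S₁]
    [Algebra P S] [Algebra P S₁] (lR : S →+* S₁) (hlR : ∀ a, lR (algebraMap P S a) = algebraMap P S₁ a)
    {M : Type v} {X : Type v} {Y : Type w} [AddCommGroup M] [Module P M] [AddCommGroup X]
    [Module P X] [Module S X] [IsScalarTower P S X] [AddCommGroup Y] [Module P Y] [Module S₁ Y]
    [IsScalarTower P S₁ Y] (ψ₀ : M →ₗ[P] Y) {j : M →ₗ[P] X} (hj : IsBaseChange S j) :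
    X →ₛₗ[lR] Y :=
  letI : Module S Y := Module.compHom Y lR
  have : IsScalarTower P S Y := IsScalarTower.of_algebraMap_smul fun a y ↦ by
    change lR (algebraMap P S a) • y = a • y
    rw [hlR, algebraMap_smul]
  { toFun := hj.lift ψ₀
    map_add' := map_add _
    map_smul' := fun c x ↦ map_smul (hj.lift ψ₀) c x }

theorem semilinearLift_apply {P S S₁ : Type u} [CommRing P] [CommRing S] [CommRing S₁]
    [Algebra P S] [Algebra P S₁] (lR : S →+* S₁) (hlR : ∀ a, lR (algebraMap P S a) = algebraMap P S₁ a)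
    {M : Type v} {X : Type v} {Y : Type w} [AddCommGroup M] [Module P M] [AddCommGroup X]
    [Module P X] [Module S X] [IsScalarTower P S X] [AddCommGroup Y] [Module P Y] [Module S₁ Y]
    [IsScalarTower P S₁ Y] (ψ₀ : M →ₗ[P] Y) {j : M →ₗ[P] X} (hj : IsBaseChange S j) (m : M) :
    semilinearLift lR hlR ψ₀ hj (j m) = ψ₀ m := by
  let : Module S Y := Module.compHom Y lR
  have : IsScalarTower P S Y := IsScalarTower.of_algebraMap_smul fun a y ↦ by
    change lR (algebraMap P S a) • y = a • y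
    rw [hlR, algebraMap_smul]
  exact hj.lift_eq ψ₀ m

theorem isBaseChange_semilinearLift {P S S₁ : Type u} [CommRing P] [CommRing S] [CommRing S₁]
    [Algebra P S] [Algebra P S₁] (lR : S →+* S₁) (hlR : ∀ a, lR (algebraMap P S a) = algebraMap P S₁ a)
    {M : Type v} {X : Type v} {Y : Type w} [AddCommGroup M] [Module P M] [AddCommGroup X]
    [Module P X] [Module S X] [IsScalarTower P S X] [AddCommGroup Y] [Module P Y] [Module S₁ Y]
    [IsScalarTower P S₁ Y] (ψ₀ : M →ₗ[P] Y) (hψ₀ : IsBaseChange S₁ ψ₀) {j : M →ₗ[P] X}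
    (hj : IsBaseChange S j) [Algebra S S₁] [Module S Y] [IsScalarTower S S₁ Y]
    (he : algebraMap S S₁ = lR) (ψ₂ : X →ₗ[S] Y)
    (h₂ : ∀ x, ψ₂ x = semilinearLift lR hlR ψ₀ hj x) : IsBaseChange S₁ ψ₂ := by
  have : IsScalarTower P S S₁ := .of_algebraMap_eq fun a ↦ by rw [he, hlR]
  have : IsScalarTower P S Y := IsScalarTower.of_algebraMap_smul fun a y ↦ by
    rw [← algebraMap_smul S₁ (algebraMap P S a) y, he, hlR, algebraMap_smul]
  refine hj.of_comp ?_
  have : (ψ₂.restrictScalars P).comp j = ψ₀ := LinearMap.ext fun m ↦ by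
    change ψ₂ (j m) = ψ₀ m
    rw [h₂, semilinearLift_apply]
  rwa [this]

/-- The level step with all rings abstract. -/
theorem flat_level_core {R A A₁ B₁ S S₁ : Type u} [CommRing R] [IsLocalRing R] [CommRing A]
    [Algebra R A] [IsNoetherianRing A] [CommRing A₁] [CommRing B₁]
    [CommRing S] [IsLocalRing S] [IsNoetherianRing S] [Algebra R S] [IsLocalHom (algebraMap R S)]
    [CommRing S₁] [IsLocalRing S₁]
    (ξ : A →ₐ[R] S) (φ : A →+* A₁) (lR : S →+* S₁) [IsLocalHom lR] (ξA₁ : A₁ →+* S₁)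
    (hsq : ∀ a, lR (ξ a) = ξA₁ (φ a)) (H : Ideal A) (π₁ : A₁ →+* B₁)
    (hπ₁ : Function.Surjective π₁) (hker : RingHom.ker π₁ = H.map φ)
    (hmA : (IsLocalRing.maximalIdeal R).map (algebraMap R A) ≤ RingHom.ker φ)
    (hAflat : (Ideal.Quotient.lift _ φ hmA).Flat)
    (hmS : (IsLocalRing.maximalIdeal R).map (algebraMap R S) ≤ RingHom.ker lR)
    (hSflat : (Ideal.Quotient.lift _ lR hmS).Flat)
    {X : Type v} [AddCommGroup X] [Module R X] [Module S X] [IsScalarTower R S X]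
    [Module.Finite S X] [Module.Flat R X]
    [Module (A ⧸ H) X] (hsm : ∀ (a : A) (x : X), Ideal.Quotient.mk H a • x = ξ a • x)
    {Y : Type w} [AddCommGroup Y] [Module S₁ Y] [Module B₁ Y]
    (hsmul₁ : ∀ (a : A₁) (y : Y), π₁ a • y = ξA₁ a • y)
    (ψ : X →ₛₗ[lR] Y) (hψ : ∀ [Algebra S S₁] [Module S Y] [IsScalarTower S S₁ Y],
      (algebraMap S S₁ = lR) → ∀ ψ₂ : X →ₗ[S] Y, (∀ x, ψ₂ x = ψ x) → IsBaseChange S₁ ψ₂)
    [Module.Flat B₁ Y] : Module.Flat (A ⧸ H) X := by
  rcases subsingleton_or_nontrivial X with hX | hX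
  · exact Module.Flat.of_free
  let : Algebra S S₁ := lR.toAlgebra
  let : Module S Y := Module.compHom Y lR
  have : IsScalarTower S S₁ Y := ⟨fun a b y ↦ by rw [Algebra.smul_def, mul_smul]; rfl⟩
  let ψ₂ : X →ₗ[S] Y :=
    { toFun := ψ
      map_add' := map_add ψ
      map_smul' := fun c x ↦ ψ.map_smulₛₗ c x }
  have hψ₂ : IsBaseChange S₁ ψ₂ := hψ rfl ψ₂ fun _ ↦ rfl
  let K : Ideal S := H.map ξ
  have hK : Module.IsTorsionBySet S X K := by
    have hle : K ≤ Module.annihilator S X := by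
      refine Ideal.map_le_iff_le_comap.2 fun a ha ↦ Module.mem_annihilator.2 fun x ↦ ?_
      rw [← hsm, Ideal.Quotient.eq_zero_iff_mem.2 ha, zero_smul]
    rintro x ⟨a, ha⟩
    exact Module.mem_annihilator.1 (hle ha) x
  let : Module (S ⧸ K) X := Module.IsTorsionBySet.module hK
  have : IsScalarTower S (S ⧸ K) X := Module.IsTorsionBySet.isScalarTower hK
  have hKtop : K ≠ ⊤ := fun h ↦ by
    obtain ⟨x, hx⟩ := exists_ne (0 : X)
    exact hx (by simpa using @hK x ⟨1, h ▸ Submodule.mem_top⟩)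
  have : Nontrivial (S ⧸ K) := Ideal.Quotient.nontrivial_iff.2 hKtop
  have : IsLocalRing (S ⧸ K) := IsLocalRing.of_surjective' _ Ideal.Quotient.mk_surjective
  let K₁ : Ideal S₁ := K.map lR
  have hK₁ : Module.IsTorsionBySet S₁ Y K₁ := by
    have hle : K₁ ≤ Module.annihilator S₁ Y := by
      refine Ideal.map_le_iff_le_comap.2 fun a ha ↦ Module.mem_annihilator.2 fun y ↦ ?_
      induction y using hψ₂.inductionOn with
      | zero => exact smul_zero _
      | tmul m =>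
        change a • ψ₂ m = 0
        rw [← map_smul, @hK m ⟨a, ha⟩, map_zero]
      | smul s n hn => rw [smul_comm, hn, smul_zero]
      | add n₁ n₂ h₁ h₂ => rw [smul_add, h₁, h₂, add_zero]
    rintro y ⟨a, ha⟩
    exact Module.mem_annihilator.1 (hle ha) y
  let : Module (S₁ ⧸ K₁) Y := Module.IsTorsionBySet.module hK₁
  have : IsScalarTower S₁ (S₁ ⧸ K₁) Y := Module.IsTorsionBySet.isScalarTower hK₁
  let l' : S ⧸ K →+* S₁ ⧸ K₁ := Ideal.quotientMap K₁ lR Ideal.le_comap_map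
  let : Algebra (S ⧸ K) (S₁ ⧸ K₁) := RingHom.toAlgebra (R := S ⧸ K) (S := S₁ ⧸ K₁) l'
  let : Module (S ⧸ K) Y := Module.compHom Y l'
  have : IsScalarTower (S ⧸ K) (S₁ ⧸ K₁) Y := ⟨fun a b y ↦ by
    rw [Algebra.smul_def, mul_smul]; rfl⟩
  have hmk₁ : ∀ (b : S₁) (y : Y), Ideal.Quotient.mk K₁ b • y = b • y :=
    fun b y ↦ algebraMap_smul (S₁ ⧸ K₁) b y
  have hmk : ∀ (a : S) (x : X), Ideal.Quotient.mk K a • x = a • x :=
    fun a x ↦ algebraMap_smul (S ⧸ K) a x
  have hmk' : ∀ (a : S) (y : Y), Ideal.Quotient.mk K a • y = a • y := fun a y ↦ hmk₁ (lR a) y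
  let ψ' : X →ₗ[S ⧸ K] Y :=
    { toFun := ψ₂
      map_add' := map_add ψ₂
      map_smul' := fun c x ↦ by
        obtain ⟨c, rfl⟩ := Ideal.Quotient.mk_surjective c
        rw [hmk, RingHom.id_apply, hmk']
        exact map_smul ψ₂ c x }
  have hψ' : IsBaseChange (R := S ⧸ K) (S₁ ⧸ K₁) ψ' :=
    isBaseChange_quotient K K₁ (fun _ ↦ rfl) hmk hmk₁ ψ₂ hψ₂ ψ' fun _ ↦ rfl
  have hKker : H.map φ ≤ K₁.comap ξA₁ := by
    refine Ideal.map_le_iff_le_comap.2 fun a ha ↦ ?_
    have h := Ideal.mem_map_of_mem lR (Ideal.mem_map_of_mem ξ ha)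
    rw [hsq] at h
    exact h
  let ξ₁ : B₁ →+* S₁ ⧸ K₁ := π₁.liftOfSurjective hπ₁
    ⟨(Ideal.Quotient.mk K₁).comp ξA₁, fun a ha ↦ by
      exact Ideal.Quotient.eq_zero_iff_mem.2 (hKker (hker ▸ ha))⟩
  have hξ₁ : ∀ a, ξ₁ (π₁ a) = Ideal.Quotient.mk K₁ (ξA₁ a) := fun a ↦
    RingHom.liftOfRightInverse_comp_apply _ _ _ _ a
  let : Algebra B₁ (S₁ ⧸ K₁) := RingHom.toAlgebra (R := B₁) (S := S₁ ⧸ K₁) ξ₁
  have : IsScalarTower B₁ (S₁ ⧸ K₁) Y := IsScalarTower.of_algebraMap_smul fun b y ↦ by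
    obtain ⟨a, rfl⟩ := hπ₁ b
    change ξ₁ (π₁ a) • y = π₁ a • y
    rw [hξ₁, hmk₁, hsmul₁]
  let ξ' : A ⧸ H →+* S ⧸ K := Ideal.quotientMap K ξ.toRingHom Ideal.le_comap_map
  let : Algebra (A ⧸ H) (S ⧸ K) := RingHom.toAlgebra (R := A ⧸ H) (S := S ⧸ K) ξ'
  let β : A ⧸ H →+* B₁ := Ideal.Quotient.lift H (π₁.comp φ)
    fun a ha ↦ by
      have : φ a ∈ RingHom.ker π₁ := hker ▸ Ideal.mem_map_of_mem _ ha
      exact this
  let : Algebra (A ⧸ H) B₁ := RingHom.toAlgebra (R := A ⧸ H) (S := B₁) β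
  let : Algebra (A ⧸ H) (S₁ ⧸ K₁) := RingHom.toAlgebra (R := A ⧸ H) (S := S₁ ⧸ K₁) (ξ₁.comp β)
  have : IsScalarTower (A ⧸ H) B₁ (S₁ ⧸ K₁) := .of_algebraMap_eq fun _ ↦ rfl
  have : IsScalarTower (A ⧸ H) (S ⧸ K) (S₁ ⧸ K₁) := .of_algebraMap_eq fun b ↦ by
    obtain ⟨a, rfl⟩ := Ideal.Quotient.mk_surjective b
    change ξ₁ (π₁ (φ a)) = Ideal.Quotient.mk K₁ (lR (ξ a))
    rw [hξ₁, hsq]
  have : IsScalarTower (A ⧸ H) (S ⧸ K) X := IsScalarTower.of_algebraMap_smul fun b x ↦ by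
    obtain ⟨a, rfl⟩ := Ideal.Quotient.mk_surjective b
    exact (hmk (ξ a) x).trans (hsm a x).symm
  have : IsScalarTower R (A ⧸ H) X := IsScalarTower.of_algebraMap_smul fun r x ↦ by
    rw [← Ideal.Quotient.mk_algebraMap, hsm, ξ.commutes, algebraMap_smul]
  have : IsScalarTower R (A ⧸ H) (S ⧸ K) :=
    IsScalarTower.of_algebraMap_eq (R := R) (S := A ⧸ H) (A := S ⧸ K) fun r ↦
      (congrArg (Ideal.Quotient.mk K) (ξ.commutes r)).symm
  have : IsScalarTower R (S ⧸ K) X := IsScalarTower.of_algebraMap_smul fun r x ↦ by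
    rw [← Ideal.Quotient.mk_algebraMap, hmk, algebraMap_smul]
  have hloc : IsLocalHom (algebraMap R (S ⧸ K)) := by
    refine ⟨fun r hr ↦ ?_⟩
    rw [← Ideal.Quotient.mk_algebraMap] at hr
    exact isUnit_of_map_unit (algebraMap R S) r (isUnit_of_isUnit_mk hKtop hr)
  let _ := hloc
  have hB₁ : (IsLocalRing.maximalIdeal R).map (algebraMap R (A ⧸ H)) =
      ((IsLocalRing.maximalIdeal R).map (algebraMap R A)).map (Ideal.Quotient.mk H) := by
    rw [Ideal.map_map]; rfl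
  have hS₁ : (IsLocalRing.maximalIdeal R).map (algebraMap R (S ⧸ K)) =
      ((IsLocalRing.maximalIdeal R).map (algebraMap R S)).map (Ideal.Quotient.mk K) := by
    rw [Ideal.map_map]; rfl
  have hBle : ((IsLocalRing.maximalIdeal R).map (algebraMap R A)).map (Ideal.Quotient.mk H) ≤
      RingHom.ker β := by
    rw [Ideal.map_le_iff_le_comap]
    intro a ha
    rw [Ideal.mem_comap, RingHom.mem_ker]
    change π₁ (φ a) = 0
    rw [show φ a = 0 from hmA ha, map_zero]
  have hSle : ((IsLocalRing.maximalIdeal R).map (algebraMap R S)).map (Ideal.Quotient.mk K) ≤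
      RingHom.ker l' := by
    rw [Ideal.map_le_iff_le_comap]
    intro a ha
    rw [Ideal.mem_comap, RingHom.mem_ker, Ideal.quotientMap_mk, show lR a = 0 from hmS ha, map_zero]
  have hBflat := flat_quotient_lift _ H φ hmA hAflat π₁ hπ₁ hker β (fun _ ↦ rfl) hBle
  have : IsNoetherianRing (A ⧸ H) :=
    isNoetherianRing_of_surjective A (A ⧸ H) (Ideal.Quotient.mk H) Ideal.Quotient.mk_surjective
  have : IsNoetherianRing (S ⧸ K) :=
    isNoetherianRing_of_surjective S (S ⧸ K) (Ideal.Quotient.mk K) Ideal.Quotient.mk_surjective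
  have : Module.Finite (S ⧸ K) X := Module.Finite.of_restrictScalars_finite S (S ⧸ K) X
  refine FibreStep.flat_of_fibre (R := R) (B := A ⧸ H) (S := S ⧸ K) (B₁ := B₁)
    (S₁ := S₁ ⧸ K₁) (hB₁.trans_le hBle) ?_ (hS₁.trans_le hSle)
    (faithfullyFlat_quotient_lift lR _ K hKtop hmS hSflat
      l' (fun _ ↦ rfl) _ hS₁ (hS₁.trans_le hSle)) ψ' hψ'
  exact flat_lift_congr (algebraMap (A ⧸ H) B₁) hB₁.symm hBle hBflat _

variable {σ τ ι κ : Type} {R : Type u} [CommRing R] [IsLocalRing R]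

set_option maxHeartbeats 400000 in
/-- Noetherian level: if the presented module is flat over `R` and its fibre over a field
extension of the residue field is flat over the fibre of `R[τ] / (h)`, it is flat over `R[τ] / (h)`. -/
theorem flat_level [IsNoetherianRing R] [Finite σ] [Finite τ] [Finite ι] [Fintype κ]
    {k : Type u} [Field k] (χ : R →+* k) (hχ : RingHom.ker χ = IsLocalRing.maximalIdeal R)
    (e : τ → σ) (g : κ → ι → MvPolynomial σ R) (q : Ideal (MvPolynomial σ R)) [q.IsPrime]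
    (hq : q.comap C = IsLocalRing.maximalIdeal R) (hwit : Witness g q)
    (H : Ideal (MvPolynomial τ R))
    (hkill : ∀ a ∈ H, ∀ x : QuotAt g q, rename e a • x = 0)
    (q₁ : Ideal (MvPolynomial σ k)) [q₁.IsPrime] (hq₁ : q = q₁.comap (MvPolynomial.map χ))
    (g₁ : κ → ι → MvPolynomial σ k) (hg₁ : ∀ v, mapVec χ (g v) = g₁ v)
    {B₁ : Type u} [CommRing B₁] (π₁ : MvPolynomial τ k →+* B₁) (hπ₁ : Function.Surjective π₁)
    (hker : RingHom.ker π₁ = H.map (MvPolynomial.map χ)) [Module B₁ (QuotAt g₁ q₁)]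
    (hsmul₁ : ∀ (a : MvPolynomial τ k) (y : QuotAt g₁ q₁), π₁ a • y = rename e a • y)
    [Module.Flat B₁ (QuotAt g₁ q₁)] :
    ∃ _ : Module (MvPolynomial τ R ⧸ H) (QuotAt g q),
      (∀ (a : MvPolynomial τ R) (x : QuotAt g q),
        Ideal.Quotient.mk H a • x = rename e a • x) ∧
      Module.Flat (MvPolynomial τ R ⧸ H) (QuotAt g q) := by
  let S := Localization.AtPrime q
  let S₁ := Localization.AtPrime q₁
  let X := QuotAt g q
  let Y := QuotAt g₁ q₁
  let ξ : MvPolynomial τ R →ₐ[R] S :=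
    (IsScalarTower.toAlgHom R (MvPolynomial σ R) S).comp (rename e)
  let : Module (MvPolynomial τ R) X := Module.compHom X ξ.toRingHom
  have hH : Module.IsTorsionBySet (MvPolynomial τ R) X H := fun x a ↦
    (algebraMap_smul S (rename e a.1) x).trans (hkill a.1 a.2 x)
  let : Module (MvPolynomial τ R ⧸ H) X := hH.module
  have hsm : ∀ (a : MvPolynomial τ R) (x : X), Ideal.Quotient.mk H a • x = rename e a • x :=
    fun a x ↦ algebraMap_smul S (rename e a) x
  refine ⟨inferInstance, hsm, ?_⟩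
  have hflatX : Module.Flat R X := flat_of_witness g q hq hwit
  let lR : S →+* S₁ := Localization.localRingHom q q₁ (MvPolynomial.map χ) hq₁
  have : IsLocalHom lR := Localization.isLocalHom_localRingHom q q₁ (MvPolynomial.map χ) hq₁
  have hlR : ∀ a, lR (algebraMap (MvPolynomial σ R) S a) =
      algebraMap (MvPolynomial σ k) S₁ (MvPolynomial.map χ a) :=
    Localization.localRingHom_to_map q q₁ _ hq₁
  have hmS : (IsLocalRing.maximalIdeal R).map (algebraMap R S) ≤ RingHom.ker lR := by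
    refine Ideal.map_le_iff_le_comap.2 fun r hr ↦ ?_
    rw [Ideal.mem_comap, RingHom.mem_ker, IsScalarTower.algebraMap_apply R (MvPolynomial σ R) S,
      hlR, MvPolynomial.algebraMap_eq, map_C,
      show χ r = 0 from (hχ ▸ hr : r ∈ RingHom.ker χ), map_zero, map_zero]
  have : IsLocalHom (algebraMap R S) := by
    refine ⟨fun r hr ↦ ?_⟩
    by_contra hn
    have hm : algebraMap (MvPolynomial σ R) S (C r) ∈ IsLocalRing.maximalIdeal S := by
      rw [IsLocalization.AtPrime.to_map_mem_maximal_iff S q]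
      exact (hq.symm ▸ (IsLocalRing.mem_maximalIdeal r).2 hn : r ∈ q.comap C)
    exact (IsLocalRing.mem_maximalIdeal _).1 hm
      (by rwa [← MvPolynomial.algebraMap_eq, ← IsScalarTower.algebraMap_apply])
  let : Algebra (MvPolynomial σ R) (MvPolynomial σ k) := (MvPolynomial.map χ).toAlgebra
  have : IsScalarTower (MvPolynomial σ R) S₁ Y := IsScalarTower.of_algebraMap_smul fun a y ↦ by
    rw [IsScalarTower.algebraMap_apply (MvPolynomial σ R) (MvPolynomial σ k) S₁, algebraMap_smul,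
      algebraMap_smul]
  let ψ₀ : Quot g →ₗ[MvPolynomial σ R] Y :=
    ((LocalizedModule.mkLinearMap q₁.primeCompl (Quot g₁)).restrictScalars _).comp
      (Presented.quotMap g g₁ fun v i ↦ (congr_fun (hg₁ v) i).symm)
  have hψ₀ : IsBaseChange S₁ ψ₀ :=
    (Presented.isBaseChange_quotMap g g₁ fun v i ↦ (congr_fun (hg₁ v) i).symm).comp
      (IsLocalizedModule.isBaseChange q₁.primeCompl S₁ _)
  have hXbc : IsBaseChange S (LocalizedModule.mkLinearMap q.primeCompl (Quot g)) :=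
    IsLocalizedModule.isBaseChange q.primeCompl S _
  let ψ : X →ₛₗ[lR] Y := semilinearLift lR hlR ψ₀ hXbc
  refine flat_level_core ξ (MvPolynomial.map χ) lR
    ((algebraMap (MvPolynomial σ k) S₁).comp
      (rename e : MvPolynomial τ k →ₐ[k] MvPolynomial σ k).toRingHom)
    (fun a ↦ (hlR _).trans (congrArg (algebraMap _ S₁) (map_rename χ e a))) H π₁ hπ₁ hker
    (hχ ▸ FibreRing.map_C_ker_le χ) ?_ hmS
    (FibreRing.faithfullyFlat_lift_localRingHom χ hχ q q₁ hq₁ hmS).flat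
    (fun a x ↦ (hsm a x).trans (algebraMap_smul S (rename e a) x).symm)
    (fun a y ↦ (hsmul₁ a y).trans (algebraMap_smul S₁ (rename e a) y).symm) ψ ?_
  · exact flat_lift_congr (MvPolynomial.map χ) (congrArg (Ideal.map C) hχ) _
      (FibreRing.flat_lift_map χ hχ) _
  · exact isBaseChange_semilinearLift lR hlR ψ₀ hψ₀ hXbc

end Groth.Agent.Lib.Flat55.Level
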