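import Groth.Agent.Lib.RefHull.ExtHull
import Groth.Agent.Lib.RefHull.PushCoh
import Groth.Agent.Lib.ParaF.Pair
import Groth.Agent.H18.SerreCrit
import Groth.Agent.Lib.AffineCompl.Dim
import Groth.Agent.Lib.Perfect.Coherent

/-!
# Extension of finite locally free modules across regular points of dimension two
-/

set_option autoImplicit false
set_option linter.style.haveILetI false
set_option maxHeartbeats 1000000

universe u

noncomputable section

open CategoryTheory Limits AlgebraicGeometry TopologicalSpace
open Groth.Agent.Lib Groth.Agent.Lib.ParaF.ResBij Groth.Agent.Lib.RefHull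

namespace Groth.Agent.Lib.Flat55.LocFreeExtend

variable {X : Scheme.{u}} [IsIntegral X] [IsLocallyNoetherian X] (U : X.Opens)

omit [IsIntegral X] [IsLocallyNoetherian X] in
/-- Stalks free of finite rank are reflexive. -/
theorem isReflexiveAt_of_free {M : X.Modules} (hM : Coh.IsCoh M) (x : X)
    (h : Module.Free (X.presheaf.stalk x) (M.presheaf.stalk x)) : RefHull.IsReflexiveAt M x := by
  haveI := h
  haveI := LocFree.finite_stalk hM x
  show Module.IsReflexive _ _
  infer_instance

/-- The structure sheaf extends over points of depth two. -/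
theorem resBij_structure
    (hU : ∀ x : X, x ∉ U → (2 : ℕ∞) ≤ LocCoh.depth (X.presheaf.stalk x) (X.presheaf.stalk x)) :
    ResBij U (Coh.structureModule X) := by
  refine (resBij_iff_isIso_unit U.ι U.opensRange_ι _).mpr
    (PushU.isIso_unit_of_depth U hU Reflexive.isCoh_structure fun x => ?_)
  haveI : Module.Free (X.presheaf.stalk x) ((Coh.structureModule X).presheaf.stalk x) :=
    Module.Free.of_equiv (Reflexive.oEquiv x).symm
  exact isReflexiveAt_of_free Reflexive.isCoh_structure x inferInstance

/-- The direct image of a finite locally free module from the complement of regular points of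
dimension two is finite locally free. -/
theorem isFinLocFree_pushforward
    (hreg : ∀ x : X, x ∉ U → IsRegularLocalRing (X.presheaf.stalk x) ∧
      ringKrullDim (X.presheaf.stalk x) = 2)
    (E : (U : Scheme.{u}).Modules) (hE : FlatMod.IsFinLocFree E) :
    FlatMod.IsFinLocFree ((Scheme.Modules.pushforward U.ι).obj E) := by
  have hU : ∀ x : X, x ∉ U → (2 : ℕ∞) ≤ LocCoh.depth (X.presheaf.stalk x) (X.presheaf.stalk x) :=
    fun x hx => by
      haveI := (hreg x hx).1
      haveI : IsIntegrallyClosed (X.presheaf.stalk x) := Regular.UFD.isIntegrallyClosed _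
      exact Groth.Agent.H18.SerreCrit.two_le_depth_of_normal (hreg x hx).2.ge
  set M := (Scheme.Modules.pushforward U.ι).obj E with hMdef
  have hEc := Perfect.Coherent.isCoh_of_isFinLocFree hE
  haveI : M.IsQuasicoherent := PushU.isQCoh_P U E hEc.1
  let c : M.restrict U.ι ≅ E := asIso ((Scheme.Modules.restrictAdjunction U.ι).counit.app E)
  have hMc : Coh.IsCoh (M.restrict U.ι) := CohBasics.Closure.isCoh_of_iso c.symm hEc
  have hunit : IsIso (PushU.un U M) :=
    (resBij_iff_isIso_unit U.ι U.opensRange_ι M).mp (resBij_pushforward U.ι U.opensRange_ι E)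
  have hfree : ∀ y ∈ U, Module.Free (X.presheaf.stalk y) (M.presheaf.stalk y) := fun y hy => by
    exact LocFree.free_stalk_of_restrict U.ι M ⟨y, hy⟩
      (LocFree.free_stalk (TensorMod.LocFree.of_iso c.symm hE) _)
  have htf : ∀ y ∈ U, Function.Injective (Generic.toGen M y) := fun y hy =>
    Generic.toGen_injective y fun a v ha hv => by
      haveI := hfree y hy
      exact (smul_eq_zero.mp hv).resolve_left ha
  have hinj : ∀ x, Function.Injective (Generic.toGen M x) := fun x => by
    haveI := hunit
    have hb := (Modules.StalkModule.isIso_iff_stalkMapₗ_bijective (PushU.un U M)).mp hunit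
    intro a b hab
    refine (hb x).1 (PushU.toGen_injective U (PushU.genericPoint_mem_of_depth U hU) htf x ?_)
    exact (Generic.toGen_stalkMap (PushU.un U M) x a).trans
      ((congrArg _ hab).trans (Generic.toGen_stalkMap (PushU.un U M) x b).symm)
  have hfinU : ∀ V : X.Opens, IsAffineOpen V → V ≤ U → Module.Finite Γ(X, V) Γ(M, V) := fun V hV hle => by
    have e : U.ι ''ᵁ (U.ι ⁻¹ᵁ V) = V := by
      rw [U.ι.image_preimage_eq_opensRange_inf, U.opensRange_ι, inf_eq_right.mpr hle]
    have hV' : IsAffineOpen (U.ι ⁻¹ᵁ V) :=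
      hV.preimage_of_isOpenImmersion U.ι (by rwa [U.opensRange_ι])
    have h := (TensorMod.TensorQCoh.finite_restrict_iff U.ι M (U.ι ⁻¹ᵁ V)).1
      (CohBasics.Closure.finite_sections hMc hV')
    rwa [e] at h
  have hM : Coh.IsCoh M := CohBasics.Closure.isCoh_of_finite_sections fun V hV =>
    PushCoh.finite_sections U hU hinj hfinU hV
  have hr : ∀ x, RefHull.IsReflexiveAt M x :=
    PushRefl.isReflexive_of_isIso_unit U hM hunit
      (fun y hy => isReflexiveAt_of_free hM y (hfree y hy))
      (PushU.isIso_unit_of_depth U hU (Reflexive.isCoh_ddual hM)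
        (PushRefl.isReflexiveAt_ddual hM))
  refine LocFree.isFinLocFree hM fun x => ?_
  by_cases hx : x ∈ U
  · exact hfree x hx
  · haveI := (hreg x hx).1
    haveI : Module.IsReflexive (X.presheaf.stalk x) (M.presheaf.stalk x) := hr x
    haveI := LocFree.finite_stalk hM x
    refine DimTwo.free_of_isReflexive (le_of_eq ?_) _
    have h := IsRegularLocalRing.spanFinrank_maximalIdeal (R := X.presheaf.stalk x)
    rw [(hreg x hx).2] at h
    exact_mod_cast h

/-- Finite locally free quotient presentations extend across regular points of dimension two, up to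
surjectivity at these points. -/
theorem exists_extend
    (hreg : ∀ x : X, x ∉ U → IsRegularLocalRing (X.presheaf.stalk x) ∧
      ringKrullDim (X.presheaf.stalk x) = 2)
    (F : X.Modules) (hF : ∀ x : X, x ∉ U → ∃ W : X.Opens, x ∈ W ∧ FlatMod.IsFinLocFree (F.restrict W.ι))
    (E : (U : Scheme.{u}).Modules) (hE : FlatMod.IsFinLocFree E) (π : E ⟶ F.restrict U.ι) [Epi π] :
    ∃ (G : X.Modules) (φ : G ⟶ F), FlatMod.IsFinLocFree G ∧
      ∀ x ∈ U, Function.Surjective (Modules.StalkModule.stalkMapₗ φ x) := by
  have hU : ∀ x : X, x ∉ U → (2 : ℕ∞) ≤ LocCoh.depth (X.presheaf.stalk x) (X.presheaf.stalk x) :=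
    fun x hx => by
      haveI := (hreg x hx).1
      haveI : IsIntegrallyClosed (X.presheaf.stalk x) := Regular.UFD.isIntegrallyClosed _
      exact Groth.Agent.H18.SerreCrit.two_le_depth_of_normal (hreg x hx).2.ge
  have hFbij : ResBij U F := by
    refine ResBij.of_restrict_cover fun x => ?_
    by_cases hx : x ∈ U
    · refine ⟨U, hx, ?_⟩
      rw [show U.ι ⁻¹ᵁ U = ⊤ by simp]
      exact ParaF.Pair.resBij_top _
    · obtain ⟨W, hxW, hW⟩ := hF x hx
      exact ⟨W, hxW, ParaF.Pair.resBij_of_isFinLocFree
        (ParaF.Pair.resBij_structureModule_restrict W.ι (resBij_structure U hU)) hW⟩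
  let G := (Scheme.Modules.pushforward U.ι).obj E
  obtain ⟨φ, hφ⟩ := (restrict_map_bijective U.ι G (L' := F)
    (by rw [U.opensRange_ι]; exact hFbij)).2
      ((Scheme.Modules.restrictAdjunction U.ι).counit.app E ≫ π)
  refine ⟨G, φ, isFinLocFree_pushforward U hreg E hE, fun x hx => ?_⟩
  have hepi : Epi ((Scheme.Modules.restrictFunctor U.ι).map φ) := by
    show Epi _
    rw [show (Scheme.Modules.restrictFunctor U.ι).map φ = _ from hφ]
    infer_instance
  have h := (Modules.Stalk.epi_iff_stalk_surjective _).mp hepi ⟨x, hx⟩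
  intro w
  let eG := Modules.StalkRestrict.restrictStalkAddEquiv U.ι G ⟨x, hx⟩
  let eF := Modules.StalkRestrict.restrictStalkAddEquiv U.ι F ⟨x, hx⟩
  obtain ⟨v, hv⟩ := h (eF.symm w)
  refine ⟨eG v, ?_⟩
  have hnat := ConcreteCategory.congr_hom
    ((Modules.Local.restrictStalkIso U.ι ⟨x, hx⟩).hom.naturality φ) v
  exact hnat.symm.trans ((congrArg eF hv).trans (eF.apply_symm_apply w))

end Groth.Agent.Lib.Flat55.LocFreeExtend
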