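import Groth.Agent.Lib.NormalTensor.Main
import Groth.Agent.Lib.FinCond.Components
import Mathlib.AlgebraicGeometry.Geometrically.Integral
import Mathlib.AlgebraicGeometry.Geometrically.Connected
import Mathlib.AlgebraicGeometry.Geometrically.Reduced
import Mathlib.AlgebraicGeometry.Morphisms.Flat

/-!
# Fibres of normal morphisms
-/

set_option autoImplicit false
set_option linter.style.haveILetI false
universe u

open CategoryTheory CategoryTheory.Limits AlgebraicGeometry TopologicalSpace TensorProduct

namespace Groth.Agent.Lib.Flat55.NormalHomFibres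

/-- A field valued base change of a normal homomorphism is a normal ring. -/
theorem isNormalRing_tensor {A B K : Type u} [CommRing A] [CommRing B] [Algebra A B]
    (hn : EGA4.IsNormalHom A B) [Field K] [Algebra A K] : EGA4.IsNormalRing (B ⊗[A] K) := by
  let p : Ideal A := RingHom.ker (algebraMap A K)
  haveI : p.IsPrime := RingHom.ker_isPrime _
  have hu : p.primeCompl ≤ (IsUnit.submonoid K).comap (algebraMap A K) := fun a ha =>
    isUnit_iff_ne_zero.mpr ha
  letI : Algebra p.ResidueField K :=
    (Ideal.ResidueField.lift p (algebraMap A K) le_rfl hu).toAlgebra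
  haveI : IsScalarTower A p.ResidueField K := .of_algebraMap_eq fun a =>
    (Ideal.ResidueField.lift_algebraMap p (algebraMap A K) le_rfl hu a).symm
  have hK : EGA4.IsNormalRing K := fun q _ => by
    have hq : q = ⊥ := (Ideal.eq_bot_or_top q).resolve_right (Ideal.IsPrime.ne_top inferInstance)
    subst hq
    have e : K ≃+* Localization.AtPrime (⊥ : Ideal K) := RingEquiv.ofBijective
      (algebraMap K (Localization.AtPrime (⊥ : Ideal K))) (IsField.localization_map_bijective
        (M := (⊥ : Ideal K).primeCompl) (fun h => h (Ideal.zero_mem _)) (Field.toIsField K))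
    exact ⟨e.symm.toMulEquiv.isDomain _, IsIntegrallyClosed.of_equiv e⟩
  have h1 : EGA4.IsNormalRing ((p.Fiber B) ⊗[p.ResidueField] K) :=
    Lib.NormalTensor.Main.isNormalRing_tensor p.ResidueField (.of_isGeomNormal (hn.2 p)) hK
  exact Lib.NormalTensor.Basic.isNormalRing_congr
    (((Algebra.TensorProduct.comm p.ResidueField (p.Fiber B) K).toRingEquiv.trans
      (Algebra.TensorProduct.cancelBaseChange A p.ResidueField p.ResidueField K B).toRingEquiv).trans
      (Algebra.TensorProduct.comm A K B).toRingEquiv) h1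

theorem isDomain_stalk_spec {R : Type u} [CommRing R] (h : EGA4.IsNormalRing R)
    (q : Spec (CommRingCat.of R)) : IsDomain ((Spec (CommRingCat.of R)).presheaf.stalk q) := by
  haveI := (h q.asIdeal).1
  exact (IsLocalization.algEquiv q.asIdeal.primeCompl ((Spec.structureSheaf R).presheaf.stalk q)
    (Localization.AtPrime q.asIdeal)).toRingEquiv.toMulEquiv.isDomain (Localization.AtPrime q.asIdeal)

variable {Y S : Scheme.{u}} (h : Y ⟶ S)
  (hn : ∀ (U : Y.Opens) (V : S.Opens) (hU : IsAffineOpen U) (hV : IsAffineOpen V) (hUV : U ≤ h ⁻¹ᵁ V),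
    letI := (h.appLE V U hUV).hom.toAlgebra
    EGA4.IsNormalHom Γ(S, V) Γ(Y, U))

include hn

theorem flat : Flat h := by
  rw [HasRingHomProperty.iff_appLE (P := @Flat)]
  intro V U e
  letI := (h.appLE V.1 U.1 e).hom.toAlgebra
  exact RingHom.flat_algebraMap_iff.mpr (hn U.1 V.1 U.2 V.2 e).1

/-- The local rings of the field valued base changes are domains. -/
theorem isDomain_stalk (K : Type u) [Field K] (t : Spec (CommRingCat.of K) ⟶ S) (z : ↥(pullback h t)) :
    IsDomain ((pullback h t).presheaf.stalk z) := by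
  obtain ⟨V, hV, hzV, -⟩ := exists_isAffineOpen_mem_and_subset
    (show h (pullback.fst h t z) ∈ (⊤ : S.Opens) from trivial)
  obtain ⟨U, hU, hzU, hUV⟩ := exists_isAffineOpen_mem_and_subset
    (show pullback.fst h t z ∈ h ⁻¹ᵁ V from hzV)
  have ht : t (pullback.snd h t z) ∈ V := by
    rw [← Scheme.Hom.comp_apply, ← pullback.condition, Scheme.Hom.comp_apply]; exact hzV
  have hr : Set.range t ⊆ Set.range hV.fromSpec := by
    rintro _ ⟨a, rfl⟩
    rw [hV.range_fromSpec, Subsingleton.elim (α := PrimeSpectrum K) a (pullback.snd h t z)]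
    exact ht
  let t' := IsOpenImmersion.lift hV.fromSpec t hr
  have ht' : t' ≫ hV.fromSpec = t := IsOpenImmersion.lift_fac _ _ _
  obtain ⟨φ, hφ⟩ := Spec.map_surjective t'
  let α := h.appLE V U hUV
  letI : Algebra Γ(S, V) Γ(Y, U) := α.hom.toAlgebra
  letI : Algebra Γ(S, V) K := φ.hom.toAlgebra
  let M : pullback (Spec.map α) (Spec.map φ) ⟶ pullback h t :=
    pullback.map _ _ _ _ hU.fromSpec (𝟙 _) hV.fromSpec
      (hV.SpecMap_appLE_fromSpec h hU hUV) (by rw [hφ, Category.id_comp, ht'])
  haveI : IsOpenImmersion M := by dsimp [M]; infer_instance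
  obtain ⟨w, rfl⟩ : z ∈ Set.range M := by
    rw [Scheme.Pullback.range_map, hU.range_fromSpec]
    exact ⟨hzU, by simp⟩
  let e := pullbackSpecIso Γ(S, V) Γ(Y, U) K
  haveI := isDomain_stalk_spec (isNormalRing_tensor (K := K) (hn U V hU hV hUV)) (e.hom w)
  have e₁ : (pullback h t).presheaf.stalk (M w) ≅
      (pullback (Spec.map α) (Spec.map φ)).presheaf.stalk w := asIso (M.stalkMap w)
  have e₂ : (Spec (CommRingCat.of (Γ(Y, U) ⊗[Γ(S, V)] K))).presheaf.stalk (e.hom w) ≅
      (pullback (Spec.map α) (Spec.map φ)).presheaf.stalk w := asIso (e.hom.stalkMap w)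
  exact ((e₁ ≪≫ e₂.symm).commRingCatIsoToRingEquiv).toMulEquiv.isDomain _

theorem geometricallyReduced : GeometricallyReduced h := by
  refine ⟨fun K _ t P a b H => ?_⟩
  haveI : ∀ z : ↥(pullback h t), _root_.IsReduced ((pullback h t).presheaf.stalk z) := fun z => by
    haveI := isDomain_stalk h hn K t z
    infer_instance
  haveI : IsReduced (pullback h t) := isReduced_of_isReduced_stalk _
  exact isReduced_of_isOpenImmersion H.isoPullback.hom

/-- An open of a base change with geometrically connected fibres has geometrically integral fibres. -/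
theorem geometricallyIntegral [LocallyOfFiniteType h] {S' : Scheme.{u}} (g : S' ⟶ S)
    (V : (pullback h g).Opens) [GeometricallyConnected (V.ι ≫ pullback.snd h g)] :
    GeometricallyIntegral (V.ι ≫ pullback.snd h g) := by
  refine ⟨fun K _ t P a b H => ?_⟩
  haveI : ConnectedSpace ↥(pullback (V.ι ≫ pullback.snd h g) t) :=
    GeometricallyConnected.geometrically_connectedSpace (f := V.ι ≫ pullback.snd h g) t _ _
      (IsPullback.of_hasPullback _ t)
  haveI : IsLocallyNoetherian (pullback (V.ι ≫ pullback.snd h g) t) :=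
    LocallyOfFiniteType.isLocallyNoetherian (pullback.snd (V.ι ≫ pullback.snd h g) t)
  let M : pullback (V.ι ≫ pullback.snd h g) t ⟶ pullback h (t ≫ g) :=
    pullback.map (V.ι ≫ pullback.snd h g) t (pullback.snd h g) t V.ι (𝟙 _) (𝟙 _) (by simp) (by simp) ≫
      (pullbackLeftPullbackSndIso h g t).hom
  haveI : IsOpenImmersion M := by dsimp [M]; infer_instance
  haveI : IsIntegral (pullback (V.ι ≫ pullback.snd h g) t) := by
    refine (FinCond.isIntegral_iff _).2 ⟨inferInstance, fun z => ?_⟩
    haveI := isDomain_stalk h hn K (t ≫ g) (M z)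
    exact (asIso (M.stalkMap z)).commRingCatIsoToRingEquiv.symm.toMulEquiv.isDomain _
  haveI : Nonempty P := Nonempty.map H.isoPullback.inv inferInstance
  exact isIntegral_of_isOpenImmersion H.isoPullback.hom

end Groth.Agent.Lib.Flat55.NormalHomFibres
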