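import Groth.Agent.Lib.Flat55.SmoothStrataRing
import Groth.Agent.Lib.Normalization.FiniteField
import Groth.Agent.Lib.JacCrit.Regular
import Groth.Agent.Lib.SemiLocalDimOne.KrullAkizuki
import Mathlib.RingTheory.DedekindDomain.PID
import Mathlib.RingTheory.Spectrum.Prime.Homeomorph
import Mathlib.RingTheory.RegularLocalRing.Defs

/-!
# The normalization of a curve becomes smooth after a finite purely inseparable extension
-/

set_option autoImplicit false

universe u

open TensorProduct Groth.Agent.Lib.Flat55.StrataBC Groth.Agent.Lib.Flat55.SmoothStrataRing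

namespace Groth.Agent.Lib.Flat55.NormalizationPI

/-- Over a perfect field a Dedekind domain of finite type is smooth. -/
theorem smooth_of_dedekind (P : Type u) [Field P] [PerfectField P] {C : Type u} [CommRing C]
    [IsDomain C] [Algebra P C] [Algebra.FiniteType P C] [IsDedekindDomain C] : Algebra.Smooth P C := by
  have : IsNoetherianRing C := Algebra.FiniteType.isNoetherianRing P C
  have : Algebra.FinitePresentation P C := (Algebra.FinitePresentation.of_finiteType).1 ‹_›
  refine ⟨Algebra.smoothLocus_eq_univ_iff.1 (Set.eq_univ_of_forall fun q => ?_), this⟩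
  have : IsPrincipalIdealRing (Localization.AtPrime q.asIdeal) := by
    by_cases hq : q.asIdeal = ⊥
    · have : IsField (Localization.AtPrime q.asIdeal) := by
        rw [IsLocalRing.isField_iff_maximalIdeal_eq, ← Localization.AtPrime.map_eq_maximalIdeal,
          eq_bot_iff, Ideal.map_le_iff_le_comap]
        intro x hx
        have hx0 : x = 0 := by simpa [hq] using hx
        simp [hx0]
      let := this.toField
      infer_instance
    · have := IsLocalization.AtPrime.isDiscreteValuationRing_of_dedekind_domain C hq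
        (Localization.AtPrime q.asIdeal)
      infer_instance
  have : IsRegularLocalRing (Localization.AtPrime q.asIdeal) := inferInstance
  have : Algebra.EssFiniteType P q.asIdeal.ResidueField := by
    have : Algebra.EssFiniteType C (Localization.AtPrime q.asIdeal) :=
      Algebra.EssFiniteType.of_isLocalization _ q.asIdeal.primeCompl
    have : Algebra.EssFiniteType P (Localization.AtPrime q.asIdeal) := Algebra.EssFiniteType.comp P C _
    have : Algebra.FiniteType (Localization.AtPrime q.asIdeal) q.asIdeal.ResidueField :=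
      Algebra.FiniteType.of_surjective (Algebra.ofId _ _) Ideal.Quotient.mk_surjective
    exact Algebra.EssFiniteType.comp P (Localization.AtPrime q.asIdeal) _
  have : Algebra.FormallySmooth P q.asIdeal.ResidueField := Algebra.FormallySmooth.of_perfectField
  exact JacCrit.Regular.isSmoothAt P q.asIdeal

theorem nu_injective {k A A' B : Type u} [Field k] [CommRing A] [CommRing A'] [CommRing B]
    [Algebra k A] [Algebra k A'] [Algebra k B] (f : A →ₐ[k] A') (hf : Function.Injective f) :
    Function.Injective (nu B f) :=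
  Module.Flat.rTensor_preserves_injective_linearMap (M := B) f.toLinearMap hf

theorem exists_factor {R A C D : Type u} [CommRing R] [CommRing A] [CommRing C] [CommRing D]
    [Algebra R A] [Algebra R C] [Algebra R D] (π : C →ₐ[R] A) (hπ : Function.Surjective π)
    (f : C →ₐ[R] D) (h : ∀ x, π x = 0 → f x = 0) : ∃ ψ : A →ₐ[R] D, ∀ w, ψ (π w) = f w := by
  let ψ₀ : A →+* D := π.toRingHom.liftOfSurjective hπ ⟨f.toRingHom, fun x hx => h x hx⟩
  have hψ : ∀ w, ψ₀ (π w) = f w := fun w =>
    RingHom.liftOfRightInverse_comp_apply π.toRingHom _ _ ⟨f.toRingHom, fun x hx => h x hx⟩ w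
  refine ⟨{ ψ₀ with commutes' := fun x => ?_ }, hψ⟩
  show ψ₀ (algebraMap R A x) = _
  rw [← π.commutes x, hψ]
  exact f.commutes x

variable {k : Type u} [Field k] {P : Type u} [Field P] [Algebra k P] [Algebra.IsAlgebraic k P]
  {B : Type u} [CommRing B] [Algebra k B]

theorem exists_range_finset [DecidableEq (P ⊗[k] B)] (s : Finset (P ⊗[k] B)) :
    ∃ L₀ : IntermediateField k P, FiniteDimensional k L₀ ∧
      ∀ L : IntermediateField k P, L₀ ≤ L → ∀ z ∈ s, ∃ w, nu B (toP (R := k) L) w = z := by
  have h := fun z : s => exists_mem_range (R := k) (K := k) (z : P ⊗[k] B)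
  choose L hfd w hw using h
  refine ⟨⨆ z, L z, IntermediateField.finiteDimensional_iSup_of_finite, fun L' hL' z hz => ?_⟩
  refine ⟨nu B (incl (R := k) ((le_iSup L ⟨z, hz⟩).trans hL')) (w ⟨z, hz⟩), ?_⟩
  rw [nu_nu]
  exact hw ⟨z, hz⟩

theorem isDomain_reduction [IsDomain B] [IsPurelyInseparable k P] :
    IsDomain ((P ⊗[k] B) ⧸ nilradical (P ⊗[k] B)) := by
  have hh := PrimeSpectrum.isHomeomorph_comap_tensorProductMap_of_isPurelyInseparable (R := k) (K := k) (S := B) P
  have : IrreducibleSpace (PrimeSpectrum (k ⊗[k] B)) := by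
    have : IsDomain (k ⊗[k] B) := (Algebra.TensorProduct.lid k B).toMulEquiv.isDomain
    infer_instance
  have : IrreducibleSpace (PrimeSpectrum (P ⊗[k] B)) :=
    { toPreirreducibleSpace := hh.homeomorph.symm.surjective.preirreducibleSpace hh.homeomorph.symm.continuous
      toNonempty := hh.homeomorph.symm.toEquiv.nonempty_congr.1 inferInstance }
  rw [Ideal.Quotient.isDomain_iff_prime]
  exact PrimeSpectrum.irreducibleSpace_iff_isPrime_nilradical.1 inferInstance

theorem krullDimLE_reduction [IsPurelyInseparable k P] [Ring.KrullDimLE 1 B] :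
    Ring.KrullDimLE 1 ((P ⊗[k] B) ⧸ nilradical (P ⊗[k] B)) := by
  have hh := PrimeSpectrum.isHomeomorph_comap_tensorProductMap_of_isPurelyInseparable (R := k) (K := k) (S := B) P
  rw [Ring.krullDimLE_iff, ← PrimeSpectrum.topologicalKrullDim_eq_ringKrullDim]
  refine (PrimeSpectrum.isClosedEmbedding_comap_of_surjective _ (Ideal.Quotient.mk (nilradical (P ⊗[k] B)))
    Ideal.Quotient.mk_surjective).isInducing.topologicalKrullDim_le.trans ?_
  rw [IsHomeomorph.topologicalKrullDim_eq _ hh, PrimeSpectrum.topologicalKrullDim_eq_ringKrullDim,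
    ringKrullDim_eq_of_ringEquiv (Algebra.TensorProduct.lid k B).toRingEquiv]
  exact Ring.krullDimLE_iff.1 inferInstance

/-- Smoothness of a normalization descends along an algebraic extension of fields. -/
theorem smooth_integralClosure_descend {L P A D F K : Type u} [Field L] [Field P] [Algebra L P]
    [Algebra.IsAlgebraic L P] [CommRing A] [IsDomain A] [Algebra L A] [CommRing D] [IsDomain D]
    [Algebra P D] [Algebra L D] [IsScalarTower L P D] (ψ : A →ₐ[L] D) (hψinj : Function.Injective ψ)
    (hΦbij : Function.Bijective (Algebra.TensorProduct.lift (Algebra.ofId P D) ψ fun _ _ => .all _ _))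
    [Field F] [Algebra A F] [IsFractionRing A F] [Algebra L F] [IsScalarTower L A F]
    [Field K] [Algebra D K] [IsFractionRing D K] [Algebra P K] [IsScalarTower P D K] [Algebra L K]
    [IsScalarTower L D K] [IsScalarTower L P K]
    (T : Finset (integralClosure D K)) (hT : Submodule.span D (T : Set (integralClosure D K)) = ⊤)
    (hfrac : ∀ t ∈ T, ∃ x y : A, ψ y ≠ 0 ∧ (t : K) * algebraMap D K (ψ y) = algebraMap D K (ψ x))
    [Algebra.Smooth P (integralClosure D K)] : Algebra.Smooth L (integralClosure A F) := by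
  classical
  let Cl := integralClosure D K
  let Φ : P ⊗[L] A →ₐ[P] D := Algebra.TensorProduct.lift (Algebra.ofId P D) ψ fun _ _ => .all _ _
  have hΦinj : Function.Injective Φ := hΦbij.1
  have hΦsurj : Function.Surjective Φ := hΦbij.2
  let ψK : A →ₐ[L] K := (IsScalarTower.toAlgHom L D K).comp ψ
  have hψK : Function.Injective ψK := (IsFractionRing.injective D K).comp hψinj
  let ψF : F →ₐ[L] K := IsFractionRing.liftAlgHom hψK
  have hψF : ∀ a, ψF (algebraMap A F a) = algebraMap D K (ψ a) := fun a =>
    IsFractionRing.lift_algebraMap hψK a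
  let ΦF : P ⊗[L] F →ₐ[P] K := Algebra.TensorProduct.lift (Algebra.ofId P K) ψF fun _ _ => .all _ _
  let jF : P ⊗[L] A →ₐ[P] P ⊗[L] F :=
    Algebra.TensorProduct.map (AlgHom.id P P) (IsScalarTower.toAlgHom L A F)
  have hΦj : ∀ z, ΦF (jF z) = algebraMap D K (Φ z) := by
    intro z
    induction z with
    | zero => simp
    | add x y hx hy => simp only [map_add, hx, hy]
    | tmul p a =>
      show algebraMap P K p * ψF (algebraMap A F a) = algebraMap D K (algebraMap P D p * ψ a)
      rw [hψF, map_mul, ← IsScalarTower.algebraMap_apply]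
  have hden' : ∀ z : P ⊗[L] F, ∃ a : A, a ≠ 0 ∧ ∃ w, jF w = ((1 : P) ⊗ₜ[L] algebraMap A F a) * z := by
    intro z
    induction z with
    | zero => exact ⟨1, one_ne_zero, 0, by rw [map_zero, mul_zero]⟩
    | tmul p x =>
      obtain ⟨⟨a, s⟩, hs⟩ := IsLocalization.surj (nonZeroDivisors A) x
      refine ⟨s, nonZeroDivisors.ne_zero s.2, p ⊗ₜ a, ?_⟩
      show p ⊗ₜ[L] algebraMap A F a = _
      rw [Algebra.TensorProduct.tmul_mul_tmul, one_mul, ← hs, mul_comm]
    | add x y hx hy =>
      obtain ⟨a, ha, w, hw⟩ := hx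
      obtain ⟨b, hb, v, hv⟩ := hy
      refine ⟨a * b, mul_ne_zero ha hb,
        ((1 : P) ⊗ₜ b) * w + ((1 : P) ⊗ₜ a) * v, ?_⟩
      have e : ∀ c : A, jF ((1 : P) ⊗ₜ c) = (1 : P) ⊗ₜ[L] algebraMap A F c := fun c => rfl
      rw [map_add, map_mul, map_mul, e, e, hw, hv, map_mul,
        show (1 : P) ⊗ₜ[L] (algebraMap A F a * algebraMap A F b) =
          ((1 : P) ⊗ₜ[L] algebraMap A F a) * ((1 : P) ⊗ₜ[L] algebraMap A F b) by
          rw [Algebra.TensorProduct.tmul_mul_tmul, one_mul]]
      ring
  have hΦFinj : Function.Injective ΦF := by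
    rw [injective_iff_map_eq_zero]
    intro z hz
    obtain ⟨a, ha, w, hw⟩ := hden' z
    have h0 : algebraMap D K (Φ w) = 0 := by rw [← hΦj, hw, map_mul, hz, mul_zero]
    have hw0 : w = 0 := hΦinj (by
      rw [map_zero]; exact IsFractionRing.injective D K (by rw [h0, map_zero]))
    rw [hw0, map_zero] at hw
    have hu : IsUnit (algebraMap A F a) := IsUnit.mk0 _ fun h => ha (IsFractionRing.injective A F (by rw [h, map_zero]))
    exact ((hu.map (Algebra.TensorProduct.includeRight : F →ₐ[L] P ⊗[L] F)).mul_right_eq_zero).1 hw.symm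
  -- the integral closures
  let C := integralClosure A F
  let Ψ : P ⊗[L] C →ₐ[P] K :=
    ΦF.comp (Algebra.TensorProduct.map (AlgHom.id P P) (C.val.restrictScalars L))
  have hΨinj : Function.Injective Ψ := hΦFinj.comp
    (Module.Flat.lTensor_preserves_injective_linearMap (M := P) (C.val.restrictScalars L).toLinearMap
      Subtype.val_injective)
  let : Algebra A D := ψ.toRingHom.toAlgebra
  let : Algebra A K := ((algebraMap D K).comp (algebraMap A D)).toAlgebra
  have : IsScalarTower A D K := IsScalarTower.of_algebraMap_eq fun _ => rfl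
  have : IsScalarTower L A D := IsScalarTower.of_algebraMap_eq fun x => (ψ.commutes x).symm
  have : Algebra.IsIntegral A D := ⟨fun d => by
    obtain ⟨z, rfl⟩ := hΦsurj d
    induction z with
    | zero => rw [map_zero]; exact isIntegral_zero
    | add x y hx hy => rw [map_add]; exact hx.add hy
    | tmul p a =>
      rw [Algebra.TensorProduct.lift_tmul]
      have hp : IsIntegral L p := Algebra.IsIntegral.isIntegral p
      exact ((hp.map (Algebra.ofId P D |>.restrictScalars L)).tower_top).mul
        (isIntegral_algebraMap (x := a))⟩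
  let ψF' : F →ₐ[A] K := { ψF.toRingHom with commutes' := hψF }
  have hmem : ∀ x, Ψ x ∈ Cl := by
    intro x
    induction x with
    | zero => rw [map_zero]; exact Cl.zero_mem
    | add x y hx hy => rw [map_add]; exact Cl.add_mem hx hy
    | tmul p c =>
      show algebraMap P K p * ψF (c : F) ∈ Cl
      rw [IsScalarTower.algebraMap_apply P D K]
      exact Cl.mul_mem (Cl.algebraMap_mem _) ((c.2.map ψF').tower_top)
  let Ψ' : P ⊗[L] C →ₐ[P] Cl := Ψ.codRestrict (Cl.restrictScalars P) hmem
  have hΨbij : Function.Bijective Ψ' := by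
    refine ⟨fun x y h => hΨinj (congrArg Subtype.val h), fun t => ?_⟩
    suffices ∃ x, Ψ x = t by
      obtain ⟨x, hx⟩ := this
      exact ⟨x, Subtype.ext hx⟩
    have hD : ∀ d : D, ∃ x, Ψ x = algebraMap D K d := fun d => by
      obtain ⟨z, rfl⟩ := hΦsurj d
      refine ⟨Algebra.TensorProduct.map (AlgHom.id P P) (IsScalarTower.toAlgHom L A C) z, ?_⟩
      rw [← hΦj]
      induction z with
      | zero => simp
      | add x y hx hy => simp only [map_add, hx, hy]
      | tmul p a => rfl
    have hgen : ∀ t ∈ T, ∃ x, Ψ x = (t : K) := by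
      intro t ht
      obtain ⟨x, y, hy0, hxy⟩ := hfrac t ht
      have hb0 : algebraMap A F y ≠ 0 := fun h => hy0 (by
        rw [IsFractionRing.injective A F (h.trans (map_zero (algebraMap A F)).symm), map_zero])
      let f := algebraMap A F x / algebraMap A F y
      have hf : ψF f = (t : K) := by
        have h1 : ψF f * algebraMap D K (ψ y) = algebraMap D K (ψ x) := by
          rw [← hψF, ← hψF, ← map_mul, div_mul_cancel₀ _ hb0]
        refine mul_right_cancel₀ ?_ (h1.trans hxy.symm)
        exact fun h => hy0 (IsFractionRing.injective D K (h.trans (map_zero (algebraMap D K)).symm))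
      have hfint : IsIntegral A f :=
        (isIntegral_algHom_iff ψF' ψF.injective).1
          (show IsIntegral A (ψF f) by rw [hf]; exact isIntegral_trans (A := D) _ t.2)
      refine ⟨(1 : P) ⊗ₜ[L] ⟨f, hfint⟩, ?_⟩
      show algebraMap P K 1 * ψF f = _
      rw [map_one, one_mul, hf]
    have ht : t ∈ Submodule.span D (T : Set Cl) := hT ▸ trivial
    induction ht using Submodule.span_induction with
    | mem t ht => exact hgen t ht
    | zero => exact ⟨0, by rw [map_zero]; rfl⟩
    | add a b _ _ ha hb =>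
      obtain ⟨x, hx⟩ := ha
      obtain ⟨y, hy⟩ := hb
      exact ⟨x + y, by rw [map_add, hx, hy]; rfl⟩
    | smul d a _ ha =>
      obtain ⟨x, hx⟩ := ha
      obtain ⟨y, hy⟩ := hD d
      exact ⟨y * x, by rw [map_mul, hx, hy]; exact (Algebra.smul_def d (a : K)).symm⟩
  have : Algebra.Smooth P (P ⊗[L] C) := Algebra.Smooth.of_equiv (AlgEquiv.ofBijective Ψ' hΨbij).symm
  exact Algebra.Smooth.of_smooth_tensorProduct_of_faithfullyFlat P


/-- For large `L` the normalization of the reduction of `L ⊗ B` is smooth over `L`. -/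
theorem exists_smooth_normalization [IsPurelyInseparable k P] [PerfectField P] [IsDomain B]
    [Algebra.FiniteType k B] [Ring.KrullDimLE 1 B] :
    ∃ L₀ : IntermediateField k P, FiniteDimensional k L₀ ∧ ∀ L : IntermediateField k P, L₀ ≤ L →
      ∀ (A : Type u) [CommRing A] [IsDomain A] [Algebra L A] (π : L ⊗[k] B →ₐ[L] A),
        Function.Surjective π → RingHom.ker π = nilradical (L ⊗[k] B) →
        ∀ (F : Type u) [Field F] [Algebra A F] [IsFractionRing A F] [Algebra L F] [IsScalarTower L A F],
          Algebra.Smooth L (integralClosure A F) := by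
  classical
  let N := nilradical (P ⊗[k] B)
  let D := (P ⊗[k] B) ⧸ N
  have : IsDomain D := isDomain_reduction
  have : Ring.KrullDimLE 1 D := krullDimLE_reduction
  have : IsNoetherianRing (P ⊗[k] B) := Algebra.FiniteType.isNoetherianRing P _
  let K := FractionRing D
  let Cl := integralClosure D K
  have : Module.Finite D Cl := Normalization.FiniteField.finite_integralClosure P D K K
  have : IsNoetherianRing Cl := IsNoetherianRing.of_finite D Cl
  have : IsNoetherianRing D := isNoetherianRing_of_surjective _ D (Ideal.Quotient.mk N) Ideal.Quotient.mk_surjective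
  have : IsDedekindDomain Cl := SemiLocalDimOne.KrullAkizuki.isDedekindDomain_integralClosure (R := D) (K := K)
  have : Algebra.FiniteType P Cl := Algebra.FiniteType.trans (R := P) (S := D) inferInstance inferInstance
  have hsm : Algebra.Smooth P Cl := smooth_of_dedekind P
  obtain ⟨T, hT⟩ := Module.Finite.fg_top (R := D) (M := Cl)
  have hfrac : ∀ t : Cl, ∃ a b : P ⊗[k] B, Ideal.Quotient.mk N b ≠ 0 ∧
      (t : K) * algebraMap D K (Ideal.Quotient.mk N b) = algebraMap D K (Ideal.Quotient.mk N a) := by
    intro t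
    obtain ⟨⟨x, y⟩, hxy⟩ := IsLocalization.surj (nonZeroDivisors D) (t : K)
    obtain ⟨a, rfl⟩ := Ideal.Quotient.mk_surjective x
    obtain ⟨b, hb⟩ := Ideal.Quotient.mk_surjective (y : D)
    refine ⟨a, b, ?_, by rw [hb]; exact hxy⟩
    rw [hb]
    exact nonZeroDivisors.ne_zero y.2
  choose num den hden hnd using hfrac
  obtain ⟨G, hG⟩ := (IsNoetherian.noetherian N : N.FG)
  obtain ⟨L₀, hfd, hL₀⟩ := exists_range_finset (G ∪ T.image num ∪ T.image den)
  refine ⟨L₀, hfd, fun L hL A _ _ _ π hπ hker F _ _ _ _ _ => ?_⟩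
  let ν := nu B (toP (R := k) L)
  have hν : Function.Injective ν := nu_injective (toP (R := k) L) Subtype.val_injective
  have hνnil : ∀ w, ν w ∈ N ↔ w ∈ nilradical (L ⊗[k] B) := fun w => by
    simp only [N, mem_nilradical, IsNilpotent]
    exact exists_congr fun n => by rw [← map_pow, ← map_zero ν, hν.eq_iff]
  let νL : L ⊗[k] B →ₐ[L] D := AlgHom.mk ((Ideal.Quotient.mk N).comp ν.toRingHom) fun r => rfl
  have hle : ∀ x, π x = 0 → νL x = 0 := fun x hx => by
    have : x ∈ nilradical (L ⊗[k] B) := hker ▸ hx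
    exact Ideal.Quotient.eq_zero_iff_mem.2 ((hνnil x).2 this)
  obtain ⟨ψ, hψ₀⟩ := exists_factor (R := L) (A := A) (C := L ⊗[k] B) (D := D) π hπ νL hle
  have hψ : ∀ w, ψ (π w) = Ideal.Quotient.mk N (ν w) := hψ₀
  have hψinj : Function.Injective ψ := by
    rw [injective_iff_map_eq_zero]
    intro a ha
    obtain ⟨w, rfl⟩ := hπ a
    rw [hψ, Ideal.Quotient.eq_zero_iff_mem, hνnil, ← hker] at ha
    exact ha
  let Φ : P ⊗[L] A →ₐ[P] D := Algebra.TensorProduct.lift (Algebra.ofId P D) ψ fun _ _ => .all _ _
  have hΦsurj : Function.Surjective Φ := by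
    intro d
    obtain ⟨z, rfl⟩ := Ideal.Quotient.mk_surjective d
    induction z with
    | zero => exact ⟨0, by rw [map_zero, map_zero]⟩
    | tmul p b =>
      refine ⟨p ⊗ₜ π ((1 : L) ⊗ₜ b), ?_⟩
      rw [Algebra.TensorProduct.lift_tmul, hψ]
      show Ideal.Quotient.mk N (p ⊗ₜ[k] (1 : B)) * Ideal.Quotient.mk N ((1 : P) ⊗ₜ[k] b) = _
      rw [← map_mul, Algebra.TensorProduct.tmul_mul_tmul, mul_one, one_mul]
    | add x y hx hy =>
      obtain ⟨a, ha⟩ := hx
      obtain ⟨b, hb⟩ := hy
      exact ⟨a + b, by rw [map_add, map_add, ha, hb]⟩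
  let : Algebra k A := ((algebraMap L A).comp (algebraMap k L)).toAlgebra
  have : IsScalarTower k L A := IsScalarTower.of_algebraMap_eq fun _ => rfl
  have hΦinj : Function.Injective Φ := by
    let θ : P ⊗[k] B →ₐ[P] P ⊗[L] A := Algebra.TensorProduct.lift (Algebra.ofId P _)
      (((Algebra.TensorProduct.includeRight : A →ₐ[L] P ⊗[L] A).restrictScalars k).comp
        ((π.restrictScalars k).comp Algebra.TensorProduct.includeRight)) fun _ _ => .all _ _
    have hθν : ∀ w, θ (ν w) = (1 : P) ⊗ₜ π w := by
      intro w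
      induction w with
      | zero => rw [map_zero, map_zero, map_zero, TensorProduct.tmul_zero]
      | add x y hx hy => rw [map_add, map_add, hx, hy, map_add, TensorProduct.tmul_add]
      | tmul l b =>
        show (algebraMap P (P ⊗[L] A) (l : P)) * ((1 : P) ⊗ₜ[L] π ((1 : L) ⊗ₜ b)) = _
        rw [Algebra.TensorProduct.algebraMap_apply, Algebra.algebraMap_self, RingHom.id_apply,
          Algebra.TensorProduct.tmul_mul_tmul, mul_one, one_mul,
          show (l ⊗ₜ[k] b : L ⊗[k] B) = l • ((1 : L) ⊗ₜ b) by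
            rw [TensorProduct.smul_tmul', smul_eq_mul, mul_one],
          map_smul, TensorProduct.tmul_smul, TensorProduct.smul_tmul', Algebra.smul_def, mul_one]
        rfl
    have hθN : N ≤ RingHom.ker θ := by
      rw [← hG, Ideal.span_le]
      intro g hg
      obtain ⟨w, rfl⟩ := hL₀ L hL g (Finset.mem_union_left _ (Finset.mem_union_left _ hg))
      show θ (ν w) = 0
      have : π w = 0 := by
        rw [← RingHom.mem_ker, hker, ← hνnil]
        rw [← hG]; exact Ideal.subset_span hg
      rw [hθν, this, TensorProduct.tmul_zero]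
    let θ' : D →ₐ[P] P ⊗[L] A := Ideal.Quotient.liftₐ N θ fun x hx => hθN hx
    have h1 : θ'.comp Φ = AlgHom.id P _ := Algebra.TensorProduct.ext (Subsingleton.elim _ _) (by
      refine AlgHom.ext fun a => ?_
      obtain ⟨w, rfl⟩ := hπ a
      show θ' (Φ ((1 : P) ⊗ₜ π w)) = (1 : P) ⊗ₜ π w
      rw [Algebra.TensorProduct.lift_tmul, map_one, one_mul, hψ]
      exact hθν w)
    exact Function.LeftInverse.injective (g := θ') fun x => DFunLike.congr_fun h1 x
  have hfrac' : ∀ t ∈ T, ∃ x y : A, ψ y ≠ 0 ∧
      (t : K) * algebraMap D K (ψ y) = algebraMap D K (ψ x) := fun t ht => by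
    obtain ⟨wa, hwa⟩ := hL₀ L hL (num t)
      (Finset.mem_union_left _ (Finset.mem_union_right _ (Finset.mem_image_of_mem num ht)))
    obtain ⟨wb, hwb⟩ := hL₀ L hL (den t) (Finset.mem_union_right _ (Finset.mem_image_of_mem den ht))
    exact ⟨π wa, π wb, by rw [hψ, hwb]; exact hden t, by rw [hψ, hψ, hwa, hwb]; exact hnd t⟩
  exact smooth_integralClosure_descend ψ hψinj ⟨hΦinj, hΦsurj⟩ T hT hfrac'

end Groth.Agent.Lib.Flat55.NormalizationPI
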