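import Groth.Agent.Lib.Flat55.SectionStrata
import Groth.Agent.Lib.SourceDescent.Scheme
import Groth.Agent.S1448

/-!
# Partition with finite étale then radicial sections
-/

set_option autoImplicit false
set_option linter.style.haveILetI false
universe u

open CategoryTheory CategoryTheory.Limits AlgebraicGeometry TopologicalSpace
open scoped Topology

namespace Groth.Agent.Lib.Flat55.PartitionFinite

open Groth.Agent.Lib.FibreDeg

/-- Level sets of a degree function in the constructible topology. -/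
theorem exists_bound {A A' : Scheme.{u}} [IsAffine A] [IsAffine A'] (h : A' ⟶ A) [Etale h] [LocallyQuasiFinite h] :
    (∃ N, ∀ s, Strat.deg h s < N) ∧ ∀ r, IsCompact {s : A | r ≤ Strat.deg h s} := by
  classical
  let F : ℕ → Set (WithConstructibleTopology A) := fun r => WithTopology.ofTopology ⁻¹' {s | Strat.deg h s = r}
  have hF : ∀ r, IsOpen (F r) := fun r => by
    rw [isOpen_iff_forall_mem_open]
    intro z hz
    let O : A.Opens := ⊤
    haveI : CompactSpace (O : Scheme.{u}) := isCompact_iff_compactSpace.1 (by simpa [O] using isCompact_univ)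
    obtain ⟨C, hC, haC, hdeg⟩ := S1448.exists_constructible h (isAffineOpen_top A) ⟨WithTopology.ofTopology z, trivial⟩
    have hC' : Topology.IsConstructible ((⊤ : A.Opens).ι '' C) :=
      hC.image_of_isOpenEmbedding (⊤ : A.Opens).ι.isOpenEmbedding (by
        rw [Scheme.Opens.range_ι]; exact IsRetrocompact.univ)
    refine ⟨WithTopology.ofTopology ⁻¹' ((⊤ : A.Opens).ι '' C), ?_, ?_, ⟨_, haC, rfl⟩⟩
    · rintro w ⟨b, hb, hbw⟩
      show Strat.deg h (WithTopology.ofTopology w) = r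
      rw [← hbw, hdeg b hb]
      exact hz
    · exact (WithTopology.isOpen_iff _).2 (SectionStrata.isOpen_of_isConstructible hC').1
  obtain ⟨t, ht⟩ := isCompact_univ.elim_finite_subcover F hF fun z _ =>
    Set.mem_iUnion.2 ⟨Strat.deg h (WithTopology.ofTopology z), rfl⟩
  refine ⟨⟨t.sup id + 1, fun s => ?_⟩, fun r => ?_⟩
  · obtain ⟨n, hn, hsn⟩ := Set.mem_iUnion₂.1 (ht (Set.mem_univ (WithTopology.toTopology _ s)))
    have hsn' : Strat.deg h s = n := hsn
    exact hsn' ▸ Nat.lt_succ_of_le (Finset.le_sup (f := id) hn)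
  · let K : Set (WithConstructibleTopology A) := WithTopology.ofTopology ⁻¹' {s | r ≤ Strat.deg h s}
    have hK : IsClosed K := by
      rw [← isOpen_compl_iff, show Kᶜ = ⋃ n ∈ Set.Iio r, F n by
        ext z; simp [K, F]]
      exact isOpen_biUnion fun n _ => hF n
    have hcont : Continuous (WithTopology.ofTopology : WithConstructibleTopology A → A) := by
      refine continuous_def.2 fun U hU => ?_
      rw [isOpen_iff_forall_mem_open]
      intro z hz
      obtain ⟨V, ⟨hVo, hVc⟩, hzV, hVU⟩ := PrespectralSpace.isTopologicalBasis.exists_subset_of_mem_open (show WithTopology.ofTopology z ∈ U from hz) hU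
      exact ⟨WithTopology.ofTopology ⁻¹' V, fun w hw => hVU hw,
        (WithTopology.isOpen_iff _).2 (hVc.isOpen_constructibleTopology_of_isOpen hVo), hzV⟩
    have hr : {s : A | r ≤ Strat.deg h s} = WithTopology.ofTopology '' K :=
      (Set.image_preimage_eq _ (fun s => ⟨WithTopology.toTopology _ s, rfl⟩)).symm
    rw [hr]
    exact hK.isCompact.image hcont

/-- Finitely many finitely presented strata over which an affine étale morphism becomes finite étale. -/
theorem exists_finite_strata {A A' : Scheme.{u}} [IsAffine A] [IsAffine A'] (h : A' ⟶ A) [Etale h] :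
    ∃ (n : ℕ) (Z : Fin n → Scheme.{u}) (e : ∀ i, Z i ⟶ A),
      (∀ i, IsImmersion (e i) ∧ LocallyOfFinitePresentation (e i) ∧ QuasiCompact (e i)) ∧
      (∀ i j, i ≠ j → Disjoint (Set.range (e i)) (Set.range (e j))) ∧ (⋃ i, Set.range (e i)) = Set.univ ∧
      ∀ i, IsFinite (pullback.snd h (e i)) := by
  classical
  haveI : LocallyQuasiFinite h := Lib.SourceDescent.Scheme.locallyQuasiFinite_of_etale h
  haveI : IsSeparated h := inferInstance
  haveI : QuasiCompact h := inferInstance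
  have hf := S1448.finiteFibres h
  obtain ⟨⟨N, hN⟩, hcpt⟩ := exists_bound h
  have hop : ∀ r, IsOpen {s : A | r ≤ Strat.deg h s} := Strat.isOpen_le_deg hf
  let O : ℕ → A.Opens := fun r => ⟨_, hop r⟩
  have hJ : ∀ r, ∃ J : A.IdealSheafData, Lim.IdealExt.IsFG J ∧ (J.support : Set A) = (O r : Set A)ᶜ :=
    fun r => GenericStrataScheme.exists_isFG_support (O r) (hcpt r)
  choose J hJfg hJs using hJ
  let Z : Fin N → Scheme.{u} := fun r => ((J (r + 1)).subschemeι ⁻¹ᵁ O r : (J (r + 1)).subscheme.Opens)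
  let e : ∀ r, Z r ⟶ A := fun r => ((J (r + 1)).subschemeι ⁻¹ᵁ O r).ι ≫ (J (r + 1)).subschemeι
  have hrange : ∀ r : Fin N, Set.range (e r) = {s | Strat.deg h s = r} := fun r => by
    rw [show ⇑(e r) = (J (r + 1)).subschemeι ∘ ((J (r + 1)).subschemeι ⁻¹ᵁ O r).ι from rfl, Set.range_comp,
      Scheme.Opens.range_ι]
    show _ '' ((J (r + 1)).subschemeι ⁻¹' (O r : Set A)) = _
    rw [Set.image_preimage_eq_inter_range, Scheme.IdealSheafData.range_subschemeι, hJs]
    ext s
    simp only [O, Set.mem_inter_iff, Set.mem_compl_iff, Opens.coe_mk, Set.mem_setOf_eq]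
    omega
  refine ⟨N, Z, e, fun r => ?_, fun i j hij => ?_, ?_, fun r => ?_⟩
  · haveI := Lim.IdealFP.lfp_subschemeι (J (r + 1)) (hJfg _)
    haveI : CompactSpace (Z r) := isCompact_iff_compactSpace.1
      ((J (r + 1)).subschemeι.isClosedEmbedding.isCompact_preimage (hcpt r))
    exact ⟨inferInstance, inferInstance, quasiCompact_of_compactSpace _⟩
  · rw [hrange, hrange]
    exact Set.disjoint_left.2 fun s hi hj => hij (Fin.ext (hi.symm.trans hj))
  · exact Set.eq_univ_of_forall fun s => Set.mem_iUnion.2 ⟨⟨_, hN s⟩, by rw [hrange]; rfl⟩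
  · have hp := IsPullback.of_hasPullback h (e r)
    exact ((Strat.isFinLocFree_of_deg_eq (Strat.finiteFibres_baseChange hp hf) (r := (r : ℕ)) fun t => by
      rw [Strat.deg_baseChange hp hf t]
      exact (hrange r).le ⟨t, rfl⟩).1).1

variable {X S : Scheme.{u}} (f : X ⟶ S) [Surjective f]

theorem main [LocallyOfFinitePresentation f] [QuasiCompact f] [QuasiSeparated f] [CompactSpace S]
    [QuasiSeparatedSpace S] :
    ∃ (m : ℕ) (T T' T'' : Fin m → Scheme.{u}) (e : ∀ i, T i ⟶ S) (hh : ∀ i, T' i ⟶ T i) (gg : ∀ i, T'' i ⟶ T' i)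
      (s : ∀ i, T'' i ⟶ X),
      (∀ i, IsImmersion (e i) ∧ LocallyOfFinitePresentation (e i) ∧ QuasiCompact (e i)) ∧
      Pairwise (fun i j => Disjoint (Set.range (e i).base) (Set.range (e j).base)) ∧
      (⋃ i, Set.range (e i).base) = Set.univ ∧
      (∀ i, IsFinite (hh i) ∧ Surjective (hh i) ∧ Etale (hh i)) ∧
      (∀ i, IsFinite (gg i) ∧ Surjective (gg i) ∧ Flat (gg i) ∧ LocallyOfFinitePresentation (gg i) ∧
        UniversallyInjective (gg i)) ∧
      ∀ i, s i ≫ f = gg i ≫ hh i ≫ e i := by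
  classical
  obtain ⟨t, I, hI0, hIlast, hIfg, hstep⟩ := SmoothStrataMain.smoothness_stratification f
  let O : ∀ i : Fin t, (I i.castSucc).subscheme.Opens := fun i =>
    (I i.castSucc).subschemeι ⁻¹ᵁ (I i.succ).support.compl
  let w : ∀ i : Fin t, (O i).toScheme ⟶ S := fun i => (O i).ι ≫ (I i.castSucc).subschemeι
  have hwr : ∀ i, Set.range (w i) = ((I i.castSucc).support : Set S) \ (I i.succ).support := fun i => by
    rw [show ⇑(w i) = (I i.castSucc).subschemeι ∘ (O i).ι from rfl, Set.range_comp, Scheme.Opens.range_ι]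
    show _ '' ((I i.castSucc).subschemeι ⁻¹' ((I i.succ).support : Set S)ᶜ) = _
    rw [Set.image_preimage_eq_inter_range, Scheme.IdealSheafData.range_subschemeι, Set.inter_comm]
    rfl
  have hwp : ∀ i, CompactSpace (O i).toScheme ∧ QuasiSeparatedSpace (O i).toScheme ∧ IsImmersion (w i) ∧
      QuasiCompact (w i) ∧ LocallyOfFinitePresentation (w i) := fun i => by
    haveI : CompactSpace (I i.castSucc).subscheme := QuasiCompact.compactSpace_of_compactSpace (I i.castSucc).subschemeι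
    haveI : QuasiSeparatedSpace (I i.castSucc).subscheme :=
      quasiSeparatedSpace_of_quasiSeparated (I i.castSucc).subschemeι
    haveI : CompactSpace (O i).toScheme := isCompact_iff_compactSpace.1
      ((I i.castSucc).subschemeι.isClosedEmbedding.isCompact_preimage
        (H22.BlowUpSeparateMany.isCompact_compl_support (I i.succ) (hIfg _)))
    haveI : QuasiSeparatedSpace (O i).toScheme := (O i).ι.isOpenEmbedding.quasiSeparatedSpace
    haveI := Lim.IdealFP.lfp_subschemeι (I i.castSucc) (hIfg _)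
    exact ⟨inferInstance, inferInstance, inferInstance, quasiCompact_of_compactSpace _, inferInstance⟩
  have hp : ∀ i, ∃ (n : ℕ) (Z : Fin n → Scheme.{u}) (e : ∀ j, Z j ⟶ (O i).toScheme),
      (∀ j, IsAffine (Z j) ∧ IsImmersion (e j) ∧ QuasiCompact (e j) ∧ LocallyOfFinitePresentation (e j)) ∧
      (∀ j k, j ≠ k → Disjoint (Set.range (e j)) (Set.range (e k))) ∧ (⋃ j, Set.range (e j)) = Set.univ := fun i => by
    haveI := (hwp i).1; haveI := (hwp i).2.1
    exact SectionStrata.exists_affine_pieces _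
  choose n Z e hZ hdis hcov using hp
  have hs : ∀ (p : Σ i : Fin t, Fin (n i)), ∃ (A' A'' : Scheme.{u}) (h : A' ⟶ Z p.1 p.2) (g : A'' ⟶ A') (σ : A'' ⟶ X)
      (k : ℕ) (P : Fin k → Scheme.{u}) (d : ∀ i, P i ⟶ Z p.1 p.2),
      (Etale h ∧ Surjective h) ∧
      (Flat g ∧ UniversallyInjective g ∧ Surjective g ∧ LocallyOfFinitePresentation g ∧ IsFinite g) ∧
      σ ≫ f = g ≫ h ≫ e p.1 p.2 ≫ w p.1 ∧
      (∀ i, IsImmersion (d i) ∧ LocallyOfFinitePresentation (d i) ∧ QuasiCompact (d i)) ∧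
      (∀ i j, i ≠ j → Disjoint (Set.range (d i)) (Set.range (d j))) ∧ (⋃ i, Set.range (d i)) = Set.univ ∧
      ∀ i, IsFinite (pullback.snd h (d i)) := fun p => by
    haveI := (hZ p.1 p.2).1
    obtain ⟨A', A'', h, g, σ, ⟨h1, h1', -, -⟩, ⟨g1, g2, g3, g4, -, -⟩, ⟨hA', g5⟩, hσ⟩ :=
      SectionStrata.exists_sections f (w p.1) (hstep p.1).2.2 (e p.1 p.2)
    haveI := h1; haveI := hA'
    obtain ⟨k, P, d, hd, hdd, hdc, hdf⟩ := exists_finite_strata h
    exact ⟨A', A'', h, g, σ, k, P, d, ⟨h1, h1'⟩, ⟨g1, g2, g3, g4, g5⟩, hσ, hd, hdd, hdc, hdf⟩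
  choose A' A'' h g σ k P d hh hg hσ hd hdd hdc hdf using hs
  let κ := Σ p : (Σ i : Fin t, Fin (n i)), Fin (k p)
  let en := (Fintype.equivFin κ).symm
  let hT : ∀ q : κ, pullback (h q.1) (d q.1 q.2) ⟶ P q.1 q.2 := fun q => pullback.snd _ _
  let gT : ∀ q : κ, pullback (g q.1) (pullback.fst (h q.1) (d q.1 q.2)) ⟶ pullback (h q.1) (d q.1 q.2) :=
    fun q => pullback.snd _ _
  let eT : ∀ q : κ, P q.1 q.2 ⟶ S := fun q => d q.1 q.2 ≫ e q.1.1 q.1.2 ≫ w q.1.1
  let sT : ∀ q : κ, pullback (g q.1) (pullback.fst (h q.1) (d q.1 q.2)) ⟶ X := fun q => pullback.fst _ _ ≫ σ q.1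
  have hanti : ∀ a b : Fin (t + 1), a ≤ b → ((I b).support : Set S) ⊆ (I a).support := fun a b hab =>
    SetLike.coe_subset_coe.2 (Scheme.IdealSheafData.support_antitone (Fin.monotone_iff_le_succ.2 (fun i => (hstep i).1) hab))
  refine ⟨_, fun a => P (en a).1 (en a).2, fun a => pullback (h (en a).1) (d (en a).1 (en a).2),
    fun a => pullback (g (en a).1) (pullback.fst (h (en a).1) (d (en a).1 (en a).2)),
    fun a => eT (en a), fun a => hT (en a), fun a => gT (en a), fun a => sT (en a),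
    fun a => ?_, fun a b hab => ?_, ?_, fun a => ?_, fun a => ?_, fun a => ?_⟩
  · obtain ⟨-, -, w1, w2, w3⟩ := hwp (en a).1.1
    obtain ⟨-, e1, e2, e3⟩ := hZ (en a).1.1 (en a).1.2
    obtain ⟨d1, d2, d3⟩ := hd (en a).1 (en a).2
    exact ⟨inferInstance, inferInstance, inferInstance⟩
  · suffices key : ∀ q q' : κ, q ≠ q' → Disjoint (Set.range (eT q)) (Set.range (eT q')) from
      key _ _ (en.injective.ne hab)
    rintro ⟨⟨i, j⟩, l⟩ ⟨⟨i', j'⟩, l'⟩ hne
    refine Set.disjoint_left.2 ?_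
    rintro x ⟨u₁, ha⟩ ⟨u₂, hb⟩
    have hai : x ∈ Set.range (w i) := ⟨e i j (d ⟨i, j⟩ l u₁), ha⟩
    have hbi : x ∈ Set.range (w i') := ⟨e i' j' (d ⟨i', j'⟩ l' u₂), hb⟩
    rw [hwr] at hai hbi
    have hii : i = i' := by
      rcases lt_trichotomy i i' with h | h | h
      · exact absurd (hanti i.succ i'.castSucc (Fin.succ_le_castSucc_iff.2 h) hbi.1) hai.2
      · exact h
      · exact absurd (hanti i'.succ i.castSucc (Fin.succ_le_castSucc_iff.2 h) hai.1) hbi.2
    subst hii
    haveI : IsImmersion (w i) := (hwp i).2.2.1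
    have he : e i j' (d ⟨i, j'⟩ l' u₂) = e i j (d ⟨i, j⟩ l u₁) := (w i).isEmbedding.injective (hb.trans ha.symm)
    have hjj : j = j' := by
      by_contra hjj
      exact Set.disjoint_left.1 (hdis i j j' hjj) ⟨_, rfl⟩ ⟨_, he⟩
    subst hjj
    haveI : IsImmersion (e i j) := (hZ i j).2.1
    refine Set.disjoint_left.1 (hdd ⟨i, j⟩ l l' fun hll => hne (by rw [hll])) ⟨_, rfl⟩
      ⟨_, (e i j).isEmbedding.injective he⟩
  · refine Set.eq_univ_of_forall fun x => ?_
    obtain ⟨i, hi, hi'⟩ : ∃ i : Fin t, x ∈ (I i.castSucc).support ∧ x ∉ (I i.succ).support := by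
      by_contra hcon
      push Not at hcon
      have hall : ∀ i : Fin (t + 1), x ∈ (I i).support := fun i => by
        induction i using Fin.induction with
        | zero => rw [hI0, Scheme.IdealSheafData.support_bot]; trivial
        | succ i ih => exact hcon i ih
      have := hall (Fin.last t)
      rw [hIlast, Scheme.IdealSheafData.support_top] at this
      exact this
    obtain ⟨u₁, hu₁⟩ : x ∈ Set.range (w i) := by rw [hwr]; exact ⟨hi, hi'⟩
    obtain ⟨j, u₂, hu₂⟩ := Set.mem_iUnion.1 ((hcov i).ge (Set.mem_univ u₁))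
    obtain ⟨l, u₃, hu₃⟩ := Set.mem_iUnion.1 ((hdc ⟨i, j⟩).ge (Set.mem_univ u₂))
    obtain ⟨a, ha⟩ := en.surjective ⟨⟨i, j⟩, l⟩
    refine Set.mem_iUnion.2 ⟨a, ?_⟩
    show x ∈ Set.range (eT (en a))
    rw [ha]
    exact ⟨u₃, (congrArg (fun z => w i (e i j z)) hu₃).trans ((congrArg (w i) hu₂).trans hu₁)⟩
  · haveI := (hh (en a).1).1; haveI := (hh (en a).1).2
    exact ⟨hdf _ _, MorphismProperty.pullback_snd _ _ inferInstance, MorphismProperty.pullback_snd _ _ inferInstance⟩
  · obtain ⟨g1, g2, g3, g4, g5⟩ := hg (en a).1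
    exact ⟨MorphismProperty.pullback_snd _ _ g5, MorphismProperty.pullback_snd _ _ g3,
      MorphismProperty.pullback_snd _ _ g1, MorphismProperty.pullback_snd _ _ g4,
      MorphismProperty.pullback_snd _ _ g2⟩
  · simp only [sT, gT, hT, eT, Category.assoc, hσ]
    rw [pullback.condition_assoc, pullback.condition_assoc]

theorem result [LocallyOfFinitePresentation f] [CompactSpace S] [QuasiSeparatedSpace S] :
    ∃ (m : ℕ) (T T' T'' : Fin m → Scheme.{u}) (e : ∀ i, T i ⟶ S) (hh : ∀ i, T' i ⟶ T i) (gg : ∀ i, T'' i ⟶ T' i)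
      (s : ∀ i, T'' i ⟶ X),
      (∀ i, IsImmersion (e i) ∧ LocallyOfFinitePresentation (e i) ∧ QuasiCompact (e i)) ∧
      Pairwise (fun i j => Disjoint (Set.range (e i).base) (Set.range (e j).base)) ∧
      (⋃ i, Set.range (e i).base) = Set.univ ∧
      (∀ i, IsFinite (hh i) ∧ Surjective (hh i) ∧ Etale (hh i)) ∧
      (∀ i, IsFinite (gg i) ∧ Surjective (gg i) ∧ Flat (gg i) ∧ LocallyOfFinitePresentation (gg i) ∧
        UniversallyInjective (gg i)) ∧
      ∀ i, s i ≫ f = gg i ≫ hh i ≫ e i := by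
  obtain ⟨X₀, p, hX₀, hp, hps⟩ := SectionStrata.exists_affine_source f
  haveI := hX₀; haveI := hp; haveI := hps
  haveI : QuasiCompact (p ≫ f) := quasiCompact_of_compactSpace _
  haveI : QuasiSeparated (p ≫ f) := SectionStrata.qsep_of_space _
  obtain ⟨m, T, T', T'', e, hh, gg, s, h1, h2, h3, h4, h5, h6⟩ := main (p ≫ f)
  exact ⟨m, T, T', T'', e, hh, gg, fun i => s i ≫ p, h1, h2, h3, h4, h5,
    fun i => (Category.assoc _ _ _).trans (h6 i)⟩

end Groth.Agent.Lib.Flat55.PartitionFinite
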