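import Groth.Agent.Lib.Flat55.RegularAlteration
import Groth.Agent.Lib.Excellent.CompletionFinite

/-!
# Completion of the normalization under a regular alteration
-/

set_option autoImplicit false

universe u

open CategoryTheory CategoryTheory.Limits AlgebraicGeometry TopologicalSpace TensorProduct
open IsLocalRing Groth.Agent.Lib Groth.Agent.Lib.Flat55.CompletionFibreRegular
open Groth.Agent.Lib.Flat55.AnalyticFiniteNormalization Groth.Agent.Lib.Flat55.RegularAlteration

namespace Groth.Agent.Lib.Flat55.RegularAlterationCompletion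

variable {A : Type u} [CommRing A] [IsLocalRing A] [IsNoetherianRing A]
  {X : Scheme.{u}} (f : X ⟶ Spec (CommRingCat.of A)) [IsProper f]

/-- Every point of the completed base change of a proper scheme with regular local rings is regular. -/
theorem isRegularLocalRing_stalk (hreg : ∀ x : X, IsRegularLocalRing (X.presheaf.stalk x))
    (y : ↥(pullback f (cplMap A))) : IsRegularLocalRing ((pullback f (cplMap A)).presheaf.stalk y) := by
  let s := pullback.snd f (cplMap A)
  let q := pullback.fst f (cplMap A)
  have : IsLocallyNoetherian (Spec (CommRingCat.of (Curv2.cpl A))) := by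
    have : IsNoetherianRing (Curv2.cpl A) := inferInstanceAs (IsNoetherianRing (AdicCompletion _ A))
    infer_instance
  have : IsProper s := inferInstance
  have : IsLocallyNoetherian (pullback f (cplMap A)) := LocallyOfFiniteType.isLocallyNoetherian s
  obtain ⟨y', hyy', hy'⟩ : closedPoint (Curv2.cpl A) ∈ s '' closure {y} := by
    have hc : IsClosed (s '' closure {y}) := s.isClosedMap _ isClosed_closure
    exact (IsLocalRing.specializes_closedPoint (s y)).mem_closed hc ⟨y, subset_closure rfl, rfl⟩
  refine isRegularLocalRing_of_specializes (specializes_iff_mem_closure.2 hyy') ?_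
  have : IsLocalHom (algebraMap A (AdicCompletion (maximalIdeal A) A)) := inferInstance
  have hm := maximalIdeal_map_eq (A' := AdicCompletion (maximalIdeal A) A) f (fun a => by
    obtain ⟨r₁, hr₁⟩ := (AdicCompletion.residueField_map_bijective_of_fg
      (IsNoetherian.noetherian (maximalIdeal A))).2 (residue _ a)
    obtain ⟨r₀, rfl⟩ := residue_surjective r₁
    refine ⟨r₀, ?_⟩
    rw [← AdicCompletion.maximalIdeal_eq_map, ← residue_eq_zero_iff, map_sub, ← hr₁,
      ResidueField.map_residue, sub_self]) y' hy'
  have : Flat (cplMap A) := by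
    rw [HasRingHomProperty.Spec_iff (P := @Flat)]
    exact RingHom.flat_algebraMap_iff.2 (inferInstanceAs (Module.Flat A (AdicCompletion (maximalIdeal A) A)))
  have : Flat q := MorphismProperty.pullback_fst _ _ this
  let := (q.stalkMap y').hom.toAlgebra
  have : Module.Flat (X.presheaf.stalk (q y')) ((pullback f (cplMap A)).presheaf.stalk y') := Flat.stalkMap q y'
  have : IsLocalHom (algebraMap (X.presheaf.stalk (q y')) ((pullback f (cplMap A)).presheaf.stalk y')) :=
    inferInstanceAs (IsLocalHom (q.stalkMap y').hom)
  have := hreg (q y')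
  exact (Regular.Descent.isRegularLocalRing_iff ((pullback f (cplMap A)).presheaf.stalk y') hm).1 this

/-- The completed sections over an affine open form a normal ring. -/
theorem isNormalRing_tensor (hreg : ∀ x : X, IsRegularLocalRing (X.presheaf.stalk x))
    (U : X.Opens) (hU : IsAffineOpen U) :
    letI := (sec f U).hom.toAlgebra
    EGA4.IsNormalRing (Γ(X, U) ⊗[A] AdicCompletion (maximalIdeal A) A) := by
  let : Algebra A Γ(X, U) := (sec f U).hom.toAlgebra
  let q := pullback.fst f (cplMap A)
  let s := pullback.snd f (cplMap A)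
  have : IsAffineHom (cplMap A) := isAffineHom_of_isAffine _
  have : IsAffineHom q := MorphismProperty.pullback_fst _ _ this
  let W := q ⁻¹ᵁ U
  have hW : IsAffineOpen W := hU.preimage q
  let M := Γ(pullback f (cplMap A), W)
  let B := Γ(X, U)
  let : Algebra (Curv2.cpl A) M := (sec s W).hom.toAlgebra
  let : Algebra B M := (q.app U).hom.toAlgebra
  let : Algebra A M := ((algebraMap (Curv2.cpl A) M).comp (algebraMap A (Curv2.cpl A))).toAlgebra
  have : IsScalarTower A (Curv2.cpl A) M := IsScalarTower.of_algebraMap_eq fun _ => rfl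
  have hpo : IsPushout (sec f U) (CommRingCat.ofHom (algebraMap A (Curv2.cpl A))) (q.app U) (sec s W) := by
    have h := HilbD.Content.isPushout_appLE (IsPullback.of_hasPullback f (cplMap A)).flip ⟨⊤, isAffineOpen_top _⟩
      ⟨U, hU⟩ (fun _ _ => trivial) (fun _ _ => trivial)
    refine h.of_iso (Scheme.ΓSpecIso (CommRingCat.of A)) (Iso.refl _) (Scheme.ΓSpecIso (CommRingCat.of (Curv2.cpl A)))
      (Iso.refl _) ?_ ?_ ?_ ?_
    · simp [sec]
    · exact Scheme.ΓSpecIso_naturality (CommRingCat.ofHom (algebraMap A (Curv2.cpl A)))
    · simp [q]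
    · simp [sec, s, W, q]
  have : IsScalarTower A B M := IsScalarTower.of_algebraMap_eq' (congrArg CommRingCat.Hom.hom hpo.w.symm)
  have hp : Algebra.IsPushout A B (Curv2.cpl A) M := CommRingCat.isPushout_iff_isPushout.1 hpo
  let e : B ⊗[A] Curv2.cpl A ≃ₐ[B] M := Algebra.IsPushout.equiv A B (Curv2.cpl A) M
  refine NormalTensor.Basic.isNormalRing_congr e.symm.toRingEquiv fun P _ => ?_
  let p : PrimeSpectrum M := ⟨P, inferInstance⟩
  let y := hW.fromSpec p
  have hy : y ∈ W := by
    rw [← SetLike.mem_coe, ← hW.range_fromSpec]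
    exact ⟨p, rfl⟩
  let : Algebra M ((pullback f (cplMap A)).presheaf.stalk y) :=
    (pullback f (cplMap A)).presheaf.algebra_section_stalk ⟨y, hy⟩
  have hloc : IsLocalization.AtPrime ((pullback f (cplMap A)).presheaf.stalk y) p.asIdeal :=
    hW.isLocalization_stalk' p hy
  have := isRegularLocalRing_stalk f hreg y
  have : IsRegularLocalRing (Localization.AtPrime P) :=
    IsRegularLocalRing.of_ringEquiv (IsLocalization.algEquiv P.primeCompl (Localization.AtPrime P)
      ((pullback f (cplMap A)).presheaf.stalk y)).symm.toRingEquiv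
  exact ⟨Regular.Quotient.isDomain _, Regular.UFD.isIntegrallyClosed _⟩

/-- The completion of the normalization of a local domain with a regular alteration is normal. -/
theorem isNormalRing_completion [IsDomain A] [IsDominant f] [IsIntegral X]
    (hreg : ∀ x : X, IsRegularLocalRing (X.presheaf.stalk x)) :
    EGA4.IsNormalRing (AdicCompletion ((maximalIdeal A).map
      (algebraMap A (integralClosure A (FractionRing A)))) (integralClosure A (FractionRing A))) := by
  classical
  let K := FractionRing A
  let B := integralClosure A K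
  let Ah := AdicCompletion (maximalIdeal A) A
  have hn : ∀ x : X, IsIntegrallyClosed (X.presheaf.stalk x) := fun x =>
    have := hreg x
    Regular.UFD.isIntegrallyClosed _
  have : Module.Finite A B := finite_integralClosure f hn K
  refine NormalTensor.Basic.isNormalRing_congr
    (Excellent.CompletionFinite.completionEquiv (maximalIdeal A) B).toRingEquiv ?_
  have : IsLocallyNoetherian X := LocallyOfFiniteType.isLocallyNoetherian f
  let g : Γ(X, ⊤) →+* X.functionField := (X.presheaf.germ ⊤ (genericPoint X) trivial).hom
  have hg : Function.Injective g := germ_injective_of_isIntegral X (U := ⊤) (genericPoint X) trivial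
  let := (g.comp (sec f ⊤).hom).toAlgebra
  let h : K →ₐ[A] X.functionField := IsFractionRing.liftAlgHom (g := Algebra.ofId A X.functionField)
    (germ_sec_injective f)
  let := h.toRingHom.toAlgebra
  have : IsScalarTower B K X.functionField := .of_algebraMap_eq fun _ => rfl
  have : IsFractionRing B K := integralClosure.isFractionRing_of_finite_extension K K
  have hrange : ∀ b : B, algebraMap B X.functionField b ∈ g.range := fun b => by
    obtain ⟨s, hs⟩ := exists_global_of_isIntegral f hn _ (IsIntegral.map h b.2)
    exact ⟨s, hs⟩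
  let β : B →+* Γ(X, ⊤) := (RingEquiv.ofBijective g.rangeRestrict
    ⟨fun a b hab => hg (congrArg Subtype.val hab), g.rangeRestrict_surjective⟩).symm.toRingHom.comp
      ((algebraMap B X.functionField).codRestrict g.range hrange)
  have hβ : ∀ b, g (β b) = algebraMap B X.functionField b := fun b =>
    congrArg Subtype.val ((RingEquiv.ofBijective g.rangeRestrict
      ⟨fun a b hab => hg (congrArg Subtype.val hab), g.rangeRestrict_surjective⟩).apply_symm_apply _)
  have hβA : ∀ a, β (algebraMap A B a) = sec f ⊤ a := fun a => hg ((hβ _).trans (h.commutes a))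
  have : CompactSpace X := QuasiCompact.compactSpace_of_compactSpace f
  choose V hV hmem hle using fun x : X => exists_isAffineOpen_mem_and_subset (x := x) (U := ⊤) trivial
  obtain ⟨T, hT⟩ := isCompact_univ.elim_finite_subcover (fun x : X => (V x : Set X))
    (fun x => (V x).2) fun x _ => Set.mem_iUnion.2 ⟨x, hmem x⟩
  let ι := ↥T
  have hη : ∀ i : ι, genericPoint X ∈ V i := fun i => (genericPoint_specializes _).mem_open (V i).2 (hmem i)
  have : ∀ i : ι, Nonempty (V i) := fun i => ⟨⟨i, hmem i⟩⟩
  have : Nonempty ι := by
    obtain ⟨i, hi, -⟩ := Set.mem_iUnion₂.1 (hT (Set.mem_univ (genericPoint X)))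
    exact ⟨⟨i, hi⟩⟩
  let D : ι → Type u := fun i => Γ(X, V i)
  let : ∀ i, Algebra A (D i) := fun i => (sec f (V i)).hom.toAlgebra
  let : ∀ i, Algebra B (D i) := fun i => ((X.presheaf.map (homOfLE le_top).op).hom.comp β).toAlgebra
  have htowA : ∀ i, IsScalarTower A B (D i) := fun i => .of_algebraMap_eq fun a => by
    show sec f (V i) a = X.presheaf.map (homOfLE le_top).op (β (algebraMap A B a))
    rw [hβA, sec_res]
  have htowL : ∀ i, IsScalarTower B (D i) X.functionField := fun i => .of_algebraMap_eq fun b => by
    rw [← hβ]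
    exact (X.presheaf.germ_res_apply (homOfLE le_top) (genericPoint X) (hη i) (β b)).symm
  have : ∀ i, IsFractionRing (D i) X.functionField := fun i =>
    functionField_isFractionRing_of_isAffineOpen X (V i) (hV i)
  have : Algebra.FiniteType Ah (Ah ⊗[A] B) := inferInstance
  have : IsNoetherianRing (Ah ⊗[A] B) := Algebra.FiniteType.isNoetherianRing Ah _
  have : IsNoetherianRing (B ⊗[A] Ah) :=
    isNoetherianRing_of_ringEquiv _ (Algebra.TensorProduct.comm A Ah B).toRingEquiv
  refine RegularAlterationAlg.isNormalRing_of_family (B := B) (R := B ⊗[A] Ah) K X.functionField D (fun i => ?_) ?_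
  · exact NormalTensor.Basic.isNormalRing_congr
      (Algebra.TensorProduct.cancelBaseChange A B (D i) (D i) Ah).symm.toRingEquiv
      (isNormalRing_tensor f hreg (V i) (hV i))
  intro t b ht hdiv
  let x : K := algebraMap B K b / algebraMap B K t
  have ht' : algebraMap B K t ≠ 0 := (map_ne_zero_iff _ (IsFractionRing.injective B K)).2 ht
  have hhx : ∀ y, h x ∈ (algebraMap (X.presheaf.stalk y) X.functionField).range := fun y => by
    obtain ⟨i, hi, hyi⟩ := Set.mem_iUnion₂.1 (hT (Set.mem_univ y))
    obtain ⟨c, hc⟩ := hdiv ⟨i, hi⟩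
    refine ⟨X.presheaf.germ (V i) y hyi c, ?_⟩
    have hcL := congrArg (algebraMap (D ⟨i, hi⟩) X.functionField) hc
    rw [map_mul, ← IsScalarTower.algebraMap_apply, ← IsScalarTower.algebraMap_apply] at hcL
    have : h x = algebraMap (D ⟨i, hi⟩) X.functionField c := by
      rw [map_div₀, div_eq_iff (show h (algebraMap B K t) ≠ 0 from (map_ne_zero_iff h h.toRingHom.injective).2 ht'), mul_comm]
      exact hcL
    rw [this]
    exact congrArg (fun φ => φ.hom c) (X.presheaf.germ_stalkSpecializes hyi (genericPoint_specializes y))
  obtain ⟨s, hs⟩ := exists_global (h x) hhx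
  let := (sec f ⊤).hom.toAlgebra
  have : Module.Finite A Γ(X, ⊤) := finite_sec_top f
  let gA : Γ(X, ⊤) →ₐ[A] X.functionField := { g with commutes' := fun _ => rfl }
  have hint : IsIntegral A (h x) := hs ▸ (IsIntegral.of_finite A s).map gA
  refine ⟨⟨x, (isIntegral_algHom_iff h h.toRingHom.injective).1 hint⟩, IsFractionRing.injective B K ?_⟩
  rw [map_mul]
  exact (mul_div_cancel₀ _ ht').symm

end Groth.Agent.Lib.Flat55.RegularAlterationCompletion
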