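import Groth.Agent.Lib.LocalFlat.Criterion
import Mathlib.RingTheory.Flat.EquationalCriterion
import Mathlib.RingTheory.Localization.BaseChange
import Mathlib.RingTheory.MvPolynomial.Basic
import Mathlib.RingTheory.Polynomial.Basic
import Mathlib.Algebra.Module.LocalizedModule.Submodule
import Mathlib.RingTheory.LocalRing.ResidueField.Basic
import Mathlib.LinearAlgebra.FreeModule.Basic
import Mathlib.LinearAlgebra.Basis.VectorSpace
import Mathlib.RingTheory.Localization.AtPrime.Basic
import Mathlib.RingTheory.Localization.Submodule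
import Mathlib.RingTheory.Localization.Finiteness

/-!
# Flatness over a local ring of a finitely presented module over a polynomial ring, by relations

For `g : κ → P ^ ι`, `P = R[σ]`, the module `(P ^ ι / span g)` is flat over `R` at a prime `q`
over the maximal ideal iff, up to multipliers outside `q`, every combination of the `g v` with
coefficients in `m` can be written with multipliers in `m`.
-/

set_option autoImplicit false

universe u v w

namespace Groth.Agent.Lib.Flat55.Relations

open MvPolynomial TensorProduct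

variable {σ : Type v} {ι : Type v} {κ : Type v}

variable {R : Type u} [CommRing R]

/-- The submodule of relations. -/
noncomputable abbrev rel (g : κ → ι → MvPolynomial σ R) : Submodule (MvPolynomial σ R) (ι → MvPolynomial σ R) :=
  Submodule.span (MvPolynomial σ R) (Set.range g)

/-- The module presented by `g`. -/
noncomputable abbrev Quot (g : κ → ι → MvPolynomial σ R) :=
  (ι → MvPolynomial σ R) ⧸ rel g

/-- The localisation at `q` of the module presented by `g`. -/
noncomputable abbrev QuotAt (g : κ → ι → MvPolynomial σ R) (q : Ideal (MvPolynomial σ R)) [q.IsPrime] :=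
  LocalizedModule q.primeCompl (Quot g)

/-- Coefficientwise change of rings on free modules. -/
noncomputable def mapVec {S : Type*} [CommRing S] (φ : R →+* S) :
    (ι → MvPolynomial σ R) →+ (ι → MvPolynomial σ S) where
  toFun f i := MvPolynomial.map φ (f i)
  map_zero' := by ext; simp
  map_add' _ _ := by ext; simp

@[simp] theorem mapVec_apply {S : Type*} [CommRing S] (φ : R →+* S)
    (f : ι → MvPolynomial σ R) (i : ι) : mapVec φ f i = MvPolynomial.map φ (f i) := rfl

theorem mapVec_smul {S : Type*} [CommRing S] (φ : R →+* S) (a : MvPolynomial σ R)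
    (f : ι → MvPolynomial σ R) : mapVec φ (a • f) = MvPolynomial.map φ a • mapVec φ f := by
  ext i; simp

theorem mapVec_sum {S : Type*} [CommRing S] (φ : R →+* S) [Fintype κ]
    (c : κ → MvPolynomial σ R) (g : κ → ι → MvPolynomial σ R) :
    mapVec φ (∑ v, c v • g v) = ∑ v, MvPolynomial.map φ (c v) • mapVec φ (g v) := by
  simp [map_sum, mapVec_smul]

section Kernel

/-- Coefficientwise application of a linear functional. -/
noncomputable def coeffMapFun {K A : Type*} [CommRing K] [CommRing A] [Algebra K A]
    (φ : A →ₗ[K] K) (p : MvPolynomial σ A) : MvPolynomial σ K :=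
  ∑ d ∈ p.support, monomial d (φ (p.coeff d))

theorem coeff_coeffMapFun {K A : Type*} [CommRing K] [CommRing A] [Algebra K A] (φ : A →ₗ[K] K)
    (p : MvPolynomial σ A) (d : σ →₀ ℕ) : (coeffMapFun φ p).coeff d = φ (p.coeff d) := by
  classical
  simp only [coeffMapFun, coeff_sum, coeff_monomial, Finset.sum_ite_eq',
    MvPolynomial.mem_support_iff]
  split_ifs with h
  · rfl
  · simp [not_not.1 h]

/-- Coefficientwise application of a linear functional, as an additive map. -/
noncomputable def coeffMap {K A : Type*} [CommRing K] [CommRing A] [Algebra K A] (φ : A →ₗ[K] K) :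
    MvPolynomial σ A →+ MvPolynomial σ K :=
  AddMonoidHom.mk' (coeffMapFun φ) fun p q ↦ by ext d; simp [coeff_coeffMapFun]

theorem coeff_coeffMap {K A : Type*} [CommRing K] [CommRing A] [Algebra K A] (φ : A →ₗ[K] K)
    (p : MvPolynomial σ A) (d : σ →₀ ℕ) : (coeffMap φ p).coeff d = φ (p.coeff d) :=
  coeff_coeffMapFun φ p d

theorem coeffMap_mul {K A : Type*} [CommRing K] [CommRing A] [Algebra K A] (φ : A →ₗ[K] K)
    (p : MvPolynomial σ A) (c : MvPolynomial σ K) :
    coeffMap φ (p * MvPolynomial.map (algebraMap K A) c) = coeffMap φ p * c := by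
  ext d
  classical
  simp only [coeff_coeffMap, MvPolynomial.coeff_mul, coeff_map, map_sum]
  refine Finset.sum_congr rfl fun x _ ↦ ?_
  rw [mul_comm (p.coeff x.1), ← Algebra.smul_def, map_smul, smul_eq_mul, mul_comm]

/-- Over a field extension the relations between vectors are spanned by the relations over the
small field. -/
theorem mem_span_kernel {K A : Type*} [Field K] [CommRing A] [Algebra K A] [Fintype κ]
    (g : κ → ι → MvPolynomial σ K) (b : κ → MvPolynomial σ A)
    (hb : ∑ v, b v • mapVec (algebraMap K A) (g v) = 0) :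
    b ∈ Submodule.span (MvPolynomial σ A)
      ((fun (c : κ → MvPolynomial σ K) v ↦ MvPolynomial.map (algebraMap K A) (c v)) ''
        {c | ∑ v, c v • g v = 0}) := by
  classical
  let e := Module.Basis.ofVectorSpace K A
  let T := Finset.univ.biUnion fun v ↦ (b v).support.biUnion fun d ↦ (e.repr ((b v).coeff d)).support
  have hexp : b = ∑ α ∈ T, (C (e α) : MvPolynomial σ A) •
      fun v ↦ MvPolynomial.map (algebraMap K A) (coeffMap (e.coord α) (b v)) := by
    funext v
    ext d
    simp only [Finset.sum_apply, Pi.smul_apply, smul_eq_mul, coeff_sum, coeff_C_mul, coeff_map,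
      coeff_coeffMap, Module.Basis.coord_apply]
    conv_lhs => rw [← e.linearCombination_repr ((b v).coeff d), Finsupp.linearCombination_apply,
      Finsupp.sum]
    rw [Finset.sum_subset (s₂ := T) ?_ ?_]
    · exact Finset.sum_congr rfl fun α _ ↦ by rw [Algebra.smul_def, mul_comm]
    · intro α hα
      have hd : d ∈ (b v).support := by
        rw [MvPolynomial.mem_support_iff]
        intro h0
        simp [h0] at hα
      exact Finset.mem_biUnion.2 ⟨v, Finset.mem_univ _, Finset.mem_biUnion.2 ⟨d, hd, hα⟩⟩
    · intro α _ hα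
      simp [Finsupp.notMem_support_iff.1 hα]
  rw [hexp]
  refine Submodule.sum_mem _ fun α _ ↦ Submodule.smul_mem _ _ (Submodule.subset_span ?_)
  refine ⟨_, ?_, rfl⟩
  funext i
  have h := congr_arg (coeffMap (e.coord α)) (congr_fun hb i)
  simp only [Finset.sum_apply, Pi.smul_apply, smul_eq_mul, mapVec_apply, map_sum, coeffMap_mul,
    Pi.zero_apply, map_zero] at h
  simpa only [Finset.sum_apply, Pi.smul_apply, smul_eq_mul, Pi.zero_apply] using h

end Kernel

section Abstract

/-- An element of the kernel of `J ⊗ M → M` which dies up to a multiplier gives injectivity after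
localisation. -/
theorem lTensor_injective_of_localized {P : Type*} [CommRing P] [Algebra R P]
    {M M' : Type*} [AddCommGroup M] [Module R M] [Module P M] [IsScalarTower R P M]
    [AddCommGroup M'] [Module R M'] [Module P M'] [IsScalarTower R P M']
    (S : Submonoid P) (l : M →ₗ[P] M') [IsLocalizedModule S l] (J : Ideal R)
    (h : ∀ y : M ⊗[R] J, J.subtype.lTensor M y = 0 → ∃ s ∈ S, s • y = 0) :
    Function.Injective (J.subtype.lTensor M') := by
  let T : M' ⊗[R] J →ₗ[P] M' ⊗[R] R := AlgebraTensorModule.lTensor P M' J.subtype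
  let T₀ : M ⊗[R] J →ₗ[P] M ⊗[R] R := AlgebraTensorModule.lTensor P M J.subtype
  let L : M ⊗[R] J →ₗ[P] M' ⊗[R] J := AlgebraTensorModule.rTensor R J l
  let L₁ : M ⊗[R] R →ₗ[P] M' ⊗[R] R := AlgebraTensorModule.rTensor R R l
  have hcomm : T.comp L = L₁.comp T₀ := by
    refine AlgebraTensorModule.ext fun m a ↦ ?_
    simp [T, T₀, L, L₁]
  suffices Function.Injective T from this
  rw [injective_iff_map_eq_zero]
  intro y hy
  obtain ⟨⟨y', t⟩, hty⟩ := IsLocalizedModule.surj S L y
  have h1 : L₁ (T₀ y') = 0 := by
    refine (LinearMap.congr_fun hcomm y').symm.trans ?_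
    rw [LinearMap.comp_apply, ← hty, Submonoid.smul_def, map_smul, hy, smul_zero]
  obtain ⟨u, hu⟩ := (IsLocalizedModule.eq_zero_iff S L₁).1 h1
  rw [Submonoid.smul_def, ← map_smul] at hu
  obtain ⟨s, hs, hsy⟩ := h ((u : P) • y') hu
  have h2 : L y' = 0 := by
    refine ((Module.End.isUnit_iff _).1
      (IsLocalizedModule.map_units (S := S) L (⟨s, hs⟩ * u))).1 ?_
    change (s * u : P) • L y' = (s * u : P) • 0
    rw [← map_smul, mul_smul, hsy, map_zero, smul_zero]
  refine ((Module.End.isUnit_iff _).1 (IsLocalizedModule.map_units (S := S) L t)).1 ?_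
  change (t : P) • y = (t : P) • 0
  rw [smul_zero, ← Submonoid.smul_def, hty, h2]

/-- Elementwise criterion for `J ⊗ M' → M'` injective, `M'` a localisation of `F ⧸ N`. -/
theorem lTensor_injective_of_relations {P : Type*} [CommRing P] [Algebra R P]
    {F M' : Type*} [AddCommGroup F] [Module R F] [Module P F] [IsScalarTower R P F]
    [Module.Flat R F] (N : Submodule P F)
    [AddCommGroup M'] [Module R M'] [Module P M'] [IsScalarTower R P M']
    (S : Submonoid P) (l : (F ⧸ N) →ₗ[P] M') [IsLocalizedModule S l] (J : Ideal R)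
    (h : ∀ z ∈ N, z ∈ J • (⊤ : Submodule R F) → ∃ s ∈ S, s • z ∈ J • N.restrictScalars R) :
    Function.Injective (J.subtype.lTensor M') := by
  refine lTensor_injective_of_localized S l J fun y hy ↦ ?_
  let mk : F →ₗ[R] F ⧸ N := N.mkQ.restrictScalars R
  obtain ⟨y₀, rfl⟩ := LinearMap.rTensor_surjective J (g := mk) (Submodule.mkQ_surjective N) y
  let μ : F ⊗[R] J →ₗ[R] F := (TensorProduct.rid R F).toLinearMap.comp (J.subtype.lTensor F)
  have hμ : ∀ x, mk (μ x) =
      TensorProduct.rid R (F ⧸ N) (J.subtype.lTensor (F ⧸ N) (mk.rTensor J x)) := by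
    intro x
    induction x using TensorProduct.induction_on with
    | zero => simp
    | tmul f a => simp [μ, mk]
    | add x y hx hy => simp only [map_add, hx, hy]
  have hμinj : Function.Injective μ := (TensorProduct.rid R F).injective.comp
    (Module.Flat.lTensor_preserves_injective_linearMap _ J.injective_subtype)
  have hzN : μ y₀ ∈ N := by
    have := hμ y₀
    rw [hy, map_zero] at this
    exact (Submodule.Quotient.mk_eq_zero N).1 this
  have hzJ : ∀ x, μ x ∈ J • (⊤ : Submodule R F) := by
    intro x
    induction x using TensorProduct.induction_on with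
    | zero => simp
    | tmul f a => simpa [μ] using Submodule.smul_mem_smul a.2 Submodule.mem_top
    | add x y hx hy => rw [map_add]; exact add_mem hx hy
  obtain ⟨s, hs, hsz⟩ := h _ hzN (hzJ y₀)
  refine ⟨s, hs, ?_⟩
  obtain ⟨w, hwμ, hwN⟩ : ∃ w : F ⊗[R] J, μ w = s • μ y₀ ∧ mk.rTensor J w = 0 := by
    refine Submodule.smul_induction_on (p := fun z ↦ ∃ w, μ w = z ∧ mk.rTensor J w = 0) hsz
      (fun r hr f hf ↦ ⟨f ⊗ₜ ⟨r, hr⟩, by simp [μ], ?_⟩) ?_
    · rw [LinearMap.rTensor_tmul, show mk f = 0 from (Submodule.Quotient.mk_eq_zero N).2 hf,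
        TensorProduct.zero_tmul]
    · rintro _ _ ⟨w, rfl, hw⟩ ⟨w', rfl, hw'⟩
      exact ⟨w + w', map_add _ _ _, by rw [map_add, hw, hw', add_zero]⟩
  have hlin : ∀ x, μ (s • x) = s • μ x := by
    intro x
    induction x using TensorProduct.induction_on with
    | zero => simp
    | tmul f a =>
      simp only [μ, TensorProduct.smul_tmul', LinearMap.comp_apply, LinearMap.lTensor_tmul,
        LinearEquiv.coe_coe, TensorProduct.rid_tmul, Submodule.coe_subtype]
      exact (smul_comm _ _ _).symm
    | add x y hx hy => simp only [smul_add, map_add, hx, hy]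
  have hlin' : ∀ x, mk.rTensor J (s • x) = s • mk.rTensor J x := by
    intro x
    induction x using TensorProduct.induction_on with
    | zero => simp
    | tmul f a => simp [mk, TensorProduct.smul_tmul']
    | add x y hx hy => simp only [smul_add, map_add, hx, hy]
  rw [← hlin', ← hμinj (hwμ.trans (hlin y₀).symm), hwN]

end Abstract

section Flat

variable [IsLocalRing R] [Fintype κ]

/-- Combinations of the `g v` vanishing modulo `m` are, up to a multiplier outside `q`,
combinations with coefficients in `m`. -/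
def Witness (g : κ → ι → MvPolynomial σ R) (q : Ideal (MvPolynomial σ R)) : Prop :=
  ∀ c : κ → MvPolynomial σ R, mapVec (IsLocalRing.residue R) (∑ v, c v • g v) = 0 →
    ∃ s ∉ q, ∃ d : κ → MvPolynomial σ R,
      (∀ v, MvPolynomial.map (IsLocalRing.residue R) (d v) = 0) ∧
        s • (∑ v, c v • g v) = ∑ v, d v • g v

omit [Fintype κ] in
/-- A vector which is zero modulo `m` is a combination with scalars in `m`. -/
theorem exists_eq_sum_of_mapVec_eq_zero [Finite ι] {f : ι → MvPolynomial σ R}
    (hf : mapVec (IsLocalRing.residue R) f = 0) :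
    ∃ (n : ℕ) (a : Fin n → R) (h : Fin n → ι → MvPolynomial σ R),
      (∀ k, a k ∈ IsLocalRing.maximalIdeal R) ∧ ∑ k, a k • h k = f := by
  classical
  cases nonempty_fintype ι
  let T := (Finset.univ : Finset ι).sigma fun i ↦ (f i).support
  let e := T.equivFin.symm
  let h : (Σ _ : ι, σ →₀ ℕ) → ι → MvPolynomial σ R := fun x ↦ Pi.single x.1 (monomial x.2 (1 : R))
  refine ⟨T.card, fun k ↦ (f (e k).1.1).coeff (e k).1.2, fun k ↦ h (e k).1, fun k ↦ ?_, ?_⟩
  · rw [← IsLocalRing.residue_eq_zero_iff, ← MvPolynomial.coeff_map]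
    have := congr_fun hf (e k).1.1
    rw [mapVec_apply, Pi.zero_apply] at this
    rw [this, coeff_zero]
  · refine (Equiv.sum_comp e (fun x ↦ (f x.1.1).coeff x.1.2 • h x.1)).trans ?_
    rw [Finset.sum_coe_sort T (fun x ↦ (f x.1).coeff x.2 • h x), Finset.sum_sigma]
    funext i
    simp only [h, Finset.sum_apply, Pi.smul_apply]
    rw [Finset.sum_eq_single i]
    · simp only [Pi.single_eq_same, smul_monomial, smul_eq_mul, mul_one]
      exact support_sum_monomial_coeff (f i)
    · intro j _ hj
      simp [Pi.single_eq_of_ne hj.symm]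
    · simp

theorem witness_of_flat [Finite ι] (g : κ → ι → MvPolynomial σ R) (q : Ideal (MvPolynomial σ R))
    [q.IsPrime] [Module.Flat R (QuotAt g q)] : Witness g q := by
  classical
  intro c hc
  set z := ∑ v, c v • g v with hzdef
  obtain ⟨n, a, f, ha, haf⟩ := exists_eq_sum_of_mapVec_eq_zero hc
  let π : (ι → MvPolynomial σ R) →ₗ[R] QuotAt g q :=
    ((LocalizedModule.mkLinearMap q.primeCompl (Quot g)).comp (rel g).mkQ).restrictScalars R
  have hz : z ∈ rel g := (Submodule.mem_span_range_iff_exists_fun _).2 ⟨c, rfl⟩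
  have h0 : ∑ k, a k • π (f k) = 0 := by
    simp only [← map_smul, ← map_sum, haf]
    change LocalizedModule.mkLinearMap q.primeCompl (Quot g) ((rel g).mkQ z) = 0
    rw [Submodule.mkQ_apply, (Submodule.Quotient.mk_eq_zero _).2 hz, map_zero]
  obtain ⟨l, A, y, hy, hA⟩ := Module.Flat.isTrivialRelation_of_sum_smul_eq_zero h0
  choose p hp using fun j ↦ IsLocalizedModule.surj q.primeCompl
    (LocalizedModule.mkLinearMap q.primeCompl (Quot g)) (y j)
  choose η hη using fun j ↦ Submodule.mkQ_surjective (rel g) (p j).1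
  let t : q.primeCompl := ∏ j, (p j).2
  let η' : Fin l → ι → MvPolynomial σ R :=
    fun j ↦ (∏ i ∈ Finset.univ.erase j, ((p i).2 : MvPolynomial σ R)) • η j
  have hπ : ∀ j, π (η' j) = (t : MvPolynomial σ R) • y j := by
    intro j
    have h1 : π (η' j) = (∏ i ∈ Finset.univ.erase j, ((p i).2 : MvPolynomial σ R)) •
        LocalizedModule.mkLinearMap q.primeCompl (Quot g) (p j).1 := by
      simp only [π, η', LinearMap.restrictScalars_apply, LinearMap.comp_apply, map_smul, hη]
    rw [h1, ← hp j, Submonoid.smul_def, smul_smul,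
      Finset.prod_erase_mul _ _ (Finset.mem_univ j), ← Submonoid.coe_finsetProd]
  let w : Fin n → ι → MvPolynomial σ R :=
    fun k ↦ (t : MvPolynomial σ R) • f k - ∑ j, A k j • η' j
  have hw : ∀ k, π (w k) = 0 := by
    intro k
    simp only [w, map_sub, map_sum, map_smul, hπ]
    rw [sub_eq_zero, show π ((t : MvPolynomial σ R) • f k) = (t : MvPolynomial σ R) • π (f k) from
      map_smul ((LocalizedModule.mkLinearMap q.primeCompl (Quot g)).comp (rel g).mkQ) _ _,
      show π (f k) = ∑ j, A k j • y j from hy k, Finset.smul_sum]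
    exact Finset.sum_congr rfl fun j _ ↦ smul_comm _ _ _
  have hw' : ∀ k, ∃ s : q.primeCompl, (s : MvPolynomial σ R) • w k ∈ rel g := by
    intro k
    obtain ⟨s, hs⟩ := (IsLocalizedModule.eq_zero_iff q.primeCompl
      (LocalizedModule.mkLinearMap q.primeCompl (Quot g))).1 (hw k)
    refine ⟨s, ?_⟩
    rw [← Submodule.Quotient.mk_eq_zero (rel g), Submodule.Quotient.mk_smul]
    exact hs
  choose s hs using hw'
  have hs' : ∀ k, (((∏ i, s i : q.primeCompl) : MvPolynomial σ R)) • w k ∈ rel g := by
    intro k
    rw [Submonoid.coe_finsetProd, ← Finset.prod_erase_mul _ _ (Finset.mem_univ k), mul_smul]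
    exact Submodule.smul_mem _ _ (hs k)
  choose d hd using fun k ↦ (Submodule.mem_span_range_iff_exists_fun _).1 (hs' k)
  refine ⟨(∏ i, s i : q.primeCompl) * t, ((∏ i, s i) * t : q.primeCompl).2,
    fun v ↦ ∑ k, a k • d k v, fun v ↦ ?_, ?_⟩
  · simp only [map_sum, MvPolynomial.smul_eq_C_mul, map_mul, MvPolynomial.map_C,
      (IsLocalRing.residue_eq_zero_iff _).2 (ha _), map_zero, zero_mul, Finset.sum_const_zero]
  · have hsum : ∀ j, ∑ k, a k • A k j • η' j = 0 := fun j ↦ by
      rw [← Finset.sum_congr rfl fun k _ ↦ (smul_smul (a k) (A k j) (η' j)).symm, ← Finset.sum_smul,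
        hA j, zero_smul]
    have hzw : (t : MvPolynomial σ R) • z = ∑ k, a k • w k := by
      simp only [w, smul_sub, Finset.sum_sub_distrib, Finset.smul_sum]
      rw [Finset.sum_comm (f := fun k j ↦ a k • A k j • η' j)]
      simp only [hsum, Finset.sum_const_zero, sub_zero]
      rw [← haf, Finset.smul_sum]
      exact Finset.sum_congr rfl fun k _ ↦ smul_comm _ _ _
    rw [mul_smul, hzw, Finset.smul_sum]
    calc _ = ∑ k, a k • ∑ v, d k v • g v :=
          Finset.sum_congr rfl fun k _ ↦ by rw [smul_comm, hd]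
      _ = _ := by
        simp only [Finset.smul_sum, Finset.sum_smul, smul_assoc]
        exact Finset.sum_comm

theorem flat_of_witness [IsNoetherianRing R] [Finite σ] [Finite ι] (g : κ → ι → MvPolynomial σ R)
    (q : Ideal (MvPolynomial σ R)) [q.IsPrime]
    (hq : q.comap C = IsLocalRing.maximalIdeal R) (h : Witness g q) :
    Module.Flat R (QuotAt g q) := by
  set m := IsLocalRing.maximalIdeal R with hm
  have hinj : Function.Injective (m.subtype.lTensor (QuotAt g q)) := by
    refine lTensor_injective_of_relations (rel g) q.primeCompl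
      (LocalizedModule.mkLinearMap q.primeCompl (Quot g)) m fun z hz hzm ↦ ?_
    obtain ⟨c, hc⟩ := (Submodule.mem_span_range_iff_exists_fun _).1 hz
    have hres : mapVec (IsLocalRing.residue R) (∑ v, c v • g v) = 0 := by
      rw [hc]
      refine Submodule.smul_induction_on (p := fun y ↦ mapVec (IsLocalRing.residue R) y = 0) hzm
        (fun r hr f _ ↦ ?_) fun x y hx hy ↦ by rw [map_add, hx, hy, add_zero]
      funext i
      simp only [mapVec_apply, Pi.smul_apply, MvPolynomial.smul_eq_C_mul, map_mul,
        MvPolynomial.map_C, (IsLocalRing.residue_eq_zero_iff r).2 hr, map_zero, zero_mul,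
        Pi.zero_apply]
    obtain ⟨s, hs, d, hd, hsd⟩ := h c hres
    refine ⟨s, hs, ?_⟩
    rw [← hc, hsd]
    refine Submodule.sum_mem _ fun v _ ↦ ?_
    rw [← support_sum_monomial_coeff (d v), Finset.sum_smul]
    refine Submodule.sum_mem _ fun k _ ↦ ?_
    rw [show monomial k ((d v).coeff k) = (d v).coeff k • monomial k (1 : R) by
      rw [smul_monomial, smul_eq_mul, mul_one], smul_assoc]
    refine Submodule.smul_mem_smul ?_ (Submodule.smul_mem (rel g) _ (Submodule.subset_span ⟨v, rfl⟩))
    rw [hm, ← IsLocalRing.residue_eq_zero_iff, ← coeff_map, hd v, coeff_zero]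
  let := Ideal.Quotient.field m
  have : Module.Flat (R ⧸ m) ((R ⧸ m) ⊗[R] QuotAt g q) := inferInstance
  refine LocalFlat.Criterion.flat_of_injective_of_flat_quotient
    (Localization.AtPrime q) m ?_ hinj
  rw [IsLocalRing.jacobson_eq_maximalIdeal ⊥ bot_ne_top, Ideal.map_le_iff_le_comap]
  intro r hr
  rw [Ideal.mem_comap, IsScalarTower.algebraMap_apply R (MvPolynomial σ R) (Localization.AtPrime q),
    IsLocalization.AtPrime.to_map_mem_maximal_iff (Localization.AtPrime q) q]
  rw [← hq] at hr
  exact hr

end Flat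

end Groth.Agent.Lib.Flat55.Relations
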