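import Groth.Agent.Lib.Flat55.SliceSeq
import Groth.Agent.Lib.Flat55.RegularImm
import Groth.Agent.Lib.Flat55.FibrewiseScheme
import Mathlib.AlgebraicGeometry.Morphisms.Flat
import Mathlib.AlgebraicGeometry.Morphisms.FinitePresentation
import Mathlib.RingTheory.RingHom.FinitePresentation

/-!
# Slicing a flat morphism by lifts of a regular sequence on the fibre
-/

set_option autoImplicit false

universe u

open CategoryTheory CategoryTheory.Limits AlgebraicGeometry TopologicalSpace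
open RingTheory.Sequence

namespace Groth.Agent.Lib.Flat55.SliceSeqScheme

theorem exists_lifts {X : Scheme.{u}} (x : X) (hs : List (X.presheaf.stalk x)) :
    ∃ (W : X.Opens) (hx : x ∈ W) (l : List Γ(X, W)), l.map (X.presheaf.germ W x hx) = hs := by
  induction hs with
  | nil => exact ⟨⊤, trivial, [], rfl⟩
  | cons h hs ih =>
    obtain ⟨W, hxW, l, hl⟩ := ih
    obtain ⟨W₁, hxW₁, h₁, hh⟩ := TopCat.Presheaf.exists_germ_eq X.presheaf h
    refine ⟨W₁ ⊓ W, ⟨hxW₁, hxW⟩, X.presheaf.map (homOfLE inf_le_left).op h₁ ::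
      l.map (X.presheaf.map (homOfLE inf_le_right).op), ?_⟩
    rw [List.map_cons, List.map_map, ← hl]
    congr 1
    · exact (TopCat.Presheaf.germ_res_apply X.presheaf (homOfLE inf_le_left) x ⟨hxW₁, hxW⟩ h₁).trans hh
    · refine List.map_congr_left fun z _ ↦ ?_
      exact TopCat.Presheaf.germ_res_apply X.presheaf (homOfLE inf_le_right) x ⟨hxW₁, hxW⟩ z

set_option backward.isDefEq.respectTransparency false in
set_option maxHeartbeats 1000000 in
/-- A sequence which is regular on the fibre at a point of flatness cuts, near the point, a regular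
closed immersion which stays regular after any base change and is flat over the base. -/
theorem exists_slices {X S : Scheme.{u}} (f : X ⟶ S) [LocallyOfFinitePresentation f] (x : X)
    (hflat : (f.stalkMap x).hom.Flat) (hs : List ↑(X.presheaf.stalk x))
    (hm : ∀ h ∈ hs, h ∈ IsLocalRing.maximalIdeal (X.presheaf.stalk x))
    (hreg : IsWeaklyRegular (↑(X.presheaf.stalk x) ⧸ Ideal.map (f.stalkMap x).hom (IsLocalRing.maximalIdeal ↑(S.presheaf.stalk (f x))))
      (hs.map (Ideal.Quotient.mk (Ideal.map (f.stalkMap x).hom (IsLocalRing.maximalIdeal ↑(S.presheaf.stalk (f x))))))) :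
    ∃ (U : X.Opens) (hU : IsAffineOpen U) (hx : x ∈ U) (hs' : List Γ(X, U)), hs'.map (X.presheaf.germ U x hx) = hs ∧
      Mor2.IsRegularClosedImmersion (Spec.map (CommRingCat.ofHom (Ideal.Quotient.mk (Ideal.ofList hs'))) ≫ hU.isoSpec.inv) ∧
      x ∈ Set.range ⇑(Spec.map (CommRingCat.ofHom (Ideal.Quotient.mk (Ideal.ofList hs'))) ≫ hU.fromSpec) ∧
      Flat (Spec.map (CommRingCat.ofHom (Ideal.Quotient.mk (Ideal.ofList hs'))) ≫ hU.fromSpec ≫ f) ∧ LocallyOfFinitePresentation (Spec.map (CommRingCat.ofHom (Ideal.Quotient.mk (Ideal.ofList hs'))) ≫ hU.fromSpec ≫ f) ∧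
      ∀ (S' : Scheme.{u}) (g : S' ⟶ S), Mor2.IsRegularClosedImmersion
        (pullback.map (Spec.map (CommRingCat.ofHom (Ideal.Quotient.mk (Ideal.ofList hs'))) ≫ hU.isoSpec.inv ≫ U.ι ≫ f) g (U.ι ≫ f) g (Spec.map (CommRingCat.ofHom (Ideal.Quotient.mk (Ideal.ofList hs'))) ≫ hU.isoSpec.inv) (𝟙 S') (𝟙 S)
          (Category.comp_id _) ((Category.comp_id g).trans (Category.id_comp g).symm)) := by
  obtain ⟨W₀, hxW₀, l₀, hl₀⟩ := exists_lifts x hs
  obtain ⟨V, hV, hxV, -⟩ := exists_isAffineOpen_mem_and_subset (X := S) (x := f x) (U := ⊤) trivial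
  obtain ⟨U₀, hU₀, hxU₀, hUW⟩ := exists_isAffineOpen_mem_and_subset (X := X) (x := x)
    (U := f ⁻¹ᵁ V ⊓ W₀) ⟨hxV, hxW₀⟩
  have hUV : U₀ ≤ f ⁻¹ᵁ V := fun z hz ↦ (hUW hz).1
  have hUW₀ : U₀ ≤ W₀ := fun z hz ↦ (hUW hz).2
  let φ : Γ(S, V) →+* Γ(X, U₀) := (f.appLE V U₀ hUV).hom
  let : Algebra Γ(S, V) Γ(X, U₀) := φ.toAlgebra
  have : Algebra.FinitePresentation Γ(S, V) Γ(X, U₀) :=
    HasRingHomProperty.appLE @LocallyOfFinitePresentation f inferInstance ⟨V, hV⟩ ⟨U₀, hU₀⟩ hUV
  let _ := TopCat.Presheaf.algebra_section_stalk S.presheaf (⟨f x, hxV⟩ : V)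
  let _ := TopCat.Presheaf.algebra_section_stalk X.presheaf (⟨x, hxU₀⟩ : U₀)
  have := hV.isLocalization_stalk ⟨f x, hxV⟩
  have := hU₀.isLocalization_stalk ⟨x, hxU₀⟩
  let : Algebra (S.presheaf.stalk (f x)) (X.presheaf.stalk x) := (f.stalkMap x).hom.toAlgebra
  have : IsLocalHom (algebraMap (S.presheaf.stalk (f x)) (X.presheaf.stalk x)) :=
    ⟨fun a ha ↦ isUnit_of_map_unit (f.stalkMap x).hom a ha⟩
  have : Module.Flat (S.presheaf.stalk (f x)) (X.presheaf.stalk x) := hflat
  let l : List Γ(X, U₀) := l₀.map (X.presheaf.map (homOfLE hUW₀).op)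
  have hl : l.map (algebraMap Γ(X, U₀) (X.presheaf.stalk x)) = hs := by
    rw [← hl₀, List.map_map]
    exact List.map_congr_left fun z _ ↦
      TopCat.Presheaf.germ_res_apply X.presheaf (homOfLE hUW₀) x hxU₀ z
  have hP : ∀ h ∈ l, h ∈ (hU₀.primeIdealOf ⟨x, hxU₀⟩).asIdeal := fun h hh ↦ by
    rw [← IsLocalization.AtPrime.to_map_mem_maximal_iff (X.presheaf.stalk x)
      (hU₀.primeIdealOf ⟨x, hxU₀⟩).asIdeal]
    exact hm _ (hl ▸ List.mem_map_of_mem hh)
  obtain ⟨a, ha, hslices⟩ := SliceSeq.exists_slices (R := Γ(S, V)) (C := Γ(X, U₀))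
    (R' := S.presheaf.stalk (f x)) (C' := X.presheaf.stalk x)
    (hV.primeIdealOf ⟨f x, hxV⟩).asIdeal (hU₀.primeIdealOf ⟨x, hxU₀⟩).asIdeal
    (fun r ↦ FibrewiseScheme.germ_appLE f hUV hxU₀ r) l hP (fun i hi y hy ↦ by
      have hi' : i < hs.length := by rwa [← hl, List.length_map]
      have h1 := (isSMulRegular_quotient_iff_mem_of_smul_mem _ _).1
        (hreg.regular_mod_prev i (by rwa [List.length_map])) (Ideal.Quotient.mk _ y)
      rw [Ideal.smul_eq_mul, Ideal.mul_top, ← List.map_take, ← Ideal.map_ofList, List.getElem_map,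
        smul_eq_mul, ← map_mul, Ideal.mem_quotient_iff_mem_sup, Ideal.mem_quotient_iff_mem_sup] at h1
      have e1 : hs[i] = algebraMap Γ(X, U₀) (X.presheaf.stalk x) l[i] := by simp [← hl]
      have e2 : Ideal.ofList (hs.take i) =
          (Ideal.ofList (l.take i)).map (algebraMap Γ(X, U₀) (X.presheaf.stalk x)) := by
        rw [Ideal.map_ofList, List.map_take, hl]
      rw [e1, e2] at h1
      exact h1 hy) l.length le_rfl
  let D := X.basicOpen a
  have hxD : x ∈ D := by
    rw [X.mem_basicOpen a x hxU₀]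
    exact IsLocalization.map_units (X.presheaf.stalk x)
      (⟨a, ha⟩ : (hU₀.primeIdealOf ⟨x, hxU₀⟩).asIdeal.primeCompl)
  have := hU₀.isLocalization_basicOpen a
  have hD : IsAffineOpen D := hU₀.basicOpen a
  have hDV : D ≤ f ⁻¹ᵁ V := (X.basicOpen_le a).trans hUV
  have : IsAffine (D : Scheme.{u}) := hD
  obtain ⟨hflatD, hsteps⟩ := hslices Γ(X, D)
  let hs' : List Γ(X, D) := l.map (algebraMap Γ(X, U₀) Γ(X, D))
  have hgerm : hs'.map (X.presheaf.germ D x hxD) = hs := by
    rw [← hl, List.map_map]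
    exact List.map_congr_left fun z _ ↦
      TopCat.Presheaf.germ_res_apply X.presheaf (homOfLE (X.basicOpen_le a)) x hxD z
  have happ : (algebraMap Γ(X, U₀) Γ(X, D)).comp φ = (f.appLE V D hDV).hom := by
    rw [← Scheme.Hom.appLE_map (f := f) (i := (homOfLE (X.basicOpen_le a)).op) (e := hUV)]
    rfl
  -- move everything to the global sections of the open subscheme
  let ψ : Γ(X, D) →+* Γ((D : Scheme.{u}), ⊤) := D.topIso.inv.hom
  have hψ : ψ.Flat := RingHom.Flat.of_bijective (ConcreteCategory.bijective_of_isIso D.topIso.inv)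
  let φ' : Γ(S, V) →+* Γ((D : Scheme.{u}), ⊤) := ψ.comp (f.appLE V D hDV).hom
  let L : List Γ((D : Scheme.{u}), ⊤) := hs'.map ψ
  have hseq : IsWeaklyRegular Γ((D : Scheme.{u}), ⊤) L ∧
      ∀ j, ((Ideal.Quotient.mk (Ideal.ofList (L.take j))).comp φ').Flat := by
    let : Algebra Γ(S, V) Γ((D : Scheme.{u}), ⊤) := φ'.toAlgebra
    have : Module.Flat Γ(S, V) Γ((D : Scheme.{u}), ⊤) := by
      rw [← RingHom.flat_algebraMap_iff, RingHom.algebraMap_toAlgebra]
      exact (happ ▸ hflatD).comp hψ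
    obtain ⟨h1, h2⟩ := SliceSeq.steps_to_seq (R := Γ(S, V)) L fun i hi ↦ by
      simp only [L, hs', List.length_map] at hi
      have h3 := (hsteps i hi).map ψ hψ
      rw [Ideal.map_map, Ideal.map_ofList] at h3
      simp only [L, hs', List.getElem_map, ← List.map_take, List.map_map]
      rw [RingHom.algebraMap_toAlgebra, show φ' = ψ.comp ((algebraMap Γ(X, U₀) Γ(X, D)).comp φ) by rw [happ]]
      exact h3
    exact ⟨h1, fun j ↦ RingHom.flat_algebraMap_iff.2 (h2 j)⟩
  let I : Ideal Γ(X, D) := Ideal.ofList hs'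
  let i : Spec (CommRingCat.of (Γ(X, D) ⧸ I)) ⟶ (D : Scheme.{u}) :=
    Spec.map (CommRingCat.ofHom (Ideal.Quotient.mk I)) ≫ hD.isoSpec.inv
  have : IsClosedImmersion (Spec.map (CommRingCat.ofHom (Ideal.Quotient.mk I))) :=
    IsClosedImmersion.spec_of_surjective _ Ideal.Quotient.mk_surjective
  have hker : i.ker.ideal ⟨⊤, isAffineOpen_top _⟩ = Ideal.ofList L :=
    (RegularImm.ker_ideal_top hD I).trans (Ideal.map_ofList ψ hs')
  refine ⟨D, hD, hxD, hs', hgerm, ?_, ?_, ?_, ?_, fun S' g ↦ ?_⟩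
  · exact RegularImm.isRegularClosedImmersion_of i fun z ↦
      ⟨⊤, isAffineOpen_top _, trivial, L, hseq.1, hker⟩
  · let q := hD.primeIdealOf ⟨x, hxD⟩
    obtain ⟨z, hz⟩ : q ∈ Set.range (PrimeSpectrum.comap (Ideal.Quotient.mk I)) := by
      rw [range_comap_of_surjective _ _ Ideal.Quotient.mk_surjective, Ideal.mk_ker,
        PrimeSpectrum.mem_zeroLocus, SetLike.coe_subset_coe, Ideal.span_le]
      intro y hy
      obtain ⟨y, hy', rfl⟩ := List.mem_map.1 hy
      let _ := TopCat.Presheaf.algebra_section_stalk X.presheaf (⟨x, hxD⟩ : D)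
      have := hD.isLocalization_stalk ⟨x, hxD⟩
      rw [SetLike.mem_coe, ← IsLocalization.AtPrime.to_map_mem_maximal_iff (X.presheaf.stalk x) q.asIdeal]
      exact hm _ (hgerm ▸ List.mem_map_of_mem (List.mem_map_of_mem hy'))
    refine ⟨z, ?_⟩
    rw [Scheme.Hom.comp_apply]
    exact (congrArg hD.fromSpec hz).trans (hD.fromSpec_primeIdealOf ⟨x, hxD⟩)
  · rw [← hV.SpecMap_appLE_fromSpec f hD hDV, ← Category.assoc, ← Spec.map_comp]
    have : Flat (Spec.map (f.appLE V D hDV ≫ CommRingCat.ofHom (Ideal.Quotient.mk I))) := by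
      rw [HasRingHomProperty.Spec_iff (P := @Flat), CommRingCat.hom_comp, CommRingCat.hom_ofHom]
      have h4 := hseq.2 L.length
      rw [List.take_length, show Ideal.ofList L = I.map ψ from (Ideal.map_ofList ψ hs').symm] at h4
      have hbij := ConcreteCategory.bijective_of_isIso D.topIso.inv
      let ε := Ideal.quotientEquiv I (I.map ψ) (RingEquiv.ofBijective ψ hbij) rfl
      refine (RingHom.Flat.comp_iff_of_bijective_left (g := ε.toRingHom) ε.bijective).1 ?_
      exact h4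
    infer_instance
  · rw [← hV.SpecMap_appLE_fromSpec f hD hDV, ← Category.assoc, ← Spec.map_comp]
    have : LocallyOfFinitePresentation
        (Spec.map (f.appLE V D hDV ≫ CommRingCat.ofHom (Ideal.Quotient.mk I))) := by
      rw [HasRingHomProperty.Spec_iff (P := @LocallyOfFinitePresentation), CommRingCat.hom_comp, CommRingCat.hom_ofHom]
      exact (RingHom.FinitePresentation.of_surjective _ Ideal.Quotient.mk_surjective
        (by rw [Ideal.mk_ker]; exact Submodule.fg_span (List.finite_toSet hs'))).comp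
        (HasRingHomProperty.appLE @LocallyOfFinitePresentation f inferInstance ⟨V, hV⟩ ⟨D, hD⟩ hDV)
    infer_instance
  · have e : ⊤ ≤ (D.ι ≫ f) ⁻¹ᵁ V := fun z _ ↦ hDV z.2
    have happ2 : ((D.ι ≫ f).appLE V ⊤ e).hom = φ' := by
      simp only [φ', ψ, ← CommRingCat.hom_comp]
      congr 1
      rw [Scheme.Opens.topIso_inv, Scheme.Hom.appLE_map, Scheme.Hom.comp_appLE]
      simp only [Scheme.Hom.appLE, Scheme.Opens.ι_app]
      erw [← Functor.map_comp]
      rfl
    exact RegularImm.baseChange i (D.ι ≫ f) _ (Category.assoc _ _ _) g L hker hV e hseq.1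
      (fun j ↦ happ2 ▸ hseq.2 j) _ _

end Groth.Agent.Lib.Flat55.SliceSeqScheme
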