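import Groth.Agent.Lib.Flat55.StrataTransfer
import Groth.Agent.Lib.Flat55.GenericStrataScheme
import Groth.Agent.Lib.Ideal.Comap
import Groth.Agent.Lib.HilbD.Content
import Mathlib.AlgebraicGeometry.Morphisms.Smooth

/-!
# Stratifications of a scheme over an affine base with smooth strata
-/

set_option autoImplicit false

universe u

open CategoryTheory CategoryTheory.Limits AlgebraicGeometry TopologicalSpace Opposite TensorProduct
open Groth.Agent.Lib Groth.Agent.Lib.Flat55.StrataChain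
open Groth.Agent.Lib.Lim.IdealExt (IsFG isFG_bot isFG_sup exists_isFG_le)
open Groth.Agent.Lib.Flat55.GenericStrataScheme (isFG_mul support_sup exists_isFG_support exists_fin)

namespace Groth.Agent.Lib.Flat55.SmoothStrataScheme

variable {Y T : Scheme.{u}} (h : Y ⟶ T)

theorem le_pre {Y T : Scheme.{u}} (h : Y ⟶ T) (W : Y.Opens) : W ≤ h ⁻¹ᵁ (⊤ : T.Opens) := fun _ _ => trivial

/-- The stratum cut out by two ideals is smooth. -/
def SStep (K K' : Y.IdealSheafData) : Prop :=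
  K ≤ K' ∧ IsFG K' ∧ Smooth ((K.subschemeι ⁻¹ᵁ K'.support.compl).ι ≫ K.subschemeι ≫ h)

theorem smooth_of_appLE {W : Y.Opens} (hW : IsAffineOpen W) [IsAffine T]
    (H : (h.appLE ⊤ W (le_pre h W)).hom.Smooth) : Smooth (W.ι ≫ h) := by
  have : IsAffine (W : Scheme.{u}) := hW
  rw [HasRingHomProperty.iff_of_isAffine (P := @Smooth)]
  have e : (W.ι ≫ h).appTop = h.appLE ⊤ W (le_pre h W) ≫ W.topIso.inv := by
    rw [show (W.ι ≫ h).appTop = (W.ι ≫ h).appLE ⊤ ⊤ (le_pre _ _) from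
        (Scheme.Hom.appLE_eq_app (W.ι ≫ h) (U := ⊤)).symm,
      ← Scheme.Hom.appLE_comp_appLE W.ι h ⊤ W ⊤ (le_pre h W) (by simp), Scheme.Opens.ι_appLE]
    rfl
  rw [e]
  exact RingHom.Smooth.respectsIso.1 _ W.topIso.symm.commRingCatIsoToRingEquiv H

/-- The ideal of an open complement is trivial there. -/
theorem ideal_eq_top_of_support (J : Y.IdealSheafData) (V : Y.affineOpens)
    (hJ : (J.support : Set Y) ⊆ (V.1 : Set Y)ᶜ) : J.ideal V = ⊤ := by
  by_contra hne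
  obtain ⟨m, hm, hJm⟩ := Ideal.exists_le_maximal _ hne
  let s := V.2.fromSpec ⟨m, hm.isPrime⟩
  have hs : s ∈ V.1 := by
    rw [← SetLike.mem_coe, ← V.2.range_fromSpec]
    exact ⟨_, rfl⟩
  refine hJ ?_ hs
  show s ∈ J.support
  rw [Scheme.IdealSheafData.mem_support_iff_of_mem hs, Scheme.mem_zeroLocus_iff]
  intro a ha hmem
  have h1 : (⟨m, hm.isPrime⟩ : Spec Γ(Y, V.1)) ∈ V.2.fromSpec ⁻¹ᵁ Y.basicOpen a := hmem
  rw [V.2.fromSpec_preimage_basicOpen] at h1
  exact h1 (hJm ha)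

/-- Inside an affine open, the complement of `V(J ⊔ (c))` in `V(J)` is `D(c)`. -/
theorem stratum_eq {K K' : Y.IdealSheafData} (V : Y.affineOpens) (c : Γ(Y, V.1))
    (hK' : K'.ideal V = K.ideal V ⊔ Ideal.span {c})
    (hout : ∀ s ∈ (K.support : Set Y), s ∉ V.1 → s ∈ K'.support) :
    K.subschemeι ⁻¹ᵁ K'.support.compl = K.subschemeι ⁻¹ᵁ Y.basicOpen c := by
  ext w
  have hs : K.subschemeι w ∈ (K.support : Set Y) := by
    rw [← K.range_subschemeι]; exact ⟨w, rfl⟩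
  show K.subschemeι w ∉ (K'.support : Set Y) ↔ K.subschemeι w ∈ Y.basicOpen c
  generalize K.subschemeι w = s at hs
  by_cases hV : s ∈ V.1
  · rw [SetLike.mem_coe, Scheme.IdealSheafData.mem_support_iff_of_mem hV, Scheme.mem_zeroLocus_iff, hK']
    refine ⟨fun h => ?_, fun h h' => h' c (Ideal.mem_sup_right (Ideal.mem_span_singleton_self c)) h⟩
    by_contra hc
    refine h fun a ha hsa => ?_
    obtain ⟨b, hb, d, hd, rfl⟩ := Submodule.mem_sup.1 ha
    obtain ⟨r, rfl⟩ := Ideal.mem_span_singleton'.1 hd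
    have h0 := Y.basicOpen_add_le b (r * c) hsa
    have hb' : s ∉ Y.basicOpen b := by
      rw [SetLike.mem_coe, Scheme.IdealSheafData.mem_support_iff_of_mem hV, Scheme.mem_zeroLocus_iff] at hs
      exact hs b hb
    rcases h0 with h0 | h0
    · exact hb' h0
    · rw [Scheme.basicOpen_mul] at h0
      exact hc h0.2
  · exact ⟨fun h => absurd (hout s hs hV) h, fun h => absurd (Y.basicOpen_le c h) hV⟩

theorem smooth_stratum [IsAffine T] {K : Y.IdealSheafData} (V : Y.affineOpens) (c : Γ(Y, V.1))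
    (hc : letI := (h.appLE ⊤ V.1 (le_pre h _)).hom.toAlgebra
      SmStep Γ(T, ⊤) (K.ideal V) c) :
    Smooth ((K.subschemeι ⁻¹ᵁ Y.basicOpen c).ι ≫ K.subschemeι ≫ h) := by
  let Dc : Y.affineOpens := Y.affineBasicOpen c
  have hDV : Dc.1 ≤ V.1 := Y.basicOpen_le c
  refine smooth_of_appLE (K.subschemeι ≫ h) (Dc.2.preimage K.subschemeι) ?_
  let ρ : Γ(Y, V.1) ⟶ Γ(Y, Dc.1) := Y.presheaf.map (homOfLE hDV).op
  let a := h.appLE ⊤ V.1 (le_pre h _)
  let : Algebra Γ(T, ⊤) Γ(Y, V.1) := a.hom.toAlgebra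
  let : Algebra Γ(Y, V.1) Γ(Y, Dc.1) := ρ.hom.toAlgebra
  let : Algebra Γ(T, ⊤) Γ(Y, Dc.1) := (a ≫ ρ).hom.toAlgebra
  have : IsScalarTower Γ(T, ⊤) Γ(Y, V.1) Γ(Y, Dc.1) := IsScalarTower.of_algebraMap_eq fun _ => rfl
  have : IsLocalization.Away c Γ(Y, Dc.1) := V.2.isLocalization_basicOpen c
  have hsm := StrataTransfer.smooth_quotient_away (A := Γ(T, ⊤)) Γ(Y, Dc.1) hc
  rw [show (K.ideal V).map (algebraMap Γ(Y, V.1) Γ(Y, Dc.1)) = K.ideal Dc from
    K.map_ideal (U := Dc) (V := V) hDV] at hsm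
  have h1 : ((a ≫ ρ) ≫ CommRingCat.ofHom (Ideal.Quotient.mk (K.ideal Dc))).hom.Smooth := by
    rw [show ((a ≫ ρ) ≫ CommRingCat.ofHom (Ideal.Quotient.mk (K.ideal Dc))).hom =
      algebraMap Γ(T, ⊤) (Γ(Y, Dc.1) ⧸ K.ideal Dc) from rfl]
    exact RingHom.smooth_algebraMap.2 hsm
  have h2 := RingHom.Smooth.respectsIso.1 _ (K.subschemeObjIso Dc).symm.commRingCatIsoToRingEquiv h1
  have e : (K.subschemeι ≫ h).appLE ⊤ (K.subschemeι ⁻¹ᵁ Dc.1) (le_pre _ _) =
      (a ≫ ρ) ≫ CommRingCat.ofHom (Ideal.Quotient.mk (K.ideal Dc)) ≫ (K.subschemeObjIso Dc).inv := by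
    rw [← K.subschemeι_app Dc, Scheme.Hom.app_eq_appLE, Scheme.Hom.appLE_map,
      Scheme.Hom.appLE_comp_appLE]
  show ((K.subschemeι ≫ h).appLE ⊤ (K.subschemeι ⁻¹ᵁ Dc.1) (le_pre _ _)).hom.Smooth
  rw [e]
  exact h2

variable [IsAffine T] [CompactSpace Y] [QuasiSeparatedSpace Y]

/-- The stratification of the part of a closed subscheme in an affine open. -/
theorem chain_affine (V : Y.affineOpens) {L JV : Y.IdealSheafData} (hL : IsFG L) (hJV : IsFG JV)
    (hsupp : (JV.support : Set Y) = (V.1 : Set Y)ᶜ)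
    (hst : letI := (h.appLE ⊤ V.1 (le_pre h _)).hom.toAlgebra
      Strat Γ(T, ⊤) (L.ideal V)) :
    Relation.ReflTransGen (SStep h) L (L ⊔ JV) := by
  let : Algebra Γ(T, ⊤) Γ(Y, V.1) := (h.appLE ⊤ V.1 (le_pre h _)).hom.toAlgebra
  let I' := L ⊔ JV
  have hI'V : I'.ideal V = ⊤ := top_le_iff.1 (by
    rw [← ideal_eq_top_of_support JV V hsupp.subset]
    exact (le_sup_right : JV ≤ I') V)
  have hout : ∀ K K' : Y.IdealSheafData, L ≤ K → K' ≤ I' → ∀ s ∈ (K.support : Set Y), s ∉ V.1 →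
      s ∈ K'.support := fun K K' h1 h2 s hs hsV => Scheme.IdealSheafData.support_antitone h2 (by
    show s ∈ ((L ⊔ JV).support : Set Y)
    rw [support_sup, hsupp]
    exact ⟨Scheme.IdealSheafData.support_antitone h1 hs, hsV⟩)
  suffices ∀ J : Ideal Γ(Y, V.1), Strat Γ(T, ⊤) J → ∀ K, IsFG K → L ≤ K → K ≤ I' → K.ideal V = J →
      Relation.ReflTransGen (SStep h) K I' from this _ hst L hL le_rfl le_sup_left rfl
  intro J hJ
  induction hJ with
  | top =>
    intro K _ h1 h2 h3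
    refine Relation.ReflTransGen.single ⟨h2, isFG_sup hL hJV, ?_⟩
    have : IsEmpty (K.subschemeι ⁻¹ᵁ I'.support.compl).toScheme := ⟨fun w => by
      have hs : K.subschemeι w.1 ∈ (K.support : Set Y) := by
        rw [← K.range_subschemeι]; exact ⟨w.1, rfl⟩
      refine w.2 ?_
      by_cases hV : K.subschemeι w.1 ∈ V.1
      · exfalso
        rw [SetLike.mem_coe, Scheme.IdealSheafData.mem_support_iff_of_mem hV, h3, Scheme.mem_zeroLocus_iff] at hs
        exact hs 1 trivial (by rw [Scheme.basicOpen_of_isUnit _ isUnit_one]; exact hV)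
      · exact hout K I' h1 le_rfl _ hs hV⟩
    infer_instance
  | step J c hc _ ih =>
    intro K hK h1 h2 h3
    subst h3
    have hfg : (K.ideal V ⊔ Ideal.span {c}).FG := Submodule.FG.sup (hK V) ⟨{c}, by simp⟩
    obtain ⟨E, -, hE, hEV⟩ := exists_isFG_le (⊤ : Y.IdealSheafData) V _ hfg (by simp)
    let K' := K ⊔ I' * E
    have hK'V : K'.ideal V = K.ideal V ⊔ Ideal.span {c} := by
      simp only [K', Scheme.IdealSheafData.ideal_sup, Pi.sup_apply, Scheme.IdealSheafData.ideal_mul,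
        Pi.mul_apply, hEV, hI'V, Ideal.top_mul]
      rw [← sup_assoc, sup_idem]
    have hK'le : K' ≤ I' := sup_le h2 fun U => by
      rw [Scheme.IdealSheafData.ideal_mul, Pi.mul_apply]; exact Ideal.mul_le_left
    have hK'fg : IsFG K' := isFG_sup hK (isFG_mul (isFG_sup hL hJV) hE)
    refine Relation.ReflTransGen.head ⟨le_sup_left, hK'fg, ?_⟩
      (ih K' hK'fg (h1.trans le_sup_left) hK'le hK'V)
    rw [stratum_eq V c hK'V (fun s => hout K K' h1 hK'le s)]
    exact smooth_stratum h V c hc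

end Groth.Agent.Lib.Flat55.SmoothStrataScheme
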