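import Groth.Agent.Lib.Flat55.SmoothBCNormalization
import Groth.Agent.Lib.Flat55.SmoothStrataScheme
import Groth.Agent.Lib.Normalization.Basic
import Groth.Agent.Lib.TorsorSch.Ext
import Groth.Agent.Lib.HilbD.Content
import Groth.Prelude.Def_Curv2
import Mathlib.Algebra.Category.Ring.Constructions

/-!
# Normalization commutes with smooth base change between integral schemes
-/

set_option autoImplicit false

universe u

open CategoryTheory CategoryTheory.Limits AlgebraicGeometry TopologicalSpace TensorProduct
open Groth.Agent.Lib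

namespace Groth.Agent.Lib.Flat55.SmoothBCNormalizationScheme

variable {X Y : Scheme.{u}} (f : X ⟶ Y) [Smooth f] [IsIntegral X] [IsIntegral Y]

theorem genericPoint_map : f (genericPoint X) = genericPoint Y := by
  have ho : IsOpen (Set.range f) := f.isOpenMap.isOpen_range
  obtain ⟨x, hx⟩ : genericPoint Y ∈ Set.range f :=
    ((genericPoint_spec Y).mem_open_set_iff ho).2 (by
      rw [Set.univ_inter]; exact Set.range_nonempty f)
  have h : f (genericPoint X) ⤳ genericPoint Y :=
    hx ▸ ((genericPoint_spec X).specializes trivial).map f.continuous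
  exact h.antisymm ((genericPoint_spec Y).specializes trivial) |>.eq

/-- The extension of function fields. -/
noncomputable def genMap : Y.functionField ⟶ X.functionField :=
  Y.presheaf.stalkSpecializes (specializes_of_eq (genericPoint_map f)) ≫ f.stalkMap (genericPoint X)

theorem genMap_fac :
    Spec.map (genMap f) ≫ Y.fromSpecStalk (genericPoint Y) = X.fromSpecStalk (genericPoint X) ≫ f := by
  rw [genMap, Spec.map_comp, Category.assoc, Scheme.SpecMap_stalkSpecializes_fromSpecStalk,
    Scheme.SpecMap_stalkMap_fromSpecStalk]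

theorem germ_genMap {V : Y.Opens} [Nonempty V] {U : X.Opens} [Nonempty U] (e : U ≤ f ⁻¹ᵁ V) :
    Y.germToFunctionField V ≫ genMap f = f.appLE V U e ≫ X.germToFunctionField U := by
  show Y.presheaf.germ V (genericPoint Y) _ ≫ genMap f = _ ≫ X.presheaf.germ U (genericPoint X) _
  rw [genMap, ← Category.assoc, TopCat.Presheaf.germ_stalkSpecializes, Scheme.Hom.germ_stalkMap,
    Scheme.Hom.appLE, Category.assoc, TopCat.Presheaf.germ_res]

variable [QuasiCompact (X.fromSpecStalk (genericPoint X))] [QuasiSeparated (X.fromSpecStalk (genericPoint X))]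
  [QuasiCompact (Y.fromSpecStalk (genericPoint Y))] [QuasiSeparated (Y.fromSpecStalk (genericPoint Y))]

/-- The generic point of the normalization. -/
noncomputable def genMor (X : Scheme.{u}) [IsIntegral X] [QuasiCompact (X.fromSpecStalk (genericPoint X))]
    [QuasiSeparated (X.fromSpecStalk (genericPoint X))] : Spec X.functionField ⟶ Curv2.normalization X :=
  (X.fromSpecStalk (genericPoint X)).toNormalization

omit [Smooth f] in
theorem gen_fac {X : Scheme.{u}} [IsIntegral X] [QuasiCompact (X.fromSpecStalk (genericPoint X))]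
    [QuasiSeparated (X.fromSpecStalk (genericPoint X))] :
    genMor X ≫ Curv2.normalizationι X = X.fromSpecStalk (genericPoint X) :=
  Scheme.Hom.toNormalization_fromNormalization (X.fromSpecStalk (genericPoint X))

/-- The point of the base change over the generic point. -/
noncomputable def genLift : Spec X.functionField ⟶ pullback f (Curv2.normalizationι Y) :=
  pullback.lift (X.fromSpecStalk (genericPoint X))
    (Spec.map (genMap f) ≫ genMor Y) (by
      rw [Category.assoc]
      exact ((congrArg (Spec.map (genMap f) ≫ ·) (gen_fac (X := Y))).trans (genMap_fac f)).symm)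

/-- The comparison morphism. -/
noncomputable def toBC : Curv2.normalization X ⟶ pullback f (Curv2.normalizationι Y) :=
  (X.fromSpecStalk (genericPoint X)).normalizationDesc (genLift f) (pullback.fst f (Curv2.normalizationι Y))
    (pullback.lift_fst _ _ _).symm

theorem toBC_fst : toBC f ≫ pullback.fst f (Curv2.normalizationι Y) = Curv2.normalizationι X :=
  (X.fromSpecStalk (genericPoint X)).normalizationDesc_comp (genLift f) (pullback.fst f (Curv2.normalizationι Y))
    (pullback.lift_fst _ _ _).symm

instance isIntegralHom_toBC : IsIntegralHom (toBC f) :=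
  inferInstanceAs (IsIntegralHom ((X.fromSpecStalk (genericPoint X)).normalizationDesc (genLift f)
    (pullback.fst f (Curv2.normalizationι Y)) (pullback.lift_fst _ _ _).symm))

theorem isIso_restrict (U : X.affineOpens) (V : Y.affineOpens) [Nonempty U.1] (e : U.1 ≤ f ⁻¹ᵁ V.1) :
    IsIso (toBC f ∣_ (pullback.fst f (Curv2.normalizationι Y) ⁻¹ᵁ U.1)) := by
  let νX := Curv2.normalizationι X
  let νY := Curv2.normalizationι Y
  let p := pullback.fst f νY
  let q := pullback.snd f νY
  let φ := toBC f
  have : Nonempty V.1 := by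
    obtain ⟨x, hx⟩ := ‹Nonempty U.1›
    exact ⟨⟨f x, e hx⟩⟩
  have hVa := Normalization.Basic.isAffineOpen_preimage Y V.2
  let W := p ⁻¹ᵁ U.1
  have hW : IsAffineOpen W := U.2.preimage p
  have hle : W ≤ q ⁻¹ᵁ (νY ⁻¹ᵁ V.1) := by
    rw [← Scheme.Hom.comp_preimage, ← pullback.condition, Scheme.Hom.comp_preimage]
    exact p.preimage_mono e
  refine (isIso_morphismRestrict_iff_isIso_app _ (U := W) hW).2 ?_
  have heq : φ ⁻¹ᵁ W = νX ⁻¹ᵁ U.1 := by
    rw [← Scheme.Hom.comp_preimage]
    exact congrArg (· ⁻¹ᵁ U.1) (toBC_fst f)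
  let D := Γ(Y, V.1); let C := Γ(X, U.1)
  let N := Γ(Curv2.normalization Y, νY ⁻¹ᵁ V.1)
  let M := Γ(pullback f νY, W)
  let T := Γ(Curv2.normalization X, φ ⁻¹ᵁ W)
  let L := Y.functionField; let K := X.functionField
  let : Algebra D C := (f.appLE V.1 U.1 e).hom.toAlgebra
  have : Algebra.Smooth D C := f.smooth_appLE V.2 U.2 e
  have : IsFractionRing D L := functionField_isFractionRing_of_isAffineOpen Y V.1 V.2
  have : IsFractionRing C K := functionField_isFractionRing_of_isAffineOpen X U.1 U.2
  let : Algebra D K := ((algebraMap C K).comp (algebraMap D C)).toAlgebra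
  have : IsScalarTower D C K := IsScalarTower.of_algebraMap_eq fun _ => rfl
  let : Algebra L K := (genMap f).hom.toAlgebra
  have : IsScalarTower D L K :=
    IsScalarTower.of_algebraMap_eq' (congrArg CommRingCat.Hom.hom (germ_genMap f e)).symm
  let : Algebra D N := (νY.app V.1).hom.toAlgebra
  let : Algebra C M := (p.app U.1).hom.toAlgebra
  let : Algebra N M := (q.appLE (νY ⁻¹ᵁ V.1) W hle).hom.toAlgebra
  let : Algebra D M := ((algebraMap C M).comp (algebraMap D C)).toAlgebra
  have : IsScalarTower D C M := IsScalarTower.of_algebraMap_eq fun _ => rfl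
  have sq := HilbD.Content.isPushout_appLE (IsPullback.of_hasPullback f νY).flip V U e hle
  have : IsScalarTower D N M := IsScalarTower.of_algebraMap_eq' (congrArg CommRingCat.Hom.hom sq.w)
  have hpo : Algebra.IsPushout D C N M := CommRingCat.isPushout_iff_isPushout.1 sq
  let σY : N ≃ₐ[D] integralClosure D L :=
    AlgEquiv.ofRingEquiv (f := Normalization.Basic.sectionsEquiv Y V.2)
      (Normalization.Basic.sectionsEquiv_app Y V.2)
  let σX : T ≃+* integralClosure C K :=
    ((Curv2.normalization X).presheaf.mapIso (eqToIso heq.symm).op).commRingCatIsoToRingEquiv.trans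
      (Normalization.Basic.sectionsEquiv X U.2)
  let e₁ : C ⊗[D] N ≃ₐ[C] M := Algebra.IsPushout.equiv D C N M
  let e₂ : C ⊗[D] integralClosure D L ≃ₐ[C] C ⊗[D] N := Algebra.TensorProduct.congr AlgEquiv.refl σY.symm
  let g : M →ₐ[C] integralClosure C K := AlgHom.mk (σX.toRingHom.comp (φ.app W).hom) fun c => by
    show Normalization.Basic.sectionsEquiv X U.2 ((Curv2.normalization X).presheaf.map (eqToIso heq.symm).op.hom
      (φ.app W (p.app U.1 c))) = algebraMap _ _ c
    rw [← Normalization.Basic.sectionsEquiv_app X U.2]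
    congr 1
    have h : p.app U.1 ≫ φ.app W ≫ (Curv2.normalization X).presheaf.map (eqToIso heq.symm).op.hom = νX.app U.1 := by
      simp only [Scheme.Hom.app_eq_appLE, Scheme.Hom.appLE_map]
      erw [Scheme.Hom.appLE_comp_appLE]
      simp only [φ, p, νX]
      congr 1
      exact toBC_fst f
    exact DFunLike.congr_fun (congrArg CommRingCat.Hom.hom h) c
  have hb : Function.Bijective ((g.comp e₁.toAlgHom).comp e₂.toAlgHom) :=
    SmoothBCNormalization.bijective_algHom _
  have hg : Function.Bijective g := by
    have h : ⇑((g.comp e₁.toAlgHom).comp e₂.toAlgHom) = g ∘ ⇑(e₂.trans e₁) := rfl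
    rw [h] at hb
    exact (Function.Bijective.of_comp_iff _ (e₂.trans e₁).bijective).1 hb
  have happ : Function.Bijective (φ.app W) :=
    (Function.Bijective.of_comp_iff' σX.bijective _).1 hg
  exact (ConcreteCategory.isIso_iff_bijective _).2 happ

theorem isIso_toBC : IsIso (toBC f) := by
  refine IsZariskiLocalAtTarget.of_forall_exists_morphismRestrict (P := .isomorphisms Scheme) fun z => ?_
  let p := pullback.fst f (Curv2.normalizationι Y)
  obtain ⟨V, hV, hxV, -⟩ := exists_isAffineOpen_mem_and_subset (x := f (p z)) (U := ⊤) trivial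
  obtain ⟨U, hU, hxU, hUV⟩ := exists_isAffineOpen_mem_and_subset (x := p z) (U := f ⁻¹ᵁ V) hxV
  have : Nonempty U := ⟨⟨_, hxU⟩⟩
  exact ⟨p ⁻¹ᵁ U, hxU, isIso_restrict f ⟨U, hU⟩ ⟨V, hV⟩ hUV⟩

omit [Smooth f] in
theorem endo_normalization_eq_id (a : Curv2.normalization X ⟶ Curv2.normalization X)
    (ha : a ≫ Curv2.normalizationι X = Curv2.normalizationι X) : a = 𝟙 _ := by
  let j := X.fromSpecStalk (genericPoint X)
  refine Scheme.Hom.normalization.hom_ext j a (𝟙 _) (Curv2.normalizationι X) ?_ ha (Category.id_comp _)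
  show genMor X ≫ a = genMor X ≫ 𝟙 (Curv2.normalization X)
  obtain ⟨U, hU, hxU, -⟩ := exists_isAffineOpen_mem_and_subset (x := genericPoint X) (U := ⊤) trivial
  have : Nonempty U := ⟨⟨_, hxU⟩⟩
  let O := Curv2.normalizationι X ⁻¹ᵁ U
  have hO : IsAffineOpen O := Normalization.Basic.isAffineOpen_preimage X hU
  have : IsAffine O.toScheme := hO
  have key : ∀ b : Curv2.normalization X ⟶ Curv2.normalization X, b ≫ Curv2.normalizationι X = Curv2.normalizationι X →
      (genMor X ≫ b) ⁻¹ᵁ O = ⊤ := fun b hb => by
    simp only [O, ← Scheme.Hom.comp_preimage, Category.assoc, hb]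
    rw [gen_fac]
    exact Normalization.Basic.preimage_fromSpecStalk_eq_top X U
  have hcomp : ∀ b : Curv2.normalization X ⟶ Curv2.normalization X, ∀ hb : b ≫ Curv2.normalizationι X = Curv2.normalizationι X,
      (Curv2.normalizationι X).app U ≫ (genMor X ≫ b).appLE O ⊤ (key b hb).ge =
        j.appLE U ⊤ (Normalization.Basic.preimage_fromSpecStalk_eq_top X U).ge := fun b hb => by
    rw [Scheme.Hom.app_eq_appLE, Scheme.Hom.appLE_comp_appLE]
    simp only [Category.assoc, hb]
    congr 1
    exact gen_fac
  have h1 := key a ha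
  have h2 := key (𝟙 _) (Category.id_comp _)
  have hrange : ∀ b : Spec X.functionField ⟶ Curv2.normalization X, b ⁻¹ᵁ O = ⊤ → Set.range b ⊆ Set.range O.ι := by
    intro b hb
    rw [Scheme.Opens.range_ι]
    rintro _ ⟨y, rfl⟩
    exact (hb.ge trivial : y ∈ b ⁻¹ᵁ O)
  rw [← IsOpenImmersion.lift_fac O.ι _ (hrange _ h1), ← IsOpenImmersion.lift_fac O.ι _ (hrange _ h2)]
  congr 1
  apply ext_of_isAffine
  rw [← cancel_epi O.topIso.inv]
  have hl : ∀ (b : Spec X.functionField ⟶ Curv2.normalization X) (hb : b ⁻¹ᵁ O = ⊤),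
      O.topIso.inv ≫ (IsOpenImmersion.lift O.ι b (hrange _ hb)).appTop = b.appLE O ⊤ hb.ge := by
    intro b hb
    have h := IsOpenImmersion.lift_fac O.ι b (hrange _ hb)
    generalize IsOpenImmersion.lift O.ι b (hrange _ hb) = w at h
    subst h
    rw [← Scheme.Hom.appLE_comp_appLE w O.ι O ⊤ ⊤ (by simp) le_rfl, Scheme.Opens.ι_appLE,
      show w.appTop = w.appLE ⊤ ⊤ le_rfl from (Scheme.Hom.appLE_eq_app w (U := ⊤)).symm]
    rfl
  rw [hl _ h1, hl _ h2]
  let C := Γ(X, U)
  let K := X.functionField
  have : IsFractionRing C K := functionField_isFractionRing_of_isAffineOpen X U hU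
  let σ := Normalization.Basic.sectionsEquiv X hU
  have : IsDomain Γ(Spec X.functionField, ⊤) :=
    (Scheme.ΓSpecIso X.functionField).commRingCatIsoToRingEquiv.toMulEquiv.isDomain
  have h := SmoothBCNormalization.ringHom_ext (C := C) (K := K)
    (((genMor X ≫ a).appLE O ⊤ h1.ge).hom.comp σ.symm.toRingHom)
    (((genMor X ≫ 𝟙 _).appLE O ⊤ h2.ge).hom.comp σ.symm.toRingHom) (fun c => ?_) ?_
  · ext t
    simpa using DFunLike.congr_fun h (σ t)
  · have hc : σ.symm (algebraMap C _ c) = (Curv2.normalizationι X).app U c :=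
      σ.injective (by rw [RingEquiv.apply_symm_apply]; exact (Normalization.Basic.sectionsEquiv_app X hU c).symm)
    show (genMor X ≫ a).appLE O ⊤ _ (σ.symm (algebraMap C _ c)) =
      (genMor X ≫ 𝟙 _).appLE O ⊤ _ (σ.symm (algebraMap C _ c))
    rw [hc]
    exact DFunLike.congr_fun (congrArg CommRingCat.Hom.hom
      ((hcomp a ha).trans (hcomp _ (Category.id_comp _)).symm)) c
  · have hinj : Function.Injective fun c => j.appLE U ⊤ (Normalization.Basic.preimage_fromSpecStalk_eq_top X U).ge c := by
      intro x y hxy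
      apply IsFractionRing.injective C K
      show X.germToFunctionField U x = X.germToFunctionField U y
      rw [← Normalization.Basic.genEquiv_app, ← Normalization.Basic.genEquiv_app]
      have hm : ∀ z, (Spec X.functionField).presheaf.map (homOfLE (Normalization.Basic.preimage_fromSpecStalk_eq_top X U).ge).op
          (j.app U z) = j.appLE U ⊤ (Normalization.Basic.preimage_fromSpecStalk_eq_top X U).ge z := fun z => rfl
      refine congrArg _ ((ConcreteCategory.bijective_of_isIso
        ((Spec X.functionField).presheaf.map (eqToHom (Normalization.Basic.preimage_fromSpecStalk_eq_top X U).symm).op)).1 ?_)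
      exact (hm x).trans (hxy.trans (hm y).symm)
    intro x y hxy
    apply hinj
    show j.appLE U ⊤ _ x = j.appLE U ⊤ _ y
    rw [← hcomp _ (Category.id_comp _)]
    have hc : ∀ c, σ.symm (algebraMap C _ c) = (Curv2.normalizationι X).app U c := fun c =>
      σ.injective (by rw [RingEquiv.apply_symm_apply]; exact (Normalization.Basic.sectionsEquiv_app X hU c).symm)
    simp only [CommRingCat.hom_comp, RingHom.comp_apply]
    rw [← hc, ← hc]
    exact hxy

theorem existsUnique_iso :
    ∃! e : Curv2.normalization X ≅ pullback f (Curv2.normalizationι Y),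
      e.hom ≫ pullback.fst f (Curv2.normalizationι Y) = Curv2.normalizationι X := by
  have := isIso_toBC f
  refine ⟨asIso (toBC f), toBC_fst f, fun e he => Iso.ext ?_⟩
  have h := endo_normalization_eq_id (X := X) (e.hom ≫ inv (toBC f))
    (by rw [Category.assoc, (IsIso.inv_comp_eq _).2 (toBC_fst f).symm, he])
  simpa using congrArg (· ≫ toBC f) h

end Groth.Agent.Lib.Flat55.SmoothBCNormalizationScheme
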