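import Groth.Agent.Lib.Flat55.SmoothStrataMain
import Groth.Agent.Lib.GrpSch.SmoothReduced
import Groth.Prelude.Def_CurvBase
import Groth.Agent.Lib.DvrCrit.Curve

/-!
# Smooth stratification over a field after a finite purely inseparable extension
-/

set_option autoImplicit false

universe u

open CategoryTheory CategoryTheory.Limits AlgebraicGeometry TopologicalSpace TensorProduct
open Groth.Agent.Lib Groth.Agent.Lib.Flat55.StrataChain Groth.Agent.Lib.Flat55.SmoothStrataRing
open Groth.Agent.Lib.Flat55.SmoothStrataScheme Groth.Agent.Lib.Flat55.SmoothStrataPieces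
open Groth.Agent.Lib.Flat55.SmoothStrataMain

namespace Groth.Agent.Lib.Flat55.SmoothStrataField

theorem support_vanishing {Y : Scheme.{u}} (Z : Closeds Y) :
    (Scheme.IdealSheafData.vanishingIdeal Z).support = Z :=
  Closeds.ext (Scheme.IdealSheafData.coe_support_vanishingIdeal Z)

/-- A smooth stratum over a field only depends on the support. -/
theorem smooth_stratum_radical {k : Type u} [Field k] {Y : Scheme.{u}}
    (h : Y ⟶ Spec (CommRingCat.of k)) (I : Y.IdealSheafData) (O : Y.Opens)
    (hs : Smooth ((I.subschemeι ⁻¹ᵁ O).ι ≫ I.subschemeι ≫ h)) :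
    Smooth (((Scheme.IdealSheafData.vanishingIdeal I.support).subschemeι ⁻¹ᵁ O).ι ≫
      (Scheme.IdealSheafData.vanishingIdeal I.support).subschemeι ≫ h) := by
  let J := Scheme.IdealSheafData.vanishingIdeal I.support
  have hIJ : I ≤ J := Scheme.IdealSheafData.le_support_iff_le_vanishingIdeal.1 le_rfl
  let j := Scheme.IdealSheafData.inclusion hIJ
  have hj : j ≫ I.subschemeι = J.subschemeι := by simp [j]
  have : IsClosedImmersion (j ≫ I.subschemeι) := hj ▸ inferInstance
  have : IsClosedImmersion j := IsClosedImmersion.of_comp j I.subschemeι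
  have : Surjective j := ⟨fun y => by
    have hy : I.subschemeι y ∈ Set.range J.subschemeι := by
      rw [Scheme.IdealSheafData.range_subschemeι, Scheme.IdealSheafData.coe_support_vanishingIdeal,
        ← Scheme.IdealSheafData.range_subschemeι]
      exact ⟨y, rfl⟩
    obtain ⟨x, hx⟩ := hy
    refine ⟨x, I.subschemeι.isClosedEmbedding.injective ?_⟩
    rw [← Scheme.Hom.comp_apply, hj, hx]⟩
  let O' := I.subschemeι ⁻¹ᵁ O
  have hO : J.subschemeι ⁻¹ᵁ O = j ⁻¹ᵁ O' := by
    rw [← hj]; rfl
  let e : (j ⁻¹ᵁ O').toScheme ⟶ O'.toScheme := j ∣_ O'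
  have : IsClosedImmersion e := MorphismProperty.of_isPullback (isPullback_morphismRestrict j O').flip ‹IsClosedImmersion j›
  have : Surjective e := MorphismProperty.of_isPullback (isPullback_morphismRestrict j O').flip ‹Surjective j›
  have : Smooth (O'.ι ≫ I.subschemeι ≫ h) := hs
  have : AlgebraicGeometry.IsReduced O'.toScheme := GrpSch.isReduced_of_smooth_field (O'.ι ≫ I.subschemeι ≫ h)
  have : IsIso e := isIso_of_isClosedImmersion_of_surjective e
  have h1 : Smooth (e ≫ O'.ι ≫ I.subschemeι ≫ h) := inferInstance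
  have h2 : e ≫ O'.ι ≫ I.subschemeι ≫ h = (j ⁻¹ᵁ O').ι ≫ J.subschemeι ≫ h := by
    rw [← Category.assoc, morphismRestrict_ι, Category.assoc, ← Category.assoc j, hj]
  rw [h2] at h1
  show Smooth ((J.subschemeι ⁻¹ᵁ O).ι ≫ J.subschemeι ≫ h)
  rw [hO]
  exact h1

theorem exists_purelyInseparable_smooth_stratification (k : Type u) [Field k] {X : Scheme.{u}}
    (f : X ⟶ Spec (CommRingCat.of k)) [LocallyOfFiniteType f] [QuasiCompact f] :
    ∃ (k' : Type u) (_ : Field k') (_ : Algebra k k') (_ : FiniteDimensional k k') (_ : IsPurelyInseparable k k')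
      (t : ℕ) (I : Fin (t + 1) → (pullback f (Spec.map (CommRingCat.ofHom (algebraMap k k')))).IdealSheafData),
      Monotone I ∧ I 0 = Scheme.IdealSheafData.vanishingIdeal ⊤ ∧ I (Fin.last t) = ⊤ ∧
        ∀ i : Fin t, Smooth (((I i.castSucc).subschemeι ⁻¹ᵁ (I i.succ).support.compl).ι ≫
          (I i.castSucc).subschemeι ≫ pullback.snd f (Spec.map (CommRingCat.ofHom (algebraMap k k')))) := by
  have : CompactSpace X := QuasiCompact.compactSpace_of_compactSpace f
  have : IsLocallyNoetherian X := LocallyOfFiniteType.isLocallyNoetherian f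
  have : QuasiSeparated f := inferInstance
  have : QuasiSeparatedSpace X := quasiSeparatedSpace_of_quasiSeparated f
  have : LocallyOfFinitePresentation f := DvrCrit.lfp_of_lft f
  obtain ⟨ι, _, B, _, _, hB, hst⟩ := exists_pieces f
  let e := (Scheme.ΓSpecIso (CommRingCat.of k)).hom
  let : Algebra Γ(Spec (CommRingCat.of k), ⊤) k := e.hom.toAlgebra
  let E := AlgebraicClosure k
  let P := perfectClosure k E
  let : Algebra Γ(Spec (CommRingCat.of k), ⊤) P := ((algebraMap k P).comp e.hom).toAlgebra
  have : IsScalarTower Γ(Spec (CommRingCat.of k), ⊤) k P := IsScalarTower.of_algebraMap_eq fun _ => rfl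
  obtain ⟨L, _, hL⟩ := exists_field_strat (R := Γ(Spec (CommRingCat.of k), ⊤)) (K := k) (P := P) B
  let φ : CommRingCat.of k ⟶ CommRingCat.of L := CommRingCat.ofHom (algebraMap k L)
  let g := Spec.map φ
  have hch : Relation.ReflTransGen (SStep (pullback.snd f g)) ⊥ ⊤ := by
    refine hst _ _ g (IsPullback.of_hasPullback f g) ?_
    let : Algebra Γ(Spec (CommRingCat.of k), ⊤) Γ(Spec (CommRingCat.of L), ⊤) := g.appTop.hom.toAlgebra
    let F : L →ₐ[Γ(Spec (CommRingCat.of k), ⊤)] Γ(Spec (CommRingCat.of L), ⊤) :=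
      { (Scheme.ΓSpecIso (CommRingCat.of L)).inv.hom with
        commutes' := fun r => by
          show (Scheme.ΓSpecIso (CommRingCat.of L)).inv.hom (algebraMap k L (e r)) = (Spec.map φ).appTop r
          have h := congr(($(Scheme.ΓSpecIso_inv_naturality φ)).hom (e r))
          simp only [CommRingCat.hom_comp, RingHom.comp_apply] at h
          refine h.trans ?_
          show (Spec.map φ).appTop ((e ≫ (Scheme.ΓSpecIso (CommRingCat.of k)).inv) r) = _
          simp [e] }
    exact fun i => StrataBC.strat_map_bot F (hL i)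
  obtain ⟨t, J, hmono, hl, h0, -, hsm⟩ := exists_fin_strata _ hch
  refine ⟨L, inferInstance, inferInstance, inferInstance, inferInstance, t,
    fun i => Scheme.IdealSheafData.vanishingIdeal (J i).support, fun a b hab => ?_, ?_, ?_, fun i => ?_⟩
  · exact Scheme.IdealSheafData.le_support_iff_le_vanishingIdeal.1 (by
      rw [support_vanishing]
      exact Scheme.IdealSheafData.support_antitone (hmono hab))
  · show Scheme.IdealSheafData.vanishingIdeal (J 0).support = _
    rw [show (J 0).support = ⊤ from Closeds.ext h0]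
  · show Scheme.IdealSheafData.vanishingIdeal (J (Fin.last t)).support = _
    rw [hl, Scheme.IdealSheafData.support_top, Scheme.IdealSheafData.vanishingIdeal_bot]
  · simp only [support_vanishing]
    exact smooth_stratum_radical _ _ _ (hsm i)

end Groth.Agent.Lib.Flat55.SmoothStrataField
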