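import Groth.Agent.Lib.Flat55.SmoothStrataScheme

/-!
# Affine pieces of a scheme of finite presentation over an affine base
-/

set_option autoImplicit false

universe u

open CategoryTheory CategoryTheory.Limits AlgebraicGeometry TopologicalSpace Opposite TensorProduct
open Groth.Agent.Lib Groth.Agent.Lib.Flat55.StrataChain
open Groth.Agent.Lib.Lim.IdealExt (IsFG isFG_bot isFG_sup exists_isFG_le)
open Groth.Agent.Lib.Flat55.GenericStrataScheme (isFG_mul support_sup exists_isFG_support exists_fin)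
open Groth.Agent.Lib.Flat55.SmoothStrataScheme

namespace Groth.Agent.Lib.Flat55.SmoothStrataPieces

theorem isFG_comap {X Y : Scheme.{u}} (p : Y ⟶ X) {L : X.IdealSheafData} (hL : IsFG L) :
    IsFG (L.comap p) := by
  have hcov : ∀ y : Y, ∃ (U : X.affineOpens) (V : Y.affineOpens), y ∈ V.1 ∧ V.1 ≤ p ⁻¹ᵁ U.1 := by
    intro y
    obtain ⟨_, ⟨U, hU, rfl⟩, hyU, -⟩ :=
      X.isBasis_affineOpens.exists_subset_of_mem_open (Set.mem_univ (p y)) isOpen_univ
    obtain ⟨V, hV, hyV, hVU⟩ := exists_isAffineOpen_mem_and_subset (U := p ⁻¹ᵁ U) hyU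
    exact ⟨⟨U, hU⟩, ⟨V, hV⟩, hyV, hVU⟩
  choose U V hy hVU using hcov
  refine Lim.IdealExt.isFG_of_iSup_eq_top _ V (top_le_iff.1 fun y _ => Opens.mem_iSup.2 ⟨y, hy y⟩) fun y => ?_
  rw [Groth.Agent.Lib.Ideal.Comap.ideal_comap p L (U y) (V y) (hVU y)]
  exact (hL _).map _

variable {X S : Scheme.{u}} (f : X ⟶ S) [IsAffine S]

/-- The algebra of sections over an affine open. -/
noncomputable abbrev algV (V : X.affineOpens) : Algebra Γ(S, ⊤) Γ(X, V.1) :=
  (f.appLE ⊤ V.1 (le_pre f _)).hom.toAlgebra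

variable {f}

theorem strat_piece {Y T : Scheme.{u}} [IsAffine T] {p : Y ⟶ X} {h : Y ⟶ T} {g : T ⟶ S}
    (sq : IsPullback p h f g) (V : X.affineOpens) (L : X.IdealSheafData) (V' : Y.affineOpens)
    (hV' : V'.1 = p ⁻¹ᵁ V.1)
    (hst : letI := algV f V
      letI := g.appTop.hom.toAlgebra
      Strat Γ(T, ⊤) (⊥ : Ideal (Γ(T, ⊤) ⊗[Γ(S, ⊤)] (Γ(X, V.1) ⧸ L.ideal V)))) :
    letI := (h.appLE ⊤ V'.1 (le_pre h _)).hom.toAlgebra
    Strat Γ(T, ⊤) ((L.comap p).ideal V') := by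
  obtain ⟨V', hV'aff⟩ := V'
  simp only at hV'
  subst hV'
  have : IsAffineHom p := MorphismProperty.of_isPullback sq.flip (inferInstance : IsAffineHom g)
  have hpo := HilbD.Content.isPushout_appLE sq.flip ⟨⊤, isAffineOpen_top S⟩ V (le_pre f _) (le_pre h _)
  let := algV f V
  let := g.appTop.hom.toAlgebra
  let : Algebra Γ(X, V.1) Γ(Y, p ⁻¹ᵁ V.1) := (p.app V.1).hom.toAlgebra
  let : Algebra Γ(T, ⊤) Γ(Y, p ⁻¹ᵁ V.1) := (h.appLE ⊤ (p ⁻¹ᵁ V.1) (le_pre h _)).hom.toAlgebra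
  let : Algebra Γ(S, ⊤) Γ(Y, p ⁻¹ᵁ V.1) :=
    (g.appTop ≫ h.appLE ⊤ (p ⁻¹ᵁ V.1) (le_pre h _)).hom.toAlgebra
  have : IsScalarTower Γ(S, ⊤) Γ(T, ⊤) Γ(Y, p ⁻¹ᵁ V.1) := IsScalarTower.of_algebraMap_eq fun _ => rfl
  have hw : f.appLE ⊤ V.1 (le_pre f _) ≫ p.app V.1 =
      g.appTop ≫ h.appLE ⊤ (p ⁻¹ᵁ V.1) (le_pre h _) := hpo.w
  have : IsScalarTower Γ(S, ⊤) Γ(X, V.1) Γ(Y, p ⁻¹ᵁ V.1) := IsScalarTower.of_algebraMap_eq fun x => by
    show (g.appTop ≫ h.appLE ⊤ (p ⁻¹ᵁ V.1) (le_pre h _)).hom x = _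
    rw [← hw]
    rfl
  have : Algebra.IsPushout Γ(S, ⊤) Γ(T, ⊤) Γ(X, V.1) Γ(Y, p ⁻¹ᵁ V.1) :=
    CommRingCat.isPushout_iff_isPushout.1 hpo.flip
  have h1 := StrataTransfer.strat_pushout (R := Γ(S, ⊤)) (A := Γ(T, ⊤)) (B' := Γ(Y, p ⁻¹ᵁ V.1)) (L.ideal V) hst
  rw [Groth.Agent.Lib.Ideal.Comap.ideal_comap p L V ⟨p ⁻¹ᵁ V.1, hV'aff⟩ le_rfl, ← Scheme.Hom.app_eq_appLE]
  exact h1

variable (f) [LocallyOfFinitePresentation f] [CompactSpace X] [QuasiSeparatedSpace X]

/-- Finitely many finitely presented algebras controlling smooth stratifications of all base changes. -/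
theorem exists_pieces :
    ∃ (ι : Type) (_ : Finite ι) (B : ι → Type u) (_ : ∀ i, CommRing (B i))
      (_ : ∀ i, Algebra Γ(S, ⊤) (B i)), (∀ i, Algebra.FinitePresentation Γ(S, ⊤) (B i)) ∧
      ∀ {Y T : Scheme.{u}} [IsAffine T] (p : Y ⟶ X) (h : Y ⟶ T) (g : T ⟶ S), IsPullback p h f g →
        (letI := g.appTop.hom.toAlgebra
          ∀ i, Strat Γ(T, ⊤) (⊥ : Ideal (Γ(T, ⊤) ⊗[Γ(S, ⊤)] B i))) →
        Relation.ReflTransGen (SStep h) ⊥ ⊤ := by
  classical
  have : QuasiCompact f := HasAffineProperty.iff_of_isAffine.2 ‹CompactSpace X›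
  have : QuasiSeparated f := HasAffineProperty.iff_of_isAffine.2 ‹QuasiSeparatedSpace X›
  obtain ⟨𝒮, h𝒮⟩ := isCompact_univ.elim_finite_subcover (fun U : X.affineOpens => (U.1 : Set X))
    (fun U => U.1.2) (fun x _ => by
      obtain ⟨_, ⟨U, hU, rfl⟩, hxU, -⟩ :=
        X.isBasis_affineOpens.exists_subset_of_mem_open (Set.mem_univ x) isOpen_univ
      exact Set.mem_iUnion.mpr ⟨⟨U, hU⟩, hxU⟩)
  let e := 𝒮.equivFin.symm
  let V : Fin 𝒮.card → X.affineOpens := fun k => (e k).1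
  have hJ : ∀ k, ∃ J : X.IdealSheafData, IsFG J ∧ (J.support : Set X) = ((V k).1 : Set X)ᶜ := fun k =>
    exists_isFG_support (V k).1 (V k).2.isCompact
  choose J hJfg hJsupp using hJ
  let L : ℕ → X.IdealSheafData := fun n =>
    Nat.rec ⊥ (fun m acc => if hm : m < 𝒮.card then acc ⊔ J ⟨m, hm⟩ else acc) n
  have hLsucc : ∀ m (hm : m < 𝒮.card), L (m + 1) = L m ⊔ J ⟨m, hm⟩ := fun m hm => dif_pos hm
  have hLfg : ∀ m, IsFG (L m) := fun m => by
    induction m with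
    | zero => exact isFG_bot
    | succ m ih =>
      by_cases hm : m < 𝒮.card
      · rw [hLsucc m hm]; exact isFG_sup ih (hJfg _)
      · rw [show L (m + 1) = L m from dif_neg hm]; exact ih
  let alg : ∀ k, Algebra Γ(S, ⊤) Γ(X, (V k).1) := fun k => algV f (V k)
  refine ⟨Fin 𝒮.card, inferInstance, fun k => Γ(X, (V k).1) ⧸ (L k.1).ideal (V k), inferInstance,
    inferInstance, fun k => ?_, fun {Y T} _ p h g sq hst => ?_⟩
  · have : Algebra.FinitePresentation Γ(S, ⊤) Γ(X, (V k).1) :=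
      f.finitePresentation_appLE (isAffineOpen_top S) (V k).2 (le_pre f _)
    exact Algebra.FinitePresentation.quotient (hLfg k.1 (V k))
  have : IsAffineHom p := MorphismProperty.of_isPullback sq.flip (inferInstance : IsAffineHom g)
  have : QuasiCompact h := MorphismProperty.of_isPullback sq ‹QuasiCompact f›
  have : QuasiSeparated h := MorphismProperty.of_isPullback sq ‹QuasiSeparated f›
  have : CompactSpace Y := QuasiCompact.compactSpace_of_compactSpace h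
  have : QuasiSeparatedSpace Y := quasiSeparatedSpace_of_quasiSeparated h
  have hind : ∀ m ≤ 𝒮.card, Relation.ReflTransGen (SStep h) ⊥ ((L m).comap p) := by
    intro m hm
    induction m with
    | zero =>
      rw [show L 0 = ⊥ from rfl, Scheme.IdealSheafData.comap_bot]
    | succ m ih =>
      have hm' : m < 𝒮.card := hm
      refine (ih hm'.le).trans ?_
      rw [hLsucc m hm', Scheme.IdealSheafData.comap_sup]
      let k : Fin 𝒮.card := ⟨m, hm'⟩
      refine chain_affine h ⟨p ⁻¹ᵁ (V k).1, (V k).2.preimage p⟩ (isFG_comap p (hLfg m))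
        (isFG_comap p (hJfg k)) ?_ (strat_piece sq (V k) (L m) ⟨p ⁻¹ᵁ (V k).1, (V k).2.preimage p⟩ rfl (hst k))
      rw [Scheme.IdealSheafData.support_comap, Closeds.coe_preimage, hJsupp]
      rfl
  have htop : L 𝒮.card = ⊤ := by
    refine (Scheme.IdealSheafData.support_eq_bot_iff _).1 (Closeds.ext ?_)
    refine Set.eq_empty_of_forall_notMem fun x hx => ?_
    obtain ⟨U, hU, hxU⟩ := Set.mem_iUnion₂.1 (h𝒮 (Set.mem_univ x))
    let k := 𝒮.equivFin ⟨U, hU⟩
    have hmono : ∀ m n, m ≤ n → L m ≤ L n := fun m n hmn => by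
      induction hmn with
      | refl => exact le_rfl
      | @step n _ ih =>
        refine ih.trans ?_
        by_cases hn : n < 𝒮.card
        · rw [hLsucc n hn]; exact le_sup_left
        · rw [show L (n + 1) = L n from dif_neg hn]
    have h1 : J k ≤ L 𝒮.card := le_trans (by rw [hLsucc k.1 k.2]; exact le_sup_right) (hmono _ _ k.2)
    have h2 : x ∈ ((J k).support : Set X) := Scheme.IdealSheafData.support_antitone h1 hx
    rw [hJsupp] at h2
    exact h2 (by simpa [V, e, k] using hxU)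
  have := hind _ le_rfl
  rwa [htop, Scheme.IdealSheafData.comap_top] at this

end Groth.Agent.Lib.Flat55.SmoothStrataPieces
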