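import Groth.Agent.Lib.Flat55.Fibrewise
import Mathlib.Algebra.Module.TransferInstance

/-!
# The special fibre of a presented module, and the criterion by fibres modulo the maximal ideal
-/

set_option autoImplicit false

universe u v

namespace Groth.Agent.Lib.Flat55.SpecialFibre

open MvPolynomial Relations
open scoped Pointwise

variable {σ τ ι κ : Type} {R : Type u} [CommRing R] [IsLocalRing R]

theorem map_C_maximalIdeal_le (q : Ideal (MvPolynomial σ R))
    (hq : q.comap C = IsLocalRing.maximalIdeal R) :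
    RingHom.ker (MvPolynomial.map (σ := σ) (IsLocalRing.residue R)) ≤ q := by
  rw [MvPolynomial.ker_map, IsLocalRing.ker_residue, ← hq]
  exact Ideal.map_comap_le

theorem map_residue_isPrime (q : Ideal (MvPolynomial σ R)) [q.IsPrime]
    (hq : q.comap C = IsLocalRing.maximalIdeal R) :
    (q.map (MvPolynomial.map (IsLocalRing.residue R))).IsPrime :=
  Ideal.map_isPrime_of_surjective (MvPolynomial.map_surjective _ IsLocalRing.residue_surjective)
    (map_C_maximalIdeal_le q hq)

theorem comap_map_residue (q : Ideal (MvPolynomial σ R)) (hq : q.comap C = IsLocalRing.maximalIdeal R) :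
    (q.map (MvPolynomial.map (IsLocalRing.residue R))).comap (MvPolynomial.map (IsLocalRing.residue R)) = q := by
  refine le_antisymm ?_ Ideal.le_comap_map
  rw [Ideal.comap_map_of_surjective _ (MvPolynomial.map_surjective _ IsLocalRing.residue_surjective)]
  exact sup_le le_rfl (map_C_maximalIdeal_le q hq)

/-- The special fibre of a presented module. -/
theorem exists_fibre_map [Finite ι] [Fintype κ] (g : κ → ι → MvPolynomial σ R)
    (q : Ideal (MvPolynomial σ R)) [q.IsPrime] (hq : q.comap C = IsLocalRing.maximalIdeal R)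
    (g₁ : κ → ι → MvPolynomial σ (IsLocalRing.ResidueField R))
    (hg₁ : ∀ v, mapVec (IsLocalRing.residue R) (g v) = g₁ v)
    (q₁ : Ideal (MvPolynomial σ (IsLocalRing.ResidueField R))) [q₁.IsPrime]
    (hq₁ : q = q₁.comap (MvPolynomial.map (IsLocalRing.residue R))) :
    ∃ ψ : QuotAt g q →+ QuotAt g₁ q₁, Function.Surjective ψ ∧
      (∀ (a : MvPolynomial σ R) (x : QuotAt g q), ψ (a • x) = MvPolynomial.map (IsLocalRing.residue R) a • ψ x) ∧
      ∀ x, ψ x = 0 ↔ x ∈ IsLocalRing.maximalIdeal R • (⊤ : Submodule R (QuotAt g q)) := by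
  let res := IsLocalRing.residue R
  let mp : MvPolynomial σ R →+* MvPolynomial σ (IsLocalRing.ResidueField R) := MvPolynomial.map res
  let : Module (MvPolynomial σ R) (QuotAt g₁ q₁) := Module.compHom _ mp
  let lM := LocalizedModule.mkLinearMap q.primeCompl (Quot g)
  let lM₁ := LocalizedModule.mkLinearMap q₁.primeCompl (Quot g₁)
  let L : (ι → MvPolynomial σ R) →ₗ[MvPolynomial σ R] QuotAt g₁ q₁ :=
    { toFun := fun f ↦ lM₁ (Submodule.Quotient.mk (mapVec res f))
      map_add' := fun a b ↦ by rw [map_add, Submodule.Quotient.mk_add, map_add]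
      map_smul' := fun a f ↦ by
        rw [mapVec_smul, Submodule.Quotient.mk_smul, map_smul]
        rfl }
  let ψ₀ : Quot g →ₗ[MvPolynomial σ R] QuotAt g₁ q₁ := (rel g).liftQ L <| by
    rw [rel, Submodule.span_le]
    rintro _ ⟨v, rfl⟩
    change lM₁ (Submodule.Quotient.mk (mapVec res (g v))) = 0
    rw [hg₁, (Submodule.Quotient.mk_eq_zero (rel g₁)).2 (Submodule.subset_span ⟨v, rfl⟩), map_zero]
  have hmem : ∀ s : MvPolynomial σ R, s ∈ q.primeCompl → mp s ∈ q₁.primeCompl := fun s hs hm ↦
    hs (by rw [hq₁]; exact hm)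
  have hu : ∀ s : q.primeCompl, IsUnit
      (algebraMap (MvPolynomial σ R) (Module.End (MvPolynomial σ R) (QuotAt g₁ q₁)) s) := by
    intro s
    rw [Module.End.isUnit_iff]
    have h := IsLocalizedModule.map_units lM₁ (⟨mp s, hmem s s.2⟩ : q₁.primeCompl)
    rw [Module.End.isUnit_iff] at h
    exact h
  let ψ := IsLocalizedModule.lift q.primeCompl lM ψ₀ hu
  have hψ : ∀ f, ψ (lM (Submodule.Quotient.mk f)) = lM₁ (Submodule.Quotient.mk (mapVec res f)) :=
    fun f ↦ IsLocalizedModule.lift_apply q.primeCompl lM ψ₀ hu _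
  have hψs : ∀ (a : MvPolynomial σ R) (x : QuotAt g q), ψ (a • x) = mp a • ψ x :=
    fun a x ↦ map_smul ψ a x
  refine ⟨ψ.toAddMonoidHom, ?_, hψs, fun x ↦ ⟨fun hx ↦ ?_, fun hx ↦ ?_⟩⟩
  · intro y
    obtain ⟨⟨m, u⟩, hu'⟩ := IsLocalizedModule.surj q₁.primeCompl lM₁ y
    obtain ⟨m, rfl⟩ := Submodule.Quotient.mk_surjective _ m
    choose f hf using fun i ↦ MvPolynomial.map_surjective res IsLocalRing.residue_surjective (m i)
    obtain ⟨v, hv⟩ := MvPolynomial.map_surjective res IsLocalRing.residue_surjective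
      (u : MvPolynomial σ (IsLocalRing.ResidueField R))
    have hvq : v ∈ q.primeCompl := fun hm ↦ u.2 (by
      rw [hq₁, SetLike.mem_coe, Ideal.mem_comap, hv] at hm; exact hm)
    obtain ⟨x, hx⟩ := ((Module.End.isUnit_iff _).1 (IsLocalizedModule.map_units lM ⟨v, hvq⟩)).2
      (lM (Submodule.Quotient.mk f))
    refine ⟨x, ((Module.End.isUnit_iff _).1 (IsLocalizedModule.map_units lM₁ u)).1 ?_⟩
    change (u : MvPolynomial σ (IsLocalRing.ResidueField R)) • ψ x =
      (u : MvPolynomial σ (IsLocalRing.ResidueField R)) • y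
    change v • x = _ at hx
    rw [← hv, ← hψs, hx, hψ, hv, show mapVec res f = m from funext hf]
    exact hu'.symm
  · obtain ⟨⟨m, u⟩, hu'⟩ := IsLocalizedModule.surj q.primeCompl lM x
    obtain ⟨m, rfl⟩ := Submodule.Quotient.mk_surjective _ m
    change (u : MvPolynomial σ R) • x = lM (Submodule.Quotient.mk m) at hu'
    have h0 : lM₁ (Submodule.Quotient.mk (mapVec res m)) = 0 := by
      rw [← hψ, ← hu', hψs, show ψ x = 0 from hx, smul_zero]
    obtain ⟨t₁, ht₁⟩ := (IsLocalizedModule.eq_zero_iff q₁.primeCompl lM₁).1 h0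
    rw [Submonoid.smul_def, ← Submodule.Quotient.mk_smul, Submodule.Quotient.mk_eq_zero,
      Submodule.mem_span_range_iff_exists_fun] at ht₁
    obtain ⟨c₁, hc₁⟩ := ht₁
    obtain ⟨t, ht⟩ := MvPolynomial.map_surjective res IsLocalRing.residue_surjective
      (t₁ : MvPolynomial σ (IsLocalRing.ResidueField R))
    choose c hc using fun v ↦ MvPolynomial.map_surjective res IsLocalRing.residue_surjective (c₁ v)
    have htq : t ∈ q.primeCompl := fun hm ↦ t₁.2 (by
      rw [hq₁, SetLike.mem_coe, Ideal.mem_comap, ht] at hm; exact hm)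
    obtain ⟨n, a, f, ha, haf⟩ := exists_eq_sum_of_mapVec_eq_zero
      (f := t • m - ∑ v, c v • g v) (by
        rw [map_sub, mapVec_smul, mapVec_sum, sub_eq_zero, ht, ← hc₁]
        exact Finset.sum_congr rfl fun v _ ↦ by rw [hg₁ v, ← hc v])
    have hu₂ := (Module.End.isUnit_iff _).1
      (IsLocalizedModule.map_units lM (⟨t, htq⟩ * u : q.primeCompl))
    choose z hz using fun k ↦ hu₂.2 (lM (Submodule.Quotient.mk (f k)))
    have hsum : x = ∑ k, a k • z k := by
      apply hu₂.1
      change (t * (u : MvPolynomial σ R)) • x = (t * (u : MvPolynomial σ R)) • ∑ k, a k • z k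
      rw [mul_smul, hu', ← map_smul, ← Submodule.Quotient.mk_smul,
        show Submodule.Quotient.mk (t • m) = (rel g).mkQ (∑ k, a k • f k) by
          rw [haf, map_sub, Submodule.mkQ_apply, Submodule.mkQ_apply,
            (Submodule.Quotient.mk_eq_zero (rel g)).2
              (Submodule.sum_mem _ fun v _ ↦ Submodule.smul_mem _ _ (Submodule.subset_span ⟨v, rfl⟩)),
            sub_zero]]
      rw [map_sum, map_sum, Finset.smul_sum]
      refine Finset.sum_congr rfl fun k _ ↦ ?_
      change lM (Submodule.Quotient.mk (a k • f k)) = _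
      rw [smul_comm, ← algebraMap_smul (MvPolynomial σ R) (a k) (f k), Submodule.Quotient.mk_smul,
        map_smul, algebraMap_smul, ← hz k]
      rfl
    rw [hsum]
    exact Submodule.sum_mem _ fun k _ ↦ Submodule.smul_mem_smul (ha k) Submodule.mem_top
  · refine Submodule.smul_induction_on (p := fun y ↦ ψ y = 0) hx (fun r hr y _ ↦ ?_)
      fun a b ha hb ↦ by rw [map_add, ha, hb, add_zero]
    rw [← algebraMap_smul (MvPolynomial σ R) r y, hψs]
    change MvPolynomial.map res (C r) • ψ y = 0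
    rw [map_C, show res r = 0 from (IsLocalRing.residue_eq_zero_iff r).2 hr, map_zero, zero_smul]

/-- The criterion by fibres, the fibre taken modulo the maximal ideal. -/
theorem flat_fibrewise_mod [Finite σ] [Finite τ] [Finite ι] [Finite κ]
    (e : τ → σ) (g : κ → ι → MvPolynomial σ R) (q : Ideal (MvPolynomial σ R)) [q.IsPrime]
    (hq : q.comap C = IsLocalRing.maximalIdeal R) [Module.Flat R (QuotAt g q)]
    {B : Type u} [CommRing B] [Algebra R B] (π : MvPolynomial τ R →ₐ[R] B)
    (hπ : Function.Surjective π) [Module B (QuotAt g q)]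
    (hsmul : ∀ (a : MvPolynomial τ R) (x : QuotAt g q), π a • x = rename e a • x)
    (hfib : Module.Flat (B ⧸ (IsLocalRing.maximalIdeal R).map (algebraMap R B))
      (QuotAt g q ⧸ (IsLocalRing.maximalIdeal R).map (algebraMap R B) • (⊤ : Submodule B (QuotAt g q)))) :
    Module.Flat B (QuotAt g q) := by
  cases nonempty_fintype κ
  set m := IsLocalRing.maximalIdeal R with hm
  let res := IsLocalRing.residue R
  let g₁ : κ → ι → MvPolynomial σ (IsLocalRing.ResidueField R) := fun v ↦ mapVec res (g v)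
  let q₁ := q.map (MvPolynomial.map res)
  have : q₁.IsPrime := map_residue_isPrime q hq
  obtain ⟨ψ, hψsurj, hψs, hψker⟩ :=
    exists_fibre_map g q hq g₁ (fun _ ↦ rfl) q₁ (comap_map_residue q hq).symm
  have : IsScalarTower R B (QuotAt g q) := IsScalarTower.of_algebraMap_smul fun r x ↦ by
    rw [← π.commutes, hsmul, MvPolynomial.algebraMap_eq, rename_C, ← MvPolynomial.algebraMap_eq,
      algebraMap_smul]
  let N : Submodule B (QuotAt g q) := m.map (algebraMap R B) • ⊤
  have hN : ∀ x, x ∈ N ↔ ψ x = 0 := fun x ↦ by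
    rw [hψker, ← Submodule.restrictScalars_mem R N]
    exact (SetLike.ext_iff.1 (Ideal.smul_restrictScalars m (⊤ : Submodule B (QuotAt g q))) x)
  let E₀ : (QuotAt g q) ⧸ N.toAddSubgroup →+ QuotAt g₁ q₁ :=
    QuotientAddGroup.lift _ ψ fun x hx ↦ (hN x).1 hx
  let E : (QuotAt g q ⧸ N) ≃+ QuotAt g₁ q₁ := AddEquiv.ofBijective (M := QuotAt g q ⧸ N) E₀ <| by
    refine ⟨?_, fun y ↦ ?_⟩
    · rw [injective_iff_map_eq_zero]
      intro x hx
      obtain ⟨x, rfl⟩ := Submodule.Quotient.mk_surjective N x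
      exact (Submodule.Quotient.mk_eq_zero N).2 ((hN x).2 hx)
    · obtain ⟨x, rfl⟩ := hψsurj y
      exact ⟨Submodule.Quotient.mk x, rfl⟩
  let B₁ := B ⧸ m.map (algebraMap R B)
  let : Module B₁ (QuotAt g₁ q₁) := E.symm.module B₁
  have : Module.Flat B₁ (QuotAt g₁ q₁) := by
    have := hfib
    exact Module.Flat.of_linearEquiv (AddEquiv.linearEquiv B₁ E.symm)
  have hres : Function.Surjective (MvPolynomial.map (σ := τ) res) :=
    MvPolynomial.map_surjective _ IsLocalRing.residue_surjective
  have hπC : π.toRingHom.comp C = algebraMap R B := RingHom.ext π.commutes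
  have hle : RingHom.ker (MvPolynomial.map (σ := τ) res) ≤
      RingHom.ker ((Ideal.Quotient.mk (m.map (algebraMap R B))).comp π.toRingHom) := by
    rw [MvPolynomial.ker_map, IsLocalRing.ker_residue, ← RingHom.comap_ker, Ideal.mk_ker,
      ← hπC, ← Ideal.map_map]
    exact Ideal.le_comap_map
  let π₁ : MvPolynomial τ (IsLocalRing.ResidueField R) →+* B₁ :=
    (MvPolynomial.map (σ := τ) res).liftOfSurjective hres ⟨_, hle⟩
  have hπ₁ : ∀ a, π₁ (MvPolynomial.map res a) = Ideal.Quotient.mk _ (π a) := fun a ↦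
    RingHom.liftOfRightInverse_comp_apply _ _ _ _ a
  refine Fibrewise.flat_fibrewise e g q hq π.toRingHom hπ (fun a x ↦ hsmul a x)
    res IsLocalRing.ker_residue q₁ (comap_map_residue q hq).symm g₁ (fun _ ↦ rfl) π₁ ?_ ?_ ?_
  · intro b
    obtain ⟨b, rfl⟩ := Ideal.Quotient.mk_surjective b
    obtain ⟨a, rfl⟩ := hπ b
    exact ⟨_, hπ₁ a⟩
  · refine le_antisymm (fun z hz ↦ ?_) ?_
    · obtain ⟨a, rfl⟩ := hres z
      rw [RingHom.mem_ker, hπ₁, Ideal.Quotient.eq_zero_iff_mem, ← hπC, ← Ideal.map_map] at hz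
      obtain ⟨c, hc, hca⟩ := (Ideal.mem_map_iff_of_surjective π.toRingHom hπ).1 hz
      have h0 : MvPolynomial.map res c = 0 := by
        rw [← RingHom.mem_ker, MvPolynomial.ker_map, IsLocalRing.ker_residue]; exact hc
      rw [show MvPolynomial.map res a = MvPolynomial.map res (a - c) by rw [map_sub, h0, sub_zero]]
      exact Ideal.mem_map_of_mem _ (RingHom.mem_ker.2 (by rw [map_sub, hca]; exact sub_self _))
    · rw [Ideal.map_le_iff_le_comap]
      intro a ha
      rw [Ideal.mem_comap, RingHom.mem_ker, hπ₁, show π a = 0 from ha, map_zero]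
  · intro a y
    obtain ⟨a, rfl⟩ := hres a
    obtain ⟨x, rfl⟩ := hψsurj y
    rw [hπ₁, ← map_rename, ← hψs, ← hsmul]
    apply E.symm.injective
    refine (AddEquiv.linearEquiv B₁ E.symm).map_smul (Ideal.Quotient.mk _ (π a)) (ψ x) |>.trans ?_
    change Ideal.Quotient.mk _ (π a) • E.symm (ψ x) = E.symm (ψ (π a • x))
    have hE : ∀ z, E.symm (ψ z) = Submodule.Quotient.mk z := fun z ↦
      (AddEquiv.symm_apply_eq E).2 rfl
    rw [hE, hE]
    rfl

end Groth.Agent.Lib.Flat55.SpecialFibre
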