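import Groth.Agent.Lib.Flat55.FibreComponentsCover
import Groth.Agent.Lib.Flat55.CMSlice
import Groth.Agent.H2.Rigid.SmoothDense
import Groth.Agent.H56.EtaleNbhd
import Groth.Agent.Lib.Cyc.SmoothReg
import Groth.Prelude.Def_Hens2

/-!
# Spreading out geometrically connected open subsets of fibres
-/

set_option autoImplicit false
set_option linter.style.haveILetI false
universe u

open CategoryTheory CategoryTheory.Limits AlgebraicGeometry TopologicalSpace

namespace Groth.Agent.Lib.Flat55.SpreadConnected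

open FibreComponentsCover

theorem fiberι_apply {Y S : Scheme.{u}} (h : Y ⟶ S) (s : S) (a : h.fiber s) : h (h.fiberι s a) = s :=
  (h.range_fiberι s).le ⟨a, rfl⟩

theorem geometricallyReduced_comp {U X S : Scheme.{u}} (u : U ⟶ X) [IsOpenImmersion u] (f : X ⟶ S)
    [GeometricallyReduced f] : GeometricallyReduced (u ≫ f) := by
  refine ⟨fun K _ y Z a b h => ?_⟩
  let m := (IsPullback.of_hasPullback f y).lift (a ≫ u) b (by rw [Category.assoc, h.w])
  have hm : IsPullback a m u (pullback.fst f y) := by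
    refine IsPullback.of_bot ?_ ((IsPullback.of_hasPullback f y).lift_fst _ _ _).symm
      (IsPullback.of_hasPullback f y)
    rw [(IsPullback.of_hasPullback f y).lift_snd]
    exact h
  have : IsOpenImmersion m := MorphismProperty.of_isPullback hm inferInstance
  have : IsReduced (pullback f y) :=
    GeometricallyReduced.geometrically_isReduced y _ _ (IsPullback.of_hasPullback f y)
  exact isReduced_of_isOpenImmersion m

/-- A Cohen-Macaulay point, closed in its fibre, inside a given nonempty open of the fibre. -/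
theorem exists_cm_point {Y S : Scheme.{u}} (h : Y ⟶ S) [Flat h] [LocallyOfFinitePresentation h]
    [GeometricallyReduced h] (s : S) (T : (h.fiber s).Opens) (hT : (T : Set (h.fiber s)).Nonempty) :
    ∃ a : h.fiber s, a ∈ T ∧ IsClosed ({h.asFiber (h.fiberι s a)} : Set (h.fiber (h (h.fiberι s a)))) ∧
      MoreMor.IsCMAt h (h.fiberι s a) := by
  let π := h.fiberToSpecResidueField s
  haveI : LocallyOfFinitePresentation π := MorphismProperty.pullback_snd _ _ inferInstance
  haveI : GeometricallyReduced π := MorphismProperty.pullback_snd _ _ inferInstance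
  letI : (h.fiber s).Over (Spec (CommRingCat.of (S.residueField s))) := ⟨π⟩
  haveI : LocallyOfFinitePresentation (h.fiber s ↘ Spec (CommRingCat.of (S.residueField s))) :=
    ‹LocallyOfFinitePresentation π›
  haveI : GeometricallyReduced (h.fiber s ↘ Spec (CommRingCat.of (S.residueField s))) :=
    ‹GeometricallyReduced π›
  have hd := H2.Rigid.SmoothDense.dense_smoothLocus (S.residueField s) (h.fiber s)
  haveI : JacobsonSpace (h.fiber s) := LocallyOfFiniteType.jacobsonSpace π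
  obtain ⟨a, ha, hac⟩ := nonempty_inter_closedPoints
    (Z := ((T ⊓ π.smoothLocus : (h.fiber s).Opens) : Set (h.fiber s)))
    (hd.inter_open_nonempty _ T.isOpen hT) (T ⊓ π.smoothLocus).isOpen.isLocallyClosed
  have hreg : IsRegularLocalRing ((h.fiber s).presheaf.stalk a) := by
    let W : (h.fiber s).Opens := π.smoothLocus
    haveI : Smooth (W.ι ≫ π) := by
      rw [← Scheme.Hom.smoothLocus_eq_top_iff, ← Scheme.Hom.preimage_smoothLocus_eq, eq_top_iff]
      exact fun w _ => w.2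
    have := Cyc.SmoothReg.isRegularLocalRing_stalk (k := S.residueField s) (W.ι ≫ π) (⟨a, ha.2⟩ : W)
    exact IsRegularLocalRing.of_ringEquiv (W.stalkIso ⟨a, ha.2⟩).commRingCatIsoToRingEquiv
  refine ⟨a, ha.1, ?_⟩
  have key : ∀ (y : Y) (s : S) (hs : h y = s) (a : h.fiber s) (_ : h.fiberι s a = y),
      IsClosed ({a} : Set (h.fiber s)) → IsRegularLocalRing ((h.fiber s).presheaf.stalk a) →
      IsClosed ({h.asFiber y} : Set (h.fiber (h y))) ∧ MoreMor.IsCMAt h y := by
    intro y s hs a hay hcl hr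
    subst hs
    have e : a = h.asFiber y :=
      (h.fiberι (h y)).isEmbedding.injective (hay.trans (h.fiberι_asFiber y).symm)
    subst e
    refine ⟨hcl, (Flat.iff_flat_stalkMap h).1 inferInstance y, ?_⟩
    set R := (h.fiber (h y)).presheaf.stalk (h.asFiber y)
    haveI := hr
    obtain ⟨t, h1, h2⟩ := Submodule.FG.exists_span_finset_card_eq_spanFinrank
      (IsNoetherian.noetherian (IsLocalRing.maximalIdeal R))
    have hspan : Ideal.ofList t.toList = IsLocalRing.maximalIdeal R := by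
      rw [← h2]
      show Ideal.span _ = _
      rw [Ideal.submodule_span_eq]
      congr 1
      ext z
      simp
    refine Depth.CM.isCohenMacaulayLocalRing_of_isRegular
      (Regular.Quotient.isRegular_of_span_eq_maximalIdeal t.toList hspan (by rw [Finset.length_toList, h1])) ?_
    rw [← IsRegularLocalRing.spanFinrank_maximalIdeal (R := R), Finset.length_toList, h1]
  exact key _ s (fiberι_apply h s a) a rfl hac hreg

theorem spread_affine {Y S : Scheme.{u}} [IsAffine S] (h : Y ⟶ S) [Flat h] [LocallyOfFinitePresentation h]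
    [QuasiCompact h] [QuasiSeparated h] [GeometricallyReduced h] (s : S) (T : (h.fiber s).Opens)
    (hT : GeometricallyConnected (T.ι ≫ h.fiberToSpecResidueField s)) :
    ∃ (S' : Scheme.{u}) (g : S' ⟶ S) (s' : S'), IsAffine S' ∧ Hens2.IsEtaleNbhd g s' s ∧
      ∃ V : (pullback h g).Opens, IsCompact (V : Set ↑(pullback h g)) ∧ GeometricallyConnected (V.ι ≫ pullback.snd h g) ∧
        ∀ y' : ↑(pullback h g), pullback.snd h g y' = s' → (y' ∈ V ↔ pullback.fst h g y' ∈ (h.fiberι s) '' (T : Set ↑(h.fiber s))) := by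
  let π := h.fiberToSpecResidueField s
  let Fs := h.fiber s
  haveI : CompactSpace Y := QuasiCompact.compactSpace_of_compactSpace h
  haveI : QuasiSeparatedSpace Y := quasiSeparatedSpace_of_quasiSeparated h
  -- a nonempty fibre piece
  have hne : (T : Set Fs).Nonempty := by
    haveI := hT.geometrically_connectedSpace (Spec.map (𝟙 (S.residueField s))) _ _
      (IsPullback.of_hasPullback (T.ι ≫ π) (Spec.map (𝟙 (S.residueField s))))
    obtain ⟨w⟩ := (inferInstance : Nonempty ↥(pullback (T.ι ≫ π) (Spec.map (𝟙 (S.residueField s)))))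
    exact ⟨_, (pullback.fst (T.ι ≫ π) _ w).2⟩
  obtain ⟨a, haT, hacl, hcm⟩ := exists_cm_point h s T hne
  -- a quasi-compact open inducing `T` on the fibre
  haveI : IsLocallyNoetherian Fs := LocallyOfFiniteType.isLocallyNoetherian π
  haveI : CompactSpace Fs := QuasiCompact.compactSpace_of_compactSpace π
  haveI : IsNoetherian Fs := {}
  obtain ⟨O, hO, hOT⟩ := (h.fiberι s).isEmbedding.isInducing.isOpen_iff.1 T.isOpen
  have hTc : IsCompact (T : Set Fs) := NoetherianSpace.isCompact _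
  obtain ⟨W, hWc, hTW, hWO⟩ : ∃ W : Y.Opens, IsCompact (W : Set Y) ∧
      h.fiberι s '' (T : Set Fs) ⊆ W ∧ (W : Set Y) ⊆ O := by
    have hsub : h.fiberι s '' (T : Set Fs) ⊆ O := by
      rintro _ ⟨t, ht, rfl⟩
      exact hOT.ge ht
    have hloc : ∀ y : (h.fiberι s '' (T : Set Fs)), ∃ A : Y.Opens, IsAffineOpen A ∧ y.1 ∈ A ∧ (A : Set Y) ⊆ O := fun y => by
      obtain ⟨A, hA, hyA, hAO⟩ := exists_isAffineOpen_mem_and_subset (show y.1 ∈ (⟨O, hO⟩ : Y.Opens) from hsub y.2)
      exact ⟨A, hA, hyA, hAO⟩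
    choose A hA hyA hAO using hloc
    obtain ⟨F, hF⟩ := (hTc.image (h.fiberι s).continuous).elim_finite_subcover (fun y => (A y : Set Y))
      (fun y => (A y).isOpen) fun x hx => Set.mem_iUnion.2 ⟨⟨x, hx⟩, hyA ⟨x, hx⟩⟩
    refine ⟨⟨⋃ y ∈ F, (A y : Set Y), isOpen_biUnion fun y _ => (A y).isOpen⟩,
      F.finite_toSet.isCompact_biUnion fun y _ => (hA y).isCompact, hF, ?_⟩
    exact Set.iUnion₂_subset fun y _ => hAO y
  have hWT : h.fiberι s ⁻¹ᵁ W = T := Opens.ext (Set.Subset.antisymm (fun t ht => hOT.le (hWO ht))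
    fun t ht => hTW ⟨t, ht, rfl⟩)
  haveI : QuasiCompact W.ι := by
    refine ⟨fun U hU hUc => ?_⟩
    exact (W.ι.isOpenEmbedding.isInducing.isCompact_iff).2 (by
      rw [Set.image_preimage_eq_inter_range, Scheme.Opens.range_ι]
      exact QuasiSeparatedSpace.inter_isCompact U W hU hUc W.isOpen hWc)
  -- the fibre of `W` over `s`
  have hWfib : IsPullback (h.fiberι s ∣_ W) ((h.fiberι s ⁻¹ᵁ W).ι ≫ π) (W.ι ≫ h) (S.fromSpecResidueField s) :=
    (isPullback_morphismRestrict (h.fiberι s) W).paste_vert (IsPullback.of_hasPullback h (S.fromSpecResidueField s))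
  have hWconn : GeometricallyConnected ((W.ι ≫ h).fiberToSpecResidueField s) := by
    have h1 : GeometricallyConnected ((h.fiberι s ⁻¹ᵁ W).ι ≫ π) := by rw [hWT]; exact hT
    exact ((MorphismProperty.arrow_mk_iso_iff @GeometricallyConnected
      (Arrow.isoMk hWfib.isoPullback (Iso.refl _) (by simp [Scheme.Hom.fiberToSpecResidueField, π]; exact hWfib.isoPullback_hom_snd))).1 h1)
  -- the multisection
  obtain ⟨V₀, Z, i, -, ⟨z, hz⟩, hzflat, hzlfp, hzlqf, -⟩ := CMSlice.exists_slice h (h.fiberι s a) hcm hacl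
  let φ : Z ⟶ Y := i ≫ V₀.ι
  let f₀ : ((φ ⁻¹ᵁ W : Z.Opens) : Scheme.{u}) ⟶ S := (φ ⁻¹ᵁ W).ι ≫ φ ≫ h
  have hz' : z ∈ φ ⁻¹ᵁ W := by
    show φ z ∈ W
    rw [hz]
    exact hTW ⟨a, haT, rfl⟩
  haveI : Flat (φ ≫ h) := by simpa [φ] using hzflat
  haveI : LocallyOfFinitePresentation (φ ≫ h) := by simpa [φ] using hzlfp
  haveI : LocallyQuasiFinite (φ ≫ h) := by simpa [φ] using hzlqf
  have hfz : f₀ ⟨z, hz'⟩ = s := by
    show h (φ z) = s
    rw [hz]
    exact fiberι_apply h s a
  obtain ⟨U, g, u, hu, hUaff, Vz, v, hv, hVfin, hvu, -⟩ :=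
    H56.EtaleNbhd.exists_isEtaleNbhd_finite_part f₀ ⟨z, hz'⟩ (f₀.quasiFiniteAt _)
  rw [hfz] at hu
  haveI := hUaff
  haveI := hVfin
  haveI := hu.etale
  let g₀ : (Vz : Scheme.{u}) ⟶ U := Vz.ι ≫ pullback.snd f₀ g
  let fY : pullback (W.ι ≫ h) g ⟶ U := pullback.snd (W.ι ≫ h) g
  let k : ((φ ⁻¹ᵁ W : Z.Opens) : Scheme.{u}) ⟶ (W : Scheme.{u}) := φ ∣_ W
  let σ : (Vz : Scheme.{u}) ⟶ pullback (W.ι ≫ h) g :=
    Vz.ι ≫ pullback.map f₀ g (W.ι ≫ h) g k (𝟙 _) (𝟙 _) (by simp [f₀, k]) (by simp)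
  have hσ : σ ≫ fY = g₀ := by
    simp only [σ, fY, g₀, Category.assoc]
    congr 1
    exact (pullback.lift_snd _ _ _).trans (Category.comp_id _)
  have hconn : GConn fY u (fY ⁻¹' {u}) := by
    intro L _ t ht
    have ht' : ∀ p, (t ≫ g) p = s := fun p => by rw [Scheme.Hom.comp_apply, ht p]; exact hu.base_eq
    have h1 := gConn_of_geometricallyConnected (W.ι ≫ h) s hWconn L (t ≫ g) ht'
    rw [fst_preimage_fiber_eq_univ _ _ ht'] at h1
    rw [fst_preimage_fiber_eq_univ _ _ ht]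
    have h2 := h1.image (pullbackLeftPullbackSndIso (W.ι ≫ h) g t).inv
      (pullbackLeftPullbackSndIso (W.ι ≫ h) g t).inv.continuous.continuousOn
    rwa [Set.image_univ, Set.range_eq_univ.mpr
      (show Function.Surjective ⇑(pullbackLeftPullbackSndIso (W.ι ≫ h) g t).inv from
        (pullbackLeftPullbackSndIso (W.ι ≫ h) g t).inv.homeomorph.surjective)] at h2
  haveI : QuasiCompact (W.ι ≫ h) := inferInstance
  haveI : GeometricallyReduced (W.ι ≫ h) := geometricallyReduced_comp _ _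
  obtain ⟨U₁, Y₁, hU₁c, hfull, hY₁, huY₁, hU₁le, hU₁⟩ :=
    FibreComponentsCover.exists_opens fY g₀ σ hσ u ⟨⟨v, hv⟩, hvu⟩ hconn
  -- transport to the base change of `h`
  let g' : (Y₁ : Scheme.{u}) ⟶ S := Y₁.ι ≫ g
  let j : pullback (W.ι ≫ h) g ⟶ pullback h g :=
    pullback.map (W.ι ≫ h) g h g W.ι (𝟙 _) (𝟙 _) (by simp) (by simp)
  haveI : IsOpenImmersion j := by dsimp [j]; infer_instance
  have hjsnd : j ≫ pullback.snd h g = fY := (pullback.lift_snd _ _ _).trans (Category.comp_id _)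
  let ρ : pullback h g' ⟶ pullback h g :=
    pullback.lift (pullback.fst h g') (pullback.snd h g' ≫ Y₁.ι) (by
      rw [Category.assoc]; exact pullback.condition)
  have hρ : IsPullback ρ (pullback.snd h g') (pullback.snd h g) Y₁.ι := by
    refine IsPullback.of_right ?_ (pullback.lift_snd _ _ _) (IsPullback.of_hasPullback h g)
    rw [show ρ ≫ pullback.fst h g = pullback.fst h g' from pullback.lift_fst _ _ _]
    exact IsPullback.of_hasPullback h g'
  haveI : IsOpenImmersion ρ := MorphismProperty.of_isPullback hρ.flip inferInstance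
  let V : (pullback h g').Opens := ρ ⁻¹ᵁ (j ''ᵁ U₁)
  have hrange : (j ''ᵁ U₁ : (pullback h g).Opens) ≤ (pullback.snd h g) ⁻¹ᵁ Y₁ := by
    rintro _ ⟨w, hw, rfl⟩
    show pullback.snd h g (j w) ∈ Y₁
    rw [← Scheme.Hom.comp_apply, hjsnd]
    exact hU₁le hw
  refine ⟨Y₁, g', ⟨u, huY₁⟩, hY₁, ⟨inferInstance, hu.base_eq, ?_⟩, V, ?_, ?_, ?_⟩
  · have e := Scheme.residueFieldMap_comp Y₁.ι g (⟨u, huY₁⟩ : Y₁)
    rw [show g'.residueFieldMap ⟨u, huY₁⟩ = _ from e]
    haveI : IsIso (Y₁.ι.residueFieldMap (⟨u, huY₁⟩ : Y₁)) := inferInstance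
    exact (ConcreteCategory.bijective_of_isIso (Y₁.ι.residueFieldMap (⟨u, huY₁⟩ : Y₁))).comp hu.residue_bijective
  · refine (ρ.isOpenEmbedding.isInducing.isCompact_iff).2 ?_
    show IsCompact (ρ '' (ρ ⁻¹' (j '' (U₁ : Set _))))
    rw [Set.image_preimage_eq_of_subset]
    · exact hU₁c.image j.continuous
    · intro w hw
      obtain ⟨c, hc, -⟩ := Scheme.Pullback.exists_preimage_pullback (f := pullback.snd h g) (g := Y₁.ι) w
        ⟨pullback.snd h g w, hrange hw⟩ rfl
      refine ⟨hρ.isoPullback.inv c, ?_⟩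
      rw [← Scheme.Hom.comp_apply, hρ.isoPullback_inv_fst]
      exact hc
  · let kU : (V : Scheme.{u}) ⟶ (U₁ : Scheme.{u}) := (ρ ∣_ (j ''ᵁ U₁)) ≫ (j.isoImage U₁).inv
    refine FibreComponentsCover.geometricallyConnected_of_forall fY U₁ Y₁ hU₁le hU₁ _ kU ?_
    have h1 : IsPullback (ρ ∣_ (j ''ᵁ U₁)) (V.ι ≫ pullback.snd h g') ((j ''ᵁ U₁).ι ≫ pullback.snd h g) Y₁.ι :=
      (isPullback_morphismRestrict ρ (j ''ᵁ U₁)).paste_vert hρ
    refine h1.of_iso (Iso.refl _) (j.isoImage U₁).symm (Iso.refl _) (Iso.refl _) ?_ ?_ ?_ ?_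
    · simp [kU]
    · simp
    · simp only [Iso.symm_hom, Iso.refl_hom, Category.comp_id]
      rw [← cancel_epi (j.isoImage U₁).hom, Iso.hom_inv_id_assoc]
      rw [← hjsnd]
      simp [Scheme.Hom.isoImage_hom_ι_assoc]
    · simp
  · intro w hw
    have hwu : pullback.snd h g (ρ w) = u := by
      rw [← Scheme.Hom.comp_apply, show ρ ≫ pullback.snd h g = pullback.snd h g' ≫ Y₁.ι from pullback.lift_snd _ _ _,
        Scheme.Hom.comp_apply, hw]
      rfl
    have hfw : pullback.fst h g' w = pullback.fst h g (ρ w) := by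
      rw [← Scheme.Hom.comp_apply ρ, show ρ ≫ pullback.fst h g = pullback.fst h g' from pullback.lift_fst _ _ _]
    have hjfst : j ≫ pullback.fst h g = pullback.fst (W.ι ≫ h) g ≫ W.ι := pullback.lift_fst _ _ _
    constructor
    · rintro ⟨c, hc, hcw⟩
      have hjc : j c = ρ w := hcw
      have hyW : pullback.fst h g (ρ w) ∈ W := by
        rw [← hjc, ← Scheme.Hom.comp_apply, hjfst, Scheme.Hom.comp_apply]
        exact (pullback.fst (W.ι ≫ h) g c).2
      obtain ⟨t, ht⟩ : pullback.fst h g (ρ w) ∈ Set.range (h.fiberι s) := by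
        rw [h.range_fiberι]
        show h (pullback.fst h g (ρ w)) = s
        rw [← Scheme.Hom.comp_apply, pullback.condition, Scheme.Hom.comp_apply, hwu]
        exact hu.base_eq
      refine ⟨t, ?_, by rw [hfw, ht]⟩
      rw [← hWT]
      show h.fiberι s t ∈ W
      rw [ht]; exact hyW
    · rintro ⟨t, ht, he⟩
      have hyW : pullback.fst h g (ρ w) ∈ W := by
        rw [← hfw, ← he]; exact hTW ⟨t, ht, rfl⟩
      have hmem : ρ w ∈ Set.range j := by
        rw [Scheme.Pullback.range_map, Scheme.Opens.range_ι]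
        exact ⟨hyW, by simp⟩
      obtain ⟨c, hc⟩ := hmem
      refine ⟨c, hfull ?_, hc⟩
      show fY c = u
      rw [← hjsnd, Scheme.Hom.comp_apply, hc, hwu]

theorem spread {Y S : Scheme.{u}} (h : Y ⟶ S) [Flat h] [LocallyOfFinitePresentation h]
    [QuasiCompact h] [QuasiSeparated h] [GeometricallyReduced h] (s : S) (T : (h.fiber s).Opens)
    (hT : GeometricallyConnected (T.ι ≫ h.fiberToSpecResidueField s)) :
    ∃ (S' : Scheme.{u}) (g : S' ⟶ S) (s' : S'), IsAffine S' ∧ Hens2.IsEtaleNbhd g s' s ∧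
      ∃ V : (pullback h g).Opens, IsCompact (V : Set ↑(pullback h g)) ∧ GeometricallyConnected (V.ι ≫ pullback.snd h g) ∧
        ∀ y' : ↑(pullback h g), pullback.snd h g y' = s' → (y' ∈ V ↔ pullback.fst h g y' ∈ (h.fiberι s) '' (T : Set ↑(h.fiber s))) := by
  obtain ⟨S₀, hS₀, hs₀, -⟩ := exists_isAffineOpen_mem_and_subset (show s ∈ (⊤ : S.Opens) from trivial)
  haveI : IsAffine (S₀ : Scheme.{u}) := hS₀
  let h₀ := h ∣_ S₀
  haveI : GeometricallyReduced h₀ :=
    MorphismProperty.of_isPullback (isPullback_morphismRestrict h S₀).flip ‹GeometricallyReduced h›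
  set s₀ : (S₀ : Scheme.{u}) := ⟨s, hs₀⟩
  have hsq : IsPullback (h₀.fiberι s₀ ≫ (h ⁻¹ᵁ S₀).ι) (h₀.fiberToSpecResidueField s₀) h
      ((S₀ : Scheme.{u}).fromSpecResidueField s₀ ≫ S₀.ι) :=
    (IsPullback.of_hasPullback h₀ ((S₀ : Scheme.{u}).fromSpecResidueField s₀)).paste_horiz
      (isPullback_morphismRestrict h S₀).flip
  have hfac : Spec.map (S₀.ι.residueFieldMap s₀) ≫ S.fromSpecResidueField s =
      (S₀ : Scheme.{u}).fromSpecResidueField s₀ ≫ S₀.ι :=
    Scheme.Hom.SpecMap_residueFieldMap_fromSpecResidueField S₀.ι s₀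
  let e : h₀.fiber s₀ ⟶ h.fiber s :=
    pullback.lift (h₀.fiberι s₀ ≫ (h ⁻¹ᵁ S₀).ι)
      (h₀.fiberToSpecResidueField s₀ ≫ Spec.map (S₀.ι.residueFieldMap s₀)) (by
        rw [hsq.w, Category.assoc]
        exact congrArg (_ ≫ ·) hfac.symm)
  have he : IsPullback e (h₀.fiberToSpecResidueField s₀) (h.fiberToSpecResidueField s)
      (Spec.map (S₀.ι.residueFieldMap s₀)) := by
    refine IsPullback.of_right ?_ (pullback.lift_snd _ _ _) (IsPullback.of_hasPullback h (S.fromSpecResidueField s))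
    rw [show e ≫ pullback.fst h (S.fromSpecResidueField s) = _ from pullback.lift_fst _ _ _]
    erw [hfac]
    exact hsq
  have heι : e ≫ h.fiberι s = h₀.fiberι s₀ ≫ (h ⁻¹ᵁ S₀).ι := pullback.lift_fst _ _ _
  let T₀ := e ⁻¹ᵁ T
  have hT₀ : GeometricallyConnected (T₀.ι ≫ h₀.fiberToSpecResidueField s₀) :=
    MorphismProperty.of_isPullback ((isPullback_morphismRestrict e T).paste_vert he) hT
  obtain ⟨S', g, s', hS', hg, V, hVc, hVconn, hV⟩ := spread_affine h₀ s₀ T₀ hT₀
  haveI := hg.etale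
  have hP : IsPullback (pullback.fst h₀ g ≫ (h ⁻¹ᵁ S₀).ι) (pullback.snd h₀ g) h (g ≫ S₀.ι) :=
    (IsPullback.of_hasPullback h₀ g).paste_horiz (isPullback_morphismRestrict h S₀).flip
  let ε := hP.isoPullback
  refine ⟨S', g ≫ S₀.ι, s', hS', ⟨inferInstance, ?_, ?_⟩, ε.inv ⁻¹ᵁ V, ?_, ?_, ?_⟩
  · rw [Scheme.Hom.comp_apply, hg.base_eq]; rfl
  · rw [Scheme.residueFieldMap_comp g S₀.ι s']
    exact hg.residue_bijective.comp (ConcreteCategory.bijective_of_isIso (S₀.ι.residueFieldMap (g s')))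
  · exact ε.inv.homeomorph.isCompact_preimage.2 hVc
  · have := (isPullback_morphismRestrict ε.inv V).paste_vert
      (IsPullback.of_horiz_isIso (fst := ε.inv) (snd := pullback.snd h (g ≫ S₀.ι)) (f := pullback.snd h₀ g) (g := 𝟙 S')
        ⟨by rw [Category.comp_id]; exact hP.isoPullback_inv_snd⟩)
    exact MorphismProperty.of_isPullback this hVconn
  · intro w hw
    have h1 : pullback.snd h₀ g (ε.inv w) = s' := by
      rw [← Scheme.Hom.comp_apply, hP.isoPullback_inv_snd]; exact hw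
    have h2 : (h ⁻¹ᵁ S₀).ι (pullback.fst h₀ g (ε.inv w)) = pullback.fst h (g ≫ S₀.ι) w := by
      rw [← Scheme.Hom.comp_apply, ← Scheme.Hom.comp_apply]
      exact congrArg (fun q => q w) hP.isoPullback_inv_fst
    refine (hV (ε.inv w) h1).trans ⟨?_, ?_⟩
    · rintro ⟨t, ht, het⟩
      refine ⟨e t, ht, ?_⟩
      rw [← h2, ← het, ← Scheme.Hom.comp_apply, heι, Scheme.Hom.comp_apply]
    · rintro ⟨t, ht, het⟩
      obtain ⟨t₀, ht₀⟩ : t ∈ Set.range e := by
        obtain ⟨c, hc, -⟩ := Scheme.Pullback.exists_preimage_pullback (f := h.fiberToSpecResidueField s)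
          (g := Spec.map (S₀.ι.residueFieldMap s₀)) t (IsLocalRing.closedPoint _)
          (Subsingleton.elim (α := PrimeSpectrum (S.residueField s)) _ _)
        exact ⟨he.isoPullback.inv c, by rw [← Scheme.Hom.comp_apply, he.isoPullback_inv_fst]; exact hc⟩
      refine ⟨t₀, show e t₀ ∈ T from ht₀ ▸ ht, ?_⟩
      apply (h ⁻¹ᵁ S₀).ι.isOpenEmbedding.injective
      rw [h2, ← het, ← ht₀, ← Scheme.Hom.comp_apply, ← Scheme.Hom.comp_apply, heι]

end Groth.Agent.Lib.Flat55.SpreadConnected
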