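import Groth.Agent.Lib.Flat55.StrataChain
import Mathlib.RingTheory.Localization.BaseChange
import Mathlib.RingTheory.Ideal.Maximal
import Mathlib.RingTheory.TensorProduct.Finite
import Mathlib.RingTheory.FiniteStability

/-!
# Stratifications of `A ⊗[R] B` along maps of the coefficient ring
-/

set_option autoImplicit false

universe u

open TensorProduct Groth.Agent.Lib.Flat55.StrataChain

namespace Groth.Agent.Lib.Flat55.StrataBC

variable {R A A' A'' B : Type u} [CommRing R] [CommRing A] [CommRing A'] [CommRing A''] [CommRing B]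
  [Algebra R A] [Algebra R A'] [Algebra R A''] [Algebra R B]

/-- The change of coefficients. -/
noncomputable def nu (B : Type u) [CommRing B] [Algebra R B] (f : A →ₐ[R] A') :
    A ⊗[R] B →ₐ[R] A' ⊗[R] B :=
  Algebra.TensorProduct.map f (AlgHom.id R B)

theorem nu_tmul (f : A →ₐ[R] A') (a : A) (b : B) : nu B f (a ⊗ₜ b) = f a ⊗ₜ b := rfl

theorem nu_algebraMap (f : A →ₐ[R] A') (a : A) :
    nu B f (algebraMap A (A ⊗[R] B) a) = algebraMap A' (A' ⊗[R] B) (f a) := rfl

theorem nu_nu (f : A →ₐ[R] A') (g : A' →ₐ[R] A'') (x : A ⊗[R] B) :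
    nu B g (nu B f x) = nu B (g.comp f) x := by
  induction x with
  | zero => simp only [map_zero]
  | add x y hx hy => simp only [map_add, hx, hy]
  | tmul a b => rfl

theorem map_nu_map (f : A →ₐ[R] A') (g : A' →ₐ[R] A'') (I : Ideal (A ⊗[R] B)) :
    (I.map (nu B f)).map (nu B g) = I.map (nu B (g.comp f)) := by
  rw [Ideal.map_mapₐ]
  exact congrArg (fun φ : A ⊗[R] B →ₐ[R] A'' ⊗[R] B => I.map φ) (AlgHom.ext (nu_nu f g))

theorem map_nu_sup_span (f : A →ₐ[R] A') (I : Ideal (A ⊗[R] B)) (c : A ⊗[R] B) :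
    (I ⊔ Ideal.span {c}).map (nu B f) = I.map (nu B f) ⊔ Ideal.span {nu B f c} := by
  rw [Ideal.map_sup, Ideal.map_span, Set.image_singleton]

theorem smStep_map (f : A →ₐ[R] A') {I : Ideal (A ⊗[R] B)} {c : A ⊗[R] B} (h : SmStep A I c) :
    SmStep A' (I.map (nu B f)) (nu B f c) := by
  let : Algebra A A' := f.toRingHom.toAlgebra
  have : IsScalarTower R A A' := IsScalarTower.of_algebraMap_eq fun r => (f.commutes r).symm
  let : Algebra (A ⊗[R] B) (A' ⊗[R] B) := (nu B f).toRingHom.toAlgebra
  have : IsScalarTower A (A ⊗[R] B) (A' ⊗[R] B) := IsScalarTower.of_algebraMap_eq fun a => rfl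
  have : Algebra.IsPushout A A' (A ⊗[R] B) (A' ⊗[R] B) :=
    Algebra.IsPushout.tensorProduct_tensorProduct R B A A' (RingHom.ext fun b => by
      show nu B f ((1 : A) ⊗ₜ b) = (1 : A') ⊗ₜ b
      rw [nu_tmul, map_one])
  exact SmStep.baseChange A' h

theorem strat_map (f : A →ₐ[R] A') {I : Ideal (A ⊗[R] B)} (h : Strat A I) :
    Strat A' (I.map (nu B f)) :=
  Chain.map (nu B f).toRingHom (fun _ _ hc => smStep_map f hc) h

theorem strat_map_bot (f : A →ₐ[R] A') (h : Strat A (⊥ : Ideal (A ⊗[R] B))) :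
    Strat A' (⊥ : Ideal (A' ⊗[R] B)) := by
  have h' := strat_map f h
  rwa [Ideal.map_bot] at h'

/-- Smoothness of a stratum descends along a map of coefficient fields. -/
theorem smStep_of_map {A : Type u} [Field A] [Algebra R A] [Nontrivial A'] (f : A →ₐ[R] A')
    {I : Ideal (A ⊗[R] B)} {c : A ⊗[R] B} (h : SmStep A' (I.map (nu B f)) (nu B f c)) :
    SmStep A I c := by
  let : Algebra A A' := f.toRingHom.toAlgebra
  have : IsScalarTower R A A' := IsScalarTower.of_algebraMap_eq fun r => (f.commutes r).symm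
  let : Algebra (A ⊗[R] B) (A' ⊗[R] B) := (nu B f).toRingHom.toAlgebra
  have : IsScalarTower A (A ⊗[R] B) (A' ⊗[R] B) := IsScalarTower.of_algebraMap_eq fun a => rfl
  have : Algebra.IsPushout A A' (A ⊗[R] B) (A' ⊗[R] B) :=
    Algebra.IsPushout.tensorProduct_tensorProduct R B A A' (RingHom.ext fun b => by
      show nu B f ((1 : A) ⊗ₜ b) = (1 : A') ⊗ₜ b
      rw [nu_tmul, map_one])
  exact SmStep.descend A' h

section quotient

variable (f : A →ₐ[R] A') (J : Ideal (A ⊗[R] B))

/-- If the image of an ideal is everything, then after base change its quotient vanishes. -/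
theorem subsingleton_of_map_eq_top [Algebra A A'] (hf : ∀ a, f a = algebraMap A A' a)
    (h : J.map (nu B f) = ⊤) : Subsingleton (A' ⊗[A] ((A ⊗[R] B) ⧸ J)) := by
  have : IsScalarTower R A A' :=
    IsScalarTower.of_algebraMap_eq fun r => by rw [← hf, AlgHom.commutes]
  let iq : ((A ⊗[R] B) ⧸ J) →ₐ[R] A' ⊗[A] ((A ⊗[R] B) ⧸ J) :=
    (Algebra.TensorProduct.includeRight : ((A ⊗[R] B) ⧸ J) →ₐ[A] A' ⊗[A] ((A ⊗[R] B) ⧸ J)).restrictScalars R
  let φ : A' ⊗[R] B →ₐ[R] A' ⊗[A] ((A ⊗[R] B) ⧸ J) :=
    Algebra.TensorProduct.lift (IsScalarTower.toAlgHom R A' (A' ⊗[A] ((A ⊗[R] B) ⧸ J)))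
      (iq.comp ((Ideal.Quotient.mkₐ R J).comp Algebra.TensorProduct.includeRight))
      fun x y => Commute.all (S := A' ⊗[A] ((A ⊗[R] B) ⧸ J)) _ _
  have hφ : ∀ x, φ (nu B f x) = iq (Ideal.Quotient.mkₐ R J x) := fun x => by
    induction x with
    | zero => simp only [map_zero]
    | add x y hx hy => simp only [map_add, hx, hy]
    | tmul a b =>
      show (f a ⊗ₜ[A] (1 : ((A ⊗[R] B) ⧸ J))) * ((1 : A') ⊗ₜ[A] Ideal.Quotient.mk J ((1 : A) ⊗ₜ b)) =
        (1 : A') ⊗ₜ[A] Ideal.Quotient.mk J (a ⊗ₜ b)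
      rw [Algebra.TensorProduct.tmul_mul_tmul, mul_one, one_mul,
        show a ⊗ₜ[R] b = a • ((1 : A) ⊗ₜ[R] b) by rw [TensorProduct.smul_tmul', smul_eq_mul, mul_one],
        show Ideal.Quotient.mk J (a • ((1 : A) ⊗ₜ[R] b)) =
          a • Ideal.Quotient.mk J ((1 : A) ⊗ₜ[R] b) from rfl,
        TensorProduct.tmul_smul, TensorProduct.smul_tmul', Algebra.smul_def, mul_one, hf]
  refine subsingleton_of_zero_eq_one (φ.toRingHom.map_one.symm.trans
    (RingHom.mem_ker.1 ((Ideal.eq_top_iff_one (RingHom.ker φ.toRingHom)).1 ?_))).symm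
  rw [eq_top_iff, ← h, Ideal.map_le_iff_le_comap]
  intro x hx
  show φ (nu B f x) = 0
  rw [hφ, Ideal.Quotient.mkₐ_eq_mk, Ideal.Quotient.eq_zero_iff_mem.2 hx, map_zero]

end quotient

theorem eq_top_of_map {A : Type u} [Field A] [Algebra R A] [Nontrivial A'] (f : A →ₐ[R] A')
    {J : Ideal (A ⊗[R] B)} (h : J.map (nu B f) = ⊤) : J = ⊤ := by
  let : Algebra A A' := f.toRingHom.toAlgebra
  have := subsingleton_of_map_eq_top f J (fun _ => rfl) h
  exact Ideal.Quotient.subsingleton_iff.1
    (Module.FaithfullyFlat.lTensor_reflects_triviality A A' _)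

theorem SmStep.of_associated {A B : Type u} [CommRing A] [CommRing B] [Algebra A B] {I : Ideal B}
    {c c' : B} (hcc : Associated c c') (h : SmStep A I c) : SmStep A I c' := by
  obtain ⟨v, rfl⟩ := hcc
  have hu : IsUnit (algebraMap B (QL I (c * v)) c) := by
    have := (QL.isUnit (I := I) (c := c * v))
    exact isUnit_of_mul_isUnit_left ((map_mul (algebraMap B (QL I (c * v))) c v) ▸ this :)
  have hv : IsUnit (algebraMap B (QL I c) (c * v)) := by
    have := QL.isUnit.mul (v.isUnit.map (algebraMap B (QL I c)))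
    exact (map_mul (algebraMap B (QL I c)) c v).symm ▸ this
  have : Algebra.Smooth A (QL I c) := h
  exact Algebra.Smooth.of_equiv ((AlgEquiv.ofAlgHom (QL.desc (QL.le_ker I le_rfl) hu)
    (QL.desc (QL.le_ker I le_rfl) hv) (QL.algHom_unique _ _) (QL.algHom_unique _ _)).restrictScalars A)

variable (Mm : Submonoid A) (L : Type u) [CommRing L] [Algebra A L] [IsLocalization Mm L]

include L

/-- Smoothness after localising the base spreads out. -/
theorem exists_smooth_away (C : Type u) [CommRing C] [Algebra A C] [Algebra.FinitePresentation A C]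
    [Algebra.Smooth L (L ⊗[A] C)] :
    ∃ m ∈ Mm, Algebra.Smooth (Localization.Away m) (Localization.Away m ⊗[A] C) := by
  let := (Algebra.TensorProduct.rightAlgebra : Algebra C (L ⊗[A] C))
  let N := Algebra.algebraMapSubmonoid C Mm
  have : IsLocalization N (L ⊗[A] C) := IsLocalization.tensorRight L Mm
  have : Algebra.FormallySmooth A L := Algebra.FormallySmooth.of_isLocalization Mm
  have : Algebra.FormallySmooth A (L ⊗[A] C) := Algebra.FormallySmooth.comp A L _
  have hsm : ∀ q : PrimeSpectrum C, Disjoint (N : Set C) q.asIdeal → q ∈ Algebra.smoothLocus A C := by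
    intro q hq
    let q' := q.asIdeal.map (algebraMap C (L ⊗[A] C))
    have hq' : q'.IsPrime := IsLocalization.isPrime_of_isPrime_disjoint N _ _ q.2 hq
    have hcomap : q'.comap (algebraMap C (L ⊗[A] C)) = q.asIdeal :=
      IsLocalization.under_map_of_isPrime_disjoint N _ q.2 hq
    have : IsLocalization.AtPrime (Localization.AtPrime q') (q'.comap (algebraMap C (L ⊗[A] C))) :=
      IsLocalization.isLocalization_isLocalization_atPrime_isLocalization N _ q'
    have : Algebra.FormallySmooth (L ⊗[A] C) (Localization.AtPrime q') :=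
      Algebra.FormallySmooth.of_isLocalization q'.primeCompl
    have : Algebra.FormallySmooth A (Localization.AtPrime q') :=
      Algebra.FormallySmooth.comp A (L ⊗[A] C) _
    have : IsLocalization.AtPrime (Localization.AtPrime q') q.asIdeal := by
      convert ‹IsLocalization.AtPrime (Localization.AtPrime q') (q'.comap _)› using 2
      exact hcomap.symm
    exact Algebra.FormallySmooth.of_equiv
      ((IsLocalization.algEquiv q.asIdeal.primeCompl (Localization.AtPrime q') _).restrictScalars A)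
  obtain ⟨Z, hZ⟩ := (PrimeSpectrum.isClosed_iff_zeroLocus_ideal _).1
    (Algebra.isOpen_smoothLocus (R := A) (A := C)).isClosed_compl
  have hmeet : ¬ Disjoint (Z : Set C) N := fun hd => by
    obtain ⟨q, hq, hZq, hdq⟩ := Ideal.exists_le_prime_disjoint Z N hd
    have : (⟨q, hq⟩ : PrimeSpectrum C) ∈ PrimeSpectrum.zeroLocus (Z : Set C) := hZq
    rw [← hZ] at this
    exact this (hsm _ hdq.symm)
  obtain ⟨z, hzZ, hzN⟩ := Set.not_disjoint_iff.1 hmeet
  obtain ⟨m, hm, rfl⟩ := hzN
  refine ⟨m, hm, ?_⟩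
  let := (Algebra.TensorProduct.rightAlgebra : Algebra C (Localization.Away m ⊗[A] C))
  have h1 : Algebra.FormallySmooth A (Localization.Away (algebraMap A C m)) :=
    Algebra.basicOpen_subset_smoothLocus_iff.1 fun q hq => by
      by_contra hq'
      exact hq ((hZ.le hq' : (Z : Set C) ⊆ q.asIdeal) hzZ)
  have : IsLocalization.Away (algebraMap A C m) (Localization.Away m ⊗[A] C) :=
    IsLocalization.Away.tensorRight m (Localization.Away m)
  have h2 : Algebra.FormallySmooth A (Localization.Away m ⊗[A] C) :=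
    Algebra.FormallySmooth.of_equiv ((IsLocalization.algEquiv
      (Submonoid.powers (algebraMap A C m)) (Localization.Away (algebraMap A C m)) _).restrictScalars A)
  exact ⟨Algebra.FormallySmooth.localization_base (R := A) (Submonoid.powers m), inferInstance⟩

end Groth.Agent.Lib.Flat55.StrataBC
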