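import Mathlib.RingTheory.Smooth.Locus
import Mathlib.RingTheory.Smooth.Field
import Mathlib.RingTheory.Etale.Descent
import Mathlib.RingTheory.IsTensorProduct
import Mathlib.RingTheory.Noetherian.Basic
import Mathlib.RingTheory.KrullDimension.Zero
import Mathlib.RingTheory.LocalProperties.Reduced

/-!
# Chains of ideals whose strata are smooth

`Chain P I`: one gets from `I` to `⊤` by adding one element at a time, each step having property `P`.
`SmStep A I c`: the stratum `V(I) ∩ D(c)` is smooth over `A`.
-/

set_option autoImplicit false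

universe u

open TensorProduct

namespace Groth.Agent.Lib.Flat55.StrataChain

/-- From `I` one reaches `⊤` by adjoining one element at a time with property `P`. -/
inductive Chain {R : Type u} [CommRing R] (P : Ideal R → R → Prop) : Ideal R → Prop
  | top : Chain P ⊤
  | step (I : Ideal R) (c : R) : P I c → Chain P (I ⊔ Ideal.span {c}) → Chain P I

theorem map_sup_span {R R' : Type u} [CommRing R] [CommRing R'] (φ : R →+* R') (I : Ideal R) (c : R) :
    (I ⊔ Ideal.span {c}).map φ = I.map φ ⊔ Ideal.span {φ c} := by
  rw [Ideal.map_sup, Ideal.map_span, Set.image_singleton]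

theorem Chain.map {R R' : Type u} [CommRing R] [CommRing R'] {P : Ideal R → R → Prop}
    {P' : Ideal R' → R' → Prop} (φ : R →+* R') (h : ∀ I c, P I c → P' (I.map φ) (φ c))
    {I : Ideal R} (hI : Chain P I) : Chain P' (I.map φ) := by
  induction hI with
  | top => rw [Ideal.map_top]; exact .top
  | step I c hc _ ih => exact .step _ (φ c) (h I c hc) (map_sup_span φ I c ▸ ih)

/-- Noetherian induction for chains. -/
theorem Chain.of_noetherian {R : Type u} [CommRing R] [IsNoetherianRing R] {P : Ideal R → R → Prop}
    (hnil : ∀ I c, c ∈ I.radical → P I c)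
    (h : ∀ I : Ideal R, I.IsRadical → I ≠ ⊤ → ∃ c, c ∉ I ∧ P I c) (I : Ideal R) : Chain P I := by
  induction I using IsWellFounded.induction (α := Ideal R) (· > ·) with
  | ind I ih =>
  by_cases hI : I = ⊤
  · rw [hI]; exact .top
  have key : ∀ c, c ∉ I → P I c → Chain P I := fun c hc hP => .step I c hP (ih _
    (lt_of_le_of_ne le_sup_left fun e =>
      hc (e.symm.le (Ideal.mem_sup_right (Ideal.mem_span_singleton_self c)))))
  by_cases hrad : I.IsRadical
  · obtain ⟨c, hc, hP⟩ := h I hrad hI
    exact key c hc hP
  · obtain ⟨c, hc1, hc2⟩ := SetLike.not_le_iff_exists.1 hrad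
    exact key c hc2 (hnil I c hc1)

/-- The coordinate ring of the stratum `V(I) ∩ D(c)`. -/
abbrev QL {B : Type u} [CommRing B] (I : Ideal B) (c : B) :=
  Localization.Away (Ideal.Quotient.mk I c)

/-- The stratum `V(I) ∩ D(c)` is smooth. -/
def SmStep (A : Type u) [CommRing A] {B : Type u} [CommRing B] [Algebra A B] (I : Ideal B) (c : B) :
    Prop :=
  Algebra.Smooth A (QL I c)

/-- Chains with smooth strata. -/
abbrev Strat (A : Type u) [CommRing A] {B : Type u} [CommRing B] [Algebra A B] (I : Ideal B) : Prop :=
  Chain (SmStep A) I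

section QL

variable {B X : Type u} [CommRing B] [CommRing X] [Algebra B X] {I : Ideal B} {c : B}

theorem QL.algHom_unique (f g : QL I c →ₐ[B] X) : f = g := by
  refine IsLocalization.algHom_ext (Submonoid.powers (Ideal.Quotient.mk I c)) ?_
  ext x
  obtain ⟨b, rfl⟩ := Ideal.Quotient.mk_surjective x
  exact (f.commutes b).trans (g.commutes b).symm

/-- Maps out of the coordinate ring of a stratum. -/
noncomputable def QL.desc (hI : I ≤ RingHom.ker (algebraMap B X)) (hc : IsUnit (algebraMap B X c)) :
    QL I c →ₐ[B] X :=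
  IsLocalization.liftAlgHom (M := Submonoid.powers (Ideal.Quotient.mk I c))
    (f := Ideal.Quotient.liftₐ I (Algebra.ofId B X) fun b hb => hI hb) (by
      rintro ⟨_, n, rfl⟩
      simp only [map_pow]
      exact hc.pow n)

theorem QL.algebraMap_eq (b : B) :
    algebraMap B (QL I c) b = algebraMap (B ⧸ I) (QL I c) (Ideal.Quotient.mk I b) := rfl

theorem QL.le_ker (J : Ideal B) (hJ : J ≤ I) : J ≤ RingHom.ker (algebraMap B (QL I c)) := fun b hb => by
  rw [RingHom.mem_ker, QL.algebraMap_eq, Ideal.Quotient.eq_zero_iff_mem.2 (hJ hb), map_zero]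

theorem QL.isUnit : IsUnit (algebraMap B (QL I c) c) := by
  rw [QL.algebraMap_eq]
  exact IsLocalization.map_units (M := Submonoid.powers (Ideal.Quotient.mk I c)) _ ⟨_, 1, pow_one _⟩

variable (B') [CommRing B'] [Algebra B B']

/-- Recognition of a base change by universal properties. -/
noncomputable def bcEquiv {D D' : Type u} [CommRing D] [CommRing D'] [Algebra B D] [Algebra B D']
    [Algebra B' D'] [IsScalarTower B B' D'] (f : D →ₐ[B] D') (g : D' →ₐ[B'] B' ⊗[B] D)
    (hD : ∀ f g : D →ₐ[B] B' ⊗[B] D, f = g) (hD' : ∀ f g : D' →ₐ[B'] D', f = g) :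
    B' ⊗[B] D ≃ₐ[B'] D' :=
  AlgEquiv.ofAlgHom (Algebra.TensorProduct.lift (Algebra.ofId B' D') f fun _ _ => .all _ _) g
    (hD' _ _)
    (Algebra.TensorProduct.ext (Subsingleton.elim _ _) (hD _ _))

theorem isUnit_tower {D : Type u} [CommRing D] [Algebra B D] [Algebra B' D] [IsScalarTower B B' D]
    (h : IsUnit (algebraMap B' D (algebraMap B B' c))) : IsUnit (algebraMap B D c) := by
  rw [IsScalarTower.algebraMap_apply B B' D]
  exact h

theorem le_ker_tower {D : Type u} [CommRing D] [Algebra B D] [Algebra B' D] [IsScalarTower B B' D]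
    (h : I.map (algebraMap B B') ≤ RingHom.ker (algebraMap B' D)) :
    I ≤ RingHom.ker (algebraMap B D) := fun b hb => by
  rw [RingHom.mem_ker, IsScalarTower.algebraMap_apply B B' D]
  exact h (Ideal.mem_map_of_mem _ hb)

theorem isUnit_tensor {D : Type u} [CommRing D] [Algebra B D] (h : IsUnit (algebraMap B D c)) :
    IsUnit (algebraMap B' (B' ⊗[B] D) (algebraMap B B' c)) := by
  rw [← IsScalarTower.algebraMap_apply B B',
    ← (Algebra.TensorProduct.includeRight : D →ₐ[B] B' ⊗[B] D).commutes c]
  exact h.map _

theorem le_ker_tensor {D : Type u} [CommRing D] [Algebra B D] (h : I ≤ RingHom.ker (algebraMap B D)) :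
    I.map (algebraMap B B') ≤ RingHom.ker (algebraMap B' (B' ⊗[B] D)) :=
  Ideal.map_le_iff_le_comap.2 fun b hb => by
    rw [Ideal.mem_comap, RingHom.mem_ker, ← IsScalarTower.algebraMap_apply B B',
      ← (Algebra.TensorProduct.includeRight : D →ₐ[B] B' ⊗[B] D).commutes b, h hb, map_zero]

/-- The stratum of a base change. -/
noncomputable def QL.baseChange :
    B' ⊗[B] QL I c ≃ₐ[B'] QL (I.map (algebraMap B B')) (algebraMap B B' c) :=
  bcEquiv B' (QL.desc (le_ker_tower B' (QL.le_ker _ le_rfl)) (isUnit_tower B' QL.isUnit))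
    (QL.desc (le_ker_tensor B' (QL.le_ker I le_rfl)) (isUnit_tensor B' QL.isUnit))
    (fun _ _ => QL.algHom_unique _ _) (fun _ _ => QL.algHom_unique _ _)

end QL

section SmStep

variable {A B : Type u} [CommRing A] [CommRing B] [Algebra A B] {I : Ideal B} {c : B}

theorem SmStep.of_mem_radical (h : c ∈ I.radical) : SmStep A I c := by
  obtain ⟨n, hn⟩ := h
  have : Subsingleton (QL I c) := by
    refine subsingleton_of_zero_eq_one ?_
    have h1 : IsUnit (algebraMap B (QL I c) (c ^ n)) := by rw [map_pow]; exact QL.isUnit.pow n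
    rw [RingHom.mem_ker.1 (QL.le_ker I le_rfl hn), isUnit_zero_iff] at h1
    exact h1
  have : Algebra.FinitePresentation A (QL I c) :=
    Algebra.FinitePresentation.of_surjective (f := Algebra.ofId A (QL I c))
      (fun x => ⟨0, Subsingleton.elim _ _⟩)
      ⟨{1}, by
        rw [Finset.coe_singleton, Ideal.span_singleton_one, eq_comm, Ideal.eq_top_iff_one, RingHom.mem_ker]
        exact Subsingleton.elim _ _⟩
  exact ⟨inferInstance, this⟩

theorem SmStep.congr {B' : Type u} [CommRing B'] [Algebra A B'] (e : B →ₐ[A] B')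
    (he : Function.Bijective e) (h : SmStep A I c) : SmStep A (I.map e) (e c) := by
  let : Algebra B B' := e.toRingHom.toAlgebra
  have : IsScalarTower A B B' := IsScalarTower.of_algebraMap_eq fun a => (e.commutes a).symm
  let φ : QL I c →ₐ[A] B' ⊗[B] QL I c :=
    (Algebra.TensorProduct.includeRight : QL I c →ₐ[B] B' ⊗[B] QL I c).restrictScalars A
  have hφ : Function.Bijective φ := by
    let e2 := (TensorProduct.lid B (QL I c)).symm.trans
      ((LinearEquiv.ofBijective (Algebra.linearMap B B') he).rTensor (QL I c))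
    have h2 : ∀ x, φ x = e2 x := fun x => by
      show (1 : B') ⊗ₜ[B] x = _
      show _ = ((LinearEquiv.ofBijective (Algebra.linearMap B B') he).rTensor (QL I c))
        ((TensorProduct.lid B (QL I c)).symm x)
      rw [TensorProduct.lid_symm_apply, LinearEquiv.rTensor_tmul]
      congr 1
      exact (map_one e).symm
    exact (funext h2 : ⇑φ = e2) ▸ e2.bijective
  have : Algebra.Smooth A (QL I c) := h
  have : Algebra.Smooth A (B' ⊗[B] QL I c) := Algebra.Smooth.of_equiv (AlgEquiv.ofBijective φ hφ)
  exact Algebra.Smooth.of_equiv ((QL.baseChange (I := I) (c := c) B').restrictScalars A)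

variable (A') [CommRing A'] [Algebra A A'] {B' : Type u} [CommRing B'] [Algebra A' B'] [Algebra B B']
  [Algebra A B'] [IsScalarTower A A' B'] [IsScalarTower A B B'] [Algebra.IsPushout A A' B B']

theorem SmStep.baseChange_iff :
    SmStep A' (I.map (algebraMap B B')) (algebraMap B B' c) ↔ Algebra.Smooth A' (A' ⊗[A] QL I c) :=
  have e := ((QL.baseChange (I := I) (c := c) B').symm.restrictScalars A').trans
    (Algebra.IsPushout.cancelBaseChangeAlg A A' B B' (QL I c))
  ⟨fun (h : Algebra.Smooth A' _) => Algebra.Smooth.of_equiv e,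
    fun _ => Algebra.Smooth.of_equiv e.symm⟩

theorem SmStep.baseChange (h : SmStep A I c) :
    SmStep A' (I.map (algebraMap B B')) (algebraMap B B' c) :=
  have : Algebra.Smooth A (QL I c) := h
  (SmStep.baseChange_iff (A := A) (B' := B') (I := I) (c := c) A').2 inferInstance

theorem SmStep.descend [Module.FaithfullyFlat A A']
    (h : SmStep A' (I.map (algebraMap B B')) (algebraMap B B' c)) : SmStep A I c :=
  have := (SmStep.baseChange_iff (A := A) (I := I) (c := c) A').1 h
  Algebra.Smooth.of_smooth_tensorProduct_of_faithfullyFlat A'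

theorem Strat.baseChange (h : Strat A I) : Strat A' (I.map (algebraMap B B')) :=
  Chain.map _ (fun _ _ hc => SmStep.baseChange A' hc) h

end SmStep

theorem Strat.congr {A B B' : Type u} [CommRing A] [CommRing B] [Algebra A B] [CommRing B']
    [Algebra A B'] (e : B →ₐ[A] B') (he : Function.Bijective e) {I : Ideal B} (h : Strat A I) :
    Strat A (I.map e) :=
  Chain.map e.toRingHom (fun _ _ hc => SmStep.congr e he hc) h

/-- Over a perfect field every algebra of finite type has a stratification with smooth strata. -/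
theorem strat_of_perfectField {k B : Type u} [Field k] [PerfectField k] [CommRing B] [Algebra k B]
    [Algebra.FiniteType k B] (I : Ideal B) : Strat k I := by
  have : IsNoetherianRing B := Algebra.FiniteType.isNoetherianRing k B
  refine Chain.of_noetherian (fun I c h => SmStep.of_mem_radical h) (fun I hrad hI => ?_) I
  let C := B ⧸ I
  have : IsReduced C := (Ideal.isRadical_iff_quotient_reduced I).1 hrad
  have : Nontrivial C := Ideal.Quotient.nontrivial_iff.2 hI
  obtain ⟨⟨p, hp⟩⟩ := Ideal.nonempty_minimalPrimes (R := C) (bot_ne_top)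
  have := hp.1.1
  have hfield : IsField (Localization.AtPrime p) := by
    have : Ring.KrullDimLE 0 (Localization.AtPrime p) := Ring.KrullDimLE.of_isLocalization p hp _
    have : IsReduced (Localization.AtPrime p) :=
      isReduced_localizationPreserves p.primeCompl _ inferInstance
    exact Ring.KrullDimLE.isField_of_isReduced
  have : Algebra.IsSmoothAt k p := by
    let := hfield.toField
    have : Algebra.EssFiniteType C (Localization.AtPrime p) :=
      Algebra.EssFiniteType.of_isLocalization _ p.primeCompl
    have : Algebra.EssFiniteType k (Localization.AtPrime p) := Algebra.EssFiniteType.comp k C _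
    exact Algebra.FormallySmooth.of_perfectField
  have : Algebra.FinitePresentation k C := (Algebra.FinitePresentation.of_finiteType (R := k) (A := C)).1 inferInstance
  obtain ⟨f, hf, hsm⟩ := Algebra.IsSmoothAt.exists_notMem_smooth k p
  obtain ⟨c, rfl⟩ := Ideal.Quotient.mk_surjective f
  exact ⟨c, fun h => hf (by rw [Ideal.Quotient.eq_zero_iff_mem.2 h]; exact p.zero_mem), hsm⟩

end Groth.Agent.Lib.Flat55.StrataChain
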