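import Groth.Agent.Lib.Flat55.StrataBC

/-!
# Strata: localisations, surjections, quotients of base changes
-/

set_option autoImplicit false

universe u

open TensorProduct Groth.Agent.Lib.Flat55.StrataChain Groth.Agent.Lib.Flat55.StrataBC

namespace Groth.Agent.Lib.Flat55.StrataTransfer

variable {A B : Type u} [CommRing A] [CommRing B] [Algebra A B]

/-- The stratum inside a basic open. -/
theorem smooth_quotient_away {J : Ideal B} {c : B} (Bl : Type u) [CommRing Bl] [Algebra B Bl]
    [Algebra A Bl] [IsScalarTower A B Bl] [IsLocalization.Away c Bl] (h : SmStep A J c) :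
    Algebra.Smooth A (Bl ⧸ J.map (algebraMap B Bl)) := by
  let J' := J.map (algebraMap B Bl)
  let D := Bl ⧸ J'
  have hu : IsUnit (algebraMap B Bl c) := IsLocalization.Away.algebraMap_isUnit c
  let f : QL J c →ₐ[B] D := QL.desc
    (fun b hb => by
      rw [RingHom.mem_ker, IsScalarTower.algebraMap_apply B Bl D]
      exact Ideal.Quotient.eq_zero_iff_mem.2 (Ideal.mem_map_of_mem _ hb))
    (by
      rw [IsScalarTower.algebraMap_apply B Bl D]
      exact hu.map _)
  let g₀ : Bl →ₐ[B] QL J c := IsLocalization.liftAlgHom (M := Submonoid.powers c)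
    (f := Algebra.ofId B (QL J c)) (by rintro ⟨_, n, rfl⟩; simp only [map_pow]; exact QL.isUnit.pow n)
  let g : D →ₐ[B] QL J c := Ideal.Quotient.liftₐ J' g₀ (fun x hx => by
    refine (Ideal.map_le_iff_le_comap (f := algebraMap B Bl) (K := RingHom.ker g₀.toRingHom)).2 ?_ hx
    intro b hb
    show g₀ (algebraMap B Bl b) = 0
    rw [g₀.commutes]
    exact QL.le_ker J le_rfl hb)
  have hu2 : ∀ φ ψ : D →ₐ[B] D, φ = ψ := fun φ ψ => by
    refine Ideal.Quotient.algHom_ext B ?_
    exact IsLocalization.algHom_ext (Submonoid.powers c) (Subsingleton.elim _ _)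
  have : Algebra.Smooth A (QL J c) := h
  exact Algebra.Smooth.of_equiv
    ((AlgEquiv.ofAlgHom f g (hu2 _ _) (QL.algHom_unique _ _)).restrictScalars A)

variable {C : Type u} [CommRing C] [Algebra A C] (π : B →ₐ[A] C) (hπ : Function.Surjective π)

include hπ

theorem smStep_comap {J : Ideal C} {b : B} (h : SmStep A J (π b)) : SmStep A (J.comap π) b := by
  let : Algebra B C := π.toRingHom.toAlgebra
  have : IsScalarTower A B C := IsScalarTower.of_algebraMap_eq fun a => (π.commutes a).symm
  let f : QL (J.comap π) b →ₐ[B] QL J (π b) := QL.desc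
    (fun x hx => by
      rw [RingHom.mem_ker, IsScalarTower.algebraMap_apply B C (QL J (π b))]
      exact QL.le_ker J le_rfl hx)
    (by
      rw [IsScalarTower.algebraMap_apply B C (QL J (π b))]
      exact QL.isUnit)
  have hker : RingHom.ker π.toRingHom ≤ RingHom.ker (algebraMap B (QL (J.comap π) b)) :=
    fun x hx => QL.le_ker _ le_rfl (show π x ∈ J by
      rw [show π x = 0 from hx]; exact J.zero_mem)
  let k : C →+* QL (J.comap π) b := π.toRingHom.liftOfSurjective hπ ⟨_, hker⟩
  let : Algebra C (QL (J.comap π) b) := k.toAlgebra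
  have : IsScalarTower B C (QL (J.comap π) b) := IsScalarTower.of_algebraMap_eq fun x =>
    (RingHom.liftOfRightInverse_comp_apply _ _ _ ⟨_, hker⟩ x).symm
  let g : QL J (π b) →ₐ[C] QL (J.comap π) b := QL.desc
    (fun y hy => by
      obtain ⟨x, rfl⟩ := hπ y
      show algebraMap C _ (algebraMap B C x) = 0
      rw [← IsScalarTower.algebraMap_apply B C (QL (J.comap π) b)]
      exact QL.le_ker (J.comap π) le_rfl (show x ∈ J.comap π from hy))
    (by
      show IsUnit (algebraMap C _ (algebraMap B C b))
      rw [← IsScalarTower.algebraMap_apply B C (QL (J.comap π) b)]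
      exact QL.isUnit)
  have hfg : f.comp (g.restrictScalars B) = AlgHom.id B (QL J (π b)) := by
    let fg : QL J (π b) →ₐ[C] QL J (π b) :=
      { (f.comp (g.restrictScalars B)).toRingHom with
        commutes' := fun y => by
          obtain ⟨x, rfl⟩ := hπ y
          show (f.comp (g.restrictScalars B)) (algebraMap C _ (algebraMap B C x)) =
            algebraMap C _ (algebraMap B C x)
          rw [← IsScalarTower.algebraMap_apply B C (QL J (π b))]
          exact (f.comp (g.restrictScalars B)).commutes x }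
    exact AlgHom.ext fun x => DFunLike.congr_fun (QL.algHom_unique fg (AlgHom.id C _)) x
  have : Algebra.Smooth A (QL J (π b)) := h
  exact Algebra.Smooth.of_equiv
    ((AlgEquiv.ofAlgHom f (g.restrictScalars B) hfg (QL.algHom_unique _ _)).restrictScalars A).symm

theorem strat_comap {J : Ideal C} (h : Strat A J) : Strat A (J.comap π) := by
  induction h with
  | top => rw [Ideal.comap_top]; exact .top
  | step J c hc _ ih =>
    obtain ⟨b, rfl⟩ := hπ c
    refine Chain.step _ b (smStep_comap π hπ hc) ?_
    have h1 : J.comap π ⊔ Ideal.span {b} = (J ⊔ Ideal.span {π b}).comap π := by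
      have h2 : J ⊔ Ideal.span {π b} = (J.comap π ⊔ Ideal.span {b}).map π := by
        rw [Ideal.map_sup, Ideal.map_span, Set.image_singleton, Ideal.map_comap_of_surjective π hπ]
      rw [h2, Ideal.comap_map_of_surjective π hπ, left_eq_sup]
      exact le_sup_of_le_left (Ideal.comap_mono bot_le)
    rw [h1]
    exact ih

omit hπ π
omit [Algebra A B]

theorem ker_base_change {R D : Type u} [CommRing R] [Algebra R A] [Algebra R B] [CommRing D] [Algebra R D]
    (g : B →ₐ[R] D) (hg : Function.Surjective g) (I : Ideal B) (hI : RingHom.ker g = I) :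
    (⊥ : Ideal (A ⊗[R] D)).comap (Algebra.TensorProduct.map (AlgHom.id A A) g) =
      I.map (Algebra.TensorProduct.includeRight : B →ₐ[R] A ⊗[R] B) := by
  subst hI
  ext x
  rw [Ideal.mem_comap, Submodule.mem_bot, ← Algebra.TensorProduct.lTensor_ker g hg, RingHom.mem_ker]
  rfl

theorem map_id_surjective {R D : Type u} [CommRing R] [Algebra R A] [Algebra R B] [CommRing D] [Algebra R D]
    (g : B →ₐ[R] D) (hg : Function.Surjective g) :
    Function.Surjective (Algebra.TensorProduct.map (AlgHom.id A A) g) := fun z => by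
  induction z with
  | zero => exact ⟨0, map_zero _⟩
  | tmul a d => obtain ⟨b, rfl⟩ := hg d; exact ⟨a ⊗ₜ b, rfl⟩
  | add x y hx hy =>
    obtain ⟨a, rfl⟩ := hx
    obtain ⟨b, rfl⟩ := hy
    exact ⟨a + b, map_add _ _ _⟩

/-- From a quotient base change to the base change. -/
theorem strat_pushout {R B' : Type u} [CommRing R] [Algebra R A] [Algebra R B] [CommRing B']
    [Algebra A B'] [Algebra B B'] [Algebra R B'] [IsScalarTower R A B'] [IsScalarTower R B B']
    [Algebra.IsPushout R A B B'] (I : Ideal B) (h : Strat A (⊥ : Ideal (A ⊗[R] (B ⧸ I)))) :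
    Strat A (I.map (algebraMap B B')) := by
  let π : A ⊗[R] B →ₐ[A] A ⊗[R] (B ⧸ I) :=
    Algebra.TensorProduct.map (AlgHom.id A A) (Ideal.Quotient.mkₐ R I)
  have hπ : Function.Surjective π :=
    map_id_surjective (Ideal.Quotient.mkₐ R I) (Ideal.Quotient.mkₐ_surjective R I)
  have hker := ker_base_change (A := A) (Ideal.Quotient.mkₐ R I) (Ideal.Quotient.mkₐ_surjective R I) I
    (Ideal.Quotient.mkₐ_ker R I)
  have h1 := strat_comap π hπ h
  rw [hker] at h1
  let e := Algebra.IsPushout.equiv R A B B'
  have h2 := Strat.congr e.toAlgHom e.bijective h1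
  have hcomp : (e.toAlgHom.restrictScalars R).comp
      (Algebra.TensorProduct.includeRight : B →ₐ[R] A ⊗[R] B) = IsScalarTower.toAlgHom R B B' := by
    ext b
    show e ((1 : A) ⊗ₜ b) = algebraMap B B' b
    rw [Algebra.IsPushout.equiv_tmul, map_one, one_mul]
  convert h2 using 1
  rw [show Ideal.map e.toAlgHom (I.map (Algebra.TensorProduct.includeRight : B →ₐ[R] A ⊗[R] B)) =
      Ideal.map (e.toAlgHom.restrictScalars R) (I.map (Algebra.TensorProduct.includeRight : B →ₐ[R] A ⊗[R] B)) from rfl,
    Ideal.map_mapₐ, hcomp]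
  rfl

end Groth.Agent.Lib.Flat55.StrataTransfer
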