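import Groth.Agent.Lib.Flat55.FibreTransfer
import Groth.Prelude.Def_MoreMor
import Mathlib.AlgebraicGeometry.Morphisms.ClosedImmersion
import Mathlib.AlgebraicGeometry.Morphisms.Preimmersion

/-!
# Fibres over a thickened base
-/

set_option autoImplicit false

universe u

open CategoryTheory CategoryTheory.Limits AlgebraicGeometry

namespace Groth.Agent.Lib.Flat55.Thicken

variable {X X' Y Y' S S' : Scheme.{u}} {iX : X ⟶ X'} {iY : Y ⟶ Y'} {iS : S ⟶ S'}
  {f : X ⟶ Y} {f' : X' ⟶ Y'} {g : Y ⟶ S} {g' : Y' ⟶ S'}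

theorem exists_lift_fromSpecResidueField (hS : MoreMor.IsThickening iS) (s' : S') :
    ∃ k : Spec (S'.residueField s') ⟶ S, k ≫ iS = S'.fromSpecResidueField s' := by
  obtain ⟨hcl, hsurj⟩ := hS
  obtain ⟨s, rfl⟩ := hsurj.surj s'
  have : IsIso (iS.residueFieldMap s) := (ConcreteCategory.isIso_iff_bijective _).2
    ⟨(iS.residueFieldMap s).hom.injective, by
      intro z
      obtain ⟨z, rfl⟩ := S.residue_surjective s z
      obtain ⟨y, rfl⟩ := iS.stalkMap_surjective s z
      refine ⟨S'.residue (iS s) y, ?_⟩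
      exact (congrArg (fun φ ↦ φ.hom y) (Scheme.residue_residueFieldMap iS s) :)⟩
  refine ⟨inv (Spec.map (iS.residueFieldMap s)) ≫ S.fromSpecResidueField s, ?_⟩
  rw [Category.assoc, IsIso.inv_comp_eq, Scheme.Hom.SpecMap_residueFieldMap_fromSpecResidueField]

theorem isPullback_top (hcX : IsPullback iX (f ≫ g) (f' ≫ g') iS) (hcY : IsPullback iY g g' iS)
    (w : iX ≫ f' = f ≫ iY) : IsPullback iX f f' iY :=
  IsPullback.of_bot hcX w hcY

/-- A property stable under base change of the reduction holds for every fibre map of the lift. -/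
theorem fibre (hS : MoreMor.IsThickening iS) (hcX : IsPullback iX (f ≫ g) (f' ≫ g') iS)
    (hcY : IsPullback iY g g' iS) (w : iX ≫ f' = f ≫ iY) {P : MorphismProperty Scheme.{u}}
    [P.IsStableUnderBaseChange] (hf : P f) (s' : S') : P (pullback.snd f' (g'.fiberι s')) := by
  obtain ⟨k, hk⟩ := exists_lift_fromSpecResidueField hS s'
  let j : g'.fiber s' ⟶ Y := hcY.lift (g'.fiberι s') (g'.fiberToSpecResidueField s' ≫ k) (by
    rw [Category.assoc, hk]; exact g'.fiber_fac s')
  have hj : j ≫ iY = g'.fiberι s' := hcY.lift_fst _ _ _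
  have sq : IsPullback (pullback.fst f j ≫ iX) (pullback.snd f j) f' (g'.fiberι s') := by
    rw [← hj]
    exact (IsPullback.of_hasPullback f j).paste_horiz (isPullback_top hcX hcY w)
  rw [show pullback.snd f' (g'.fiberι s') = sq.isoPullback.inv ≫ pullback.snd f j from
    sq.isoPullback_inv_snd.symm]
  exact (P.cancel_left_of_respectsIso _ _).2 (P.pullback_snd _ _ hf)

end Groth.Agent.Lib.Flat55.Thicken
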